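import Cfsg.Agent.Lib.Helper20.Cores

/-!
Wielandt's theorem: the join of two subnormal subgroups of a finite group is subnormal,
following Isaacs, *Finite Group Theory*, Theorems 2.5 and 2.6 (helper20).
-/

set_option autoImplicit false
open Cfsg
open scoped commutatorElement

namespace Cfsg.Agent.Lib.Helper20

/-- `M` is a minimal normal subgroup of `G`. -/
def IsMinimalNormal {G : Type*} [Group G] (M : Subgroup G) : Prop :=
  M.Normal ∧ M ≠ ⊥ ∧ ∀ N : Subgroup G, N.Normal → N ≤ M → N = ⊥ ∨ N = M

/-- In a finite group every nontrivial normal subgroup contains a minimal normal subgroup. -/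
theorem exists_isMinimalNormal_le {G : Type*} [Group G] [Finite G] (N : Subgroup G) (hN : N.Normal)
    (hne : N ≠ ⊥) : ∃ M : Subgroup G, IsMinimalNormal M ∧ M ≤ N := by
  let S : Set (Subgroup G) := {K | K.Normal ∧ K ≠ ⊥ ∧ K ≤ N}
  have hS : S.Nonempty := ⟨N, hN, hne, le_rfl⟩
  obtain ⟨M, ⟨hMn, hMne, hMN⟩, hMmin⟩ := WellFounded.has_min (wellFounded_lt (α := Subgroup G)) S hS
  refine ⟨M, ⟨hMn, hMne, ?_⟩, hMN⟩
  intro K hKn hKM
  by_cases hK : K = ⊥
  · left; exact hK
  · right
    by_contra hne'
    exact hMmin K ⟨hKn, hK, hKM.trans hMN⟩ (lt_of_le_of_ne hKM hne')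

/-- The socle: the join of all minimal normal subgroups. -/
def socle (G : Type*) [Group G] : Subgroup G := sSup {M : Subgroup G | IsMinimalNormal M}

theorem isMinimalNormal_map_mulEquiv {G : Type*} [Group G] (φ : G ≃* G) (M : Subgroup G)
    (hM : IsMinimalNormal M) : IsMinimalNormal (M.map φ.toMonoidHom) := by
  obtain ⟨hn, hne, hmin⟩ := hM
  refine ⟨hn.map _ φ.surjective, ?_, ?_⟩
  · intro h
    rw [Subgroup.map_eq_bot_iff_of_injective _ φ.injective] at h
    exact hne h
  · intro N hNn hNM
    have hN' : (N.comap φ.toMonoidHom).Normal := hNn.comap _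
    have hle : N.comap φ.toMonoidHom ≤ M := by
      intro x hx
      have : φ x ∈ M.map φ.toMonoidHom := hNM hx
      obtain ⟨y, hy, hyx⟩ := this
      have : y = x := φ.injective hyx
      rwa [← this]
    have hNeq : N = (N.comap φ.toMonoidHom).map φ.toMonoidHom :=
      (Subgroup.map_comap_eq_self_of_surjective φ.surjective N).symm
    rcases hmin _ hN' hle with h | h
    · left; rw [hNeq, h, Subgroup.map_bot]
    · right; rw [hNeq, h]

theorem socle_characteristic (G : Type*) [Group G] : (socle G).Characteristic := by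
  unfold socle
  apply characteristic_sSup_of_invariant
  intro M hM φ
  exact isMinimalNormal_map_mulEquiv φ M hM

/-- Isaacs 2.6: a minimal normal subgroup normalizes every subnormal subgroup. -/
theorem isMinimalNormal_le_normalizer_aux (n : ℕ) :
    ∀ (G : Type*) [Group G] [Finite G], Nat.card G = n → ∀ (H M : Subgroup G), H.IsSubnormal →
      IsMinimalNormal M → M ≤ Subgroup.normalizer (H : Set G) := by
  induction n using Nat.strong_induction_on with
  | _ n ih =>
    intro G _ _ hn H M hH hM
    by_cases hHtop : H = ⊤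
    · subst hHtop
      rw [Subgroup.normalizer_eq_top]
      exact le_top
    obtain ⟨N, hNn, hHN, hNlt⟩ := hH.exists_normal_and_le_and_lt_top_of_ne hHtop
    obtain ⟨hMn, hMne, hMmin⟩ := hM
    by_cases hMN : M ⊓ N = ⊥
    · -- M centralizes N
      have hc : ⁅M, N⁆ = ⊥ := by
        rw [eq_bot_iff, ← hMN]; exact Subgroup.commutator_le_inf M N
      rw [Subgroup.commutator_eq_bot_iff_le_centralizer] at hc
      exact (hc.trans (Subgroup.centralizer_le (by exact_mod_cast hHN))).trans
        (Subgroup.centralizer_le_normalizer _)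
    · -- M ≤ N
      have hMleN : M ≤ N := by
        have hn' : (M ⊓ N).Normal := inferInstance
        rcases hMmin (M ⊓ N) hn' inf_le_left with h | h
        · exact absurd h hMN
        · exact h ▸ inf_le_right
      -- the socle of N, viewed in G, normalizes H
      have hchar : (socle ↥N).Characteristic := socle_characteristic ↥N
      have hSn : ((socle ↥N).map N.subtype).Normal := ConjAct.normal_of_characteristic_of_normal
      have hSH : (socle ↥N).map N.subtype ≤ Subgroup.normalizer (H : Set G) := by
        rw [Subgroup.map_le_iff_le_comap]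
        apply sSup_le
        intro K hK
        have h1 := ih (Nat.card N) (hn ▸ card_lt_of_lt_top hNlt) N rfl (H.subgroupOf N) K
          hH.subgroupOf hK
        intro x hx
        have h2 := h1 hx
        rw [Subgroup.mem_comap]
        rw [Subgroup.mem_normalizer_iff] at h2 ⊢
        intro g
        constructor
        · intro hg
          have := (h2 ⟨g, hHN hg⟩).mp (show (⟨g, hHN hg⟩ : N) ∈ H.subgroupOf N from hg)
          exact this
        · intro hg
          -- g = x⁻¹ (x g x⁻¹) x ∈ N
          have hgN : g ∈ N := by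
            have h3 : (x : G) * g * (x : G)⁻¹ ∈ N := hHN hg
            have : g = (x : G)⁻¹ * ((x : G) * g * (x : G)⁻¹) * (x : G) := by group
            rw [this]
            exact N.mul_mem (N.mul_mem (N.inv_mem x.2) h3) x.2
          have := (h2 ⟨g, hgN⟩).mpr (show (x * ⟨g, hgN⟩ * x⁻¹ : N) ∈ H.subgroupOf N from hg)
          exact this
      -- M meets the socle nontrivially
      have hMsub : (M.subgroupOf N).Normal := inferInstance
      have hMsubne : M.subgroupOf N ≠ ⊥ := by
        intro h
        rw [Subgroup.subgroupOf_eq_bot, disjoint_iff] at h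
        exact hMN h
      obtain ⟨K, hK, hKM⟩ := exists_isMinimalNormal_le (M.subgroupOf N) hMsub hMsubne
      have hKne : K.map N.subtype ≠ ⊥ := by
        intro h
        rw [Subgroup.map_eq_bot_iff_of_injective _ N.subtype_injective] at h
        exact hK.2.1 h
      have hKle : K.map N.subtype ≤ M ⊓ (socle ↥N).map N.subtype := by
        apply le_inf
        · rintro _ ⟨x, hx, rfl⟩
          exact hKM hx
        · exact Subgroup.map_mono (le_sSup hK)
      have hint : M ⊓ (socle ↥N).map N.subtype = M := by
        have hn' : (M ⊓ (socle ↥N).map N.subtype).Normal := inferInstance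
        rcases hMmin _ hn' inf_le_left with h | h
        · rw [h, le_bot_iff] at hKle
          exact absurd hKle hKne
        · exact h
      exact (hint ▸ inf_le_right : M ≤ (socle ↥N).map N.subtype).trans hSH

theorem isMinimalNormal_le_normalizer {G : Type*} [Group G] [Finite G] (H M : Subgroup G)
    (hH : H.IsSubnormal) (hM : IsMinimalNormal M) : M ≤ Subgroup.normalizer (H : Set G) :=
  isMinimalNormal_le_normalizer_aux (Nat.card G) G rfl H M hH hM

/-- Wielandt's theorem for finite groups. -/
theorem sup_isSubnormal_aux (n : ℕ) :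
    ∀ (G : Type*) [Group G] [Finite G], Nat.card G = n → ∀ (A B : Subgroup G), A.IsSubnormal →
      B.IsSubnormal → (A ⊔ B).IsSubnormal := by
  induction n using Nat.strong_induction_on with
  | _ n ih =>
    intro G _ _ hn A B hA hB
    by_cases htriv : (⊤ : Subgroup G) = ⊥
    · have : A ⊔ B = ⊤ := by
        rw [htriv]; exact le_bot_iff.mp (htriv ▸ le_top)
      rw [this]; exact Subgroup.IsSubnormal.top
    obtain ⟨M, hM, -⟩ := exists_isMinimalNormal_le (⊤ : Subgroup G) inferInstance htriv
    have hMn : M.Normal := hM.1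
    set π := QuotientGroup.mk' M with hπ
    have hcard : Nat.card (G ⧸ M) < n := by
      rw [← hn, Subgroup.card_eq_card_quotient_mul_card_subgroup M]
      have h1 : 1 < Nat.card M := by
        rw [Subgroup.one_lt_card_iff_ne_bot]; exact hM.2.1
      have h0 : 0 < Nat.card (G ⧸ M) := Nat.card_pos
      nlinarith
    have hbar := ih (Nat.card (G ⧸ M)) hcard (G ⧸ M) rfl (A.map π) (B.map π)
      (hA.map (QuotientGroup.mk'_surjective M)) (hB.map (QuotientGroup.mk'_surjective M))
    have hcomap := hbar.comap π
    rw [← Subgroup.map_sup, Subgroup.comap_map_eq, QuotientGroup.ker_mk'] at hcomap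
    have hMnorm : M ≤ Subgroup.normalizer ((A ⊔ B : Subgroup G) : Set G) :=
      (le_inf (isMinimalNormal_le_normalizer A M hA hM)
        (isMinimalNormal_le_normalizer B M hB hM)).trans
        (Subgroup.normalizer_inf_normalizer_le_normalizer_sup A B)
    refine Subgroup.IsSubnormal.step _ _ le_sup_left hcomap ?_
    exact Subgroup.normal_subgroupOf_of_le_normalizer (sup_le Subgroup.le_normalizer hMnorm)

theorem sup_isSubnormal {G : Type*} [Group G] [Finite G] (A B : Subgroup G) (hA : A.IsSubnormal)
    (hB : B.IsSubnormal) : (A ⊔ B).IsSubnormal :=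
  sup_isSubnormal_aux (Nat.card G) G rfl A B hA hB

end Cfsg.Agent.Lib.Helper20

namespace Cfsg.Agent.Lib.Helper20

open scoped Pointwise

/-- The join of a set of subnormal subgroups of a finite group is subnormal. -/
theorem sSup_isSubnormal {G : Type*} [Group G] [Finite G] (S : Set (Subgroup G))
    (hS : ∀ U ∈ S, U.IsSubnormal) : (sSup S).IsSubnormal := by
  have hfin : S.Finite := Set.toFinite S
  induction S, hfin using Set.Finite.induction_on with
  | empty => rw [sSup_empty]; exact Subgroup.IsSubnormal.bot
  | insert _ _ ih =>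
    rename_i a s _ _
    rw [sSup_insert]
    exact sup_isSubnormal _ _ (hS a (Set.mem_insert a s))
      (ih (fun U hU => hS U (Set.mem_insert_of_mem a hU)))

theorem mem_normalizer_iff_conj_smul_eq {G : Type*} [Group G] (H : Subgroup G) (g : G) :
    g ∈ Subgroup.normalizer (H : Set G) ↔ MulAut.conj g • H = H :=
  Subgroup.mem_normalizer_iff_map_conj_eq

/-- A non-normal subnormal subgroup has a conjugate different from it inside its normalizer. -/
theorem exists_conj_ne_le_normalizer_aux {G : Type*} [Group G] (K : Subgroup G)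
    (hK : K.IsSubnormal) : ∀ H : Subgroup G, H ≤ K → (H.subgroupOf K).Normal →
      H.Normal ∨ ∃ g : G, MulAut.conj g • H ≠ H ∧
        MulAut.conj g • H ≤ Subgroup.normalizer (H : Set G) := by
  induction hK with
  | top =>
    intro H _ hn
    left
    rw [Subgroup.normal_subgroupOf_iff_le_normalizer le_top, top_le_iff,
      Subgroup.normalizer_eq_top_iff] at hn
    exact hn
  | step K' K h_le hSubn hN ih =>
    intro H hHK' hHn
    by_cases hHK : (H.subgroupOf K).Normal
    · exact ih H (hHK'.trans h_le) hHK
    · right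
      rw [Subgroup.normal_subgroupOf_iff_le_normalizer (hHK'.trans h_le)] at hHK
      obtain ⟨g, hgK, hgN⟩ := SetLike.not_le_iff_exists.mp hHK
      refine ⟨g, fun h => hgN ((mem_normalizer_iff_conj_smul_eq H g).mpr h), ?_⟩
      have h1 : MulAut.conj g • H ≤ MulAut.conj g • K' :=
        Subgroup.pointwise_smul_le_pointwise_smul_iff.mpr hHK'
      have h2 : MulAut.conj g • K' = K' := by
        rw [Subgroup.normal_subgroupOf_iff_le_normalizer h_le] at hN
        exact (mem_normalizer_iff_conj_smul_eq K' g).mp (hN hgK)
      rw [h2] at h1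
      exact h1.trans ((Subgroup.normal_subgroupOf_iff_le_normalizer hHK').mp hHn)

theorem exists_conj_ne_le_normalizer {G : Type*} [Group G] (T : Subgroup G)
    (hT : T.IsSubnormal) : T.Normal ∨ ∃ g : G, MulAut.conj g • T ≠ T ∧
      MulAut.conj g • T ≤ Subgroup.normalizer (T : Set G) := by
  rcases Subgroup.IsSubnormal.iff_eq_top_or_exists.mp hT with rfl | ⟨K, hTK, hK, hn⟩
  · left; infer_instance
  · exact exists_conj_ne_le_normalizer_aux K hK T hTK.le hn

/-- S0539. -/
theorem exists_mem_normalizing_sSup {G : Type*} [Group G] [Finite G] (S S₀ : Set (Subgroup G))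
    (hS : ∀ U ∈ S, U.IsSubnormal) (hconj : ∀ U ∈ S, ∀ g : G, MulAut.conj g • U ∈ S)
    (h₀ : S₀ ⊂ S) :
    ∃ X ∈ S, X ∉ S₀ ∧ X ≤ Subgroup.normalizer ((sSup S₀ : Subgroup G) : Set G) := by
  set T := sSup S₀ with hT
  have hTsn : T.IsSubnormal := sSup_isSubnormal S₀ (fun U hU => hS U (h₀.subset hU))
  rcases exists_conj_ne_le_normalizer T hTsn with hn | ⟨g, hne, hle⟩
  · obtain ⟨X, hXS, hX0⟩ := Set.exists_of_ssubset h₀
    refine ⟨X, hXS, hX0, ?_⟩
    rw [Subgroup.normalizer_eq_top]; exact le_top
  · -- some conjugate of a member of S₀ is not inside T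
    have hex : ∃ U ∈ S₀, ¬ MulAut.conj g • U ≤ T := by
      by_contra hall
      push Not at hall
      apply hne
      have hle' : MulAut.conj g • T ≤ T := by
        rw [Subgroup.pointwise_smul_subset_iff]
        apply sSup_le
        intro U hU
        rw [← Subgroup.pointwise_smul_subset_iff]
        exact hall U hU
      apply Subgroup.eq_of_le_of_card_ge hle'
      exact (Nat.card_congr (Subgroup.equivSMul (MulAut.conj g) T).toEquiv).le
    obtain ⟨U, hU0, hUT⟩ := hex
    refine ⟨MulAut.conj g • U, hconj U (h₀.subset hU0) g, ?_, ?_⟩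
    · intro hmem
      exact hUT (le_sSup hmem)
    · exact (Subgroup.pointwise_smul_le_pointwise_smul_iff.mpr (le_sSup hU0)).trans hle

end Cfsg.Agent.Lib.Helper20
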