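import Cfsg.Agent.Lib.Helper20.Wielandt
import Cfsg.Agent.Lib.Helper16.Subnormal
import Mathlib.Tactic.Group

/-!
Subnormal subgroups `E₁, E₂` of a faithful group on an elementary abelian `p`-group with
`[V, E₁, E₂] = 1` have `[E₁, E₂] ≤ O_p` (helper20).
-/

set_option autoImplicit false

namespace Cfsg.Agent.Lib.Helper20

open scoped commutatorElement
open Cfsg

/-- `N(V) ≤ N(C(V))` (local copy). -/
theorem normalizer_le_normalizer_centralizer_sc {G : Type*} [Group G] (V : Subgroup G) :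
    Subgroup.normalizer (V : Set G) ≤
      Subgroup.normalizer ((Subgroup.centralizer (V : Set G) : Subgroup G) : Set G) := by
  have key : ∀ g ∈ Subgroup.normalizer (V : Set G), ∀ c ∈ Subgroup.centralizer (V : Set G),
      g * c * g⁻¹ ∈ Subgroup.centralizer (V : Set G) := by
    intro g hg c hc
    rw [Subgroup.mem_centralizer_iff] at hc ⊢
    intro v hv
    have hv' : g⁻¹ * v * g ∈ V := by
      have h2 := (Subgroup.mem_normalizer_iff.mp (Subgroup.inv_mem _ hg) v).mp hv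
      simpa using h2
    have h3 := hc _ hv'
    calc v * (g * c * g⁻¹) = g * ((g⁻¹ * v * g) * c) * g⁻¹ := by group
      _ = g * (c * (g⁻¹ * v * g)) * g⁻¹ := by rw [h3]
      _ = g * c * g⁻¹ * v := by group
  intro g hg
  rw [Subgroup.mem_normalizer_iff]
  intro c
  constructor
  · exact key g hg c
  · intro h
    have := key g⁻¹ (Subgroup.inv_mem _ hg) _ h
    simpa [mul_assoc] using this

/-- The elements normalizing `V` and `W` and acting trivially on `V / W`. -/
def quotStab {G : Type*} [Group G] (V W : Subgroup G) : Subgroup G where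
  carrier := {h | h ∈ Subgroup.normalizer (V : Set G) ∧ h ∈ Subgroup.normalizer (W : Set G) ∧
    ∀ v ∈ V, ⁅h, v⁆ ∈ W}
  one_mem' := ⟨Subgroup.one_mem _, Subgroup.one_mem _, fun v _ => by
    rw [commutatorElement_one_left]; exact W.one_mem⟩
  mul_mem' := by
    rintro a b ⟨ha1, ha2, ha3⟩ ⟨hb1, hb2, hb3⟩
    refine ⟨Subgroup.mul_mem _ ha1 hb1, Subgroup.mul_mem _ ha2 hb2, fun v hv => ?_⟩
    rw [commutatorElement_mul_left_eq_conj_mul]
    refine W.mul_mem ?_ (ha3 v hv)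
    exact (Subgroup.mem_normalizer_iff.mp ha2 _).mp (hb3 v hv)
  inv_mem' := by
    rintro a ⟨ha1, ha2, ha3⟩
    refine ⟨Subgroup.inv_mem _ ha1, Subgroup.inv_mem _ ha2, fun v hv => ?_⟩
    rw [commutatorElement_inv_left]
    have h1 : ⁅v, a⁆ ∈ W := by
      rw [← commutatorElement_inv]; exact W.inv_mem (ha3 v hv)
    have h2 := (Subgroup.mem_normalizer_iff.mp (Subgroup.inv_mem _ ha2) _).mp h1
    simpa using h2

theorem mem_quotStab {G : Type*} [Group G] {V W : Subgroup G} {h : G} :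
    h ∈ quotStab V W ↔ h ∈ Subgroup.normalizer (V : Set G) ∧
      h ∈ Subgroup.normalizer (W : Set G) ∧ ∀ v ∈ V, ⁅h, v⁆ ∈ W := Iff.rfl

/-- Elements normalizing `V` and `W` normalize `quotStab V W`. -/
theorem normalizer_inf_le_normalizer_quotStab {G : Type*} [Group G] (V W : Subgroup G) :
    Subgroup.normalizer (V : Set G) ⊓ Subgroup.normalizer (W : Set G) ≤
      Subgroup.normalizer ((quotStab V W : Subgroup G) : Set G) := by
  have key : ∀ g ∈ Subgroup.normalizer (V : Set G) ⊓ Subgroup.normalizer (W : Set G),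
      ∀ h ∈ quotStab V W, g * h * g⁻¹ ∈ quotStab V W := by
    rintro g ⟨hg1, hg2⟩ h ⟨hh1, hh2, hh3⟩
    refine ⟨?_, ?_, fun v hv => ?_⟩
    · exact Subgroup.mul_mem _ (Subgroup.mul_mem _ hg1 hh1) (Subgroup.inv_mem _ hg1)
    · exact Subgroup.mul_mem _ (Subgroup.mul_mem _ hg2 hh2) (Subgroup.inv_mem _ hg2)
    · have hv' : g⁻¹ * v * g ∈ V := by
        have := (Subgroup.mem_normalizer_iff.mp (Subgroup.inv_mem _ hg1) v).mp hv
        simpa using this
      have h1 := hh3 _ hv'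
      have h2 := (Subgroup.mem_normalizer_iff.mp hg2 _).mp h1
      have h3 : g * ⁅h, g⁻¹ * v * g⁆ * g⁻¹ = ⁅g * h * g⁻¹, v⁆ := by
        simp only [commutatorElement_def]; group
      rw [← h3]; exact h2
  intro g hg
  rw [Subgroup.mem_normalizer_iff]
  intro h
  constructor
  · exact key g hg h
  · intro hh
    have hg' : g⁻¹ ∈ Subgroup.normalizer (V : Set G) ⊓ Subgroup.normalizer (W : Set G) :=
      Subgroup.inv_mem _ hg
    have := key g⁻¹ hg' _ hh
    have h2 : g⁻¹ * (g * h * g⁻¹) * g⁻¹⁻¹ = h := by group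
    rwa [h2] at this

/-- An element centralizing `W` and acting trivially on `V/W` has `p`-th power centralizing `V`
when `W ≤ V` has exponent `p`. -/
theorem pow_mem_centralizer_of_mem_quotStab {G : Type*} [Group G] {V W : Subgroup G} (p : ℕ)
    (hW : ∀ w ∈ W, w ^ p = 1) {y : G} (hy : y ∈ quotStab V W)
    (hyW : y ∈ Subgroup.centralizer (W : Set G)) :
    y ^ p ∈ Subgroup.centralizer (V : Set G) := by
  rw [Subgroup.mem_centralizer_iff]
  intro v hv
  have hw := hy.2.2 v hv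
  have hcomm : ⁅y, v⁆ * y = y * ⁅y, v⁆ := Subgroup.mem_centralizer_iff.mp hyW _ hw
  have key : ∀ k : ℕ, y ^ k * v = ⁅y, v⁆ ^ k * v * y ^ k := by
    intro k
    induction k with
    | zero => simp
    | succ k ih =>
      have hcommk : ⁅y, v⁆ ^ k * y = y * ⁅y, v⁆ ^ k := by
        have : Commute (⁅y, v⁆) y := hcomm
        exact (this.pow_left k).eq
      have hyv : y * v = ⁅y, v⁆ * v * y := by rw [commutatorElement_def]; group
      calc y ^ (k + 1) * v = y * (y ^ k * v) := by rw [pow_succ']; group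
        _ = y * (⁅y, v⁆ ^ k * v * y ^ k) := by rw [ih]
        _ = (y * ⁅y, v⁆ ^ k) * v * y ^ k := by group
        _ = (⁅y, v⁆ ^ k * y) * v * y ^ k := by rw [hcommk]
        _ = ⁅y, v⁆ ^ k * (y * v) * y ^ k := by group
        _ = ⁅y, v⁆ ^ k * (⁅y, v⁆ * v * y) * y ^ k := by rw [hyv]
        _ = ⁅y, v⁆ ^ (k + 1) * v * y ^ (k + 1) := by rw [pow_succ, pow_succ]; group
  have h1 := key p
  rw [hW _ hw, one_mul] at h1
  exact h1.symm

theorem commutator_le_pCore_of_stabilizes {G : Type*} [Group G] [Finite G] {p : ℕ} [Fact p.Prime]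
    (V H : Subgroup G) (hV : Cfsg.IsElementaryAbelian p V)
    (hHV : H ≤ Subgroup.normalizer (V : Set G))
    (hf : H ⊓ Subgroup.centralizer (V : Set G) = ⊥) (E₁ E₂ : Subgroup G) (h₁ : E₁ ≤ H)
    (h₂ : E₂ ≤ H) (hs₁ : (E₁.subgroupOf H).IsSubnormal) (hs₂ : (E₂.subgroupOf H).IsSubnormal)
    (hc : ⁅⁅V, E₁⁆, E₂⁆ = ⊥) : ⁅E₁, E₂⁆ ≤ (Cfsg.pCore p H).map H.subtype := by
  have hE1V : E₁ ≤ Subgroup.normalizer (V : Set G) := h₁.trans hHV
  have hE2V : E₂ ≤ Subgroup.normalizer (V : Set G) := h₂.trans hHV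
  have hWV : ⁅V, E₁⁆ ≤ V := Subgroup.le_normalizer_iff_commutator_le_left.mp hE1V
  have hE1W : E₁ ≤ Subgroup.normalizer ((⁅V, E₁⁆ : Subgroup G) : Set G) :=
    Subgroup.normalizer_commutator_ge_right V E₁
  have hE2C : E₂ ≤ Subgroup.centralizer ((⁅V, E₁⁆ : Subgroup G) : Set G) := by
    rw [Subgroup.commutator_comm] at hc
    exact Subgroup.commutator_eq_bot_iff_le_centralizer.mp hc
  have hE2W : E₂ ≤ Subgroup.normalizer ((⁅V, E₁⁆ : Subgroup G) : Set G) :=
    hE2C.trans (Subgroup.centralizer_le_normalizer _)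
  -- (i) [E1,E2] centralizes W
  have hYC : ⁅E₁, E₂⁆ ≤ Subgroup.centralizer ((⁅V, E₁⁆ : Subgroup G) : Set G) := by
    have h1 : E₁ ≤ Subgroup.normalizer
        ((Subgroup.centralizer ((⁅V, E₁⁆ : Subgroup G) : Set G) : Subgroup G) : Set G) :=
      hE1W.trans (normalizer_le_normalizer_centralizer_sc _)
    exact (Subgroup.commutator_mono h1 hE2C).trans
      (Subgroup.le_normalizer_iff_commutator_le_right.mp le_rfl)
  -- (ii) [E1,E2] ≤ quotStab
  have hE1Q : E₁ ≤ quotStab V ⁅V, E₁⁆ := by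
    intro e he
    refine ⟨hE1V he, hE1W he, fun v hv => ?_⟩
    rw [← commutatorElement_inv]
    exact Subgroup.inv_mem _ (Subgroup.commutator_mem_commutator hv he)
  have hE2N : E₂ ≤ Subgroup.normalizer ((quotStab V ⁅V, E₁⁆ : Subgroup G) : Set G) :=
    (le_inf hE2V hE2W).trans (normalizer_inf_le_normalizer_quotStab _ _)
  have hYQ : ⁅E₁, E₂⁆ ≤ quotStab V ⁅V, E₁⁆ :=
    (Subgroup.commutator_mono hE1Q hE2N).trans
      (Subgroup.le_normalizer_iff_commutator_le_left.mp le_rfl)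
  have hYH : ⁅E₁, E₂⁆ ≤ H :=
    (Subgroup.commutator_le_sup _ _).trans (sup_le h₁ h₂)
  -- (iii) exponent p
  have hexp : ∀ y ∈ ⁅E₁, E₂⁆, y ^ p = 1 := by
    intro y hy
    have h1 : y ^ p ∈ Subgroup.centralizer (V : Set G) :=
      pow_mem_centralizer_of_mem_quotStab p (fun w hw => hV.2 w (hWV hw)) (hYQ hy) (hYC hy)
    have h2 : y ^ p ∈ H ⊓ Subgroup.centralizer (V : Set G) := ⟨H.pow_mem (hYH hy) p, h1⟩
    rw [hf] at h2
    exact Subgroup.mem_bot.mp h2
  -- (iv) work in ↥H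
  have hsup : (E₁.subgroupOf H ⊔ E₂.subgroupOf H).IsSubnormal := sup_isSubnormal _ _ hs₁ hs₂
  have hYsn : (⁅E₁.subgroupOf H, E₂.subgroupOf H⁆).IsSubnormal :=
    Subgroup.IsSubnormal.step _ _ (Subgroup.commutator_le_sup _ _) hsup inferInstance
  have hmap : (⁅E₁.subgroupOf H, E₂.subgroupOf H⁆).map H.subtype = ⁅E₁, E₂⁆ := by
    rw [Subgroup.map_commutator, Subgroup.map_subgroupOf_eq_of_le h₁,
      Subgroup.map_subgroupOf_eq_of_le h₂]
  have hYp : IsPGroup p ↥(⁅E₁.subgroupOf H, E₂.subgroupOf H⁆) := by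
    rintro ⟨z, hz⟩
    refine ⟨1, ?_⟩
    have hz' : (z : G) ∈ ⁅E₁, E₂⁆ := by
      rw [← hmap]; exact Subgroup.mem_map_of_mem _ hz
    have := hexp _ hz'
    apply Subtype.ext
    apply Subtype.ext
    simpa using this
  have hle := Cfsg.Agent.Lib.Helper16.le_pCore_of_isSubnormal_of_isPGroup p hYsn hYp
  rw [← hmap]
  exact Subgroup.map_mono hle

end Cfsg.Agent.Lib.Helper20
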