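import Cfsg.Agent.Lib.Helper20.PConstrained

/-!
`p`-solvable groups (helper20): images, quasisimple subgroups are `p'`, Hall–Higman 1.2.3.
-/

set_option autoImplicit false

namespace Cfsg.Agent.Lib.Helper20

variable {p : ℕ} [hp : Fact p.Prime]

theorem relIndex_map_dvd' {C Q : Type*} [Group C] [Group Q] (f : C →* Q) (H K : Subgroup C)
    [H.Normal] (hHK : H ≤ K) : (H.map f).relIndex (K.map f) ∣ H.relIndex K := by
  rw [Subgroup.relIndex_map_map]
  have h1 : K ⊔ f.ker = K ⊔ (H ⊔ f.ker) := by
    rw [← sup_assoc, sup_eq_left.mpr hHK]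
  rw [h1, Subgroup.relIndex_sup_right]
  exact Subgroup.relIndex_dvd_of_le_left K le_sup_left

omit hp in
theorem pow_or_coprime_of_dvd (hp : p.Prime) {a b : ℕ} (hab : a ∣ b)
    (h : (∃ m : ℕ, b = p ^ m) ∨ b.Coprime p) : (∃ m : ℕ, a = p ^ m) ∨ a.Coprime p := by
  rcases h with ⟨m, hm⟩ | h
  · left
    rw [hm] at hab
    obtain ⟨k, _, hk⟩ := (Nat.dvd_prime_pow hp).mp hab
    exact ⟨k, hk⟩
  · right
    exact Nat.Coprime.coprime_dvd_left hab h

/-- A homomorphic image of a `p`-solvable group is `p`-solvable. -/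
theorem isPSolvable_of_surjective {C Q : Type*} [Group C] [Group Q] (f : C →* Q)
    (hf : Function.Surjective f) (h : Cfsg.IsPSolvable p C) : Cfsg.IsPSolvable p Q := by
  obtain ⟨n, H, h0, hlast, hmono, hnorm, hidx⟩ := h
  refine ⟨n, fun i => (H i).map f, ?_, ?_, ?_, ?_, ?_⟩
  · simp only [h0, Subgroup.map_bot]
  · simp only [hlast, ← MonoidHom.range_eq_map, MonoidHom.range_eq_top.mpr hf]
  · intro i j hij
    exact Subgroup.map_mono (hmono hij)
  · intro i
    exact Subgroup.Normal.map (hnorm i) f hf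
  · intro i
    haveI := hnorm i.castSucc
    have hle : H i.castSucc ≤ H i.succ := hmono (Fin.castSucc_le_succ i)
    exact pow_or_coprime_of_dvd hp.out (relIndex_map_dvd' f _ _ hle) (hidx i)

/-- A quasisimple subgroup of a finite `p`-solvable group has order prime to `p`. -/
theorem quasisimple_coprime_of_isPSolvable {Q : Type*} [Group Q] [Finite Q]
    (h : Cfsg.IsPSolvable p Q) (K : Subgroup Q) (hK : Cfsg.IsQuasisimple K) :
    (Nat.card K).Coprime p := by
  obtain ⟨n, H, h0, hlast, hmono, hnorm, hidx⟩ := h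
  have hnonab : ¬ (⊤ : Subgroup K) ≤ Subgroup.center K := by
    intro htop
    apply isQuasisimple_not_isSolvable hK
    have : IsMulCommutative K := by
      constructor; constructor
      intro a b
      have ha : a ∈ Subgroup.center K := htop (Subgroup.mem_top a)
      exact (Subgroup.mem_center_iff.mp ha b).symm
    letI : CommGroup K := { (inferInstance : Group K) with mul_comm := this.is_comm.comm }
    infer_instance
  -- find the transition index
  have htrans : ∃ i : Fin n, (H i.castSucc).subgroupOf K ≤ Subgroup.center K ∧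
      ¬ (H i.succ).subgroupOf K ≤ Subgroup.center K := by
    by_contra hno
    push_neg at hno
    have hall : ∀ i : Fin (n + 1), (H i).subgroupOf K ≤ Subgroup.center K := by
      intro i
      induction i using Fin.induction with
      | zero => rw [h0, Subgroup.bot_subgroupOf]; exact bot_le
      | succ i ih => exact hno i ih
    apply hnonab
    have := hall (Fin.last n)
    rwa [hlast, Subgroup.top_subgroupOf] at this
  obtain ⟨i, hi1, hi2⟩ := htrans
  haveI := hnorm i.castSucc
  haveI := hnorm i.succ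
  have hKle : K ≤ H i.succ := by
    rcases quasisimple_normal_top_or_le_center hK ((H i.succ).subgroupOf K) inferInstance with h | h
    · exact Subgroup.subgroupOf_eq_top.mp h
    · exact absurd h hi2
  -- index computation
  have hdvd1 : (H i.castSucc).relIndex K ∣ (H i.castSucc).relIndex (H i.succ) := by
    have := Subgroup.relIndex_dvd_index_of_normal ((H i.castSucc).subgroupOf (H i.succ))
      (K.subgroupOf (H i.succ))
    rwa [Subgroup.relIndex_subgroupOf hKle] at this
  have hdvd2 : (Subgroup.center K).index ∣ (H i.castSucc).relIndex K :=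
    Subgroup.index_dvd_of_le hi1
  rcases pow_or_coprime_of_dvd hp.out (hdvd2.trans hdvd1) (hidx i) with ⟨m, hm⟩ | hc
  · exfalso
    apply isQuasisimple_not_isSolvable hK
    have hpg : IsPGroup p (K ⧸ Subgroup.center K) := by
      apply IsPGroup.of_card (n := m)
      rw [← hm]; rfl
    have hnil : Group.IsNilpotent (K ⧸ Subgroup.center K) := hpg.isNilpotent
    have : Group.IsNilpotent K := Group.of_quotient_center_nilpotent hnil
    infer_instance
  · exact perfect_coprime_of_index_center_coprime p hK.1 hc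

/-- A finite `p`-solvable group with `O_{p'} = 1` has no components. -/
theorem layer_eq_bot_of_isPSolvable {H : Type*} [Group H] [Finite H]
    (hsol : Cfsg.IsPSolvable p H) (hO : Cfsg.pPrimeCore p H = ⊥) : Cfsg.layer H = ⊥ := by
  unfold Cfsg.layer
  rw [sSup_eq_bot]
  intro K hK
  exfalso
  have hc := quasisimple_coprime_of_isPSolvable hsol K hK.2
  have hle := subnormal_coprime_le_pPrimeCore p K hK.1 hc
  rw [hO, le_bot_iff] at hle
  exact isComponent_ne_bot hK hle

/-- Hall–Higman Lemma 1.2.3: in a finite `p`-solvable group with `O_{p'} = 1`, `O_p` contains its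
centralizer. -/
theorem centralizer_pCore_le_of_isPSolvable {H : Type*} [Group H] [Finite H]
    (hsol : Cfsg.IsPSolvable p H) (hO : Cfsg.pPrimeCore p H = ⊥) :
    Subgroup.centralizer ((pCore p H : Subgroup H) : Set H) ≤ pCore p H := by
  have hF : fittingSubgroup H = pCore p H := fitting_eq_pCore_of_pPrimeCore_eq_bot p hO
  rw [← hF, centralizer_fitting_le_iff_layer_eq_bot]
  exact layer_eq_bot_of_isPSolvable hsol hO


/-- If `U / T = O_{p'}(G / T)` then `O_{p'}(G / U) = 1`. -/
theorem pPrimeCore_quotient_comap_eq_bot {G : Type*} [Group G] [Finite G] (T U : Subgroup G)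
    [T.Normal] [U.Normal]
    (hU : U = (pPrimeCore p (G ⧸ T)).comap (QuotientGroup.mk' T)) :
    pPrimeCore p (G ⧸ U) = ⊥ := by
  have hTU : T ≤ U := by
    intro x hx
    rw [hU, Subgroup.mem_comap]
    have : QuotientGroup.mk' T x = 1 := by
      rw [← MonoidHom.mem_ker, QuotientGroup.ker_mk']; exact hx
    rw [this]; exact one_mem _
  set N := (pPrimeCore p (G ⧸ U)).comap (QuotientGroup.mk' U) with hN
  have hNn : N.Normal := by
    have h1 : (pPrimeCore p (G ⧸ U)).Characteristic := pPrimeCore_characteristic p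
    have : (pPrimeCore p (G ⧸ U)).Normal := inferInstance
    rw [hN]; infer_instance
  have hcop : (Nat.card (N.map (QuotientGroup.mk' T))).Coprime p := by
    rw [Nat.coprime_comm, Nat.Prime.coprime_iff_not_dvd hp.out]
    intro hdvd
    obtain ⟨⟨g, hgN⟩, hg⟩ := exists_prime_orderOf_dvd_card' p hdvd
    rw [Subgroup.orderOf_mk] at hg
    obtain ⟨y, hy, rfl⟩ := Subgroup.mem_map.mp hgN
    have hyp : y ^ p ∈ T := by
      rw [← QuotientGroup.ker_mk' T, MonoidHom.mem_ker, map_pow, ← hg, pow_orderOf_eq_one]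
    have h1 : (QuotientGroup.mk' U y) ^ p = 1 := by
      rw [← map_pow, ← MonoidHom.mem_ker, QuotientGroup.ker_mk']; exact hTU hyp
    have h2 : orderOf (QuotientGroup.mk' U y) ∣ p := orderOf_dvd_of_pow_eq_one h1
    have hyW : QuotientGroup.mk' U y ∈ pPrimeCore p (G ⧸ U) := hy
    have h3 : orderOf (QuotientGroup.mk' U y) ∣ Nat.card (pPrimeCore p (G ⧸ U)) := by
      have := orderOf_dvd_natCard (⟨_, hyW⟩ : pPrimeCore p (G ⧸ U))
      rwa [Subgroup.orderOf_mk] at this
    have h4 : orderOf (QuotientGroup.mk' U y) = 1 :=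
      Nat.eq_one_of_dvd_coprimes (pPrimeCore_coprime' p) h3 h2
    have hyU : y ∈ U := by
      rw [← QuotientGroup.ker_mk' U, MonoidHom.mem_ker]
      exact orderOf_eq_one_iff.mp h4
    have hyW' : QuotientGroup.mk' T y ∈ pPrimeCore p (G ⧸ T) := by
      rw [hU] at hyU; exact hyU
    have h5 : orderOf (QuotientGroup.mk' T y) ∣ Nat.card (pPrimeCore p (G ⧸ T)) := by
      have := orderOf_dvd_natCard (⟨_, hyW'⟩ : pPrimeCore p (G ⧸ T))
      rwa [Subgroup.orderOf_mk] at this
    rw [hg] at h5
    have := Nat.Coprime.eq_one_of_dvd (pPrimeCore_coprime' (G := G ⧸ T) p).symm h5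
    exact hp.out.one_lt.ne' this
  have hmapn : (N.map (QuotientGroup.mk' T)).Normal :=
    Subgroup.Normal.map hNn _ (QuotientGroup.mk'_surjective T)
  have hle : N.map (QuotientGroup.mk' T) ≤ pPrimeCore p (G ⧸ T) := le_pPrimeCore' hmapn hcop
  have hNU : N ≤ U := by
    rw [hU]; exact Subgroup.map_le_iff_le_comap.mp hle
  rw [eq_bot_iff]
  intro y hy
  obtain ⟨x, rfl⟩ := QuotientGroup.mk'_surjective U y
  have : x ∈ U := hNU hy
  rw [Subgroup.mem_bot, ← MonoidHom.mem_ker, QuotientGroup.ker_mk']
  exact this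

/-- Hall–Higman Lemma 1.2.3 at one level of the upper `p`-series. -/
theorem hall_higman_level {G : Type*} [Group G] [Finite G] (T U V : Subgroup G)
    [T.Normal] [U.Normal]
    (hU : U = (pPrimeCore p (G ⧸ T)).comap (QuotientGroup.mk' T))
    (hV : V = (pCore p (G ⧸ U)).comap (QuotientGroup.mk' U))
    (hsol : Cfsg.IsPSolvable p G) :
    Subgroup.centralizer ((V.map (QuotientGroup.mk' U) : Subgroup (G ⧸ U)) : Set (G ⧸ U)) ≤
      V.map (QuotientGroup.mk' U) := by
  have hVm : V.map (QuotientGroup.mk' U) = pCore p (G ⧸ U) := by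
    rw [hV]; exact Subgroup.map_comap_eq_self_of_surjective (QuotientGroup.mk'_surjective _) _
  rw [hVm]
  exact centralizer_pCore_le_of_isPSolvable
    (isPSolvable_of_surjective _ (QuotientGroup.mk'_surjective U) hsol)
    (pPrimeCore_quotient_comap_eq_bot T U hU)

theorem upperPSeries_succ_even {G : Type*} [Group G] (n : ℕ) (hn : Even n) :
    (Cfsg.upperPSeries p G (n + 1)).1 =
      (pPrimeCore p (G ⧸ (Cfsg.upperPSeries p G n).1)).comap (QuotientGroup.mk' _) := by
  rw [Cfsg.upperPSeries]
  simp only [hn, if_true]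

theorem upperPSeries_succ_odd {G : Type*} [Group G] (n : ℕ) (hn : ¬ Even n) :
    (Cfsg.upperPSeries p G (n + 1)).1 =
      (pCore p (G ⧸ (Cfsg.upperPSeries p G n).1)).comap (QuotientGroup.mk' _) := by
  rw [Cfsg.upperPSeries]
  simp only [hn, if_false]

end Cfsg.Agent.Lib.Helper20
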