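import Cfsg.Agent.Lib.Helper20.PSolvable

/-!
More on `p`-constraint (helper20): lifting centralizers of `O_p(X / O_{p'}(X))`,
`p`-constraint in terms of the layer of `X / O_{p'}(X)`, and a `p`-solvability criterion.
-/

set_option autoImplicit false

namespace Cfsg.Agent.Lib.Helper20

variable {X : Type*} [Group X] [Finite X] (p : ℕ) [hp : Fact p.Prime]

/-- `C_{X/O}(O_p(X/O))` is the image of `C_X(P)`, `P` a Sylow `p`-subgroup of `O_{p',p}(X)`. -/
theorem exists_centralizer_lift (P : Sylow p ↥(Cfsg.pPrimePCore p X))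
    (xb : X ⧸ pPrimeCore p X)
    (hxb : xb ∈ Subgroup.centralizer
      ((pCore p (X ⧸ pPrimeCore p X) : Subgroup (X ⧸ pPrimeCore p X)) : Set (X ⧸ pPrimeCore p X))) :
    ∃ w ∈ Subgroup.centralizer
        (((P : Subgroup ↥(Cfsg.pPrimePCore p X)).map (Cfsg.pPrimePCore p X).subtype : Subgroup X) :
          Set X), QuotientGroup.mk' (pPrimeCore p X) w = xb := by
  set π := QuotientGroup.mk' (pPrimeCore p X) with hπ
  set Ph := (P : Subgroup ↥(Cfsg.pPrimePCore p X)).map (Cfsg.pPrimePCore p X).subtype with hPh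
  obtain ⟨x, rfl⟩ := QuotientGroup.mk'_surjective (pPrimeCore p X) xb
  obtain ⟨w, hw, o, ho, hxwo⟩ := exists_normalizer_mul_pPrimeCore p P x
  have hπo : π o = 1 := by
    rw [← MonoidHom.mem_ker, hπ, QuotientGroup.ker_mk']; exact ho
  have hπx : π x = π w := by rw [hxwo, map_mul, hπo, mul_one]
  refine ⟨w, ?_, hπx.symm⟩
  rw [Subgroup.mem_centralizer_iff]
  intro y hy
  have hc1 : w * y * w⁻¹ * y⁻¹ ∈ Ph :=
    mul_mem ((Subgroup.mem_normalizer_iff.mp hw y).mp hy) (inv_mem hy)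
  have hπy : π y ∈ pCore p (X ⧸ pPrimeCore p X) := by
    rw [← map_sylow_pPrimePCore p P]; exact Subgroup.mem_map_of_mem _ hy
  have hcomm : π y * π w = π w * π y := by
    rw [← hπx]; exact (Subgroup.mem_centralizer_iff.mp hxb) (π y) hπy
  have hc2 : w * y * w⁻¹ * y⁻¹ ∈ pPrimeCore p X := by
    rw [← QuotientGroup.ker_mk' (pPrimeCore p X), MonoidHom.mem_ker]
    simp only [map_mul, map_inv]
    rw [← hπ, ← hcomm]; group
  have : w * y * w⁻¹ * y⁻¹ ∈ Ph ⊓ pPrimeCore p X := ⟨hc1, hc2⟩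
  rw [sylow_pPrimePCore_inf_pPrimeCore p P, Subgroup.mem_bot] at this
  calc y * w = (w * y * w⁻¹ * y⁻¹)⁻¹ * (w * y) := by group
    _ = w * y := by rw [this]; group

theorem fitting_quotient_pPrimeCore :
    fittingSubgroup (X ⧸ pPrimeCore p X) = pCore p (X ⧸ pPrimeCore p X) :=
  fitting_eq_pCore_of_pPrimeCore_eq_bot p (pPrimeCore_quotient_eq_bot p)

theorem isPConstrained_iff_layer_quotient_eq_bot :
    Cfsg.IsPConstrained p X ↔ Cfsg.layer (X ⧸ pPrimeCore p X) = ⊥ := by
  rw [isPConstrained_iff_centralizer_pCore_le, ← fitting_quotient_pPrimeCore p,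
    centralizer_fitting_le_iff_layer_eq_bot]

/-- If `C_X(P)` is `p`-solvable for a Sylow `p`-subgroup `P` of `O_{p',p}(X)`, then `X` is
`p`-constrained. -/
theorem isPConstrained_of_centralizer_isPSolvable (P : Sylow p ↥(Cfsg.pPrimePCore p X))
    (hsol : Cfsg.IsPSolvable p ↥(Subgroup.centralizer
      (((P : Subgroup ↥(Cfsg.pPrimePCore p X)).map (Cfsg.pPrimePCore p X).subtype : Subgroup X) :
        Set X))) : Cfsg.IsPConstrained p X := by
  rw [isPConstrained_iff_layer_quotient_eq_bot]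
  unfold Cfsg.layer
  rw [sSup_eq_bot]
  intro K hK
  exfalso
  set C := Subgroup.centralizer
      (((P : Subgroup ↥(Cfsg.pPrimePCore p X)).map (Cfsg.pPrimePCore p X).subtype : Subgroup X) :
        Set X) with hC
  set ψ : ↥C →* X ⧸ pPrimeCore p X := (QuotientGroup.mk' (pPrimeCore p X)).comp C.subtype with hψ
  have hKcen : K ≤ Subgroup.centralizer
      ((pCore p (X ⧸ pPrimeCore p X) : Subgroup (X ⧸ pPrimeCore p X)) :
        Set (X ⧸ pPrimeCore p X)) := by
    rw [← fitting_quotient_pPrimeCore p]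
    exact le_trans (component_le_layer K hK) layer_le_centralizer_fitting
  have hKr : K ≤ ψ.range := by
    intro xb hxb
    obtain ⟨w, hw, hwx⟩ := exists_centralizer_lift p P xb (hKcen hxb)
    exact ⟨⟨w, hw⟩, hwx⟩
  have hsolr : Cfsg.IsPSolvable p ↥ψ.range :=
    isPSolvable_of_surjective ψ.rangeRestrict ψ.rangeRestrict_surjective hsol
  have hq : Cfsg.IsQuasisimple ↥(K.subgroupOf ψ.range) :=
    isQuasisimple_of_mulEquiv (Subgroup.subgroupOfEquivOfLe hKr).symm hK.2
  have hc := quasisimple_coprime_of_isPSolvable hsolr (K.subgroupOf ψ.range) hq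
  rw [Nat.card_congr (Subgroup.subgroupOfEquivOfLe hKr).toEquiv] at hc
  have hle := subnormal_coprime_le_pPrimeCore p K hK.1 hc
  rw [pPrimeCore_quotient_eq_bot, le_bot_iff] at hle
  exact isComponent_ne_bot hK hle

end Cfsg.Agent.Lib.Helper20

namespace Cfsg.Agent.Lib.Helper20

theorem layer_eq_bot_iff' {H : Type*} [Group H] :
    Cfsg.layer H = ⊥ ↔ ∀ K : Subgroup H, ¬ Cfsg.IsComponent K := by
  unfold Cfsg.layer
  rw [sSup_eq_bot]
  constructor
  · intro h K hK
    exact isComponent_ne_bot hK (h K hK)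
  · intro h K hK
    exact absurd hK (h K)

theorem layer_eq_bot_of_mulEquiv {H H' : Type*} [Group H] [Group H'] (e : H ≃* H')
    (h : Cfsg.layer H = ⊥) : Cfsg.layer H' = ⊥ := by
  rw [layer_eq_bot_iff'] at h ⊢
  intro K hK
  apply h (K.map e.symm.toMonoidHom)
  exact isComponent_map_mulEquiv e.symm K hK

theorem layer_eq_bot_iff_of_mulEquiv {H H' : Type*} [Group H] [Group H'] (e : H ≃* H') :
    Cfsg.layer H = ⊥ ↔ Cfsg.layer H' = ⊥ :=
  ⟨layer_eq_bot_of_mulEquiv e, layer_eq_bot_of_mulEquiv e.symm⟩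

/-- `X` is `p`-constrained iff `X / O_{p'}(X)` is. -/
theorem isPConstrained_iff_quotient {X : Type*} [Group X] [Finite X] (p : ℕ) [hp : Fact p.Prime] :
    Cfsg.IsPConstrained p X ↔ Cfsg.IsPConstrained p (X ⧸ pPrimeCore p X) := by
  rw [isPConstrained_iff_layer_quotient_eq_bot, isPConstrained_iff_layer_quotient_eq_bot]
  have hbot : pPrimeCore p (X ⧸ pPrimeCore p X) = ⊥ := pPrimeCore_quotient_eq_bot p
  have hbij : Function.Bijective (QuotientGroup.mk' (pPrimeCore p (X ⧸ pPrimeCore p X))) := by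
    refine ⟨?_, QuotientGroup.mk'_surjective _⟩
    rw [← MonoidHom.ker_eq_bot_iff, QuotientGroup.ker_mk', hbot]
  exact layer_eq_bot_iff_of_mulEquiv (MulEquiv.ofBijective _ hbij)

end Cfsg.Agent.Lib.Helper20
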