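import Cfsg.Prelude.Def_Balance
import Cfsg.Agent.Lib.Helper20.PConstrained2

/-!
The extended 2-layer `L*_{2'}(X)` (helper20): index lemmas for Sylow subgroups and (sub)normal
subgroups, conjugation invariance of `p`-components and cores, normality of `L*_{2'}(X)`, and
`2`-components are normal in `L*_{2'}(X)`.
-/

set_option autoImplicit false

namespace Cfsg.Agent.Lib.Helper20

open scoped Pointwise

section Index

variable {G : Type*} [Group G]

theorem card_eq_card_mul_relIndex {H K : Subgroup G} (h : H ≤ K) :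
    Nat.card K = Nat.card H * H.relIndex K := by
  have h1 := Subgroup.card_mul_index (H.subgroupOf K)
  have h2 : Nat.card (H.subgroupOf K) = Nat.card H :=
    Nat.card_congr (Subgroup.subgroupOfEquivOfLe h).toEquiv
  rw [h2] at h1
  exact h1.symm

/-- `|N : N ∩ P| = |NP : P|` divides `|G : P|` for `N` normal. -/
theorem inf_relIndex_dvd_index_of_normal [Finite G] (P N : Subgroup G) [N.Normal] :
    (P ⊓ N).relIndex N ∣ P.index := by
  have e1 : Nat.card (P ⊔ N : Subgroup G) = Nat.card N * N.relIndex P := by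
    rw [card_eq_card_mul_relIndex (le_sup_right : N ≤ P ⊔ N), Subgroup.relIndex_sup_right]
  have e2 : Nat.card P = Nat.card (P ⊓ N : Subgroup G) * N.relIndex P := by
    rw [card_eq_card_mul_relIndex (inf_le_left : P ⊓ N ≤ P), inf_comm, Subgroup.inf_relIndex_right]
  have e3 : Nat.card N = Nat.card (P ⊓ N : Subgroup G) * (P ⊓ N).relIndex N :=
    card_eq_card_mul_relIndex inf_le_right
  have e4 : Nat.card (P ⊔ N : Subgroup G) = Nat.card P * P.relIndex (P ⊔ N) :=
    card_eq_card_mul_relIndex le_sup_left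
  have hpos1 : 0 < Nat.card (P ⊓ N : Subgroup G) := Nat.card_pos
  have hpos2 : 0 < N.relIndex P := by
    rcases Nat.eq_zero_or_pos (N.relIndex P) with h0 | h0
    · rw [h0, mul_zero] at e2
      exact absurd e2 (Nat.card_pos (α := P)).ne'
    · exact h0
  have key : (P ⊓ N).relIndex N = P.relIndex (P ⊔ N) := by
    have : Nat.card (P ⊓ N : Subgroup G) * N.relIndex P * (P ⊓ N).relIndex N =
        Nat.card (P ⊓ N : Subgroup G) * N.relIndex P * P.relIndex (P ⊔ N) := by
      calc Nat.card (P ⊓ N : Subgroup G) * N.relIndex P * (P ⊓ N).relIndex N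
          = (Nat.card (P ⊓ N : Subgroup G) * (P ⊓ N).relIndex N) * N.relIndex P := by ring
        _ = Nat.card N * N.relIndex P := by rw [← e3]
        _ = Nat.card (P ⊔ N : Subgroup G) := e1.symm
        _ = Nat.card P * P.relIndex (P ⊔ N) := e4
        _ = Nat.card (P ⊓ N : Subgroup G) * N.relIndex P * P.relIndex (P ⊔ N) := by rw [← e2]
    exact Nat.eq_of_mul_eq_mul_left (Nat.mul_pos hpos1 hpos2) this
  rw [key]
  exact Subgroup.relIndex_dvd_index_of_le le_sup_left

/-- Ambient version: if `A ⊴ B` then `|A : A ∩ P|` divides `|B : B ∩ P|`. -/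
theorem inf_relIndex_dvd_of_le_normalizer [Finite G] (P A B : Subgroup G) (hAB : A ≤ B)
    (hB : B ≤ Subgroup.normalizer (A : Set G)) :
    (P ⊓ A).relIndex A ∣ (P ⊓ B).relIndex B := by
  haveI : (A.subgroupOf B).Normal := (Subgroup.normal_subgroupOf_iff_le_normalizer hAB).mpr hB
  have h1 := inf_relIndex_dvd_index_of_normal (P.subgroupOf B) (A.subgroupOf B)
  have h2 : P.subgroupOf B ⊓ A.subgroupOf B = (P ⊓ A).subgroupOf B :=
    (Subgroup.comap_inf P A B.subtype).symm
  rw [h2, Subgroup.relIndex_subgroupOf hAB] at h1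
  have h3 : (P.subgroupOf B).index = (P ⊓ B).relIndex B := by
    rw [Subgroup.inf_relIndex_right]; rfl
  rwa [h3] at h1

end Index

section Conj

variable {X : Type*} [Group X]

theorem map_conj_inv_map_conj (H : Subgroup X) (g : X) :
    (H.map (MulAut.conj g).toMonoidHom).map (MulAut.conj g⁻¹).toMonoidHom = H := by
  rw [Subgroup.map_map]
  have : (MulAut.conj g⁻¹).toMonoidHom.comp (MulAut.conj g).toMonoidHom = MonoidHom.id X := by
    ext x; simp [mul_assoc]
  rw [this, Subgroup.map_id]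

theorem map_conj_map_conj_inv (H : Subgroup X) (g : X) :
    (H.map (MulAut.conj g⁻¹).toMonoidHom).map (MulAut.conj g).toMonoidHom = H := by
  have := map_conj_inv_map_conj H g⁻¹
  rwa [inv_inv] at this

/-- Conjugates of `p`-components are `p`-components. -/
theorem isPComponent_conj (p : ℕ) (K : Subgroup X) (hK : Cfsg.IsPComponent p K) (g : X) :
    Cfsg.IsPComponent p (K.map (MulAut.conj g).toMonoidHom) := by
  obtain ⟨hsn, hcomp, hmin⟩ := hK
  refine ⟨hsn.map (MulAut.conj g).surjective, ?_, ?_⟩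
  · rw [map_conj_map_mk']
    exact isComponent_map_mulEquiv (MulAut.conj _) _ hcomp
  · intro H hHsn hHle hHmap
    have h1 := hmin (H.map (MulAut.conj g⁻¹).toMonoidHom)
      (hHsn.map (MulAut.conj g⁻¹).surjective) ?_ ?_
    · rw [← h1, map_conj_map_conj_inv]
    · have := Subgroup.map_mono (f := (MulAut.conj g⁻¹).toMonoidHom) hHle
      rwa [map_conj_inv_map_conj] at this
    · rw [map_conj_map_mk', hHmap, ← map_conj_map_mk', map_conj_inv_map_conj]

theorem pLayer_map_conj (p : ℕ) (g : X) :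
    (Cfsg.pLayer p X).map (MulAut.conj g).toMonoidHom = Cfsg.pLayer p X := by
  have key : ∀ g : X, (Cfsg.pLayer p X).map (MulAut.conj g).toMonoidHom ≤ Cfsg.pLayer p X := by
    intro g
    rw [Subgroup.map_le_iff_le_comap]
    apply sSup_le
    intro K hK
    rw [← Subgroup.map_le_iff_le_comap]
    exact le_sSup (isPComponent_conj p K hK g)
  apply le_antisymm (key g)
  have := Subgroup.map_mono (f := (MulAut.conj g).toMonoidHom) (key g⁻¹)
  rwa [map_conj_map_conj_inv] at this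

instance pLayer_normal (p : ℕ) : (Cfsg.pLayer p X).Normal := by
  constructor
  intro n hn g
  have : g * n * g⁻¹ ∈ (Cfsg.pLayer p X).map (MulAut.conj g).toMonoidHom := ⟨n, hn, rfl⟩
  rwa [pLayer_map_conj] at this

theorem centralizer_map_conj (H : Subgroup X) (g : X) :
    Subgroup.centralizer ((H.map (MulAut.conj g).toMonoidHom : Subgroup X) : Set X) =
      (Subgroup.centralizer (H : Set X)).map (MulAut.conj g).toMonoidHom := by
  ext x
  constructor
  · intro hx
    refine ⟨g⁻¹ * x * g, Subgroup.mem_centralizer_iff.mpr ?_, by simp [mul_assoc]⟩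
    intro h hh
    have h1 : g * h * g⁻¹ ∈ ((H.map (MulAut.conj g).toMonoidHom : Subgroup X) : Set X) :=
      ⟨h, hh, rfl⟩
    have h2 := (Subgroup.mem_centralizer_iff.mp hx) _ h1
    calc h * (g⁻¹ * x * g) = g⁻¹ * ((g * h * g⁻¹) * x) * g := by group
      _ = g⁻¹ * (x * (g * h * g⁻¹)) * g := by rw [h2]
      _ = g⁻¹ * x * g * h := by group
  · rintro ⟨y, hy, rfl⟩
    rw [Subgroup.mem_centralizer_iff]
    rintro _ ⟨h, hh, rfl⟩
    have h2 := (Subgroup.mem_centralizer_iff.mp hy) h hh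
    show g * h * g⁻¹ * (g * y * g⁻¹) = g * y * g⁻¹ * (g * h * g⁻¹)
    calc g * h * g⁻¹ * (g * y * g⁻¹) = g * (h * y) * g⁻¹ := by group
      _ = g * (y * h) * g⁻¹ := by rw [h2]
      _ = g * y * g⁻¹ * (g * h * g⁻¹) := by group

theorem pPrimeCore_map_mulEquiv_le {A B : Type*} [Group A] [Group B] [Finite A] (p : ℕ)
    (e : A ≃* B) : (pPrimeCore p A).map e.toMonoidHom ≤ pPrimeCore p B := by
  have hn : (pPrimeCore p A).Normal := by
    have h1 : (pPrimeCore p A).Characteristic := pPrimeCore_characteristic p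
    infer_instance
  apply le_pPrimeCore' (Subgroup.Normal.map hn _ e.surjective)
  rw [Subgroup.card_map_of_injective (f := e.toMonoidHom) e.injective]
  exact pPrimeCore_coprime' p

theorem pPrimeCore_map_mulEquiv {A B : Type*} [Group A] [Group B] [Finite A] (p : ℕ)
    (e : A ≃* B) : (pPrimeCore p A).map e.toMonoidHom = pPrimeCore p B := by
  haveI : Finite B := Finite.of_equiv A e.toEquiv
  apply le_antisymm (pPrimeCore_map_mulEquiv_le p e)
  have h := Subgroup.map_mono (f := e.toMonoidHom) (pPrimeCore_map_mulEquiv_le p e.symm)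
  rw [Subgroup.map_map] at h
  have : e.toMonoidHom.comp e.symm.toMonoidHom = MonoidHom.id B := by
    ext x; simp
  rwa [this, Subgroup.map_id] at h

/-- `O_{p'}(H)` as a subgroup of the ambient group. -/
def coreOf (p : ℕ) (H : Subgroup X) : Subgroup X := (pPrimeCore p ↥H).map H.subtype

theorem coreOf_le (p : ℕ) (H : Subgroup X) : coreOf p H ≤ H := Subgroup.map_subtype_le _

theorem coreOf_map_conj [Finite X] (p : ℕ) (H : Subgroup X) (g : X) :
    coreOf p (H.map (MulAut.conj g).toMonoidHom) = (coreOf p H).map (MulAut.conj g).toMonoidHom := by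
  unfold coreOf
  let e : ↥H ≃* ↥(H.map (MulAut.conj g).toMonoidHom) := (MulAut.conj g).subgroupMap H
  rw [← pPrimeCore_map_mulEquiv p e, Subgroup.map_map, Subgroup.map_map]
  rfl

theorem coreOf_congr_conj [Finite X] (p : ℕ) (H H' : Subgroup X) (g : X)
    (h : H' = H.map (MulAut.conj g).toMonoidHom) :
    coreOf p H' = (coreOf p H).map (MulAut.conj g).toMonoidHom := by
  subst h; exact coreOf_map_conj p H g

theorem coreOf_coprime [Finite X] (p : ℕ) (H : Subgroup X) : (Nat.card (coreOf p H)).Coprime p := by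
  unfold coreOf
  rw [Subgroup.card_subtype]
  exact pPrimeCore_coprime' p

/-- Conjugating a Sylow subgroup of a normal subgroup by an element of the ambient group. -/
theorem sylow_conjNormal_map_subtype {p : ℕ} (M : Subgroup X) [M.Normal] (T : Sylow p ↥M) (g : X) :
    (((MulAut.conjNormal g : MulAut M) • T : Sylow p ↥M) : Subgroup ↥M).map M.subtype =
      ((T : Subgroup ↥M).map M.subtype).map (MulAut.conj g).toMonoidHom := by
  rw [Sylow.pointwise_smul_def]
  have h1 : ((MulAut.conjNormal g : MulAut M) • (T : Subgroup ↥M)) =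
      (T : Subgroup ↥M).map ((MulAut.conjNormal g : MulAut M) : ↥M ≃* ↥M).toMonoidHom := rfl
  rw [h1, Subgroup.map_map, Subgroup.map_map]
  rfl

end Conj

section ExtLayer

variable {X : Type*} [Group X] [Finite X]

theorem map_conj_le_of_normal {G : Type*} [Group G] (N : Subgroup G) [hN : N.Normal] (g : G) :
    N.map (MulAut.conj g).toMonoidHom ≤ N := by
  rintro _ ⟨n, hn, rfl⟩
  exact hN.conj_mem n hn g

instance pLayer_sup_pPrimePCore_normal :
    (Cfsg.pLayer 2 X ⊔ Cfsg.pPrimePCore 2 X).Normal := by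
  have h1 : (Cfsg.pLayer 2 X).Normal := pLayer_normal 2
  have h2 : (Cfsg.pPrimePCore 2 X).Normal := pPrimePCore_normal 2
  infer_instance

theorem extendedTwoLayer_eq :
    Cfsg.extendedTwoLayer X = Cfsg.pLayer 2 X ⊔ pPrimeCore 2 X ⊔
      ⨆ T : Sylow 2 ↥(Cfsg.pLayer 2 X ⊔ Cfsg.pPrimePCore 2 X),
        coreOf 2 (Subgroup.centralizer
          (((T : Subgroup ↥(Cfsg.pLayer 2 X ⊔ Cfsg.pPrimePCore 2 X)).map
            (Cfsg.pLayer 2 X ⊔ Cfsg.pPrimePCore 2 X).subtype : Subgroup X) : Set X)) := rfl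

theorem extendedTwoLayer_map_conj_le (g : X) :
    (Cfsg.extendedTwoLayer X).map (MulAut.conj g).toMonoidHom ≤ Cfsg.extendedTwoLayer X := by
  rw [extendedTwoLayer_eq, Subgroup.map_sup, Subgroup.map_sup, Subgroup.map_iSup]
  have hO : (pPrimeCore 2 X).Normal := by
    have h1 : (pPrimeCore 2 X).Characteristic := pPrimeCore_characteristic 2
    infer_instance
  refine sup_le (sup_le ?_ ?_) ?_
  · rw [pLayer_map_conj]
    exact le_sup_of_le_left le_sup_left
  · exact le_sup_of_le_left (le_sup_of_le_right (map_conj_le_of_normal _ g))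
  · apply iSup_le
    intro T
    refine le_sup_of_le_right ?_
    have h : Subgroup.centralizer
        (((((MulAut.conjNormal g : MulAut ↥(Cfsg.pLayer 2 X ⊔ Cfsg.pPrimePCore 2 X)) • T :
          Sylow 2 ↥(Cfsg.pLayer 2 X ⊔ Cfsg.pPrimePCore 2 X)) :
            Subgroup ↥(Cfsg.pLayer 2 X ⊔ Cfsg.pPrimePCore 2 X)).map
              (Cfsg.pLayer 2 X ⊔ Cfsg.pPrimePCore 2 X).subtype : Subgroup X) : Set X) =
        (Subgroup.centralizer
          (((T : Subgroup ↥(Cfsg.pLayer 2 X ⊔ Cfsg.pPrimePCore 2 X)).map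
            (Cfsg.pLayer 2 X ⊔ Cfsg.pPrimePCore 2 X).subtype : Subgroup X) : Set X)).map
          (MulAut.conj g).toMonoidHom := by
      rw [sylow_conjNormal_map_subtype, centralizer_map_conj]
    rw [← coreOf_congr_conj 2 _ _ g h]
    exact le_iSup (fun T : Sylow 2 ↥(Cfsg.pLayer 2 X ⊔ Cfsg.pPrimePCore 2 X) =>
      coreOf 2 (Subgroup.centralizer
          (((T : Subgroup ↥(Cfsg.pLayer 2 X ⊔ Cfsg.pPrimePCore 2 X)).map
            (Cfsg.pLayer 2 X ⊔ Cfsg.pPrimePCore 2 X).subtype : Subgroup X) : Set X)))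
      ((MulAut.conjNormal g : MulAut ↥(Cfsg.pLayer 2 X ⊔ Cfsg.pPrimePCore 2 X)) • T)

instance extendedTwoLayer_normal : (Cfsg.extendedTwoLayer X).Normal := by
  constructor
  intro n hn g
  exact extendedTwoLayer_map_conj_le g ⟨n, hn, rfl⟩

/-- A Sylow `p`-subgroup of `M` meets `K` in a subgroup of index prime to `p` if `K ⊴ L ⊴ M`. -/
theorem sylow_inf_relIndex_of_chain {p : ℕ} [Fact p.Prime] (M L K : Subgroup X) (T : Sylow p ↥M)
    (hLM : L ≤ M) (hML : M ≤ Subgroup.normalizer (L : Set X)) (hKL : K ≤ L)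
    (hLK : L ≤ Subgroup.normalizer (K : Set X)) :
    ¬ p ∣ (((T : Subgroup ↥M).map M.subtype) ⊓ K).relIndex K := by
  set Th := (T : Subgroup ↥M).map M.subtype with hTh
  have h0 : (Th ⊓ M).relIndex M = (T : Subgroup ↥M).index := by
    rw [Subgroup.inf_relIndex_right]
    show (Th.subgroupOf M).index = _
    rw [hTh, Subgroup.subgroupOf,
      Subgroup.comap_map_eq_self_of_injective (Subgroup.subtype_injective M)]
  have h1 : (Th ⊓ L).relIndex L ∣ (Th ⊓ M).relIndex M :=
    inf_relIndex_dvd_of_le_normalizer Th L M hLM hML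
  have h2 : (Th ⊓ K).relIndex K ∣ (Th ⊓ L).relIndex L :=
    inf_relIndex_dvd_of_le_normalizer Th K L hKL hLK
  intro hdvd
  have := (hdvd.trans (h2.trans h1))
  rw [h0] at this
  exact T.not_dvd_index this

/-- A Sylow `2`-subgroup of `L_{2'}(X) O_{2',2}(X)` meets each `2`-component `K` in a subgroup of
odd index. -/
theorem sylow_inf_pComponent_relIndex
    (T : Sylow 2 ↥(Cfsg.pLayer 2 X ⊔ Cfsg.pPrimePCore 2 X)) (K : Subgroup X)
    (hK : Cfsg.IsPComponent 2 K) :
    ¬ 2 ∣ (((T : Subgroup ↥(Cfsg.pLayer 2 X ⊔ Cfsg.pPrimePCore 2 X)).map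
      (Cfsg.pLayer 2 X ⊔ Cfsg.pPrimePCore 2 X).subtype) ⊓ K).relIndex K := by
  have hL : (Cfsg.pLayer 2 X).Normal := pLayer_normal 2
  exact sylow_inf_relIndex_of_chain _ (Cfsg.pLayer 2 X) K T le_sup_left
    (by rw [Subgroup.normalizer_eq_top]; exact le_top) (pComponent_le_pLayer 2 K hK)
    (pLayer_le_normalizer_pComponent 2 K hK)

/-- The centralizer of a Sylow `2`-subgroup of `L_{2'}(X) O_{2',2}(X)` normalizes every
`2`-component. -/
theorem centralizer_sylow_le_normalizer_pComponent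
    (T : Sylow 2 ↥(Cfsg.pLayer 2 X ⊔ Cfsg.pPrimePCore 2 X)) (K : Subgroup X)
    (hK : Cfsg.IsPComponent 2 K) :
    Subgroup.centralizer (((T : Subgroup ↥(Cfsg.pLayer 2 X ⊔ Cfsg.pPrimePCore 2 X)).map
      (Cfsg.pLayer 2 X ⊔ Cfsg.pPrimePCore 2 X).subtype : Subgroup X) : Set X) ≤
      Subgroup.normalizer (K : Set X) := by
  set Th := (T : Subgroup ↥(Cfsg.pLayer 2 X ⊔ Cfsg.pPrimePCore 2 X)).map
    (Cfsg.pLayer 2 X ⊔ Cfsg.pPrimePCore 2 X).subtype with hTh
  intro d hd
  apply pComponent_mem_normalizer 2 K hK d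
  set π := QuotientGroup.mk' (pPrimeCore 2 X) with hπ
  set Kb := K.map π with hKb
  have hKbc : Cfsg.IsComponent Kb := hK.2.1
  rw [Subgroup.mem_normalizer_iff_map_conj_eq]
  by_contra hne
  have hKb'c : Cfsg.IsComponent (Kb.map (MulAut.conj (π d)).toMonoidHom) :=
    isComponent_map_mulEquiv (MulAut.conj (π d)) Kb hKbc
  have hcomm : ⁅Kb.map (MulAut.conj (π d)).toMonoidHom, Kb⁆ = ⊥ :=
    components_commute _ _ hKb'c hKbc hne
  -- the Sylow 2-subgroup of K
  have hodd := sylow_inf_pComponent_relIndex T K hK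
  have hTpg : IsPGroup 2 ↥((Th ⊓ K).subgroupOf K) := by
    have h1 : IsPGroup 2 ↥Th := T.isPGroup'.map _
    have h2 : IsPGroup 2 ↥(Th ⊓ K : Subgroup X) := h1.to_le inf_le_left
    exact h2.comap_subtype
  let S : Sylow 2 ↥K := hTpg.toSylow hodd
  have hsurj : Function.Surjective (π.subgroupMap K) := MonoidHom.subgroupMap_surjective π K
  let Sb : Sylow 2 ↥Kb := S.mapSurjective hsurj
  have hSb : (Sb : Subgroup ↥Kb) ≤ Subgroup.center ↥Kb := by
    rintro sb hsb
    rw [Sylow.coe_mapSurjective] at hsb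
    obtain ⟨s, hs, rfl⟩ := Subgroup.mem_map.mp hsb
    have hs' : (s : X) ∈ Th ⊓ K := by
      have : s ∈ (Th ⊓ K).subgroupOf K := hs
      exact Subgroup.mem_subgroupOf.mp this
    rw [Subgroup.mem_center_iff]
    intro kb
    apply Subtype.ext
    show (kb : X ⧸ pPrimeCore 2 X) * π (s : X) = π (s : X) * (kb : X ⧸ pPrimeCore 2 X)
    have hds : d * (s : X) * d⁻¹ = (s : X) := by
      have := (Subgroup.mem_centralizer_iff.mp hd) (s : X) hs'.1
      rw [← this]; group
    have hmem : π (s : X) ∈ Kb.map (MulAut.conj (π d)).toMonoidHom := by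
      refine ⟨π (s : X), Subgroup.mem_map_of_mem _ hs'.2, ?_⟩
      show π d * π (s : X) * (π d)⁻¹ = π (s : X)
      rw [← map_inv, ← map_mul, ← map_mul, hds]
    exact (commutes_of_commutator_eq_bot hcomm hmem kb.2).symm
  have hidx : ¬ 2 ∣ (Subgroup.center ↥Kb).index := fun h =>
    Sb.not_dvd_index (h.trans (Subgroup.index_dvd_of_le hSb))
  have hcop : ((Subgroup.center ↥Kb).index).Coprime 2 := by
    rw [Nat.coprime_comm, Nat.Prime.coprime_iff_not_dvd Nat.prime_two]; exact hidx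
  have hc := perfect_coprime_of_index_center_coprime 2 hKbc.2.1 hcop
  have hle := subnormal_coprime_le_pPrimeCore 2 Kb hKbc.1 hc
  rw [pPrimeCore_quotient_eq_bot, le_bot_iff] at hle
  exact isComponent_ne_bot hKbc hle

/-- `L*_{2'}(X)` normalizes every `2`-component. -/
theorem extendedTwoLayer_le_normalizer_pComponent (K : Subgroup X) (hK : Cfsg.IsPComponent 2 K) :
    Cfsg.extendedTwoLayer X ≤ Subgroup.normalizer (K : Set X) := by
  rw [extendedTwoLayer_eq]
  refine sup_le (sup_le ?_ ?_) ?_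
  · exact pLayer_le_normalizer_pComponent 2 K hK
  · intro g hg
    apply pComponent_mem_normalizer 2 K hK g
    have : QuotientGroup.mk' (pPrimeCore 2 X) g = 1 := by
      rw [← MonoidHom.mem_ker, QuotientGroup.ker_mk']; exact hg
    rw [this]; exact one_mem _
  · apply iSup_le
    intro T
    exact (coreOf_le 2 _).trans (centralizer_sylow_le_normalizer_pComponent T K hK)

theorem pLayer_le_extendedTwoLayer : Cfsg.pLayer 2 X ≤ Cfsg.extendedTwoLayer X := by
  rw [extendedTwoLayer_eq]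
  exact le_sup_of_le_left le_sup_left

theorem pComponent_normal_in_extendedTwoLayer (K : Subgroup X) (hK : Cfsg.IsPComponent 2 K) :
    K ≤ Cfsg.extendedTwoLayer X ∧ (K.subgroupOf (Cfsg.extendedTwoLayer X)).Normal := by
  have hle : K ≤ Cfsg.extendedTwoLayer X :=
    (pComponent_le_pLayer 2 K hK).trans pLayer_le_extendedTwoLayer
  exact ⟨hle, (Subgroup.normal_subgroupOf_iff_le_normalizer hle).mpr
    (extendedTwoLayer_le_normalizer_pComponent K hK)⟩

/-- `O_{2',2}(X) ≤ O(X) T` for a Sylow `2`-subgroup `T` of `L_{2'}(X) O_{2',2}(X)`. -/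
theorem pPrimePCore_le_core_sup_sylow
    (T : Sylow 2 ↥(Cfsg.pLayer 2 X ⊔ Cfsg.pPrimePCore 2 X)) :
    Cfsg.pPrimePCore 2 X ≤ pPrimeCore 2 X ⊔
      (T : Subgroup ↥(Cfsg.pLayer 2 X ⊔ Cfsg.pPrimePCore 2 X)).map
        (Cfsg.pLayer 2 X ⊔ Cfsg.pPrimePCore 2 X).subtype := by
  set Th := (T : Subgroup ↥(Cfsg.pLayer 2 X ⊔ Cfsg.pPrimePCore 2 X)).map
    (Cfsg.pLayer 2 X ⊔ Cfsg.pPrimePCore 2 X).subtype with hTh
  have hR : (Cfsg.pPrimePCore 2 X).Normal := pPrimePCore_normal 2
  have hodd : ¬ 2 ∣ (Th ⊓ Cfsg.pPrimePCore 2 X).relIndex (Cfsg.pPrimePCore 2 X) :=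
    sylow_inf_relIndex_of_chain _ (Cfsg.pPrimePCore 2 X) (Cfsg.pPrimePCore 2 X) T le_sup_right
      (by rw [Subgroup.normalizer_eq_top]; exact le_top) le_rfl
      (by rw [Subgroup.normalizer_eq_top]; exact le_top)
  have hpg : IsPGroup 2 ↥((Th ⊓ Cfsg.pPrimePCore 2 X).subgroupOf (Cfsg.pPrimePCore 2 X)) := by
    have h1 : IsPGroup 2 ↥Th := T.isPGroup'.map _
    have h2 : IsPGroup 2 ↥(Th ⊓ Cfsg.pPrimePCore 2 X : Subgroup X) := h1.to_le inf_le_left
    exact h2.comap_subtype
  let Q : Sylow 2 ↥(Cfsg.pPrimePCore 2 X) := hpg.toSylow hodd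
  have hQ : (Q : Subgroup ↥(Cfsg.pPrimePCore 2 X)).map (Cfsg.pPrimePCore 2 X).subtype =
      Th ⊓ Cfsg.pPrimePCore 2 X := by
    show ((Th ⊓ Cfsg.pPrimePCore 2 X).subgroupOf (Cfsg.pPrimePCore 2 X)).map _ = _
    rw [Subgroup.subgroupOf_map_subtype, inf_assoc, inf_idem]
  have hmap := map_sylow_pPrimePCore 2 Q
  rw [hQ, ← map_pPrimePCore 2] at hmap
  intro r hr
  have h1 : QuotientGroup.mk' (pPrimeCore 2 X) r ∈
      (Th ⊓ Cfsg.pPrimePCore 2 X).map (QuotientGroup.mk' (pPrimeCore 2 X)) := by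
    rw [hmap]; exact Subgroup.mem_map_of_mem _ hr
  obtain ⟨t, ht, htr⟩ := Subgroup.mem_map.mp h1
  have h2 : r * t⁻¹ ∈ pPrimeCore 2 X := by
    rw [← QuotientGroup.ker_mk' (pPrimeCore 2 X), MonoidHom.mem_ker, map_mul, map_inv, htr]
    exact mul_inv_cancel _
  have : r = (r * t⁻¹) * t := by group
  rw [this]
  exact mul_mem (Subgroup.mem_sup_left h2) (Subgroup.mem_sup_right ht.1)

/-- `L*_{2'}(X)` is already generated by `L_{2'}(X)`, `O(X)` and `O(C_X(T))` for one Sylow
`2`-subgroup `T` of `L_{2'}(X) O_{2',2}(X)`. -/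
theorem extendedTwoLayer_eq_of_sylow
    (T : Sylow 2 ↥(Cfsg.pLayer 2 X ⊔ Cfsg.pPrimePCore 2 X)) :
    Cfsg.extendedTwoLayer X = Cfsg.pLayer 2 X ⊔ pPrimeCore 2 X ⊔
      coreOf 2 (Subgroup.centralizer
        (((T : Subgroup ↥(Cfsg.pLayer 2 X ⊔ Cfsg.pPrimePCore 2 X)).map
          (Cfsg.pLayer 2 X ⊔ Cfsg.pPrimePCore 2 X).subtype : Subgroup X) : Set X)) := by
  set Th := (T : Subgroup ↥(Cfsg.pLayer 2 X ⊔ Cfsg.pPrimePCore 2 X)).map
    (Cfsg.pLayer 2 X ⊔ Cfsg.pPrimePCore 2 X).subtype with hTh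
  set D := coreOf 2 (Subgroup.centralizer (Th : Set X)) with hD
  set W := Cfsg.pLayer 2 X ⊔ pPrimeCore 2 X ⊔ D with hW
  have hL : (Cfsg.pLayer 2 X).Normal := pLayer_normal 2
  have hO : (pPrimeCore 2 X).Normal := by
    have h1 : (pPrimeCore 2 X).Characteristic := pPrimeCore_characteristic 2
    infer_instance
  have hA : (Cfsg.pLayer 2 X ⊔ pPrimeCore 2 X).Normal := inferInstance
  rw [extendedTwoLayer_eq]
  apply le_antisymm
  · refine sup_le le_sup_left ?_
    apply iSup_le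
    intro T'
    obtain ⟨m, hm⟩ := MulAction.exists_smul_eq ↥(Cfsg.pLayer 2 X ⊔ Cfsg.pPrimePCore 2 X) T T'
    have hm' : (MulAut.conjNormal (m : X) :
        MulAut ↥(Cfsg.pLayer 2 X ⊔ Cfsg.pPrimePCore 2 X)) • T = T' := by
      rw [MulAut.conjNormal_val]; exact hm
    have h : Subgroup.centralizer
        (((T' : Subgroup ↥(Cfsg.pLayer 2 X ⊔ Cfsg.pPrimePCore 2 X)).map
          (Cfsg.pLayer 2 X ⊔ Cfsg.pPrimePCore 2 X).subtype : Subgroup X) : Set X) =
        (Subgroup.centralizer (Th : Set X)).map (MulAut.conj (m : X)).toMonoidHom := by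
      rw [← hm', sylow_conjNormal_map_subtype, centralizer_map_conj]
    rw [coreOf_congr_conj 2 _ _ (m : X) h]
    -- decompose m = a * t
    have hmM : (m : X) ∈ (Cfsg.pLayer 2 X ⊔ pPrimeCore 2 X) ⊔ Th := by
      have : Cfsg.pLayer 2 X ⊔ Cfsg.pPrimePCore 2 X ≤ (Cfsg.pLayer 2 X ⊔ pPrimeCore 2 X) ⊔ Th := by
        refine sup_le (le_sup_of_le_left le_sup_left) ?_
        refine (pPrimePCore_le_core_sup_sylow T).trans ?_
        exact sup_le (le_sup_of_le_left le_sup_right) le_sup_right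
      exact this m.2
    have hmM' : (m : X) ∈ (((Cfsg.pLayer 2 X ⊔ pPrimeCore 2 X) ⊔ Th : Subgroup X) : Set X) := hmM
    rw [Subgroup.normal_mul] at hmM'
    obtain ⟨a, ha, t, ht, hat⟩ := Set.mem_mul.mp hmM'
    rintro _ ⟨x, hx, rfl⟩
    have hxC : x ∈ Subgroup.centralizer (Th : Set X) := coreOf_le 2 _ hx
    have htx : t * x = x * t := (Subgroup.mem_centralizer_iff.mp hxC) t ht
    show (m : X) * x * (m : X)⁻¹ ∈ W
    have : (m : X) * x * (m : X)⁻¹ = a * x * a⁻¹ := by
      rw [← hat]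
      calc a * t * x * (a * t)⁻¹ = a * (t * x) * t⁻¹ * a⁻¹ := by group
        _ = a * (x * t) * t⁻¹ * a⁻¹ := by rw [htx]
        _ = a * x * a⁻¹ := by group
    rw [this]
    have haW : a ∈ W := Subgroup.mem_sup_left ha
    have hxW : x ∈ W := Subgroup.mem_sup_right hx
    exact mul_mem (mul_mem haW hxW) (inv_mem haW)
  · refine sup_le le_sup_left ?_
    refine le_sup_of_le_right ?_
    exact le_iSup (fun T : Sylow 2 ↥(Cfsg.pLayer 2 X ⊔ Cfsg.pPrimePCore 2 X) =>
      coreOf 2 (Subgroup.centralizer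
          (((T : Subgroup ↥(Cfsg.pLayer 2 X ⊔ Cfsg.pPrimePCore 2 X)).map
            (Cfsg.pLayer 2 X ⊔ Cfsg.pPrimePCore 2 X).subtype : Subgroup X) : Set X))) T

/-- The normalizer of `H` normalizes `O_{p'}(C_X(H))`. -/
theorem normalizer_le_normalizer_coreOf_centralizer (p : ℕ) (H : Subgroup X) :
    Subgroup.normalizer (H : Set X) ≤
      Subgroup.normalizer ((coreOf p (Subgroup.centralizer (H : Set X)) : Subgroup X) : Set X) := by
  intro s hs
  rw [Subgroup.mem_normalizer_iff_map_conj_eq] at hs ⊢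
  have h : Subgroup.centralizer (H : Set X) =
      (Subgroup.centralizer (H : Set X)).map (MulAut.conj s).toMonoidHom := by
    rw [← centralizer_map_conj]
    exact congrArg (fun K : Subgroup X => Subgroup.centralizer (K : Set X)) hs.symm
  exact (coreOf_congr_conj p _ _ s h).symm

/-- `L*_{2'}(X) = L_{2'}(X) F` with `F` of odd order normalized by a Sylow `2`-subgroup of `X`. -/
theorem extendedTwoLayer_eq_pLayer_sup_odd :
    ∃ F : Subgroup X, Odd (Nat.card ↥F) ∧
      (∃ S : Sylow 2 X, (S : Subgroup X) ≤ Subgroup.normalizer (F : Set X)) ∧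
      Cfsg.extendedTwoLayer X = Cfsg.pLayer 2 X ⊔ F := by
  obtain ⟨T⟩ : Nonempty (Sylow 2 ↥(Cfsg.pLayer 2 X ⊔ Cfsg.pPrimePCore 2 X)) := Sylow.nonempty
  set Th := (T : Subgroup ↥(Cfsg.pLayer 2 X ⊔ Cfsg.pPrimePCore 2 X)).map
    (Cfsg.pLayer 2 X ⊔ Cfsg.pPrimePCore 2 X).subtype with hTh
  set D := coreOf 2 (Subgroup.centralizer (Th : Set X)) with hD
  have hO : (pPrimeCore 2 X).Normal := by
    have h1 : (pPrimeCore 2 X).Characteristic := pPrimeCore_characteristic 2
    infer_instance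
  refine ⟨D ⊔ pPrimeCore 2 X, ?_, ?_, ?_⟩
  · rw [← Nat.coprime_two_right]
    have h1 := card_sup_dvd_mul D (pPrimeCore 2 X)
    have h2 : (Nat.card D * Nat.card (pPrimeCore 2 X)).Coprime 2 :=
      Nat.Coprime.mul_left (coreOf_coprime 2 _) (pPrimeCore_coprime' 2)
    exact Nat.Coprime.coprime_dvd_left h1 h2
  · have hThpg : IsPGroup 2 ↥Th := T.isPGroup'.map _
    obtain ⟨S, hS⟩ := hThpg.exists_le_sylow
    refine ⟨S, ?_⟩
    -- S ∩ M = Th
    have hThM : Th ≤ Cfsg.pLayer 2 X ⊔ Cfsg.pPrimePCore 2 X := Subgroup.map_subtype_le _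
    have hSM : (S : Subgroup X) ⊓ (Cfsg.pLayer 2 X ⊔ Cfsg.pPrimePCore 2 X) = Th := by
      have hpg : IsPGroup 2 ↥(((S : Subgroup X) ⊓ (Cfsg.pLayer 2 X ⊔ Cfsg.pPrimePCore 2 X)).subgroupOf
          (Cfsg.pLayer 2 X ⊔ Cfsg.pPrimePCore 2 X)) := by
        have h2 : IsPGroup 2 ↥((S : Subgroup X) ⊓ (Cfsg.pLayer 2 X ⊔ Cfsg.pPrimePCore 2 X) :
            Subgroup X) := S.isPGroup'.to_le inf_le_left
        exact h2.comap_subtype
      have hle : (T : Subgroup ↥(Cfsg.pLayer 2 X ⊔ Cfsg.pPrimePCore 2 X)) ≤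
          ((S : Subgroup X) ⊓ (Cfsg.pLayer 2 X ⊔ Cfsg.pPrimePCore 2 X)).subgroupOf
            (Cfsg.pLayer 2 X ⊔ Cfsg.pPrimePCore 2 X) := by
        intro x hx
        rw [Subgroup.mem_subgroupOf]
        have hxTh : (x : X) ∈ Th := ⟨x, hx, rfl⟩
        exact ⟨hS hxTh, x.2⟩
      have heq := T.is_maximal' hpg hle
      rw [hTh, ← heq, Subgroup.subgroupOf_map_subtype, inf_assoc, inf_idem]
    have hSN : (S : Subgroup X) ≤ Subgroup.normalizer (Th : Set X) := by
      intro s hs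
      rw [← hSM]
      have h1 : s ∈ Subgroup.normalizer (((S : Subgroup X)) : Set X) := Subgroup.le_normalizer hs
      have h2 : s ∈ Subgroup.normalizer
          ((Cfsg.pLayer 2 X ⊔ Cfsg.pPrimePCore 2 X : Subgroup X) : Set X) := by
        rw [Subgroup.normalizer_eq_top]; trivial
      rw [Subgroup.mem_normalizer_iff] at h1 h2 ⊢
      intro h
      rw [Subgroup.mem_inf, Subgroup.mem_inf, h1 h, h2 h]
    have hSD : (S : Subgroup X) ≤ Subgroup.normalizer (D : Set X) :=
      hSN.trans (normalizer_le_normalizer_coreOf_centralizer 2 Th)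
    have hSO : (S : Subgroup X) ≤ Subgroup.normalizer ((pPrimeCore 2 X : Subgroup X) : Set X) := by
      rw [Subgroup.normalizer_eq_top]; exact le_top
    exact (le_inf hSD hSO).trans (Subgroup.normalizer_inf_normalizer_le_normalizer_sup _ _)
  · rw [extendedTwoLayer_eq_of_sylow T, sup_assoc, sup_comm (pPrimeCore 2 X)]

end ExtLayer

end Cfsg.Agent.Lib.Helper20
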