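import Cfsg.Agent.Lib.Helper20.AxB
import Cfsg.Agent.Lib.Helper20.ExtLayer

/-!
`p`-local subgroups of groups with `F*(G) = O_p(G)` (helper20): `F*(N_G(P)) = O_p(N_G(P))`.
-/

set_option autoImplicit false

namespace Cfsg.Agent.Lib.Helper20

variable {G : Type*} [Group G] [Finite G] (p : ℕ) [hp : Fact p.Prime]

theorem pCore_normal' {K : Type*} [Group K] (p : ℕ) : (pCore p K).Normal := by
  have h1 : (pCore p K).Characteristic := pCore_characteristic p
  infer_instance

theorem pPrimeCore_normal' {K : Type*} [Group K] [Finite K] (p : ℕ) : (pPrimeCore p K).Normal := by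
  have h1 : (pPrimeCore p K).Characteristic := pPrimeCore_characteristic p
  infer_instance

theorem pCore_le_fitting' {K : Type*} [Group K] [Finite K] (p : ℕ) [Fact p.Prime] :
    pCore p K ≤ fittingSubgroup K :=
  le_fittingSubgroup' (pCore_normal' p) (pCore_isPGroup' p).isNilpotent

theorem eq_bot_of_isPGroup_of_coprime {K : Type*} [Group K] [Finite K] (p : ℕ) [Fact p.Prime]
    (A : Subgroup K) (h1 : IsPGroup p A) (h2 : (Nat.card A).Coprime p) : A = ⊥ := by
  obtain ⟨k, hk⟩ := IsPGroup.iff_card.mp h1
  rw [← Subgroup.card_eq_one]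
  rcases Nat.eq_zero_or_pos k with rfl | hk0
  · simpa using hk
  · exfalso
    rw [hk] at h2
    have : p ∣ Nat.gcd (p ^ k) p := Nat.dvd_gcd (dvd_pow_self p hk0.ne') dvd_rfl
    rw [Nat.Coprime] at h2
    rw [h2] at this
    exact (Fact.out : p.Prime).one_lt.ne' (Nat.dvd_one.mp this)

/-- Key consequence of Thompson's `A × B` lemma. -/
theorem eq_bot_of_centralizes_local (h : Cfsg.generalizedFittingSubgroup G = pCore p G)
    (P : Subgroup G) (hP : IsPGroup p P) (A : Subgroup G) (hA : (Nat.card A).Coprime p)
    (hAP : A ≤ Subgroup.centralizer (P : Set G))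
    (hAQ : pCore p G ⊓ Subgroup.centralizer (P : Set G) ≤ Subgroup.centralizer (A : Set G)) :
    A = ⊥ := by
  have hQn : (pCore p G).Normal := pCore_normal' p
  have hnorm : Subgroup.normalizer ((pCore p G : Subgroup G) : Set G) = ⊤ :=
    Subgroup.normalizer_eq_top _
  have hAB : ⁅A, P⁆ = ⊥ := Subgroup.commutator_eq_bot_iff_le_centralizer.mpr hAP
  have h1 : ⁅pCore p G, A⁆ = ⊥ :=
    thompson_AxB p (pCore p G) A P (pCore_isPGroup' p) hP hA hAB (hnorm ▸ le_top) (hnorm ▸ le_top)
      hAQ
  have h2 : A ≤ Subgroup.centralizer ((pCore p G : Subgroup G) : Set G) := by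
    rw [Subgroup.commutator_comm] at h1
    exact Subgroup.commutator_eq_bot_iff_le_centralizer.mp h1
  have h3 : A ≤ pCore p G := by
    have := centralizer_genFitting_le (G := G)
    rw [h] at this
    exact h2.trans this
  exact eq_bot_of_isPGroup_of_coprime p A ((pCore_isPGroup' p).to_le h3) hA

/-- In `N = N_G(P)`, a `p'`-element centralizing `O_p(N)` is trivial. -/
theorem eq_one_of_centralizes_pCore_normalizer
    (h : Cfsg.generalizedFittingSubgroup G = pCore p G) (P : Subgroup G) (hP : IsPGroup p P)
    (a : ↥(Subgroup.normalizer (P : Set G))) (ha : (orderOf a).Coprime p)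
    (hcen : a ∈ Subgroup.centralizer
      ((pCore p ↥(Subgroup.normalizer (P : Set G)) : Subgroup _) : Set _)) : a = 1 := by
  have hPn : (P.subgroupOf (Subgroup.normalizer (P : Set G))).Normal :=
    Subgroup.normal_in_normalizer
  have hP' : P.subgroupOf (Subgroup.normalizer (P : Set G)) ≤
      pCore p ↥(Subgroup.normalizer (P : Set G)) :=
    le_pCore' hPn (hP.comap_subtype)
  have hQn : (pCore p G).Normal := pCore_normal' p
  have hRn : ((pCore p G).subgroupOf (Subgroup.normalizer (P : Set G))).Normal := inferInstance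
  have hR' : (pCore p G).subgroupOf (Subgroup.normalizer (P : Set G)) ≤
      pCore p ↥(Subgroup.normalizer (P : Set G)) :=
    le_pCore' hRn ((pCore_isPGroup' p).comap_subtype)
  have hA : Subgroup.zpowers (a : G) = ⊥ := by
    apply eq_bot_of_centralizes_local p h P hP
    · rw [Nat.card_zpowers, Subgroup.orderOf_coe]; exact ha
    · rw [Subgroup.zpowers_le]
      rw [Subgroup.mem_centralizer_iff]
      intro x hx
      have hxN : x ∈ Subgroup.normalizer (P : Set G) := Subgroup.le_normalizer hx
      have := (Subgroup.mem_centralizer_iff.mp hcen) ⟨x, hxN⟩ (hP' hx)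
      exact congrArg Subtype.val this
    · intro x hx
      rw [Subgroup.zpowers_eq_closure, Subgroup.centralizer_closure, Subgroup.mem_centralizer_iff]
      intro y hy
      rw [Set.mem_singleton_iff] at hy
      subst hy
      have hxN : x ∈ Subgroup.normalizer (P : Set G) :=
        Subgroup.centralizer_le_normalizer _ hx.2
      have hxR : (⟨x, hxN⟩ : ↥(Subgroup.normalizer (P : Set G))) ∈
          (pCore p G).subgroupOf (Subgroup.normalizer (P : Set G)) := hx.1
      have := (Subgroup.mem_centralizer_iff.mp hcen) ⟨x, hxN⟩ (hR' hxR)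
      exact (congrArg Subtype.val this).symm
  have : (a : G) = 1 := by
    have hmem : (a : G) ∈ Subgroup.zpowers (a : G) := Subgroup.mem_zpowers _
    rwa [hA, Subgroup.mem_bot] at hmem
  exact Subtype.ext this

/-- If `F*(G) = O_p(G)` then `F*(N_G(P)) = O_p(N_G(P))` for every `p`-subgroup `P`. -/
theorem genFitting_normalizer_eq_pCore (h : Cfsg.generalizedFittingSubgroup G = pCore p G)
    (P : Subgroup G) (hP : IsPGroup p P) :
    Cfsg.generalizedFittingSubgroup ↥(Subgroup.normalizer (P : Set G)) =
      pCore p ↥(Subgroup.normalizer (P : Set G)) := by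
  -- O_{p'}(N) = 1
  have hO : pPrimeCore p ↥(Subgroup.normalizer (P : Set G)) = ⊥ := by
    rw [eq_bot_iff]
    intro a ha
    rw [Subgroup.mem_bot]
    apply eq_one_of_centralizes_pCore_normalizer p h P hP a
    · have h1 : orderOf a ∣ Nat.card (pPrimeCore p ↥(Subgroup.normalizer (P : Set G))) := by
        have := orderOf_dvd_natCard (⟨a, ha⟩ : pPrimeCore p ↥(Subgroup.normalizer (P : Set G)))
        rwa [Subgroup.orderOf_mk] at this
      exact Nat.Coprime.coprime_dvd_left h1 (pPrimeCore_coprime' p)
    · have hn1 : (pPrimeCore p ↥(Subgroup.normalizer (P : Set G))).Normal := pPrimeCore_normal' p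
      have hn2 : (pCore p ↥(Subgroup.normalizer (P : Set G))).Normal := pCore_normal' p
      have hdisj : pPrimeCore p ↥(Subgroup.normalizer (P : Set G)) ⊓
          pCore p ↥(Subgroup.normalizer (P : Set G)) = ⊥ := by
        apply disjoint_iff.mp
        apply Subgroup.disjoint_of_coprime_natCard
        obtain ⟨k, hk⟩ := IsPGroup.iff_card.mp
          (pCore_isPGroup' (G := ↥(Subgroup.normalizer (P : Set G))) p)
        rw [hk]
        exact Nat.Coprime.pow_right k (pPrimeCore_coprime' p)
      have hcomm : ⁅pPrimeCore p ↥(Subgroup.normalizer (P : Set G)),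
          pCore p ↥(Subgroup.normalizer (P : Set G))⁆ = ⊥ := by
        rw [eq_bot_iff, ← hdisj]
        exact Subgroup.commutator_le_inf _ _
      exact (Subgroup.commutator_eq_bot_iff_le_centralizer.mp hcomm) ha
  -- E(N) = 1
  have hE : Cfsg.layer ↥(Subgroup.normalizer (P : Set G)) = ⊥ := by
    rw [layer_eq_bot_iff']
    intro L hL
    have hns : ¬ Group.IsSolvable ↥L := isQuasisimple_not_isSolvable hL.2
    -- some prime q ≠ p divides |L|
    have hex : ∃ q : ℕ, q.Prime ∧ q ∣ Nat.card ↥L ∧ q ≠ p := by
      by_contra hno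
      push_neg at hno
      apply hns
      have hcard : Nat.card ↥L = p ^ (Nat.card ↥L).primeFactorsList.length :=
        Nat.eq_prime_pow_of_unique_prime_dvd Nat.card_pos.ne' (fun {d} hd hdvd => hno d hd hdvd)
      have hpg : IsPGroup p ↥L := IsPGroup.of_card hcard
      have : Group.IsNilpotent ↥L := hpg.isNilpotent
      infer_instance
    obtain ⟨q, hq, hqdvd, hqp⟩ := hex
    haveI : Fact q.Prime := ⟨hq⟩
    obtain ⟨⟨a, haL⟩, hord⟩ := exists_prime_orderOf_dvd_card' q hqdvd
    rw [Subgroup.orderOf_mk] at hord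
    have ha1 : a = 1 := by
      apply eq_one_of_centralizes_pCore_normalizer p h P hP a
      · rw [hord]
        exact (Nat.coprime_primes hq hp.out).mpr hqp
      · have h1 : a ∈ Cfsg.layer ↥(Subgroup.normalizer (P : Set G)) := component_le_layer L hL haL
        have h2 := layer_le_centralizer_fitting h1
        exact Subgroup.centralizer_le (by exact_mod_cast pCore_le_fitting' p) h2
    rw [ha1, orderOf_one] at hord
    exact hq.one_lt.ne' hord.symm
  unfold Cfsg.generalizedFittingSubgroup
  rw [hE, bot_sup_eq]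
  exact fitting_eq_pCore_of_pPrimeCore_eq_bot p hO

end Cfsg.Agent.Lib.Helper20
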