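import Cfsg.Agent.Lib.Helper20.Fitting
import Cfsg.Agent.Lib.Helper20.PLocal

set_option autoImplicit false

namespace Cfsg.Agent.Lib.Helper20

open Cfsg

section Transport

variable {A B : Type*} [Group A] [Group B]

theorem map_sSup_mulEquiv (e : A ≃* B) (SA : Set (Subgroup A)) (SB : Set (Subgroup B))
    (h1 : ∀ N ∈ SA, N.map e.toMonoidHom ∈ SB) (h2 : ∀ N ∈ SB, N.map e.symm.toMonoidHom ∈ SA) :
    (sSup SA).map e.toMonoidHom = sSup SB := by
  apply le_antisymm
  · rw [Subgroup.map_le_iff_le_comap]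
    apply sSup_le
    intro N hN
    rw [← Subgroup.map_le_iff_le_comap]
    exact le_sSup (h1 N hN)
  · apply sSup_le
    intro N hN
    have h3 : (N.map e.symm.toMonoidHom).map e.toMonoidHom = N := by
      rw [Subgroup.map_map]
      have : e.toMonoidHom.comp e.symm.toMonoidHom = MonoidHom.id B := by
        ext x; simp
      rw [this, Subgroup.map_id]
    rw [← h3]
    exact Subgroup.map_mono (le_sSup (h2 N hN))

theorem pCore_map_mulEquiv (p : ℕ) (e : A ≃* B) : (pCore p A).map e.toMonoidHom = pCore p B := by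
  unfold pCore
  apply map_sSup_mulEquiv
  · rintro N ⟨hNn, hNp⟩
    exact ⟨hNn.map _ e.surjective, hNp.map _⟩
  · rintro N ⟨hNn, hNp⟩
    exact ⟨hNn.map _ e.symm.surjective, hNp.map _⟩

theorem fittingSubgroup_map_mulEquiv (e : A ≃* B) :
    (fittingSubgroup A).map e.toMonoidHom = fittingSubgroup B := by
  unfold fittingSubgroup
  apply map_sSup_mulEquiv
  · rintro N ⟨hNn, hNc⟩
    refine ⟨hNn.map _ e.surjective, ?_⟩
    exact Group.nilpotent_of_surjective ((e.toMonoidHom).subgroupMap N)
      (MonoidHom.subgroupMap_surjective _ N)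
  · rintro N ⟨hNn, hNc⟩
    refine ⟨hNn.map _ e.symm.surjective, ?_⟩
    exact Group.nilpotent_of_surjective ((e.symm.toMonoidHom).subgroupMap N)
      (MonoidHom.subgroupMap_surjective _ N)

theorem layer_map_mulEquiv (e : A ≃* B) : (layer A).map e.toMonoidHom = layer B := by
  unfold layer
  apply map_sSup_mulEquiv
  · intro N hN
    exact isComponent_map_mulEquiv e N hN
  · intro N hN
    exact isComponent_map_mulEquiv e.symm N hN

theorem genFitting_map_mulEquiv (e : A ≃* B) :
    (generalizedFittingSubgroup A).map e.toMonoidHom = generalizedFittingSubgroup B := by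
  unfold generalizedFittingSubgroup
  rw [Subgroup.map_sup, layer_map_mulEquiv, fittingSubgroup_map_mulEquiv]

theorem genFitting_eq_pCore_of_mulEquiv (p : ℕ) (e : A ≃* B)
    (h : generalizedFittingSubgroup A = pCore p A) :
    generalizedFittingSubgroup B = pCore p B := by
  rw [← genFitting_map_mulEquiv e, ← pCore_map_mulEquiv p e, h]

/-- `X.subgroupOf Y ≃* Y.subgroupOf X`. -/
noncomputable def subgroupOfSwapEquiv {G : Type*} [Group G] (X Y : Subgroup G) :
    ↥(X.subgroupOf Y) ≃* ↥(Y.subgroupOf X) :=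
  ((MulEquiv.subgroupCongr (Subgroup.inf_subgroupOf_right X Y).symm).trans
    (Subgroup.subgroupOfEquivOfLe (inf_le_right : X ⊓ Y ≤ Y))).trans
    (((MulEquiv.subgroupCongr (Subgroup.inf_subgroupOf_left Y X).symm).trans
    (Subgroup.subgroupOfEquivOfLe (inf_le_left : X ⊓ Y ≤ X))).symm)

end Transport

end Cfsg.Agent.Lib.Helper20
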