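import Cfsg.Agent.Lib.Helper20.PConstrained2
import Cfsg.Agent.Lib.Helper17.SylowConj
import Mathlib.Tactic.Group

/-!
`G = N_G(S) O_{p'}(G)` iff `G` is `p`-constrained and `N_G(S)` controls fusion in `S` (helper20).
-/

set_option autoImplicit false

namespace Cfsg.Agent.Lib.Helper20

open scoped commutatorElement
open Cfsg

/-- A finite group with a normal Sylow `p`-subgroup is `p`-solvable. -/
theorem isPSolvable_of_normal_sylow {Y : Type*} [Group Y] [Finite Y] (p : ℕ) [hp : Fact p.Prime]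
    (T : Sylow p Y) (hT : (T : Subgroup Y).Normal) : IsPSolvable p Y := by
  refine ⟨2, ![⊥, (T : Subgroup Y), ⊤], rfl, rfl, ?_, ?_, ?_⟩
  · rw [Fin.monotone_iff_le_succ]
    intro i
    fin_cases i
    · exact bot_le
    · exact le_top
  · intro i
    fin_cases i
    · exact Subgroup.normal_bot
    · exact hT
    · exact Subgroup.normal_top
  · intro i
    fin_cases i
    · left
      obtain ⟨k, hk⟩ := IsPGroup.iff_card.mp T.isPGroup'
      refine ⟨k, ?_⟩
      show (⊥ : Subgroup Y).relIndex (T : Subgroup Y) = p ^ k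
      rw [Subgroup.relIndex_bot_left, hk]
    · right
      show ((T : Subgroup Y).relIndex ⊤).Coprime p
      rw [Subgroup.relIndex_top_right]
      exact Nat.Coprime.symm ((Nat.Prime.coprime_iff_not_dvd hp.out).mpr T.not_dvd_index)

section
variable {G : Type*} [Group G] [Finite G] {p : ℕ} [hp : Fact p.Prime]

theorem sylow_inf_pPrimeCore_eq_bot (S : Sylow p G) : (S : Subgroup G) ⊓ pPrimeCore p G = ⊥ := by
  apply disjoint_iff.mp
  apply Subgroup.disjoint_of_coprime_natCard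
  obtain ⟨k, hk⟩ := IsPGroup.iff_card.mp S.isPGroup'
  rw [hk]
  exact Nat.Coprime.pow_left k (pPrimeCore_coprime' p).symm

/-- `G = N_G(S) O_{p'}(G)` implies `p`-constraint. -/
theorem isPConstrained_of_normalizer_sup_pPrimeCore (S : Sylow p G)
    (h : Subgroup.normalizer ((S : Subgroup G) : Set G) ⊔ pPrimeCore p G = ⊤) :
    IsPConstrained p G := by
  rw [isPConstrained_iff_centralizer_pCore_le]
  apply centralizer_pCore_le_of_isPSolvable _ (pPrimeCore_quotient_eq_bot p)
  have hsurj : Function.Surjective (QuotientGroup.mk' (pPrimeCore p G)) :=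
    QuotientGroup.mk'_surjective _
  apply isPSolvable_of_normal_sylow p (S.mapSurjective hsurj)
  rw [Sylow.coe_mapSurjective]
  have h1 : (Subgroup.normalizer ((S : Subgroup G) : Set G)).map
      (QuotientGroup.mk' (pPrimeCore p G)) = ⊤ := by
    have h2 : (⊤ : Subgroup G).map (QuotientGroup.mk' (pPrimeCore p G)) = ⊤ := by
      rw [← MonoidHom.range_eq_map, MonoidHom.range_eq_top]; exact hsurj
    rw [← h, Subgroup.map_sup] at h2
    have h3 : (pPrimeCore p G).map (QuotientGroup.mk' (pPrimeCore p G)) = ⊥ := by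
      rw [Subgroup.map_eq_bot_iff, QuotientGroup.ker_mk']
    rwa [h3, sup_bot_eq] at h2
  have h4 := Subgroup.le_normalizer_map (QuotientGroup.mk' (pPrimeCore p G)) (H := (S : Subgroup G))
  rw [h1] at h4
  exact Subgroup.normalizer_eq_top_iff.mp (top_le_iff.mp h4)

/-- `G = N_G(S) O_{p'}(G)` implies that `N_G(S)` controls fusion in `S`. -/
theorem fusion_of_normalizer_sup_pPrimeCore (S : Sylow p G)
    (h : Subgroup.normalizer ((S : Subgroup G) : Set G) ⊔ pPrimeCore p G = ⊤)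
    (Q : Subgroup G) (hQ : Q ≤ (S : Subgroup G)) (g : G)
    (hg : Q.map (MulAut.conj g).toMonoidHom ≤ (S : Subgroup G)) :
    ∃ n ∈ Subgroup.normalizer ((S : Subgroup G) : Set G),
      ∃ c ∈ Subgroup.centralizer (Q : Set G), g = n * c := by
  have hg' : g ∈ Subgroup.normalizer ((S : Subgroup G) : Set G) ⊔ pPrimeCore p G := by
    rw [h]; trivial
  obtain ⟨n, hn, o, ho, rfl⟩ := Subgroup.mem_sup_of_normal_right.mp hg'
  refine ⟨n, hn, o, ?_, rfl⟩
  rw [Subgroup.mem_centralizer_iff]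
  intro x hx
  have h1 : (n * o) * x * (n * o)⁻¹ ∈ (S : Subgroup G) := hg ⟨x, hx, rfl⟩
  have h2 : o * x * o⁻¹ ∈ (S : Subgroup G) := by
    have hn' := Subgroup.inv_mem _ hn
    have := (Subgroup.mem_normalizer_iff.mp hn' _).mp h1
    have h3 : n⁻¹ * (n * o * x * (n * o)⁻¹) * n⁻¹⁻¹ = o * x * o⁻¹ := by group
    rwa [h3] at this
  have h3 : o * x * o⁻¹ * x⁻¹ ∈ (S : Subgroup G) :=
    Subgroup.mul_mem _ h2 (Subgroup.inv_mem _ (hQ hx))
  have h4 : o * x * o⁻¹ * x⁻¹ ∈ pPrimeCore p G := by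
    have h5 : x * o⁻¹ * x⁻¹ ∈ pPrimeCore p G :=
      (pPrimeCore_normal p G).conj_mem _ (Subgroup.inv_mem _ ho) x
    have h6 : o * x * o⁻¹ * x⁻¹ = o * (x * o⁻¹ * x⁻¹) := by group
    rw [h6]; exact Subgroup.mul_mem _ ho h5
  have h5 : o * x * o⁻¹ * x⁻¹ ∈ (S : Subgroup G) ⊓ pPrimeCore p G := ⟨h3, h4⟩
  rw [sylow_inf_pPrimeCore_eq_bot S, Subgroup.mem_bot] at h5
  calc x * o = (o * x * o⁻¹ * x⁻¹)⁻¹ * (o * x) := by group
    _ = o * x := by rw [h5]; group

/-- Converse: `p`-constraint and control of fusion by `N_G(S)` imply `G = N_G(S) O_{p'}(G)`. -/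
theorem normalizer_sup_pPrimeCore_of_fusion (S : Sylow p G) (hcon : IsPConstrained p G)
    (hfus : ∀ Q : Subgroup G, Q ≤ (S : Subgroup G) → ∀ g : G,
      Q.map (MulAut.conj g).toMonoidHom ≤ (S : Subgroup G) →
      ∃ n ∈ Subgroup.normalizer ((S : Subgroup G) : Set G),
        ∃ c ∈ Subgroup.centralizer (Q : Set G), g = n * c) :
    Subgroup.normalizer ((S : Subgroup G) : Set G) ⊔ pPrimeCore p G = ⊤ := by
  rw [eq_top_iff]
  intro x _
  -- the Sylow subgroup `S ∩ R` of `R = O_{p',p}(G)`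
  have hidx : ¬ p ∣ ((S : Subgroup G).subgroupOf (pPrimePCore p G)).index :=
    Cfsg.Agent.Lib.Helper17.not_dvd_relIndex_of_sylow_of_normal S (pPrimePCore p G)
  have hPp : IsPGroup p ↥((S : Subgroup G).subgroupOf (pPrimePCore p G)) :=
    S.isPGroup'.comap_subtype
  let P : Sylow p ↥(pPrimePCore p G) := hPp.toSylow hidx
  have hPmap : (P : Subgroup ↥(pPrimePCore p G)).map (pPrimePCore p G).subtype =
      (S : Subgroup G) ⊓ pPrimePCore p G := by
    show ((S : Subgroup G).subgroupOf (pPrimePCore p G)).map (pPrimePCore p G).subtype = _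
    rw [Subgroup.subgroupOf_map_subtype]
  obtain ⟨w, hw, o, ho, rfl⟩ := exists_normalizer_mul_pPrimeCore p P x
  rw [hPmap] at hw
  have hQS : (S : Subgroup G) ⊓ pPrimePCore p G ≤ (S : Subgroup G) := inf_le_left
  have hconj : ((S : Subgroup G) ⊓ pPrimePCore p G).map (MulAut.conj w).toMonoidHom ≤
      (S : Subgroup G) := by
    rintro _ ⟨y, hy, rfl⟩
    exact hQS ((Subgroup.mem_normalizer_iff.mp hw y).mp hy)
  obtain ⟨n, hn, c, hc, rfl⟩ := hfus _ hQS w hconj
  -- c ∈ C_G(S ∩ R) ≤ R = (S ∩ R) O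
  have hcR : c ∈ pPrimePCore p G := by
    apply hcon P
    rw [hPmap]; exact hc
  have hπc : QuotientGroup.mk' (pPrimeCore p G) c ∈
      ((P : Subgroup ↥(pPrimePCore p G)).map (pPrimePCore p G).subtype).map
        (QuotientGroup.mk' (pPrimeCore p G)) := by
    rw [map_sylow_pPrimePCore p P, ← map_pPrimePCore p]
    exact Subgroup.mem_map_of_mem _ hcR
  obtain ⟨u, hu, huc⟩ := Subgroup.mem_map.mp hπc
  rw [hPmap] at hu
  have ho' : u⁻¹ * c ∈ pPrimeCore p G := by
    rw [← QuotientGroup.ker_mk' (pPrimeCore p G), MonoidHom.mem_ker, map_mul, map_inv, huc]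
    exact inv_mul_cancel _
  have hdecomp : n * c * o = (n * u) * ((u⁻¹ * c) * o) := by group
  rw [hdecomp]
  apply Subgroup.mul_mem_sup
  · exact Subgroup.mul_mem _ hn (Subgroup.le_normalizer hu.1)
  · exact Subgroup.mul_mem _ ho' ho

theorem normalizer_sup_pPrimeCore_iff (S : Sylow p G) :
    Subgroup.normalizer ((S : Subgroup G) : Set G) ⊔ pPrimeCore p G = ⊤ ↔
      (IsPConstrained p G ∧
        ∀ Q : Subgroup G, Q ≤ (S : Subgroup G) → ∀ g : G,
          Q.map (MulAut.conj g).toMonoidHom ≤ (S : Subgroup G) →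
          ∃ n ∈ Subgroup.normalizer ((S : Subgroup G) : Set G),
            ∃ c ∈ Subgroup.centralizer (Q : Set G), g = n * c) :=
  ⟨fun h => ⟨isPConstrained_of_normalizer_sup_pPrimeCore S h,
    fusion_of_normalizer_sup_pPrimeCore S h⟩,
   fun h => normalizer_sup_pPrimeCore_of_fusion S h.1 h.2⟩

end

end Cfsg.Agent.Lib.Helper20
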