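import Cfsg.Agent.Lib.Helper20.Layer

/-!
Cores `O_{p'}`: characteristic, coprime order, contains subnormal `p'`-subgroups (helper20).
A few of the first lemmas are re-proved here (they also exist in helper2's library) to keep
the import closure small.
-/

set_option autoImplicit false
open Cfsg
open scoped commutatorElement

namespace Cfsg.Agent.Lib.Helper20

/-- `|H ⊔ K|` divides `|H| * |K|` when `K` is normal. -/
theorem card_sup_dvd_mul {G : Type*} [Group G] (H K : Subgroup G) [K.Normal] :
    Nat.card (H ⊔ K : Subgroup G) ∣ Nat.card H * Nat.card K := by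
  have h1 : (⊥ : Subgroup G).relIndex K * K.relIndex (H ⊔ K) = (⊥ : Subgroup G).relIndex (H ⊔ K) :=
    Subgroup.relIndex_mul_relIndex _ _ _ bot_le le_sup_right
  rw [Subgroup.relIndex_bot_left, Subgroup.relIndex_bot_left, Subgroup.relIndex_sup_right] at h1
  rw [← h1, mul_comm]
  exact Nat.mul_dvd_mul_right (Subgroup.relIndex_dvd_card _ _) _

theorem le_pPrimeCore' {G : Type*} [Group G] {p : ℕ} {N : Subgroup G} (hN : N.Normal)
    (hp : (Nat.card N).Coprime p) : N ≤ pPrimeCore p G :=
  le_sSup ⟨hN, hp⟩

theorem pPrimeCore_mem' {G : Type*} [Group G] [Finite G] (p : ℕ) :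
    pPrimeCore p G ∈ {N : Subgroup G | N.Normal ∧ (Nat.card N).Coprime p} := by
  apply SupClosed.sSup_mem _ (Set.toFinite _) _ (le_refl _)
  · rintro H ⟨hHn, hHc⟩ K ⟨hKn, hKc⟩
    refine ⟨inferInstance, ?_⟩
    exact Nat.Coprime.coprime_dvd_left (card_sup_dvd_mul H K) (Nat.Coprime.mul_left hHc hKc)
  · exact ⟨inferInstance, by simp⟩

theorem pPrimeCore_coprime' {G : Type*} [Group G] [Finite G] (p : ℕ) :
    (Nat.card (pPrimeCore p G)).Coprime p :=
  (pPrimeCore_mem' p).2

/-- A join of a family of subgroups stable under automorphisms is characteristic. -/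
theorem characteristic_sSup_of_invariant {G : Type*} [Group G] (S : Set (Subgroup G))
    (hS : ∀ N ∈ S, ∀ φ : G ≃* G, N.map φ.toMonoidHom ∈ S) : (sSup S).Characteristic := by
  rw [Subgroup.characteristic_iff_map_le]
  intro φ
  rw [Subgroup.map_le_iff_le_comap]
  apply sSup_le
  intro N hN
  rw [← Subgroup.map_le_iff_le_comap]
  exact le_sSup (hS N hN φ)

theorem pPrimeCore_characteristic {G : Type*} [Group G] (p : ℕ) :
    (pPrimeCore p G).Characteristic := by
  unfold pPrimeCore
  apply characteristic_sSup_of_invariant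
  rintro N ⟨hNn, hNc⟩ φ
  refine ⟨hNn.map _ φ.surjective, ?_⟩
  rw [Subgroup.card_map_of_injective φ.injective]
  exact hNc

theorem pCore_characteristic {G : Type*} [Group G] (p : ℕ) :
    (pCore p G).Characteristic := by
  unfold pCore
  apply characteristic_sSup_of_invariant
  rintro N ⟨hNn, hNc⟩ φ
  exact ⟨hNn.map _ φ.surjective, hNc.map _⟩

theorem card_lt_of_lt_top {G : Type*} [Group G] [Finite G] {K : Subgroup G} (hK : K < ⊤) :
    Nat.card K < Nat.card G := by
  by_contra hge
  exact hK.ne (Subgroup.eq_top_of_le_card K (not_lt.mp hge))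

/-- A subnormal `p'`-subgroup of a finite group lies in `O_{p'}`. -/
theorem subnormal_coprime_le_pPrimeCore_aux (p : ℕ) (n : ℕ) :
    ∀ (G : Type*) [Group G] [Finite G], Nat.card G = n → ∀ H : Subgroup G, H.IsSubnormal →
      (Nat.card H).Coprime p → H ≤ pPrimeCore p G := by
  induction n using Nat.strong_induction_on with
  | _ n ih =>
    intro G _ _ hn H hH hc
    by_cases hHtop : H = ⊤
    · subst hHtop
      exact le_pPrimeCore' inferInstance hc
    obtain ⟨K, hKn, hHK, hKlt⟩ := hH.exists_normal_and_le_and_lt_top_of_ne hHtop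
    have hcard : Nat.card (H.subgroupOf K) = Nat.card H :=
      Nat.card_congr (Subgroup.subgroupOfEquivOfLe hHK).toEquiv
    have h1 := ih (Nat.card K) (hn ▸ card_lt_of_lt_top hKlt) K rfl (H.subgroupOf K) hH.subgroupOf
      (hcard ▸ hc)
    have hchar : (pPrimeCore p ↥K).Characteristic := pPrimeCore_characteristic p
    have hCn : ((pPrimeCore p ↥K).map K.subtype).Normal :=
      ConjAct.normal_of_characteristic_of_normal
    have hCc : (Nat.card ((pPrimeCore p ↥K).map K.subtype)).Coprime p := by
      rw [Subgroup.card_map_of_injective K.subtype_injective]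
      exact pPrimeCore_coprime' p
    have h2 : (pPrimeCore p ↥K).map K.subtype ≤ pPrimeCore p G := le_pPrimeCore' hCn hCc
    intro x hx
    apply h2
    exact ⟨⟨x, hHK hx⟩, h1 (show (⟨x, hHK hx⟩ : K) ∈ H.subgroupOf K from hx), rfl⟩

theorem subnormal_coprime_le_pPrimeCore {G : Type*} [Group G] [Finite G] (p : ℕ) (H : Subgroup G)
    (hH : H.IsSubnormal) (hc : (Nat.card H).Coprime p) : H ≤ pPrimeCore p G :=
  subnormal_coprime_le_pPrimeCore_aux p (Nat.card G) G rfl H hH hc

/-- `O_{p'}(G / O_{p'}(G)) = 1`. -/
theorem pPrimeCore_quotient_eq_bot {G : Type*} [Group G] [Finite G] (p : ℕ) :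
    pPrimeCore p (G ⧸ pPrimeCore p G) = ⊥ := by
  set O := pPrimeCore p G with hO
  set π := QuotientGroup.mk' O with hπ
  -- the preimage of the core of the quotient is a normal p'-subgroup
  set M := (pPrimeCore p (G ⧸ O)).comap π with hM
  have hMn : M.Normal := inferInstance
  have hOM : O ≤ M := by
    intro x hx
    rw [hM, Subgroup.mem_comap]
    have : π x = 1 := by
      rw [hπ, QuotientGroup.mk'_apply, QuotientGroup.eq_one_iff]; exact hx
    rw [this]; exact Subgroup.one_mem _
  have hcard : Nat.card M = Nat.card (pPrimeCore p (G ⧸ O)) * Nat.card O := by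
    have h1 := Subgroup.card_eq_card_quotient_mul_card_subgroup (O.subgroupOf M)
    have h2 : Nat.card (O.subgroupOf M) = Nat.card O :=
      Nat.card_congr (Subgroup.subgroupOfEquivOfLe hOM).toEquiv
    have h3 : Nat.card (↥M ⧸ O.subgroupOf M) = Nat.card (pPrimeCore p (G ⧸ O)) := by
      -- M / O ≃ core of quotient
      let f : ↥M →* ↥(pPrimeCore p (G ⧸ O)) :=
        (π.comp M.subtype).codRestrict _ (fun x => x.2)
      have hf : Function.Surjective f := by
        rintro ⟨y, hy⟩
        obtain ⟨x, rfl⟩ := QuotientGroup.mk'_surjective O y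
        exact ⟨⟨x, hy⟩, rfl⟩
      have hker : f.ker = O.subgroupOf M := by
        ext ⟨x, hx⟩
        rw [MonoidHom.mem_ker, Subgroup.mem_subgroupOf]
        constructor
        · intro h
          have := congrArg Subtype.val h
          simpa [f, hπ] using this
        · intro h
          apply Subtype.ext
          simpa [f, hπ] using h
      have e := QuotientGroup.quotientKerEquivOfSurjective f hf
      rw [← Nat.card_congr e.toEquiv]
      exact Nat.card_congr (QuotientGroup.quotientMulEquivOfEq hker.symm).toEquiv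
    rw [h1, h2, h3]
  have hMc : (Nat.card M).Coprime p := by
    rw [hcard]
    exact Nat.Coprime.mul_left (pPrimeCore_coprime' p) (pPrimeCore_coprime' p)
  have hMO : M ≤ O := le_pPrimeCore' hMn hMc
  rw [eq_bot_iff]
  intro y hy
  obtain ⟨x, rfl⟩ := QuotientGroup.mk'_surjective O y
  have : x ∈ O := hMO hy
  rw [Subgroup.mem_bot, QuotientGroup.mk'_apply, QuotientGroup.eq_one_iff]
  exact this

end Cfsg.Agent.Lib.Helper20
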