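import Cfsg.Agent.Lib.Helper20.Fitting

/-!
Nilpotent subnormal subgroups lie in `F(G)`; `C_G(F*(G)) ≤ F*(G)` (Bender) (helper20).
-/

set_option autoImplicit false
open Cfsg
open scoped commutatorElement

namespace Cfsg.Agent.Lib.Helper20

/-- A nilpotent subnormal subgroup of a finite group lies in the Fitting subgroup. -/
theorem subnormal_nilpotent_le_fitting_aux (n : ℕ) :
    ∀ (G : Type*) [Group G] [Finite G], Nat.card G = n → ∀ H : Subgroup G, H.IsSubnormal →
      Group.IsNilpotent H → H ≤ fittingSubgroup G := by
  induction n using Nat.strong_induction_on with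
  | _ n ih =>
    intro G _ _ hn H hH hnil
    by_cases hHtop : H = ⊤
    · subst hHtop
      exact le_fittingSubgroup' inferInstance hnil
    obtain ⟨K, hKn, hHK, hKlt⟩ := hH.exists_normal_and_le_and_lt_top_of_ne hHtop
    have hnil' : Group.IsNilpotent (H.subgroupOf K) :=
      Group.nilpotent_of_mulEquiv (Subgroup.subgroupOfEquivOfLe hHK).symm
    have h1 := ih (Nat.card K) (hn ▸ card_lt_of_lt_top hKlt) K rfl (H.subgroupOf K) hH.subgroupOf
      hnil'
    have hchar : (fittingSubgroup ↥K).Characteristic := fittingSubgroup_characteristic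
    have hCn : ((fittingSubgroup ↥K).map K.subtype).Normal :=
      ConjAct.normal_of_characteristic_of_normal
    have hCnil : Group.IsNilpotent ((fittingSubgroup ↥K).map K.subtype) := by
      have := fittingSubgroup_isNilpotent' (G := ↥K)
      exact Group.nilpotent_of_surjective ((K.subtype).subgroupMap (fittingSubgroup ↥K))
        (MonoidHom.subgroupMap_surjective _ _)
    have h2 : (fittingSubgroup ↥K).map K.subtype ≤ fittingSubgroup G :=
      le_fittingSubgroup' hCn hCnil
    intro x hx
    apply h2
    exact ⟨⟨x, hHK hx⟩, h1 (show (⟨x, hHK hx⟩ : K) ∈ H.subgroupOf K from hx), rfl⟩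

theorem subnormal_nilpotent_le_fitting {G : Type*} [Group G] [Finite G] (H : Subgroup G)
    (hH : H.IsSubnormal) (hnil : Group.IsNilpotent H) : H ≤ fittingSubgroup G :=
  subnormal_nilpotent_le_fitting_aux (Nat.card G) G rfl H hH hnil

open scoped IsMulCommutative in
/-- A group whose derived subgroup is central is nilpotent. -/
theorem isNilpotent_of_commutator_le_center (N : Type*) [Group N]
    (h : commutator N ≤ Subgroup.center N) : Group.IsNilpotent N := by
  have hc : IsMulCommutative (N ⧸ Subgroup.center N) :=
    Subgroup.Normal.quotient_commutative_iff_commutator_le.mpr h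
  exact Group.of_quotient_center_nilpotent inferInstance

/-- A subgroup `N` with `⁅N, N⁆ ≤ Z` where `N` centralizes `Z` is nilpotent. -/
theorem isNilpotent_of_commutator_le_centralized {G : Type*} [Group G] (N Z : Subgroup G)
    (h1 : ⁅N, N⁆ ≤ Z) (h2 : N ≤ Subgroup.centralizer (Z : Set G)) : Group.IsNilpotent N := by
  apply isNilpotent_of_commutator_le_center
  intro x hx
  rw [Subgroup.mem_center_iff]
  rintro ⟨y, hy⟩
  have hx' : (x : G) ∈ ⁅N, N⁆ := by
    rw [← Subgroup.map_subtype_commutator]
    exact ⟨x, hx, rfl⟩
  have := h2 hy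
  rw [Subgroup.mem_centralizer_iff] at this
  exact Subtype.ext (this x (h1 hx')).symm

/-- Key dichotomy used for Bender's theorem and its solvable variant. -/
theorem centralizer_genFitting_le {G : Type*} [Group G] [Finite G] :
    Subgroup.centralizer (Cfsg.generalizedFittingSubgroup G : Set G) ≤
      Cfsg.generalizedFittingSubgroup G := by
  set Fs := Cfsg.generalizedFittingSubgroup G with hFs
  set C := Subgroup.centralizer (Fs : Set G) with hC
  have hFn : (fittingSubgroup G).Normal := fittingSubgroup_normal'
  have hFsn : Fs.Normal := by rw [hFs]; unfold Cfsg.generalizedFittingSubgroup; infer_instance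
  have hCn : C.Normal := by rw [hC]; infer_instance
  by_contra hcon
  let S : Set (Subgroup G) := {N | N.IsSubnormal ∧ N ≤ C ∧ ¬ N ≤ Fs}
  have hne : S.Nonempty := ⟨C, hCn.isSubnormal, le_rfl, hcon⟩
  obtain ⟨N, ⟨hNsn, hNC, hNF⟩, hNmin⟩ := WellFounded.has_min (wellFounded_lt (α := Subgroup G)) S hne
  -- proper subnormal subgroups of N lie in Fs
  have hprop : ∀ M : Subgroup G, M.IsSubnormal → M < N → M ≤ Fs := by
    intro M hM hlt
    by_contra h
    exact hNmin M ⟨hM, hlt.le.trans hNC, h⟩ hlt
  by_cases hperf : ⁅N, N⁆ = N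
  · -- N is a component
    apply hNF
    have hNne : N ≠ ⊥ := by
      rintro rfl; exact hNF bot_le
    have hq : Cfsg.IsQuasisimple ↥N := by
      refine ⟨Subgroup.isPerfect_iff.mpr hperf, ?_⟩
      have hnt : Nontrivial (↥N ⧸ Subgroup.center ↥N) := by
        by_contra hsub
        rw [not_nontrivial_iff_subsingleton] at hsub
        have hcen : Subgroup.center ↥N = ⊤ := by
          rw [eq_top_iff]
          intro x _
          rw [← QuotientGroup.eq_one_iff]
          exact Subsingleton.elim _ _
        -- then N is abelian and perfect, hence trivial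
        apply hNne
        rw [← hperf, Subgroup.commutator_eq_bot_iff_le_centralizer]
        intro a ha
        rw [Subgroup.mem_centralizer_iff]
        intro b hb
        have hb' : (⟨b, hb⟩ : N) ∈ Subgroup.center ↥N := hcen ▸ Subgroup.mem_top _
        have := (Subgroup.mem_center_iff.mp hb') ⟨a, ha⟩
        exact (congrArg Subtype.val this).symm
      refine { exists_pair_ne := hnt.exists_pair_ne, eq_bot_or_eq_top_of_normal := ?_ }
      intro Mbar hMbar
      set π := QuotientGroup.mk' (Subgroup.center ↥N) with hπ
      set M := Mbar.comap π with hM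
      have hMn : M.Normal := inferInstance
      have hMsn : (M.map N.subtype).IsSubnormal := hMn.isSubnormal.trans' hNsn
      have hMle : M.map N.subtype ≤ N := Subgroup.map_subtype_le M
      rcases eq_or_lt_of_le hMle with heq | hlt
      · right
        have : M = ⊤ := by
          apply Subgroup.map_injective N.subtype_injective
          rw [heq, ← MonoidHom.range_eq_map, Subgroup.range_subtype]
        rw [← Subgroup.map_comap_eq_self_of_surjective (QuotientGroup.mk'_surjective _) Mbar,
          ← hπ, ← hM, this, ← MonoidHom.range_eq_map, MonoidHom.range_eq_top]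
        exact QuotientGroup.mk'_surjective _
      · left
        have hMF := hprop _ hMsn hlt
        have hMcen : M ≤ Subgroup.center ↥N := by
          intro x hx
          rw [Subgroup.mem_center_iff]
          rintro ⟨y, hy⟩
          have hxF : (x : G) ∈ Fs := hMF ⟨x, hx, rfl⟩
          have := hNC hy
          rw [hC, Subgroup.mem_centralizer_iff] at this
          exact Subtype.ext (this x hxF).symm
        rw [← Subgroup.map_comap_eq_self_of_surjective (QuotientGroup.mk'_surjective _) Mbar,
          ← hπ, ← hM, Subgroup.map_eq_bot_iff, hπ, QuotientGroup.ker_mk']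
        exact hMcen
    have hcomp : Cfsg.IsComponent N := ⟨hNsn, hq⟩
    exact (le_sSup hcomp : N ≤ Cfsg.layer G).trans le_sup_left
  · -- N is nilpotent
    apply hNF
    have hlt : ⁅N, N⁆ < N := lt_of_le_of_ne (Subgroup.commutator_le_self N) hperf
    have hNF' := hprop _ (commutator_self_isSubnormal hNsn) hlt
    have hnil : Group.IsNilpotent N := isNilpotent_of_commutator_le_centralized N Fs hNF' hNC
    exact (subnormal_nilpotent_le_fitting N hNsn hnil).trans le_sup_right

end Cfsg.Agent.Lib.Helper20

namespace Cfsg.Agent.Lib.Helper20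

theorem commutator_lt_of_isSolvable {G : Type*} [Group G] (M : Subgroup G)
    (hs : Group.IsSolvable ↥M) (hM : M ≠ ⊥) : ⁅M, M⁆ < M := by
  rw [← Subgroup.nontrivial_iff_ne_bot] at hM
  have h := Group.IsSolvable.commutator_lt_top_of_nontrivial ↥M
  have h2 := Subgroup.map_subtype_lt_map_subtype.mpr h
  rwa [Subgroup.map_subtype_commutator, ← MonoidHom.range_eq_map, Subgroup.range_subtype] at h2

/-- A solvable subnormal subgroup centralizing `F(G)` lies in `F(G)`. -/
theorem subnormal_solvable_le_fitting_of_le_centralizer {G : Type*} [Group G] [Finite G]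
    (N : Subgroup G) (hNsn : N.IsSubnormal) (hsolv : Group.IsSolvable ↥N)
    (hNC : N ≤ Subgroup.centralizer (fittingSubgroup G : Set G)) : N ≤ fittingSubgroup G := by
  by_contra hcon
  let S : Set (Subgroup G) := {M | M.IsSubnormal ∧ Group.IsSolvable ↥M ∧
    M ≤ Subgroup.centralizer (fittingSubgroup G : Set G) ∧ ¬ M ≤ fittingSubgroup G}
  have hne : S.Nonempty := ⟨N, hNsn, hsolv, hNC, hcon⟩
  obtain ⟨M, ⟨hMsn, hMs, hMC, hMF⟩, hMmin⟩ :=
    WellFounded.has_min (wellFounded_lt (α := Subgroup G)) S hne
  apply hMF
  have hMne : M ≠ ⊥ := by rintro rfl; exact hMF bot_le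
  have hlt : ⁅M, M⁆ < M := commutator_lt_of_isSolvable M hMs hMne
  have hder : ⁅M, M⁆ ≤ fittingSubgroup G := by
    by_contra h
    refine hMmin ⁅M, M⁆ ⟨commutator_self_isSubnormal hMsn, ?_, hlt.le.trans hMC, h⟩ hlt
    exact Group.isSolvable_of_isSolvable_injective (Subgroup.inclusion_injective hlt.le)
  have hnil : Group.IsNilpotent M :=
    isNilpotent_of_commutator_le_centralized M (fittingSubgroup G) hder hMC
  exact subnormal_nilpotent_le_fitting M hMsn hnil

/-- S1264. -/
theorem solvable_normal_in_centralizer_fitting_le_center {G : Type*} [Group G] [Finite G]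
    (N : Subgroup G) (hN : N ≤ Subgroup.centralizer (Cfsg.fittingSubgroup G : Set G))
    (hnorm : Subgroup.centralizer (Cfsg.fittingSubgroup G : Set G) ≤ Subgroup.normalizer (N : Set G))
    (hsolv : Group.IsSolvable ↥N) :
    N ≤ (Subgroup.center ↥(Cfsg.fittingSubgroup G)).map (Cfsg.fittingSubgroup G).subtype := by
  have hFn : (fittingSubgroup G).Normal := fittingSubgroup_normal'
  have hCn : (Subgroup.centralizer (Cfsg.fittingSubgroup G : Set G)).Normal := inferInstance
  have hNsn : N.IsSubnormal :=
    Subgroup.IsSubnormal.trans hN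
      (Subgroup.normal_subgroupOf_of_le_normalizer hnorm).isSubnormal hCn.isSubnormal
  have hNF := subnormal_solvable_le_fitting_of_le_centralizer N hNsn hsolv hN
  intro x hx
  refine ⟨⟨x, hNF hx⟩, Subgroup.mem_center_iff.mpr ?_, rfl⟩
  rintro ⟨y, hy⟩
  have := hN hx
  rw [Subgroup.mem_centralizer_iff] at this
  exact Subtype.ext (this y hy)

/-- S1326. -/
theorem centralizer_fitting_le_iff_layer_eq_bot {X : Type*} [Group X] [Finite X] :
    Subgroup.centralizer (Cfsg.fittingSubgroup X : Set X) ≤ Cfsg.fittingSubgroup X ↔
      Cfsg.layer X = ⊥ := by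
  constructor
  · intro h
    unfold Cfsg.layer
    rw [sSup_eq_bot]
    intro K hK
    exfalso
    apply isQuasisimple_not_isSolvable hK.2
    have hKF : K ≤ fittingSubgroup X :=
      ((le_sSup hK : K ≤ Cfsg.layer X).trans layer_le_centralizer_fitting).trans h
    have := fittingSubgroup_isSolvable (G := X)
    exact Group.isSolvable_of_isSolvable_injective (Subgroup.inclusion_injective hKF)
  · intro h
    have := centralizer_genFitting_le (G := X)
    unfold Cfsg.generalizedFittingSubgroup at this
    rwa [h, bot_sup_eq] at this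

/-- S1325. -/
theorem genFitting_le_of_centralizer_le {X : Type*} [Group X] [Finite X] (Y : Subgroup X)
    [hY : Y.Normal] (hF : Cfsg.fittingSubgroup X ≤ Y)
    (hC : Subgroup.centralizer (Y : Set X) ≤ Y) : Cfsg.generalizedFittingSubgroup X ≤ Y := by
  unfold Cfsg.generalizedFittingSubgroup
  apply sup_le _ hF
  apply sSup_le
  intro L hL
  rcases component_le_or_commutes L Y hL hY.isSubnormal with h | h
  · exact h
  · rw [Subgroup.commutator_eq_bot_iff_le_centralizer] at h
    exact h.trans hC

end Cfsg.Agent.Lib.Helper20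

namespace Cfsg.Agent.Lib.Helper20

/-- In a finite group with `O_{p'}(G) = 1` the Fitting subgroup is `O_p(G)`. -/
theorem fitting_eq_pCore_of_pPrimeCore_eq_bot {G : Type*} [Group G] [Finite G] (p : ℕ)
    [hp : Fact p.Prime] (h : Cfsg.pPrimeCore p G = ⊥) : fittingSubgroup G = pCore p G := by
  apply le_antisymm
  · rw [fittingSubgroup_eq_iSup_pCore']
    apply iSup_le
    intro q
    by_cases hqp : (q : ℕ) = p
    · rw [hqp]
    · have hq : Fact (q : ℕ).Prime := ⟨q.2⟩
      have hc : (Nat.card (pCore (q : ℕ) G)).Coprime p := by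
        obtain ⟨k, hk⟩ := IsPGroup.iff_card.mp (pCore_isPGroup' (G := G) (q : ℕ))
        rw [hk]
        exact Nat.Coprime.pow_left k ((Nat.coprime_primes q.2 hp.out).mpr hqp)
      have := le_pPrimeCore' (Cfsg.pCore_normal (q : ℕ) G) hc
      rw [h] at this
      exact this.trans bot_le
  · exact le_fittingSubgroup' (Cfsg.pCore_normal p G) (pCore_isPGroup' (G := G) p).isNilpotent

/-- S0017 (Hall–Higman Lemma 1.2.3). -/
theorem solvable_centralizer_pCore_le {G : Type*} [Group G] [Finite G] [hs : Group.IsSolvable G]
    (p : ℕ) [Fact p.Prime] (h : Cfsg.pPrimeCore p G = ⊥) :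
    Subgroup.centralizer (Cfsg.pCore p G : Set G) ≤ Cfsg.pCore p G := by
  rw [← fitting_eq_pCore_of_pPrimeCore_eq_bot p h]
  have hFn : (fittingSubgroup G).Normal := fittingSubgroup_normal'
  have hCn : (Subgroup.centralizer (Cfsg.fittingSubgroup G : Set G)).Normal := inferInstance
  have := solvable_normal_in_centralizer_fitting_le_center
    (Subgroup.centralizer (Cfsg.fittingSubgroup G : Set G)) le_rfl
    (by rw [Subgroup.normalizer_eq_top]; exact le_top) inferInstance
  exact this.trans (Subgroup.map_subtype_le _)

end Cfsg.Agent.Lib.Helper20
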