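import Mathlib.Data.Finite.Perm
import Cfsg.Agent.Lib.Helper20.Bender

/-!
`|H| ≤ |F*(H)|!` (helper20).
-/

set_option autoImplicit false
open Cfsg
open scoped commutatorElement Nat

namespace Cfsg.Agent.Lib.Helper20

theorem card_ne_one_subtype (N : Type*) [Group N] [Finite N] :
    Nat.card {x : N // x ≠ 1} = Nat.card N - 1 := by
  classical
  have := Fintype.ofFinite N
  rw [Nat.card_eq_fintype_card, Nat.card_eq_fintype_card, Fintype.card_subtype_compl,
    Fintype.card_subtype_eq]

theorem card_mulAut_le (N : Type*) [Group N] [Finite N] :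
    Nat.card (MulAut N) ≤ (Nat.card N - 1)! := by
  classical
  let ι : MulAut N → Equiv.Perm {x : N // x ≠ 1} := fun f =>
    f.toEquiv.subtypeEquiv (fun x => by simp)
  have hinj : Function.Injective ι := by
    intro f g hfg
    ext x
    by_cases hx : x = 1
    · subst hx; simp
    · have := congrArg (fun e => (e ⟨x, hx⟩ : N)) hfg
      simpa [ι] using this
  calc Nat.card (MulAut N) ≤ Nat.card (Equiv.Perm {x : N // x ≠ 1}) :=
        Nat.card_le_card_of_injective ι hinj
    _ = (Nat.card N - 1)! := by rw [Nat.card_perm, card_ne_one_subtype]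

instance genFitting_normal {G : Type*} [Group G] : (Cfsg.generalizedFittingSubgroup G).Normal := by
  have : (fittingSubgroup G).Normal := fittingSubgroup_normal'
  unfold Cfsg.generalizedFittingSubgroup
  infer_instance

/-- S1313. -/
theorem card_le_factorial_card_genFitting {H : Type*} [Group H] [Finite H] :
    Nat.card H ≤ (Nat.card ↥(Cfsg.generalizedFittingSubgroup H))! := by
  set N := Cfsg.generalizedFittingSubgroup H with hN
  let cj : H →* MulAut ↥N := MulAut.conjNormal
  have hker : cj.ker ≤ N := by
    intro x hx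
    apply centralizer_genFitting_le
    rw [Subgroup.mem_centralizer_iff]
    intro n hn
    rw [MonoidHom.mem_ker] at hx
    have := congrArg (fun f : MulAut ↥N => ((f ⟨n, hn⟩ : ↥N) : H)) hx
    simp only [cj, MulAut.conjNormal_apply, MulAut.one_apply] at this
    -- x * n * x⁻¹ = n
    calc n * x = (x * n * x⁻¹) * x := by rw [this]
      _ = x * n := by group
  have h1 : Nat.card H = Nat.card cj.ker * Nat.card cj.range := by
    rw [← Subgroup.index_ker, Subgroup.card_mul_index]
  have h2 : Nat.card cj.ker ≤ Nat.card N := Subgroup.card_le_of_le hker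
  have h3 : Nat.card cj.range ≤ (Nat.card N - 1)! :=
    (Subgroup.card_le_card_group _).trans (card_mulAut_le ↥N)
  have hpos : 0 < Nat.card N := Nat.card_pos
  calc Nat.card H = Nat.card cj.ker * Nat.card cj.range := h1
    _ ≤ Nat.card N * (Nat.card N - 1)! := Nat.mul_le_mul h2 h3
    _ = (Nat.card N)! := Nat.mul_factorial_pred hpos.ne'

end Cfsg.Agent.Lib.Helper20
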