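import Cfsg.Agent.Lib.Helper20.Components

set_option autoImplicit false
open Cfsg
open scoped commutatorElement Pointwise

namespace Cfsg.Agent.Lib.Helper20

/-- Aschbacher 31.5: distinct components commute. -/
theorem components_commute {G : Type*} [Group G] [Finite G] (L K : Subgroup G)
    (hL : Cfsg.IsComponent L) (hK : Cfsg.IsComponent K) (hne : L ≠ K) : ⁅L, K⁆ = ⊥ := by
  rcases component_le_or_commutes L K hL hK.1 with h | h
  · exfalso
    rcases quasisimple_subnormal_top_or_le_center hK.2 (L.subgroupOf K) hL.1.subgroupOf with h1 | h1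
    · rw [Subgroup.subgroupOf_eq_top] at h1
      exact hne (le_antisymm h h1)
    · apply isQuasisimple_not_isSolvable hL.2
      apply Group.isSolvable_of_comm
      rintro ⟨a, ha⟩ ⟨b, hb⟩
      apply Subtype.ext
      have ha' : (⟨a, h ha⟩ : K) ∈ Subgroup.center K := h1 (show (⟨a, h ha⟩ : K) ∈ L.subgroupOf K from ha)
      have := (Subgroup.mem_center_iff.mp ha') ⟨b, h hb⟩
      exact (congrArg Subtype.val this).symm
  · exact h

theorem component_le_layer {G : Type*} [Group G] (L : Subgroup G) (hL : Cfsg.IsComponent L) :
    L ≤ Cfsg.layer G := le_sSup hL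

theorem commutes_of_commutator_eq_bot {G : Type*} [Group G] {L K : Subgroup G} (h : ⁅L, K⁆ = ⊥)
    {a b : G} (ha : a ∈ L) (hb : b ∈ K) : a * b = b * a := by
  have : ⁅a, b⁆ ∈ ⁅L, K⁆ := Subgroup.commutator_mem_commutator ha hb
  rw [h, Subgroup.mem_bot, commutatorElement_eq_one_iff_mul_comm] at this
  exact this

/-- The centre of a component is central in the layer. -/
theorem center_component_le_centralizer_layer {G : Type*} [Group G] [Finite G] (L : Subgroup G)
    (hL : Cfsg.IsComponent L) (z : G) (hz : z ∈ (Subgroup.center ↥L).map L.subtype) :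
    Cfsg.layer G ≤ Subgroup.centralizer {z} := by
  obtain ⟨⟨z, hzL⟩, hzc, rfl⟩ := hz
  apply sSup_le
  intro K hK x hx
  rw [Subgroup.mem_centralizer_singleton_iff]
  by_cases hKL : K = L
  · subst hKL
    have := (Subgroup.mem_center_iff.mp hzc) ⟨x, hx⟩
    exact (congrArg Subtype.val this)
  · have hc := components_commute K L hK hL hKL
    exact commutes_of_commutator_eq_bot hc hx hzL

/-- Inductive claim for the decomposition of central elements of the layer. -/
theorem center_decomp_aux {G : Type*} [Group G] [Finite G] (S : Finset (Subgroup G))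
    (hS : ∀ L ∈ S, Cfsg.IsComponent L) :
    ∀ z ∈ (⨆ L ∈ S, L : Subgroup G), (∀ L ∈ S, ∀ x ∈ L, z * x = x * z) →
      z ∈ (⨆ L ∈ S, (Subgroup.center ↥L).map L.subtype : Subgroup G) := by
  classical
  induction S using Finset.induction_on with
  | empty =>
    intro z hz _
    simp only [Finset.notMem_empty, iSup_false, iSup_bot, Subgroup.mem_bot] at hz ⊢
    exact hz
  | insert L S hLS ih =>
    intro z hz hcomm
    have hS' : ∀ K ∈ S, Cfsg.IsComponent K := fun K hK => hS K (Finset.mem_insert_of_mem hK)
    have hLc : Cfsg.IsComponent L := hS L (Finset.mem_insert_self L S)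
    rw [Finset.iSup_insert] at hz ⊢
    set E := (⨆ K ∈ S, K : Subgroup G) with hE
    -- E centralizes L
    have hEL : ∀ a ∈ E, ∀ x ∈ L, a * x = x * a := by
      intro a ha x hx
      have hle : E ≤ Subgroup.centralizer {x} := by
        apply iSup₂_le
        intro K hK y hy
        rw [Subgroup.mem_centralizer_singleton_iff]
        have hKL : K ≠ L := fun h => hLS (h ▸ hK)
        exact commutes_of_commutator_eq_bot (components_commute K L (hS' K hK) hLc hKL) hy hx
      have := hle ha
      rw [Subgroup.mem_centralizer_singleton_iff] at this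
      exact this
    have hnorm : L ≤ Subgroup.normalizer (E : Set G) := by
      intro x hx
      rw [Subgroup.mem_normalizer_iff]
      intro a
      constructor
      · intro ha
        have : x * a * x⁻¹ = a := by
          rw [← hEL a ha x hx, mul_inv_cancel_right]
        rw [this]; exact ha
      · intro ha
        have h2 := hEL _ ha x hx
        have : a = x * a * x⁻¹ := by
          have h3 : x * a * x⁻¹ * x = x * (x * a * x⁻¹) := h2
          have h4 : x * a = x * (x * a * x⁻¹) := by simpa using h3
          exact mul_left_cancel h4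
        rw [this]; exact ha
    have hmem : z ∈ ((L ⊔ E : Subgroup G) : Set G) := hz
    rw [Subgroup.coe_mul_of_left_le_normalizer_right L E hnorm] at hmem
    obtain ⟨l, hl, a, ha, rfl⟩ := hmem
    -- l is central in L
    have hlc : ∀ x ∈ L, l * x = x * l := by
      intro x hx
      have h1 := hcomm L (Finset.mem_insert_self L S) x hx
      have h2 := hEL a ha x hx
      -- (l * a) * x = x * (l * a), a * x = x * a ⇒ l * x = x * l
      have : l * x * a = x * l * a := by
        calc l * x * a = l * (x * a) := by group
          _ = l * (a * x) := by rw [h2]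
          _ = l * a * x := by group
          _ = x * (l * a) := h1
          _ = x * l * a := by group
      exact mul_right_cancel this
    have hlZ : l ∈ (Subgroup.center ↥L).map L.subtype := by
      refine ⟨⟨l, hl⟩, Subgroup.mem_center_iff.mpr ?_, rfl⟩
      rintro ⟨x, hx⟩
      exact Subtype.ext (hlc x hx).symm
    -- a centralizes every K ∈ S
    have hac : ∀ K ∈ S, ∀ x ∈ K, a * x = x * a := by
      intro K hK x hx
      have h1 := hcomm K (Finset.mem_insert_of_mem hK) x hx
      have hKL : K ≠ L := fun h => hLS (h ▸ hK)
      have h2 : x * l = l * x :=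
        commutes_of_commutator_eq_bot (components_commute K L (hS' K hK) hLc hKL) hx hl
      have : l * (a * x) = l * (x * a) := by
        calc l * (a * x) = l * a * x := by group
          _ = x * (l * a) := h1
          _ = x * l * a := by group
          _ = l * x * a := by rw [h2]
          _ = l * (x * a) := by group
      exact mul_left_cancel this
    have haZ := ih hS' a ha hac
    exact Subgroup.mul_mem_sup hlZ haZ

/-- The set of components of a finite group, as a finset. -/
theorem center_layer_eq {G : Type*} [Group G] [Finite G] :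
    (Subgroup.center ↥(Cfsg.layer G)).map (Cfsg.layer G).subtype =
      ⨆ L : {K : Subgroup G // Cfsg.IsComponent K},
        (Subgroup.center ↥(L : Subgroup G)).map (L : Subgroup G).subtype := by
  classical
  have : Fintype (Subgroup G) := Fintype.ofFinite _
  let S : Finset (Subgroup G) := Finset.univ.filter (fun K => Cfsg.IsComponent K)
  have hS : ∀ L ∈ S, Cfsg.IsComponent L := fun L hL => (Finset.mem_filter.mp hL).2
  have hSmem : ∀ L, Cfsg.IsComponent L → L ∈ S := fun L hL =>
    Finset.mem_filter.mpr ⟨Finset.mem_univ _, hL⟩
  have hE : Cfsg.layer G = (⨆ L ∈ S, L : Subgroup G) := by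
    unfold Cfsg.layer
    apply le_antisymm
    · apply sSup_le
      intro K hK
      exact le_iSup₂_of_le K (hSmem K hK) le_rfl
    · apply iSup₂_le
      intro K hK
      exact le_sSup (hS K hK)
  have hZ : (⨆ L : {K : Subgroup G // Cfsg.IsComponent K},
        (Subgroup.center ↥(L : Subgroup G)).map (L : Subgroup G).subtype) =
      (⨆ L ∈ S, (Subgroup.center ↥L).map L.subtype : Subgroup G) := by
    apply le_antisymm
    · apply iSup_le
      rintro ⟨K, hK⟩
      exact le_iSup₂_of_le K (hSmem K hK) le_rfl
    · apply iSup₂_le
      intro K hK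
      exact le_iSup_of_le ⟨K, hS K hK⟩ le_rfl
  rw [hZ]
  apply le_antisymm
  · rintro z ⟨⟨z, hzE⟩, hzc, rfl⟩
    apply center_decomp_aux S hS z (hE ▸ hzE)
    intro L hL x hx
    have hxE : x ∈ Cfsg.layer G := component_le_layer L (hS L hL) hx
    have := (Subgroup.mem_center_iff.mp hzc) ⟨x, hxE⟩
    exact (congrArg Subtype.val this).symm
  · apply iSup₂_le
    intro L hL z hz
    have hLc := hS L hL
    have hzE : z ∈ Cfsg.layer G := by
      obtain ⟨⟨w, hw⟩, _, rfl⟩ := hz
      exact component_le_layer L hLc hw
    refine ⟨⟨z, hzE⟩, Subgroup.mem_center_iff.mpr ?_, rfl⟩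
    rintro ⟨x, hx⟩
    have := center_component_le_centralizer_layer L hLc z hz hx
    rw [Subgroup.mem_centralizer_singleton_iff] at this
    exact Subtype.ext this

end Cfsg.Agent.Lib.Helper20
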