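import Cfsg.Agent.Lib.Helper20.Fitting
import Cfsg.Agent.Lib.Helper20.Bender
import Cfsg.Agent.Lib.Helper20.Layer
import Cfsg.Agent.Lib.Helper20.FactorialBound

set_option autoImplicit false

namespace Cfsg.Agent.Lib.Helper20

open Cfsg

theorem isNilpotent_of_le' {G : Type*} [Group G] {H K : Subgroup G} (h : H ≤ K)
    (hK : Group.IsNilpotent K) : Group.IsNilpotent H :=
  Group.nilpotent_of_mulEquiv (Subgroup.subgroupOfEquivOfLe h)

theorem isNilpotent_subgroupOf' {G : Type*} [Group G] (H K : Subgroup G)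
    (hH : Group.IsNilpotent H) : Group.IsNilpotent (H.subgroupOf K) := by
  have h1 : Group.IsNilpotent ↥(H ⊓ K) := isNilpotent_of_le' inf_le_left hH
  rw [← Subgroup.inf_subgroupOf_right]
  exact Group.nilpotent_of_mulEquiv (Subgroup.subgroupOfEquivOfLe (inf_le_right : H ⊓ K ≤ K)).symm

/-- `F(S) = F(X) ∩ S` for `S` subnormal in `X`. -/
theorem fitting_subnormal_eq {X : Type*} [Group X] [Finite X] (S : Subgroup X)
    (hS : S.IsSubnormal) :
    (fittingSubgroup ↥S).map S.subtype = fittingSubgroup X ⊓ S := by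
  apply le_antisymm
  · apply le_inf
    · apply subnormal_nilpotent_le_fitting
      · have hn : (fittingSubgroup ↥S).Normal := fittingSubgroup_normal'
        exact (Subgroup.Normal.isSubnormal hn).trans' hS
      · have := fittingSubgroup_isNilpotent' (G := ↥S)
        exact Group.nilpotent_of_surjective ((S.subtype).subgroupMap (fittingSubgroup ↥S))
          (MonoidHom.subgroupMap_surjective _ _)
    · exact Subgroup.map_subtype_le _
  · rintro x ⟨hxF, hxS⟩
    refine ⟨⟨x, hxS⟩, ?_, rfl⟩
    have hF : (fittingSubgroup X).Normal := fittingSubgroup_normal'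
    have hn : ((fittingSubgroup X).subgroupOf S).Normal := inferInstance
    have hnil : Group.IsNilpotent ((fittingSubgroup X).subgroupOf S) :=
      isNilpotent_subgroupOf' _ _ fittingSubgroup_isNilpotent'
    exact le_fittingSubgroup' hn hnil (show (⟨x, hxS⟩ : S) ∈ (fittingSubgroup X).subgroupOf S from hxF)

end Cfsg.Agent.Lib.Helper20

namespace Cfsg.Agent.Lib.Helper20

open Cfsg

/-- `S = F(S)E(S)` for `S` subnormal in `X` and contained in `F*(X)`. -/
theorem fitting_sup_layer_subnormal_eq_top {X : Type*} [Group X] [Finite X] (S : Subgroup X)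
    (hS : S ≤ generalizedFittingSubgroup X) (hsn : S.IsSubnormal) :
    fittingSubgroup ↥S ⊔ layer ↥S = ⊤ := by
  rw [eq_top_iff]
  rintro ⟨s, hs⟩ -
  have hF : (fittingSubgroup X).Normal := fittingSubgroup_normal'
  have hsF := hS hs
  unfold generalizedFittingSubgroup at hsF
  obtain ⟨e, he, f, hf, rfl⟩ := Subgroup.mem_sup_of_normal_right.mp hsF
  have hE₁S : sSup {K : Subgroup X | IsComponent K ∧ K ≤ S} ≤ S := sSup_le (fun K hK => hK.2)
  have hE₂C : sSup {K : Subgroup X | IsComponent K ∧ ¬ K ≤ S} ≤
      Subgroup.centralizer (S : Set X) := by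
    apply sSup_le
    rintro K ⟨hK, hKS⟩
    rcases component_le_or_commutes K S hK hsn with h | h
    · exact absurd h hKS
    · rwa [Subgroup.commutator_eq_bot_iff_le_centralizer] at h
  have hE : layer X ≤ sSup {K : Subgroup X | IsComponent K ∧ K ≤ S} ⊔
      sSup {K : Subgroup X | IsComponent K ∧ ¬ K ≤ S} := by
    apply sSup_le
    intro K hK
    by_cases h : K ≤ S
    · exact (le_sSup (show K ∈ {K : Subgroup X | IsComponent K ∧ K ≤ S} from ⟨hK, h⟩)).trans
        le_sup_left
    · exact (le_sSup (show K ∈ {K : Subgroup X | IsComponent K ∧ ¬ K ≤ S} from ⟨hK, h⟩)).trans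
        le_sup_right
  have hE₂E : sSup {K : Subgroup X | IsComponent K ∧ ¬ K ≤ S} ≤ layer X :=
    sSup_le (fun K hK => le_sSup hK.1)
  have hcomm : ∀ x ∈ S, ∀ y ∈ sSup {K : Subgroup X | IsComponent K ∧ ¬ K ≤ S}, y * x = x * y := by
    intro x hx y hy
    have := hE₂C hy
    rw [Subgroup.mem_centralizer_iff] at this
    exact (this x hx).symm
  have hnorm : sSup {K : Subgroup X | IsComponent K ∧ K ≤ S} ≤
      Subgroup.normalizer ((sSup {K : Subgroup X | IsComponent K ∧ ¬ K ≤ S} : Subgroup X) : Set X) := by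
    intro x hx
    apply Subgroup.centralizer_le_normalizer
    rw [Subgroup.mem_centralizer_iff]
    intro y hy
    exact hcomm x (hE₁S hx) y hy
  have he' : e ∈ ((sSup {K : Subgroup X | IsComponent K ∧ K ≤ S} ⊔
      sSup {K : Subgroup X | IsComponent K ∧ ¬ K ≤ S} : Subgroup X) : Set X) := hE he
  rw [Subgroup.coe_mul_of_left_le_normalizer_right _ _ hnorm] at he'
  obtain ⟨e₁, he₁, e₂, he₂, rfl⟩ := Set.mem_mul.mp he'
  have h2 : e₂ * f ∈ S := by
    have : e₂ * f = e₁⁻¹ * (e₁ * e₂ * f) := by group
    rw [this]; exact S.mul_mem (S.inv_mem (hE₁S he₁)) hs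
  have hfc : ∀ y ∈ layer X, y * f = f * y := by
    intro y hy
    have := layer_le_centralizer_fitting hy
    rw [Subgroup.mem_centralizer_iff] at this
    exact (this f hf).symm
  have he₂c : layer X ≤ Subgroup.centralizer ({e₂} : Set X) := by
    refine hE.trans (sup_le ?_ ?_)
    · intro x hx
      rw [Subgroup.mem_centralizer_iff]
      intro z hz
      rw [Set.mem_singleton_iff] at hz
      subst hz
      exact hcomm x (hE₁S hx) z he₂
    · intro y hy
      rw [Subgroup.mem_centralizer_iff]
      intro z hz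
      rw [Set.mem_singleton_iff] at hz
      subst hz
      have h3 := hcomm (z * f) h2 y hy
      have h4 := hfc y (hE₂E hy)
      have : z = (z * f) * f⁻¹ := by group
      calc z * y = (z * f) * f⁻¹ * y := by rw [← this]
        _ = (z * f) * (f⁻¹ * y) := by group
        _ = (z * f) * (y * f⁻¹) := by
            congr 1
            rw [eq_mul_inv_iff_mul_eq, mul_assoc, h4, ← mul_assoc, inv_mul_cancel, one_mul]
        _ = ((z * f) * y) * f⁻¹ := by group
        _ = (y * (z * f)) * f⁻¹ := by rw [h3]
        _ = y * z := by group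
  have he₂F : e₂ ∈ fittingSubgroup X := by
    have hmem : e₂ ∈ (Subgroup.center ↥(layer X)).map (layer X).subtype := by
      refine ⟨⟨e₂, hE₂E he₂⟩, Subgroup.mem_center_iff.mpr ?_, rfl⟩
      rintro ⟨y, hy⟩
      have := he₂c hy
      rw [Subgroup.mem_centralizer_iff] at this
      exact Subtype.ext (this e₂ rfl).symm
    rw [center_layer_eq_fitting_inf_layer] at hmem
    exact hmem.1
  have h2F : (⟨e₂ * f, h2⟩ : S) ∈ fittingSubgroup ↥S := by
    have : e₂ * f ∈ (fittingSubgroup ↥S).map S.subtype := by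
      rw [fitting_subnormal_eq S hsn]
      exact ⟨(fittingSubgroup X).mul_mem he₂F hf, h2⟩
    obtain ⟨y, hy, hy'⟩ := this
    have : y = ⟨e₂ * f, h2⟩ := Subtype.ext hy'
    rwa [this] at hy
  have h1E : (⟨e₁, hE₁S he₁⟩ : S) ∈ layer ↥S := by
    have hle : sSup {K : Subgroup X | IsComponent K ∧ K ≤ S} ≤ (layer ↥S).map S.subtype := by
      apply sSup_le
      rintro K ⟨hK, hKS⟩
      have h5 : K.subgroupOf S ≤ layer ↥S := le_sSup (isComponent_subgroupOf_of_le hK hKS)
      have h6 := Subgroup.map_mono (f := S.subtype) h5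
      rwa [Subgroup.map_subgroupOf_eq_of_le hKS] at h6
    obtain ⟨y, hy, hy'⟩ := hle he₁
    have : y = ⟨e₁, hE₁S he₁⟩ := Subtype.ext hy'
    rwa [this] at hy
  have : (⟨e₁ * e₂ * f, hs⟩ : S) = ⟨e₁, hE₁S he₁⟩ * ⟨e₂ * f, h2⟩ := by
    apply Subtype.ext
    simp [mul_assoc]
  rw [this]
  exact Subgroup.mul_mem _ (Subgroup.mem_sup_right h1E) (Subgroup.mem_sup_left h2F)

end Cfsg.Agent.Lib.Helper20

namespace Cfsg.Agent.Lib.Helper20

open Cfsg

/-- S1318. -/
theorem subnormal_in_genFitting {X : Type*} [Group X] [Finite X] (S : Subgroup X)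
    (hS : S ≤ generalizedFittingSubgroup X)
    (hsn : (S.subgroupOf (generalizedFittingSubgroup X)).IsSubnormal) :
    (fittingSubgroup ↥S).map S.subtype = fittingSubgroup X ⊓ S ∧
      fittingSubgroup ↥S ⊔ layer ↥S = ⊤ := by
  have hS' : S.IsSubnormal :=
    Subgroup.IsSubnormal.trans hS hsn (Subgroup.Normal.isSubnormal inferInstance)
  exact ⟨fitting_subnormal_eq S hS', fitting_sup_layer_subnormal_eq_top S hS hS'⟩

end Cfsg.Agent.Lib.Helper20

namespace Cfsg.Agent.Lib.Helper20

open Cfsg

/-- Components of `A` inside a subgroup `B` lie in the image of `E(B)`. -/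
theorem component_le_map_layer_of_le {A : Type*} [Group A] {K B : Subgroup A}
    (hK : IsComponent K) (hKB : K ≤ B) : K ≤ (layer ↥B).map B.subtype := by
  have h5 : K.subgroupOf B ≤ layer ↥B := le_sSup (isComponent_subgroupOf_of_le hK hKB)
  have h6 := Subgroup.map_mono (f := B.subtype) h5
  rwa [Subgroup.map_subgroupOf_eq_of_le hKB] at h6

/-- S1320: `F*(A) ∩ B = F*(B)` for `B` normal in `A`. -/
theorem genFitting_inf_normal {A : Type*} [Group A] [Finite A] (B : Subgroup A) [hB : B.Normal] :
    generalizedFittingSubgroup A ⊓ B = (generalizedFittingSubgroup ↥B).map B.subtype := by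
  have hBsn : B.IsSubnormal := Subgroup.Normal.isSubnormal hB
  apply le_antisymm
  · -- S := F*(A) ⊓ B
    have hSn : (generalizedFittingSubgroup A ⊓ B).Normal := inferInstance
    have hSsn : (generalizedFittingSubgroup A ⊓ B).IsSubnormal := Subgroup.Normal.isSubnormal hSn
    have h1 := fitting_sup_layer_subnormal_eq_top (generalizedFittingSubgroup A ⊓ B) inf_le_left hSsn
    have h2 : generalizedFittingSubgroup A ⊓ B =
        (fittingSubgroup ↥(generalizedFittingSubgroup A ⊓ B) ⊔
          layer ↥(generalizedFittingSubgroup A ⊓ B)).map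
            (generalizedFittingSubgroup A ⊓ B).subtype := by
      rw [h1, ← MonoidHom.range_eq_map, Subgroup.range_subtype]
    rw [h2, Subgroup.map_sup]
    apply sup_le
    · rw [fitting_subnormal_eq _ hSsn]
      have h3 : fittingSubgroup A ⊓ (generalizedFittingSubgroup A ⊓ B) ≤ fittingSubgroup A ⊓ B :=
        inf_le_inf_left _ inf_le_right
      refine h3.trans ?_
      rw [← fitting_subnormal_eq B hBsn]
      exact Subgroup.map_mono le_sup_right
    · rw [Subgroup.map_le_iff_le_comap]
      apply sSup_le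
      intro K hK
      rw [← Subgroup.map_le_iff_le_comap]
      have hK' := (isComponent_map_subtype_iff _ hSsn K).mp hK
      have hKB : K.map (generalizedFittingSubgroup A ⊓ B).subtype ≤ B :=
        (Subgroup.map_subtype_le _).trans inf_le_right
      exact (component_le_map_layer_of_le hK' hKB).trans (Subgroup.map_mono le_sup_left)
  · apply le_inf _ (Subgroup.map_subtype_le _)
    unfold generalizedFittingSubgroup
    rw [Subgroup.map_sup]
    apply sup_le_sup
    · exact map_layer_subnormal_le B hBsn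
    · rw [fitting_subnormal_eq B hBsn]
      exact inf_le_left

end Cfsg.Agent.Lib.Helper20
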