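import Cfsg.Agent.Lib.Helper20.CoprimeFix

/-!
Coset fixed point lemma for a `p`-group acting (helper20).
-/

set_option autoImplicit false

namespace Cfsg.Agent.Lib.Helper20

variable {G : Type*} [Group G]

/-- **Coset fixed point lemma, `p`-group version.** If a `p`-subgroup `P` normalizes a finite
`p'`-subgroup `K` and stabilizes the coset `yK` under conjugation, then `P` centralizes some element
of `yK`. -/
theorem exists_fixed_in_coset_of_isPGroup (p : ℕ) [hp : Fact p.Prime] (P : Subgroup G)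
    (hP : IsPGroup p P) (y : G) (K : Subgroup G) [Finite K] (hK : ¬ p ∣ Nat.card K)
    (hPK : P ≤ Subgroup.normalizer (K : Set G)) (hy : ∀ a ∈ P, y⁻¹ * (a * y * a⁻¹) ∈ K) :
    ∃ k ∈ K, ∀ a ∈ P, a * (y * k) * a⁻¹ = y * k := by
  have hmem : ∀ (a : ↥P) (k : ↥K), y⁻¹ * ((a : G) * (y * k) * (a : G)⁻¹) ∈ K := by
    intro a k
    have h1 : (a : G) * (k : G) * (a : G)⁻¹ ∈ K :=
      (Subgroup.mem_normalizer_iff.mp (hPK a.2) k).mp k.2
    have : y⁻¹ * ((a : G) * (y * k) * (a : G)⁻¹) =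
        (y⁻¹ * ((a : G) * y * (a : G)⁻¹)) * ((a : G) * (k : G) * (a : G)⁻¹) := by group
    rw [this]; exact mul_mem (hy a a.2) h1
  letI act : MulAction ↥P ↥K :=
    { smul := fun a k => ⟨y⁻¹ * ((a : G) * (y * k) * (a : G)⁻¹), hmem a k⟩
      one_smul := by
        intro k
        apply Subtype.ext
        show y⁻¹ * (((1 : ↥P) : G) * (y * k) * ((1 : ↥P) : G)⁻¹) = k
        rw [Subgroup.coe_one]; group
      mul_smul := by
        intro a b k
        apply Subtype.ext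
        show y⁻¹ * (((a * b : ↥P) : G) * (y * k) * ((a * b : ↥P) : G)⁻¹) =
          y⁻¹ * ((a : G) * (y * (y⁻¹ * ((b : G) * (y * k) * (b : G)⁻¹))) * (a : G)⁻¹)
        rw [Subgroup.coe_mul]; group }
  obtain ⟨k, hk⟩ := hP.nonempty_fixed_point_of_prime_not_dvd_card ↥K hK
  refine ⟨k, k.2, ?_⟩
  intro a ha
  have h1 : (⟨a, ha⟩ : ↥P) • k = k := hk _
  have h3 : y⁻¹ * (a * (y * k) * a⁻¹) = k := congrArg Subtype.val h1
  calc a * (y * k) * a⁻¹ = y * (y⁻¹ * (a * (y * k) * a⁻¹)) := by group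
    _ = y * k := by rw [h3]

end Cfsg.Agent.Lib.Helper20
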