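import Mathlib.GroupTheory.Sylow
import Cfsg.Agent.Lib.Helper20.CoprimeFix2
import Cfsg.Agent.Lib.Helper20.ExtLayer

/-!
Lifting centralizers and normalizers of `p`-subgroups through the quotient by a normal
`p'`-subgroup (helper20).
-/

set_option autoImplicit false

namespace Cfsg.Agent.Lib.Helper20

open scoped Pointwise

variable {G : Type*} [Group G] [Finite G] (p : ℕ) [hp : Fact p.Prime]

/-- `C_{G/O}(PO/O) = C_G(P)O/O` for a `p`-subgroup `P` and a normal `p'`-subgroup `O`. -/
theorem centralizer_map_mk'_of_coprime (O : Subgroup G) [O.Normal] (hO : ¬ p ∣ Nat.card O)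
    (P : Subgroup G) (hP : IsPGroup p P) :
    Subgroup.centralizer ((P.map (QuotientGroup.mk' O) : Subgroup (G ⧸ O)) : Set (G ⧸ O)) =
      (Subgroup.centralizer (P : Set G)).map (QuotientGroup.mk' O) := by
  apply le_antisymm
  · intro xb hxb
    obtain ⟨y, rfl⟩ := QuotientGroup.mk'_surjective O xb
    have hy : ∀ a ∈ P, y⁻¹ * (a * y * a⁻¹) ∈ O := by
      intro a ha
      rw [← QuotientGroup.ker_mk' O, MonoidHom.mem_ker]
      have h1 : QuotientGroup.mk' O a ∈ ((P.map (QuotientGroup.mk' O) : Subgroup (G ⧸ O)) :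
          Set (G ⧸ O)) := Subgroup.mem_map_of_mem _ ha
      have h2 := (Subgroup.mem_centralizer_iff.mp hxb) _ h1
      simp only [map_mul, map_inv]
      rw [h2]; group
    have hPO : P ≤ Subgroup.normalizer (O : Set G) := by
      rw [Subgroup.normalizer_eq_top]; exact le_top
    obtain ⟨k, hk, hfix⟩ := exists_fixed_in_coset_of_isPGroup p P hP y O hO hPO hy
    refine ⟨y * k, Subgroup.mem_centralizer_iff.mpr ?_, ?_⟩
    · intro a ha
      have := hfix a ha
      calc a * (y * k) = (a * (y * k) * a⁻¹) * a := by group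
        _ = y * k * a := by rw [this]
    · have : QuotientGroup.mk' O k = 1 := by
        rw [← MonoidHom.mem_ker, QuotientGroup.ker_mk']; exact hk
      rw [map_mul, this, mul_one]
  · have := Subgroup.map_centralizer_le_centralizer_image (P : Set G) (QuotientGroup.mk' O)
    rwa [← Subgroup.coe_map] at this

/-- `|PN : P| = |N : N ∩ P|` for `N` normal. -/
theorem relIndex_sup_eq_inf_relIndex (P N : Subgroup G) [N.Normal] :
    P.relIndex (P ⊔ N) = (P ⊓ N).relIndex N := by
  have e1 : Nat.card (P ⊔ N : Subgroup G) = Nat.card N * N.relIndex P := by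
    rw [card_eq_card_mul_relIndex (le_sup_right : N ≤ P ⊔ N), Subgroup.relIndex_sup_right]
  have e2 : Nat.card P = Nat.card (P ⊓ N : Subgroup G) * N.relIndex P := by
    rw [card_eq_card_mul_relIndex (inf_le_left : P ⊓ N ≤ P), inf_comm, Subgroup.inf_relIndex_right]
  have e3 : Nat.card N = Nat.card (P ⊓ N : Subgroup G) * (P ⊓ N).relIndex N :=
    card_eq_card_mul_relIndex inf_le_right
  have e4 : Nat.card (P ⊔ N : Subgroup G) = Nat.card P * P.relIndex (P ⊔ N) :=
    card_eq_card_mul_relIndex le_sup_left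
  have hpos1 : 0 < Nat.card (P ⊓ N : Subgroup G) := Nat.card_pos
  have hpos2 : 0 < N.relIndex P := by
    rcases Nat.eq_zero_or_pos (N.relIndex P) with h0 | h0
    · rw [h0, mul_zero] at e2
      exact absurd e2 (Nat.card_pos (α := P)).ne'
    · exact h0
  have : Nat.card (P ⊓ N : Subgroup G) * N.relIndex P * (P ⊓ N).relIndex N =
      Nat.card (P ⊓ N : Subgroup G) * N.relIndex P * P.relIndex (P ⊔ N) := by
    calc Nat.card (P ⊓ N : Subgroup G) * N.relIndex P * (P ⊓ N).relIndex N
        = (Nat.card (P ⊓ N : Subgroup G) * (P ⊓ N).relIndex N) * N.relIndex P := by ring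
      _ = Nat.card N * N.relIndex P := by rw [← e3]
      _ = Nat.card (P ⊔ N : Subgroup G) := e1.symm
      _ = Nat.card P * P.relIndex (P ⊔ N) := e4
      _ = Nat.card (P ⊓ N : Subgroup G) * N.relIndex P * P.relIndex (P ⊔ N) := by rw [← e2]
  exact (Nat.eq_of_mul_eq_mul_left (Nat.mul_pos hpos1 hpos2) this).symm

/-- Two `p`-subgroups `P`, `P'` of the same order with `P' ≤ PO`, `O` a normal `p'`-subgroup, are
conjugate by an element of `O`. -/
theorem exists_conj_eq_of_le_sup_of_coprime (O : Subgroup G) [O.Normal] (hO : ¬ p ∣ Nat.card O)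
    (P P' : Subgroup G) (hP : IsPGroup p P) (hP' : IsPGroup p P') (hcard : Nat.card P' = Nat.card P)
    (hle : P' ≤ P ⊔ O) : ∃ o ∈ O, P.map (MulAut.conj o).toMonoidHom = P' := by
  have hidx : ¬ p ∣ (P.subgroupOf (P ⊔ O)).index := by
    show ¬ p ∣ P.relIndex (P ⊔ O)
    rw [relIndex_sup_eq_inf_relIndex]
    exact fun h => hO (h.trans (Subgroup.relIndex_dvd_card _ _))
  have hc1 : Nat.card (P.subgroupOf (P ⊔ O)) = Nat.card P :=
    Nat.card_congr (Subgroup.subgroupOfEquivOfLe le_sup_left).toEquiv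
  have hc2 : Nat.card (P'.subgroupOf (P ⊔ O)) = Nat.card P' :=
    Nat.card_congr (Subgroup.subgroupOfEquivOfLe hle).toEquiv
  have hidx' : ¬ p ∣ (P'.subgroupOf (P ⊔ O)).index := by
    have h1 := Subgroup.card_mul_index (P.subgroupOf (P ⊔ O))
    have h2 := Subgroup.card_mul_index (P'.subgroupOf (P ⊔ O))
    rw [hc1] at h1
    rw [hc2, hcard, ← h1] at h2
    have := Nat.eq_of_mul_eq_mul_left (Nat.card_pos (α := P)) h2
    rw [this]; exact hidx
  let T₁ : Sylow p ↥(P ⊔ O) := (hP.comap_subtype (K := P ⊔ O)).toSylow hidx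
  let T₂ : Sylow p ↥(P ⊔ O) := (hP'.comap_subtype (K := P ⊔ O)).toSylow hidx'
  obtain ⟨m, hm⟩ := MulAction.exists_smul_eq ↥(P ⊔ O) T₁ T₂
  have hm' : (P.subgroupOf (P ⊔ O)).map (MulAut.conj m).toMonoidHom = P'.subgroupOf (P ⊔ O) := by
    have := congrArg (fun T : Sylow p ↥(P ⊔ O) => (T : Subgroup ↥(P ⊔ O))) hm
    exact this
  -- push to G
  have hm'' : P.map (MulAut.conj (m : G)).toMonoidHom = P' := by
    have h1 : ((P.subgroupOf (P ⊔ O)).map (MulAut.conj m).toMonoidHom).map (P ⊔ O).subtype =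
        (P'.subgroupOf (P ⊔ O)).map (P ⊔ O).subtype :=
      congrArg (fun H : Subgroup ↥(P ⊔ O) => H.map (P ⊔ O).subtype) hm'
    rw [Subgroup.map_subgroupOf_eq_of_le hle, Subgroup.map_map] at h1
    have h2 : ((P ⊔ O).subtype.comp (MulAut.conj m).toMonoidHom) =
        (MulAut.conj (m : G)).toMonoidHom.comp (P ⊔ O).subtype := by
      ext x; rfl
    rw [h2, ← Subgroup.map_map, Subgroup.map_subgroupOf_eq_of_le le_sup_left] at h1
    exact h1
  -- decompose m = o * u
  have hmS : (m : G) ∈ ((O ⊔ P : Subgroup G) : Set G) := by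
    rw [sup_comm]; exact m.2
  rw [Subgroup.normal_mul] at hmS
  obtain ⟨o, ho, u, hu, hou⟩ := Set.mem_mul.mp hmS
  refine ⟨o, ho, ?_⟩
  rw [← hm'', ← hou]
  have hPu : P.map (MulAut.conj u).toMonoidHom = P :=
    Subgroup.mem_normalizer_iff_map_conj_eq.mp (Subgroup.le_normalizer hu)
  conv_lhs => rw [← hPu]
  rw [Subgroup.map_map]
  congr 1
  ext x
  simp [mul_assoc]

/-- `N_{G/O}(PO/O) = N_G(P)O/O` for a `p`-subgroup `P` and a normal `p'`-subgroup `O`. -/
theorem normalizer_map_mk'_of_coprime (O : Subgroup G) [O.Normal] (hO : ¬ p ∣ Nat.card O)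
    (P : Subgroup G) (hP : IsPGroup p P) :
    Subgroup.normalizer ((P.map (QuotientGroup.mk' O) : Subgroup (G ⧸ O)) : Set (G ⧸ O)) =
      (Subgroup.normalizer (P : Set G)).map (QuotientGroup.mk' O) := by
  apply le_antisymm
  · intro gb hgb
    obtain ⟨g, rfl⟩ := QuotientGroup.mk'_surjective O gb
    rw [Subgroup.mem_normalizer_iff_map_conj_eq] at hgb
    have h1 : (P.map (MulAut.conj g).toMonoidHom).map (QuotientGroup.mk' O) =
        P.map (QuotientGroup.mk' O) := by
      rw [map_conj_map_mk']; exact hgb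
    have hle : P.map (MulAut.conj g).toMonoidHom ≤ P ⊔ O := by
      have := Subgroup.le_comap_map (QuotientGroup.mk' O) (P.map (MulAut.conj g).toMonoidHom)
      rw [h1, Subgroup.comap_map_eq, QuotientGroup.ker_mk'] at this
      exact this
    have hcard : Nat.card (P.map (MulAut.conj g).toMonoidHom) = Nat.card P :=
      Subgroup.card_map_of_injective (MulAut.conj g).injective
    obtain ⟨o, ho, hconj⟩ := exists_conj_eq_of_le_sup_of_coprime p O hO P _ hP
      (hP.map _) hcard hle
    refine ⟨o⁻¹ * g, Subgroup.mem_normalizer_iff_map_conj_eq.mpr ?_, ?_⟩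
    · have : (MulAut.conj (o⁻¹ * g)).toMonoidHom =
          (MulAut.conj o⁻¹).toMonoidHom.comp (MulAut.conj g).toMonoidHom := by
        ext x; simp [mul_assoc]
      show P.map (MulAut.conj (o⁻¹ * g)).toMonoidHom = P
      rw [this, ← Subgroup.map_map, ← hconj, map_conj_inv_map_conj]
    · have : QuotientGroup.mk' O o = 1 := by
        rw [← MonoidHom.mem_ker, QuotientGroup.ker_mk']; exact ho
      rw [map_mul, map_inv, this, inv_one, one_mul]
  · rintro _ ⟨g, hg, rfl⟩
    have hg : g ∈ Subgroup.normalizer (P : Set G) := hg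
    rw [Subgroup.mem_normalizer_iff_map_conj_eq] at hg ⊢
    have := map_conj_map_mk' O P g
    rw [show P.map (MulAut.conj g).toMonoidHom = P from hg] at this
    exact this.symm

end Cfsg.Agent.Lib.Helper20
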