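import Cfsg.Agent.Lib.Helper20.LBalance
import Cfsg.Agent.Lib.Helper20.CoprimeLift

/-!
More `p`-local lemmas (helper20): `F*(M) = O_p(M)` for `M = C_G(P)` (and a general criterion),
coprime lifting of centralizers and normalizers through `G → G / O_{p'}(G)`, and inheritance of
`p`-constraint by `p`-local subgroups.
-/

set_option autoImplicit false

namespace Cfsg.Agent.Lib.Helper20

section Local

variable {G : Type*} [Group G] [Finite G] (p : ℕ) [hp : Fact p.Prime]

/-- In a subgroup `M ⊇ C_G(P)`, a `p'`-element centralizing `O_p(M)` and `P` is trivial. -/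
theorem eq_one_of_centralizes_pCore_local
    (h : Cfsg.generalizedFittingSubgroup G = pCore p G) (P : Subgroup G) (hP : IsPGroup p P)
    (M : Subgroup G) (hCM : Subgroup.centralizer (P : Set G) ≤ M)
    (a : ↥M) (ha : (orderOf a).Coprime p)
    (hcen : a ∈ Subgroup.centralizer ((pCore p ↥M : Subgroup _) : Set _))
    (haP : (a : G) ∈ Subgroup.centralizer (P : Set G)) : a = 1 := by
  have hQn : (pCore p G).Normal := pCore_normal' p
  have hRn : ((pCore p G).subgroupOf M).Normal := inferInstance
  have hR' : (pCore p G).subgroupOf M ≤ pCore p ↥M :=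
    le_pCore' hRn ((pCore_isPGroup' p).comap_subtype)
  have hA : Subgroup.zpowers (a : G) = ⊥ := by
    apply eq_bot_of_centralizes_local p h P hP
    · rw [Nat.card_zpowers, Subgroup.orderOf_coe]; exact ha
    · rw [Subgroup.zpowers_le]; exact haP
    · intro x hx
      rw [Subgroup.zpowers_eq_closure, Subgroup.centralizer_closure, Subgroup.mem_centralizer_iff]
      intro y hy
      rw [Set.mem_singleton_iff] at hy
      subst hy
      have hxM : x ∈ M := hCM hx.2
      have hxR : (⟨x, hxM⟩ : ↥M) ∈ (pCore p G).subgroupOf M := hx.1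
      have := (Subgroup.mem_centralizer_iff.mp hcen) ⟨x, hxM⟩ (hR' hxR)
      exact (congrArg Subtype.val this).symm
  have : (a : G) = 1 := by
    have hmem : (a : G) ∈ Subgroup.zpowers (a : G) := Subgroup.mem_zpowers _
    rwa [hA, Subgroup.mem_bot] at hmem
  exact Subtype.ext this

/-- General criterion: if `F*(G) = O_p(G)`, `C_G(P) ≤ M`, and elements of `M` centralizing `O_p(M)`
centralize `P`, then `F*(M) = O_p(M)`. -/
theorem genFitting_eq_pCore_of_local (h : Cfsg.generalizedFittingSubgroup G = pCore p G)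
    (P : Subgroup G) (hP : IsPGroup p P) (M : Subgroup G)
    (hCM : Subgroup.centralizer (P : Set G) ≤ M)
    (hM : ∀ a : ↥M, a ∈ Subgroup.centralizer ((pCore p ↥M : Subgroup _) : Set _) →
      (a : G) ∈ Subgroup.centralizer (P : Set G)) :
    Cfsg.generalizedFittingSubgroup ↥M = pCore p ↥M := by
  have hO : pPrimeCore p ↥M = ⊥ := by
    rw [eq_bot_iff]
    intro a ha
    rw [Subgroup.mem_bot]
    have hcen : a ∈ Subgroup.centralizer ((pCore p ↥M : Subgroup _) : Set _) := by
      have hn1 : (pPrimeCore p ↥M).Normal := pPrimeCore_normal' p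
      have hn2 : (pCore p ↥M).Normal := pCore_normal' p
      have hdisj : pPrimeCore p ↥M ⊓ pCore p ↥M = ⊥ := by
        apply disjoint_iff.mp
        apply Subgroup.disjoint_of_coprime_natCard
        obtain ⟨k, hk⟩ := IsPGroup.iff_card.mp (pCore_isPGroup' (G := ↥M) p)
        rw [hk]
        exact Nat.Coprime.pow_right k (pPrimeCore_coprime' p)
      have hcomm : ⁅pPrimeCore p ↥M, pCore p ↥M⁆ = ⊥ := by
        rw [eq_bot_iff, ← hdisj]
        exact Subgroup.commutator_le_inf _ _
      exact (Subgroup.commutator_eq_bot_iff_le_centralizer.mp hcomm) ha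
    apply eq_one_of_centralizes_pCore_local p h P hP M hCM a _ hcen (hM a hcen)
    have h1 : orderOf a ∣ Nat.card (pPrimeCore p ↥M) := by
      have := orderOf_dvd_natCard (⟨a, ha⟩ : pPrimeCore p ↥M)
      rwa [Subgroup.orderOf_mk] at this
    exact Nat.Coprime.coprime_dvd_left h1 (pPrimeCore_coprime' p)
  have hE : Cfsg.layer ↥M = ⊥ := by
    rw [layer_eq_bot_iff']
    intro L hL
    have hns : ¬ Group.IsSolvable ↥L := isQuasisimple_not_isSolvable hL.2
    have hex : ∃ q : ℕ, q.Prime ∧ q ∣ Nat.card ↥L ∧ q ≠ p := by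
      by_contra hno
      push_neg at hno
      apply hns
      have hcard : Nat.card ↥L = p ^ (Nat.card ↥L).primeFactorsList.length :=
        Nat.eq_prime_pow_of_unique_prime_dvd Nat.card_pos.ne' (fun {d} hd hdvd => hno d hd hdvd)
      have hpg : IsPGroup p ↥L := IsPGroup.of_card hcard
      have : Group.IsNilpotent ↥L := hpg.isNilpotent
      infer_instance
    obtain ⟨q, hq, hqdvd, hqp⟩ := hex
    haveI : Fact q.Prime := ⟨hq⟩
    obtain ⟨⟨a, haL⟩, hord⟩ := exists_prime_orderOf_dvd_card' q hqdvd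
    rw [Subgroup.orderOf_mk] at hord
    have hcen : a ∈ Subgroup.centralizer ((pCore p ↥M : Subgroup _) : Set _) := by
      have h1 : a ∈ Cfsg.layer ↥M := component_le_layer L hL haL
      have h2 := layer_le_centralizer_fitting h1
      exact Subgroup.centralizer_le (by exact_mod_cast pCore_le_fitting' p) h2
    have ha1 : a = 1 := by
      apply eq_one_of_centralizes_pCore_local p h P hP M hCM a _ hcen (hM a hcen)
      rw [hord]
      exact (Nat.coprime_primes hq hp.out).mpr hqp
    rw [ha1, orderOf_one] at hord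
    exact hq.one_lt.ne' hord.symm
  unfold Cfsg.generalizedFittingSubgroup
  rw [hE, bot_sup_eq]
  exact fitting_eq_pCore_of_pPrimeCore_eq_bot p hO

/-- If `F*(G) = O_p(G)` then `F*(C_G(P)) = O_p(C_G(P))` for every `p`-subgroup `P`. -/
theorem genFitting_centralizer_eq_pCore (h : Cfsg.generalizedFittingSubgroup G = pCore p G)
    (P : Subgroup G) (hP : IsPGroup p P) :
    Cfsg.generalizedFittingSubgroup ↥(Subgroup.centralizer (P : Set G)) =
      pCore p ↥(Subgroup.centralizer (P : Set G)) :=
  genFitting_eq_pCore_of_local p h P hP _ le_rfl (fun a _ => a.2)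

end Local

section Constrained

/-- If `F*(K) = O_p(K)` then `E(K) = 1` and `O_{p'}(K) = 1`. -/
theorem layer_eq_bot_and_pPrimeCore_eq_bot_of_genFitting_eq_pCore {K : Type*} [Group K] [Finite K]
    (p : ℕ) [hp : Fact p.Prime] (h : Cfsg.generalizedFittingSubgroup K = pCore p K) :
    Cfsg.layer K = ⊥ ∧ pPrimeCore p K = ⊥ := by
  constructor
  · rw [layer_eq_bot_iff']
    intro L hL
    apply isQuasisimple_not_isSolvable hL.2
    have hle : L ≤ pCore p K := by
      rw [← h]
      exact (component_le_layer L hL).trans le_sup_left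
    have hpg : IsPGroup p ↥L := (pCore_isPGroup' p).to_le hle
    have : Group.IsNilpotent ↥L := hpg.isNilpotent
    infer_instance
  · have hn1 : (pPrimeCore p K).Normal := pPrimeCore_normal' p
    have hn2 : (pCore p K).Normal := pCore_normal' p
    have hdisj : pPrimeCore p K ⊓ pCore p K = ⊥ := by
      apply disjoint_iff.mp
      apply Subgroup.disjoint_of_coprime_natCard
      obtain ⟨k, hk⟩ := IsPGroup.iff_card.mp (pCore_isPGroup' (G := K) p)
      rw [hk]
      exact Nat.Coprime.pow_right k (pPrimeCore_coprime' p)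
    have hcomm : ⁅pPrimeCore p K, pCore p K⁆ = ⊥ := by
      rw [eq_bot_iff, ← hdisj]
      exact Subgroup.commutator_le_inf _ _
    have h1 : pPrimeCore p K ≤ Subgroup.centralizer ((pCore p K : Subgroup K) : Set K) :=
      Subgroup.commutator_eq_bot_iff_le_centralizer.mp hcomm
    have h2 : pPrimeCore p K ≤ pCore p K := by
      have := centralizer_genFitting_le (G := K)
      rw [h] at this
      exact h1.trans this
    rw [eq_bot_iff, ← hdisj]
    exact le_inf le_rfl h2

variable {G : Type*} [Group G] [Finite G] (p : ℕ) [hp : Fact p.Prime]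

/-- If `G` is `p`-constrained then `F*(G / O_{p'}(G)) = O_p(G / O_{p'}(G))`. -/
theorem genFitting_quotient_eq_pCore_of_pLayer_eq_bot (hL : Cfsg.pLayer p G = ⊥) :
    Cfsg.generalizedFittingSubgroup (G ⧸ pPrimeCore p G) = pCore p (G ⧸ pPrimeCore p G) := by
  have h1 : Cfsg.layer (G ⧸ pPrimeCore p G) = ⊥ := by
    rw [← isPConstrained_iff_layer_quotient_eq_bot, isPConstrained_iff_pLayer_eq_bot]; exact hL
  unfold Cfsg.generalizedFittingSubgroup
  rw [h1, bot_sup_eq]
  exact fitting_quotient_pPrimeCore p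

/-- Inheritance of `p`-constraint: if the image `M'` of `M` in `G / O_{p'}(G)` satisfies
`F*(M') = O_p(M')`, then `O_{p'}(M) ≤ O_{p'}(G)` and `L_{p'}(M) = 1`. -/
theorem pLayer_eq_bot_of_image (M : Subgroup G) (M' : Subgroup (G ⧸ pPrimeCore p G))
    (hM' : M.map (QuotientGroup.mk' (pPrimeCore p G)) = M')
    (h : Cfsg.generalizedFittingSubgroup ↥M' = pCore p ↥M') :
    Cfsg.pLayer p ↥M = ⊥ ∧ (pPrimeCore p ↥M).map M.subtype ≤ pPrimeCore p G := by
  subst hM'
  set π := QuotientGroup.mk' (pPrimeCore p G) with hπ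
  obtain ⟨hE, hOb⟩ := layer_eq_bot_and_pPrimeCore_eq_bot_of_genFitting_eq_pCore p h
  set ψ := π.subgroupMap M with hψ
  have hψs : Function.Surjective ψ := MonoidHom.subgroupMap_surjective π M
  have hker : ψ.ker = (pPrimeCore p G).subgroupOf M := by
    ext x
    rw [MonoidHom.mem_ker, Subgroup.mem_subgroupOf]
    constructor
    · intro hx
      have h1 : π (x : G) = 1 := congrArg Subtype.val hx
      exact (QuotientGroup.eq_one_iff (x : G)).mp h1
    · intro hx
      apply Subtype.ext
      show π (x : G) = 1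
      exact (QuotientGroup.eq_one_iff (x : G)).mpr hx
  have hOn : (pPrimeCore p G).Normal := pPrimeCore_normal' p
  have hMn : (pPrimeCore p ↥M).Normal := pPrimeCore_normal' p
  -- O_{p'}(M) ≤ ker ψ
  have h1 : pPrimeCore p ↥M ≤ ψ.ker := by
    have hn : ((pPrimeCore p ↥M).map ψ).Normal := Subgroup.Normal.map hMn ψ hψs
    have hc : (Nat.card ((pPrimeCore p ↥M).map ψ)).Coprime p :=
      Nat.Coprime.coprime_dvd_left (Subgroup.card_map_dvd _ ψ) (pPrimeCore_coprime' p)
    have := le_pPrimeCore' hn hc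
    rw [hOb, le_bot_iff] at this
    exact (Subgroup.map_eq_bot_iff _).mp this
  have h2 : ψ.ker ≤ pPrimeCore p ↥M := by
    rw [hker]
    apply le_pPrimeCore' inferInstance
    have : Nat.card ((pPrimeCore p G).subgroupOf M) ∣ Nat.card (pPrimeCore p G) :=
      card_subgroupOf_dvd _ _
    exact Nat.Coprime.coprime_dvd_left this (pPrimeCore_coprime' p)
  have hkereq : ψ.ker = pPrimeCore p ↥M := le_antisymm h2 h1
  refine ⟨?_, ?_⟩
  · rw [← isPConstrained_iff_pLayer_eq_bot, isPConstrained_iff_layer_quotient_eq_bot]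
    have e : ↥M ⧸ pPrimeCore p ↥M ≃* ↥(M.map π) :=
      (QuotientGroup.quotientMulEquivOfEq hkereq.symm).trans
        (QuotientGroup.quotientKerEquivOfSurjective ψ hψs)
    exact (layer_eq_bot_iff_of_mulEquiv e).mpr hE
  · rintro _ ⟨x, hx, rfl⟩
    have := h1 hx
    rw [hker, Subgroup.mem_subgroupOf] at this
    exact this

/-- If `L_{p'}(G) = 1` and `P` is a `p`-subgroup then `L_{p'}(N_G(P)) = 1` and
`O_{p'}(N_G(P)) ≤ O_{p'}(G)`. -/
theorem pLayer_normalizer_eq_bot (hL : Cfsg.pLayer p G = ⊥) (P : Subgroup G) (hP : IsPGroup p P) :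
    Cfsg.pLayer p ↥(Subgroup.normalizer (P : Set G)) = ⊥ ∧
      (pPrimeCore p ↥(Subgroup.normalizer (P : Set G))).map
        (Subgroup.normalizer (P : Set G)).subtype ≤ pPrimeCore p G := by
  have hOn : (pPrimeCore p G).Normal := pPrimeCore_normal' p
  have hO : ¬ p ∣ Nat.card (pPrimeCore p G) :=
    (Nat.Prime.coprime_iff_not_dvd hp.out).mp (pPrimeCore_coprime' p).symm
  exact pLayer_eq_bot_of_image p _ _ (normalizer_map_mk'_of_coprime p _ hO P hP).symm
    (genFitting_normalizer_eq_pCore p (genFitting_quotient_eq_pCore_of_pLayer_eq_bot p hL) _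
      (hP.map _))

/-- If `L_{p'}(G) = 1` and `P` is a `p`-subgroup then `L_{p'}(C_G(P)) = 1` and
`O_{p'}(C_G(P)) ≤ O_{p'}(G)`. -/
theorem pLayer_centralizer_eq_bot (hL : Cfsg.pLayer p G = ⊥) (P : Subgroup G) (hP : IsPGroup p P) :
    Cfsg.pLayer p ↥(Subgroup.centralizer (P : Set G)) = ⊥ ∧
      (pPrimeCore p ↥(Subgroup.centralizer (P : Set G))).map
        (Subgroup.centralizer (P : Set G)).subtype ≤ pPrimeCore p G := by
  have hOn : (pPrimeCore p G).Normal := pPrimeCore_normal' p
  have hO : ¬ p ∣ Nat.card (pPrimeCore p G) :=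
    (Nat.Prime.coprime_iff_not_dvd hp.out).mp (pPrimeCore_coprime' p).symm
  exact pLayer_eq_bot_of_image p _ _ (centralizer_map_mk'_of_coprime p _ hO P hP).symm
    (genFitting_centralizer_eq_pCore p (genFitting_quotient_eq_pCore_of_pLayer_eq_bot p hL) _
      (hP.map _))

theorem isPConstrained_normalizer_and_centralizer (hG : Cfsg.IsPConstrained p G) (P : Subgroup G)
    (hP : IsPGroup p P) :
    Cfsg.IsPConstrained p ↥(Subgroup.normalizer (P : Set G)) ∧
      Cfsg.IsPConstrained p ↥(Subgroup.centralizer (P : Set G)) := by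
  rw [isPConstrained_iff_pLayer_eq_bot] at hG
  rw [isPConstrained_iff_pLayer_eq_bot, isPConstrained_iff_pLayer_eq_bot]
  exact ⟨(pLayer_normalizer_eq_bot p hG P hP).1, (pLayer_centralizer_eq_bot p hG P hP).1⟩

end Constrained

end Cfsg.Agent.Lib.Helper20
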