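import Cfsg.Agent.Lib.Helper20.Transport
import Cfsg.Agent.Lib.Helper20.PLocal2
import Cfsg.Agent.Lib.Helper20.FstarSub

set_option autoImplicit false

namespace Cfsg.Agent.Lib.Helper20

open Cfsg

/-- `O_{p'}(K)` centralizes `O_p(K)`. -/
theorem pPrimeCore_le_centralizer_pCore {K : Type*} [Group K] [Finite K] (p : ℕ)
    [hp : Fact p.Prime] :
    pPrimeCore p K ≤ Subgroup.centralizer ((pCore p K : Subgroup K) : Set K) := by
  have hn1 : (pPrimeCore p K).Normal := pPrimeCore_normal' p
  have hn2 : (pCore p K).Normal := pCore_normal' p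
  have hdisj : pPrimeCore p K ⊓ pCore p K = ⊥ := by
    apply disjoint_iff.mp
    apply Subgroup.disjoint_of_coprime_natCard
    obtain ⟨k, hk⟩ := IsPGroup.iff_card.mp (pCore_isPGroup' (G := K) p)
    rw [hk]
    exact Nat.Coprime.pow_right k (pPrimeCore_coprime' p)
  have hcomm : ⁅pPrimeCore p K, pCore p K⁆ = ⊥ := by
    rw [eq_bot_iff, ← hdisj]
    exact Subgroup.commutator_le_inf _ _
  exact Subgroup.commutator_eq_bot_iff_le_centralizer.mp hcomm

/-- If `S ⊆ O_p(K)` and `F*(C_K(S)) = O_p(C_K(S))` then `F*(K) = O_p(K)`. -/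
theorem genFitting_eq_pCore_of_centralizer {K : Type*} [Group K] [Finite K] (p : ℕ)
    [hp : Fact p.Prime] (S : Set K) (hS : S ⊆ (pCore p K : Set K))
    (h : generalizedFittingSubgroup ↥(Subgroup.centralizer S) =
      pCore p ↥(Subgroup.centralizer S)) :
    generalizedFittingSubgroup K = pCore p K := by
  obtain ⟨hE, hO⟩ := layer_eq_bot_and_pPrimeCore_eq_bot_of_genFitting_eq_pCore p h
  have hCC : Subgroup.centralizer ((pCore p K : Subgroup K) : Set K) ≤ Subgroup.centralizer S :=
    Subgroup.centralizer_le hS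
  have hEK : layer K = ⊥ := by
    rw [eq_bot_iff]
    apply sSup_le
    intro L hL
    have hLC : L ≤ Subgroup.centralizer S :=
      (((le_sSup hL).trans layer_le_centralizer_fitting).trans
        (Subgroup.centralizer_le (pCore_le_fitting' p))).trans hCC
    have := component_le_map_layer_of_le hL hLC
    rwa [hE, Subgroup.map_bot] at this
  have hOK : pPrimeCore p K = ⊥ := by
    have hn1 : (pPrimeCore p K).Normal := pPrimeCore_normal' p
    have h1 : pPrimeCore p K ≤ Subgroup.centralizer S :=
      (pPrimeCore_le_centralizer_pCore p).trans hCC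
    have hn : ((pPrimeCore p K).subgroupOf (Subgroup.centralizer S)).Normal := inferInstance
    have hc : (Nat.card ((pPrimeCore p K).subgroupOf (Subgroup.centralizer S))).Coprime p := by
      rw [Nat.card_congr (Subgroup.subgroupOfEquivOfLe h1).toEquiv]
      exact pPrimeCore_coprime' p
    have h2 := le_pPrimeCore' hn hc
    rw [hO] at h2
    rw [eq_bot_iff]
    intro x hx
    have : (⟨x, h1 hx⟩ : ↥(Subgroup.centralizer S)) ∈
        (pPrimeCore p K).subgroupOf (Subgroup.centralizer S) := hx
    have h3 := h2 this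
    rw [Subgroup.mem_bot] at h3 ⊢
    exact congrArg Subtype.val h3
  unfold generalizedFittingSubgroup
  rw [hEK, bot_sup_eq]
  exact fitting_eq_pCore_of_pPrimeCore_eq_bot p hOK

end Cfsg.Agent.Lib.Helper20

namespace Cfsg.Agent.Lib.Helper20

open Cfsg

/-- A nontrivial `p`-subgroup contains a central element of order `p`. -/
theorem exists_central_orderOf_eq_prime_of_isPGroup {G : Type*} [Group G] [Finite G] (p : ℕ)
    [hp : Fact p.Prime] (T : Subgroup G) (hT : IsPGroup p ↥T) (hT1 : T ≠ ⊥) :
    ∃ t ∈ T, orderOf t = p ∧ ∀ x ∈ T, x * t = t * x := by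
  have hnt : Nontrivial ↥T := (Subgroup.nontrivial_iff_ne_bot T).mpr hT1
  have hZ : Nontrivial ↥(Subgroup.center ↥T) := hT.center_nontrivial
  have hZp : IsPGroup p ↥(Subgroup.center ↥T) := hT.to_subgroup _
  obtain ⟨k, hk⟩ := IsPGroup.iff_card.mp hZp
  have hk0 : k ≠ 0 := by
    rintro rfl
    have h1 : 1 < Nat.card ↥(Subgroup.center ↥T) := Finite.one_lt_card
    rw [hk] at h1
    simp at h1
  have hdvd : p ∣ Nat.card ↥(Subgroup.center ↥T) := by
    rw [hk]; exact dvd_pow_self p hk0
  obtain ⟨z, hz⟩ := exists_prime_orderOf_dvd_card' p hdvd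
  refine ⟨((z : ↥T) : G), (z : ↥T).2, ?_, ?_⟩
  · rw [Subgroup.orderOf_coe, Subgroup.orderOf_coe]; exact hz
  · intro x hx
    have := Subgroup.mem_center_iff.mp z.2 ⟨x, hx⟩
    exact congrArg Subtype.val this

/-- S1292. -/
theorem genFitting_normalizer_eq_pCore_of_involution_centralizers {G : Type*} [Group G] [Finite G]
    (h : ∀ t : G, orderOf t = 2 →
      generalizedFittingSubgroup ↥(Subgroup.centralizer ({t} : Set G)) =
        pCore 2 ↥(Subgroup.centralizer ({t} : Set G)))
    (T : Subgroup G) (hT : IsPGroup 2 ↥T) (hT1 : T ≠ ⊥) :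
    generalizedFittingSubgroup ↥(Subgroup.normalizer (T : Set G)) =
      pCore 2 ↥(Subgroup.normalizer (T : Set G)) := by
  obtain ⟨t, htT, ht2, htc⟩ := exists_central_orderOf_eq_prime_of_isPGroup 2 T hT hT1
  have hTH : T ≤ Subgroup.centralizer ({t} : Set G) := by
    intro x hx
    rw [Subgroup.mem_centralizer_iff]
    intro y hy
    rw [Set.mem_singleton_iff] at hy
    subst hy
    exact (htc x hx).symm
  have h1 := h t ht2
  have h2 := genFitting_normalizer_eq_pCore 2 h1 (T.subgroupOf (Subgroup.centralizer ({t} : Set G)))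
    hT.comap_subtype
  rw [← Subgroup.subgroupOf_normalizer_eq hTH] at h2
  have h3 := genFitting_eq_pCore_of_mulEquiv 2
    (subgroupOfSwapEquiv (Subgroup.normalizer (T : Set G)) (Subgroup.centralizer ({t} : Set G))) h2
  have htN : t ∈ Subgroup.normalizer (T : Set G) := Subgroup.le_normalizer htT
  have h4 : (Subgroup.centralizer ({t} : Set G)).subgroupOf (Subgroup.normalizer (T : Set G)) =
      Subgroup.centralizer ({(⟨t, htN⟩ : ↥(Subgroup.normalizer (T : Set G)))} : Set _) := by
    ext x
    rw [Subgroup.mem_subgroupOf, Subgroup.mem_centralizer_iff, Subgroup.mem_centralizer_iff]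
    constructor
    · intro hx y hy
      rw [Set.mem_singleton_iff] at hy
      subst hy
      exact Subtype.ext (hx t rfl)
    · intro hx y hy
      rw [Set.mem_singleton_iff] at hy
      subst hy
      exact congrArg Subtype.val (hx ⟨y, htN⟩ rfl)
  rw [h4] at h3
  apply genFitting_eq_pCore_of_centralizer 2 _ _ h3
  intro y hy
  rw [Set.mem_singleton_iff] at hy
  subst hy
  have hn : (T.subgroupOf (Subgroup.normalizer (T : Set G))).Normal :=
    Subgroup.normal_in_normalizer
  exact le_pCore' hn hT.comap_subtype (show (⟨t, htN⟩ : ↥(Subgroup.normalizer (T : Set G))) ∈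
    T.subgroupOf (Subgroup.normalizer (T : Set G)) from htT)

end Cfsg.Agent.Lib.Helper20

namespace Cfsg.Agent.Lib.Helper20

open Cfsg

theorem layer_eq_bot_of_isSolvable {H : Type*} [Group H] (hs : Group.IsSolvable H) :
    layer H = ⊥ := by
  rw [layer_eq_bot_iff']
  intro K hK
  apply isQuasisimple_not_isSolvable hK.2
  infer_instance

theorem genFitting_eq_pCore_of_isSolvable {H : Type*} [Group H] [Finite H] (p : ℕ)
    [hp : Fact p.Prime] (hs : Group.IsSolvable H) (hO : pPrimeCore p H = ⊥) :
    generalizedFittingSubgroup H = pCore p H := by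
  unfold generalizedFittingSubgroup
  rw [layer_eq_bot_of_isSolvable hs, bot_sup_eq]
  exact fitting_eq_pCore_of_pPrimeCore_eq_bot p hO

/-- S0505. -/
theorem isCharacteristicTwoType_of_solvable_centralizers {G : Type*} [Group G] [Finite G]
    (h2 : Even (Nat.card G))
    (hs : ∀ t : G, orderOf t = 2 → Group.IsSolvable (Subgroup.centralizer ({t} : Set G)))
    (hc : ∀ t : G, orderOf t = 2 → oddCore (Subgroup.centralizer ({t} : Set G)) = ⊥) :
    IsCharacteristicTwoType G := by
  refine ⟨h2, ?_⟩
  intro T hT hT1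
  have h := genFitting_normalizer_eq_pCore_of_involution_centralizers
    (fun t ht => genFitting_eq_pCore_of_isSolvable 2 (hs t ht) (hc t ht)) T hT hT1
  unfold IsOfCharacteristicTwo
  rw [← h]
  exact centralizer_genFitting_le

end Cfsg.Agent.Lib.Helper20

namespace Cfsg.Agent.Lib.Helper20

open Cfsg

/-- If `O_{p'}(H) = 1` and `H / O_{p'}(H)` has no component then `F*(H) = O_p(H)`. -/
theorem genFitting_eq_pCore_of_no_component_quotient {H : Type*} [Group H] [Finite H] (p : ℕ)
    [hp : Fact p.Prime] (hO : pPrimeCore p H = ⊥)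
    (h0 : ∀ K : Subgroup (H ⧸ pPrimeCore p H), ¬ IsComponent K) :
    generalizedFittingSubgroup H = pCore p H := by
  have hE : layer H = ⊥ := by
    rw [layer_eq_bot_iff']
    intro K hK
    rcases isComponent_map_or_eq_bot (QuotientGroup.mk' (pPrimeCore p H))
      (QuotientGroup.mk'_surjective _) K hK with h | h
    · rw [Subgroup.map_eq_bot_iff, QuotientGroup.ker_mk', hO, le_bot_iff] at h
      have hnt := isQuasisimple_nontrivial hK.2
      rw [Subgroup.nontrivial_iff_ne_bot] at hnt
      exact hnt h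
    · exact h0 _ h
  unfold generalizedFittingSubgroup
  rw [hE, bot_sup_eq]
  exact fitting_eq_pCore_of_pPrimeCore_eq_bot p hO

end Cfsg.Agent.Lib.Helper20
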