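import Mathlib.GroupTheory.PGroup
import Mathlib.GroupTheory.Perm.Basic
import Mathlib.Tactic.Group

/-!
A fixed point lemma for coprime action (helper20): if a `p`-element `a` normalizes a finite
`p'`-subgroup `K` and stabilizes the coset `yK` under conjugation, then it centralizes some element
of `yK`.
-/

set_option autoImplicit false

namespace Cfsg.Agent.Lib.Helper20

variable {G : Type*} [Group G]

/-- The permutation `k ↦ y⁻¹ (a (y k) a⁻¹)` of `K`. -/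
noncomputable def cosetConjPerm (a y : G) (K : Subgroup G)
    (haK : a ∈ Subgroup.normalizer (K : Set G)) (hy : y⁻¹ * (a * y * a⁻¹) ∈ K) :
    Equiv.Perm ↥K where
  toFun k := ⟨y⁻¹ * (a * (y * k) * a⁻¹), by
    have h1 : a * (k : G) * a⁻¹ ∈ K := (Subgroup.mem_normalizer_iff.mp haK k).mp k.2
    have : y⁻¹ * (a * (y * k) * a⁻¹) = (y⁻¹ * (a * y * a⁻¹)) * (a * (k : G) * a⁻¹) := by group
    rw [this]; exact mul_mem hy h1⟩
  invFun k := ⟨y⁻¹ * (a⁻¹ * (y * k) * a), by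
    have haK' : a⁻¹ ∈ Subgroup.normalizer (K : Set G) := inv_mem haK
    have h1 : a⁻¹ * (k : G) * a⁻¹⁻¹ ∈ K := (Subgroup.mem_normalizer_iff.mp haK' k).mp k.2
    have h2 : a⁻¹ * (y⁻¹ * (a * y * a⁻¹))⁻¹ * a⁻¹⁻¹ ∈ K :=
      (Subgroup.mem_normalizer_iff.mp haK' _).mp (inv_mem hy)
    have : y⁻¹ * (a⁻¹ * (y * k) * a) =
        (a⁻¹ * (y⁻¹ * (a * y * a⁻¹))⁻¹ * a⁻¹⁻¹) * (a⁻¹ * (k : G) * a⁻¹⁻¹) := by group
    rw [this]; exact mul_mem h2 h1⟩
  left_inv k := by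
    apply Subtype.ext
    show y⁻¹ * (a⁻¹ * (y * (y⁻¹ * (a * (y * k) * a⁻¹))) * a) = k
    group
  right_inv k := by
    apply Subtype.ext
    show y⁻¹ * (a * (y * (y⁻¹ * (a⁻¹ * (y * k) * a))) * a⁻¹) = k
    group

theorem cosetConjPerm_apply (a y : G) (K : Subgroup G)
    (haK : a ∈ Subgroup.normalizer (K : Set G)) (hy : y⁻¹ * (a * y * a⁻¹) ∈ K) (k : ↥K) :
    ((cosetConjPerm a y K haK hy k : ↥K) : G) = y⁻¹ * (a * (y * k) * a⁻¹) := rfl

theorem cosetConjPerm_pow_apply (a y : G) (K : Subgroup G)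
    (haK : a ∈ Subgroup.normalizer (K : Set G)) (hy : y⁻¹ * (a * y * a⁻¹) ∈ K) (m : ℕ) (k : ↥K) :
    (((cosetConjPerm a y K haK hy ^ m) k : ↥K) : G) = y⁻¹ * (a ^ m * (y * k) * (a ^ m)⁻¹) := by
  induction m with
  | zero => simp
  | succ m ih =>
    rw [pow_succ', Equiv.Perm.mul_apply, cosetConjPerm_apply, ih, pow_succ']
    group

/-- **Coset fixed point lemma.** -/
theorem exists_fixed_in_coset (p : ℕ) [hp : Fact p.Prime] (a y : G) (n : ℕ)
    (ha : a ^ (p ^ n) = 1) (K : Subgroup G) [Finite K] (hK : ¬ p ∣ Nat.card K)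
    (haK : a ∈ Subgroup.normalizer (K : Set G)) (hy : y⁻¹ * (a * y * a⁻¹) ∈ K) :
    ∃ k ∈ K, a * (y * k) * a⁻¹ = y * k := by
  set φ := cosetConjPerm a y K haK hy with hφ
  have hpow : φ ^ (p ^ n) = 1 := by
    ext k
    rw [cosetConjPerm_pow_apply, ha]
    simp
  have hZ : IsPGroup p ↥(Subgroup.zpowers φ) := by
    rintro ⟨g, hg⟩
    obtain ⟨j, rfl⟩ := Subgroup.mem_zpowers_iff.mp hg
    refine ⟨n, ?_⟩
    apply Subtype.ext
    show (φ ^ j) ^ (p ^ n) = 1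
    rw [← zpow_natCast, ← zpow_mul, mul_comm, zpow_mul, zpow_natCast, hpow, one_zpow]
  obtain ⟨k, hk⟩ := hZ.nonempty_fixed_point_of_prime_not_dvd_card ↥K hK
  refine ⟨k, k.2, ?_⟩
  have h1 : (⟨φ, Subgroup.mem_zpowers φ⟩ : ↥(Subgroup.zpowers φ)) • k = k := hk _
  have h2 : φ k = k := h1
  have h3 : y⁻¹ * (a * (y * k) * a⁻¹) = k := by
    rw [← cosetConjPerm_apply a y K haK hy k, ← hφ, h2]
  calc a * (y * k) * a⁻¹ = y * (y⁻¹ * (a * (y * k) * a⁻¹)) := by group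
    _ = y * k := by rw [h3]

end Cfsg.Agent.Lib.Helper20
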