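import Mathlib.GroupTheory.Solvable
import Mathlib.GroupTheory.Index
import Cfsg.Prelude.Def_Balance
import Cfsg.Agent.Lib.Helper20.CoprimeFix

/-!
Elementary facts on signalizer functors (helper20): the family of a solvable signalizer functor is
closed under products `XY` with `Y ≤ N(X)`, and balance passes to quotients by normal `p'`-subgroups.
-/

set_option autoImplicit false

namespace Cfsg.Agent.Lib.Helper20

variable {G : Type*} [Group G]

section SupNormalizer

variable (X Y : Subgroup G) (hn : Y ≤ Subgroup.normalizer (X : Set G))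

include hn in
theorem sup_le_normalizer_left : X ⊔ Y ≤ Subgroup.normalizer (X : Set G) :=
  sup_le Subgroup.le_normalizer hn

include hn in
theorem normal_subgroupOf_sup : (X.subgroupOf (X ⊔ Y)).Normal :=
  (Subgroup.normal_subgroupOf_iff_le_normalizer le_sup_left).mpr (sup_le_normalizer_left X Y hn)

include hn in
/-- `Y → XY / X` is surjective. -/
theorem surjective_to_sup_quotient :
    haveI := normal_subgroupOf_sup X Y hn
    Function.Surjective ((QuotientGroup.mk' (X.subgroupOf (X ⊔ Y))).comp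
      (Subgroup.inclusion (le_sup_right : Y ≤ X ⊔ Y))) := by
  haveI := normal_subgroupOf_sup X Y hn
  intro q
  obtain ⟨s, rfl⟩ := QuotientGroup.mk'_surjective _ q
  have hs : (s : G) ∈ ((Y ⊔ X : Subgroup G) : Set G) := by
    rw [sup_comm]; exact s.2
  rw [Subgroup.coe_mul_of_left_le_normalizer_right Y X hn] at hs
  obtain ⟨y, hy, x, hx, hyx⟩ := Set.mem_mul.mp hs
  refine ⟨⟨y, hy⟩, ?_⟩
  rw [MonoidHom.comp_apply, QuotientGroup.mk'_apply, QuotientGroup.mk'_apply, QuotientGroup.eq]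
  rw [Subgroup.mem_subgroupOf]
  have : (((Subgroup.inclusion (le_sup_right : Y ≤ X ⊔ Y)) ⟨y, hy⟩)⁻¹ * s : ↥(X ⊔ Y)) = 
      (⟨x, le_sup_left (a := X) (b := Y) hx⟩ : ↥(X ⊔ Y)) := by
    apply Subtype.ext
    show y⁻¹ * (s : G) = x
    rw [← hyx]; group
  rw [this]; exact hx

include hn in
theorem isSolvable_sup_of_le_normalizer (hX : Group.IsSolvable ↥X) (hY : Group.IsSolvable ↥Y) :
    Group.IsSolvable ↥(X ⊔ Y) := by
  haveI := normal_subgroupOf_sup X Y hn
  haveI : Group.IsSolvable (↥(X ⊔ Y) ⧸ X.subgroupOf (X ⊔ Y)) :=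
    Group.isSolvable_of_surjective (surjective_to_sup_quotient X Y hn)
  apply Group.isSolvable_of_ker_le_range (Subgroup.inclusion (le_sup_left : X ≤ X ⊔ Y))
    (QuotientGroup.mk' (X.subgroupOf (X ⊔ Y)))
  rw [QuotientGroup.ker_mk']
  intro s hs
  exact ⟨⟨s, hs⟩, rfl⟩

include hn in
theorem card_sup_dvd_of_le_normalizer [Finite G] :
    Nat.card ↥(X ⊔ Y) ∣ Nat.card X * Nat.card Y := by
  haveI := normal_subgroupOf_sup X Y hn
  have h1 := Subgroup.card_mul_index (X.subgroupOf (X ⊔ Y))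
  have h2 : Nat.card (X.subgroupOf (X ⊔ Y)) = Nat.card X :=
    Nat.card_congr (Subgroup.subgroupOfEquivOfLe le_sup_left).toEquiv
  have h3 : (X.subgroupOf (X ⊔ Y)).index ∣ Nat.card Y := by
    rw [Subgroup.index_eq_card]
    exact Subgroup.card_dvd_of_surjective _ (surjective_to_sup_quotient X Y hn)
  rw [← h1, h2]
  exact Nat.mul_dvd_mul_left _ h3

end SupNormalizer

section Functor

variable [Finite G] (p : ℕ) [hp : Fact p.Prime] (A : Subgroup G)

theorem mem_centralizer_singleton_of_conj_eq {a x : G} (h : a * x * a⁻¹ = x) :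
    x ∈ Subgroup.centralizer ({a} : Set G) := by
  rw [Subgroup.mem_centralizer_iff]
  intro b hb
  rw [Set.mem_singleton_iff] at hb
  subst hb
  calc b * x = (b * x * b⁻¹) * b := by group
    _ = x * b := by rw [h]

theorem conj_eq_of_mem_centralizer_singleton {a x : G}
    (h : x ∈ Subgroup.centralizer ({a} : Set G)) : a * x * a⁻¹ = x := by
  have := (Subgroup.mem_centralizer_iff.mp h) a (Set.mem_singleton a)
  rw [this]; group

/-- If `U` is invariant under conjugation by all elements of `A`, each `b ∈ A` normalizes `U`. -/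
theorem mem_normalizer_of_invariant {A U : Subgroup G}
    (hinv : ∀ b ∈ A, ∀ u ∈ U, b * u * b⁻¹ ∈ U) {b : G} (hb : b ∈ A) :
    b ∈ Subgroup.normalizer (U : Set G) := by
  rw [Subgroup.mem_normalizer_iff]
  intro h
  constructor
  · exact hinv b hb h
  · intro hh
    have := hinv b⁻¹ (inv_mem hb) _ hh
    have e : b⁻¹ * (b * h * b⁻¹) * b⁻¹⁻¹ = h := by group
    rwa [e] at this

/-- Balance of a signalizer functor passes to the quotient by a normal `p'`-subgroup. -/
theorem signalizer_quotient_balance (hA : Cfsg.IsElementaryAbelian p A) (θ : G → Subgroup G)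
    (hθ : Cfsg.IsSignalizerFunctor p A θ) (N : Subgroup G) [N.Normal]
    (hN : ¬ p ∣ Nat.card ↥N) (a b : G) (ha : a ∈ A) (ha1 : a ≠ 1) (hb : b ∈ A) (hb1 : b ≠ 1) :
    (θ a).map (QuotientGroup.mk' N) ⊓ Subgroup.centralizer {QuotientGroup.mk' N b} ≤
      (θ b).map (QuotientGroup.mk' N) := by
  obtain ⟨h1, h2, h3, h4⟩ := hθ
  intro xb hxb
  obtain ⟨hxa, hxc⟩ := Subgroup.mem_inf.mp hxb
  obtain ⟨x, hx, rfl⟩ := Subgroup.mem_map.mp hxa
  have hconj := conj_eq_of_mem_centralizer_singleton hxc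
  have hinv : ∀ c ∈ A, ∀ u ∈ N ⊓ θ a, c * u * c⁻¹ ∈ N ⊓ θ a := by
    intro c hc u hu
    rw [Subgroup.mem_inf] at hu ⊢
    exact ⟨Subgroup.Normal.conj_mem inferInstance u hu.1 c, h3 a ha ha1 c hc u hu.2⟩
  have hy : x⁻¹ * (b * x * b⁻¹) ∈ N ⊓ θ a := by
    refine Subgroup.mem_inf.mpr ⟨?_, mul_mem (inv_mem hx) (h3 a ha ha1 b hb x hx)⟩
    rw [← QuotientGroup.ker_mk' N, MonoidHom.mem_ker]
    simp only [map_mul, map_inv]
    rw [hconj]; group
  have hcard : ¬ p ∣ Nat.card ↥(N ⊓ θ a : Subgroup G) := fun h =>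
    hN (h.trans (Subgroup.card_dvd_of_le inf_le_left))
  obtain ⟨k, hk, hfix⟩ := exists_fixed_in_coset p b x 1 (by rw [pow_one]; exact hA.2 b hb)
    (N ⊓ θ a) hcard (mem_normalizer_of_invariant hinv hb) hy
  rw [Subgroup.mem_inf] at hk
  have hmem : x * k ∈ θ b :=
    h4 a ha ha1 b hb hb1
      (Subgroup.mem_inf.mpr ⟨mul_mem hx hk.2, mem_centralizer_singleton_of_conj_eq hfix⟩)
  refine ⟨x * k, hmem, ?_⟩
  have : QuotientGroup.mk' N k = 1 := by
    rw [← MonoidHom.mem_ker, QuotientGroup.ker_mk']; exact hk.1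
  rw [map_mul, this, mul_one]

/-- The family of a signalizer functor is closed under `XY` for `Y ≤ N(X)`. -/
theorem signalizerFamily_sup (hA : Cfsg.IsElementaryAbelian p A) (θ : G → Subgroup G)
    (X Y : Subgroup G) (hX : X ∈ Cfsg.signalizerFamily p A θ)
    (hY : Y ∈ Cfsg.signalizerFamily p A θ) (hn : Y ≤ Subgroup.normalizer (X : Set G)) :
    X ⊔ Y ∈ Cfsg.signalizerFamily p A θ := by
  obtain ⟨hXs, hXp, hXi, hXc⟩ := hX
  obtain ⟨hYs, hYp, hYi, hYc⟩ := hY
  refine ⟨isSolvable_sup_of_le_normalizer X Y hn hXs hYs, ?_, ?_, ?_⟩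
  · intro hdvd
    have := hdvd.trans (card_sup_dvd_of_le_normalizer X Y hn)
    rcases (Nat.Prime.dvd_mul hp.out).mp this with h | h
    · exact hXp h
    · exact hYp h
  · intro b hb u hu
    have hbX := mem_normalizer_of_invariant hXi hb
    have hbY := mem_normalizer_of_invariant hYi hb
    have := Subgroup.normalizer_inf_normalizer_le_normalizer_sup X Y
      (Subgroup.mem_inf.mpr ⟨hbX, hbY⟩)
    exact (Subgroup.mem_normalizer_iff.mp this u).mp hu
  · intro a ha ha1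
    intro g hgg
    obtain ⟨hg, hgc⟩ := Subgroup.mem_inf.mp hgg
    have hconj := conj_eq_of_mem_centralizer_singleton hgc
    have hs : g ∈ ((Y ⊔ X : Subgroup G) : Set G) := by
      rw [sup_comm]; exact hg
    rw [Subgroup.coe_mul_of_left_le_normalizer_right Y X hn] at hs
    obtain ⟨y, hy, x, hx, hyx⟩ := Set.mem_mul.mp hs
    have hinv : ∀ c ∈ A, ∀ u ∈ X ⊓ Y, c * u * c⁻¹ ∈ X ⊓ Y := by
      intro c hc u hu
      rw [Subgroup.mem_inf] at hu ⊢
      exact ⟨hXi c hc u hu.1, hYi c hc u hu.2⟩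
    have hyK : y⁻¹ * (a * y * a⁻¹) ∈ X ⊓ Y := by
      refine Subgroup.mem_inf.mpr ⟨?_, mul_mem (inv_mem hy) (hYi a ha y hy)⟩
      have e : y⁻¹ * (a * y * a⁻¹) = x * (a * x * a⁻¹)⁻¹ := by
        have h1 : a * y * a⁻¹ * (a * x * a⁻¹) = y * x := by
          rw [hyx, ← hconj, ← hyx]; group
        calc y⁻¹ * (a * y * a⁻¹) = y⁻¹ * ((a * y * a⁻¹) * (a * x * a⁻¹)) * (a * x * a⁻¹)⁻¹ := by
              group
          _ = y⁻¹ * (y * x) * (a * x * a⁻¹)⁻¹ := by rw [h1]
          _ = x * (a * x * a⁻¹)⁻¹ := by group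
      rw [e]
      exact mul_mem hx (inv_mem (hXi a ha x hx))
    have hcard : ¬ p ∣ Nat.card ↥(X ⊓ Y : Subgroup G) := fun h =>
      hXp (h.trans (Subgroup.card_dvd_of_le inf_le_left))
    obtain ⟨k, hk, hfix⟩ := exists_fixed_in_coset p a y 1 (by rw [pow_one]; exact hA.2 a ha)
      (X ⊓ Y) hcard (mem_normalizer_of_invariant hinv ha) hyK
    rw [Subgroup.mem_inf] at hk
    have hy1 : y * k ∈ θ a :=
      hYc a ha ha1
        (Subgroup.mem_inf.mpr ⟨mul_mem hy hk.2, mem_centralizer_singleton_of_conj_eq hfix⟩)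
    have hx1fix : a * (k⁻¹ * x) * a⁻¹ = k⁻¹ * x := by
      have e : k⁻¹ * x = (y * k)⁻¹ * g := by rw [← hyx]; group
      rw [e]
      calc a * ((y * k)⁻¹ * g) * a⁻¹ = (a * (y * k) * a⁻¹)⁻¹ * (a * g * a⁻¹) := by group
        _ = (y * k)⁻¹ * g := by rw [hfix, hconj]
    have hx1 : k⁻¹ * x ∈ θ a :=
      hXc a ha ha1
        (Subgroup.mem_inf.mpr
          ⟨mul_mem (inv_mem hk.1) hx, mem_centralizer_singleton_of_conj_eq hx1fix⟩)
    have e : g = (y * k) * (k⁻¹ * x) := by rw [← hyx]; group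
    rw [e]
    exact mul_mem hy1 hx1

end Functor

end Cfsg.Agent.Lib.Helper20
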