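import Mathlib.GroupTheory.Nilpotent
import Mathlib.GroupTheory.PGroup
import Mathlib.GroupTheory.Commutator.Basic
import Mathlib.Tactic.Group

/-!
Thompson's `A × B` lemma (helper20), in internal form: all groups are subgroups of one finite
group `H`.
-/

set_option autoImplicit false

namespace Cfsg.Agent.Lib.Helper20

open scoped commutatorElement

variable {H : Type*} [Group H]

/-- Coprime action: if `[Q, A, A] = 1` for a `p`-group `Q` and a `p'`-group `A` then `[Q, A] = 1`. -/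
theorem commutator_eq_bot_of_commutator_commutator_eq_bot [Finite H] (p : ℕ) [hp : Fact p.Prime]
    (Q A : Subgroup H) (hQ : IsPGroup p Q) (hA : (Nat.card A).Coprime p)
    (hAQ : A ≤ Subgroup.normalizer (Q : Set H)) (h : ⁅⁅Q, A⁆, A⁆ = ⊥) : ⁅Q, A⁆ = ⊥ := by
  rw [eq_bot_iff, Subgroup.commutator_le]
  intro q hq a ha
  rw [Subgroup.mem_bot]
  set c := ⁅q, a⁆ with hc
  have hcQA : c ∈ ⁅Q, A⁆ := Subgroup.commutator_mem_commutator hq ha
  have hcQ : c ∈ Q := (Subgroup.le_normalizer_iff_commutator_le_left.mp hAQ) hcQA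
  have hcomm : Commute c a := by
    have : ⁅c, a⁆ ∈ ⁅⁅Q, A⁆, A⁆ := Subgroup.commutator_mem_commutator hcQA ha
    rw [h, Subgroup.mem_bot] at this
    exact commutatorElement_eq_one_iff_commute.mp this
  have hca : c * a = q * a * q⁻¹ := by
    rw [hc, commutatorElement_def]; group
  have hpow : ∀ n : ℕ, c ^ n * a ^ n = q * a ^ n * q⁻¹ := by
    intro n
    rw [← hcomm.mul_pow, hca]
    induction n with
    | zero => simp
    | succ n ih => rw [pow_succ, ih, pow_succ]; group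
  have h1 : c ^ orderOf a = 1 := by
    have := hpow (orderOf a)
    rw [pow_orderOf_eq_one, mul_one, mul_one, mul_inv_cancel] at this
    exact this
  have h2 : orderOf c ∣ Nat.card A :=
    (orderOf_dvd_of_pow_eq_one h1).trans
      (by have := orderOf_dvd_natCard (⟨a, ha⟩ : A); rwa [Subgroup.orderOf_mk] at this)
  obtain ⟨k, hk⟩ := hQ ⟨c, hcQ⟩
  have h3 : orderOf c ∣ p ^ k := by
    apply orderOf_dvd_of_pow_eq_one
    have := congrArg Subtype.val hk
    simpa using this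
  have h4 : orderOf c = 1 :=
    Nat.eq_one_of_dvd_coprimes (Nat.Coprime.pow_right k hA) h2 h3
  exact orderOf_eq_one_iff.mp h4

/-- A `p`-group `B` acting on a nontrivial finite `p`-group `Q` satisfies `[Q, B] ≠ Q`. -/
theorem commutator_ne_of_isPGroup [Finite H] (p : ℕ) [hp : Fact p.Prime]
    (Q B : Subgroup H) (hQ : IsPGroup p Q) (hB : IsPGroup p B)
    (hBQ : B ≤ Subgroup.normalizer (Q : Set H)) (hne : Q ≠ ⊥) : ⁅Q, B⁆ ≠ Q := by
  intro heq
  have hN : IsPGroup p ↥(Q ⊔ B : Subgroup H) := hQ.to_sup_of_normal_left' hB hBQ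
  have hnil : Group.IsNilpotent ↥(Q ⊔ B : Subgroup H) := hN.isNilpotent
  obtain ⟨n, hn⟩ := (Subgroup.isNilpotent_iff_lowerCentralSeries (Q ⊔ B)).mp hnil
  have key : ∀ k : ℕ, Q ≤ (Q ⊔ B).lowerCentralSeries k := by
    intro k
    induction k with
    | zero => exact le_sup_left
    | succ k ih =>
      rw [Subgroup.lowerCentralSeries_succ]
      calc Q = ⁅Q, B⁆ := heq.symm
        _ ≤ ⁅(Q ⊔ B).lowerCentralSeries k, Q ⊔ B⁆ := Subgroup.commutator_mono ih le_sup_right
  have := key n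
  rw [hn, le_bot_iff] at this
  exact hne this

theorem card_commutator_lt_of_isPGroup [Finite H] (p : ℕ) [hp : Fact p.Prime]
    (Q B : Subgroup H) (hQ : IsPGroup p Q) (hB : IsPGroup p B)
    (hBQ : B ≤ Subgroup.normalizer (Q : Set H)) (hne : Q ≠ ⊥) :
    Nat.card ↥⁅Q, B⁆ < Nat.card ↥Q := by
  have hle : ⁅Q, B⁆ ≤ Q := Subgroup.le_normalizer_iff_commutator_le_left.mp hBQ
  have hlt : ⁅Q, B⁆ < Q := lt_of_le_of_ne hle (commutator_ne_of_isPGroup p Q B hQ hB hBQ hne)
  exact Set.ncard_lt_ncard (SetLike.coe_ssubset_coe.mpr hlt) (Set.toFinite _)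

theorem map_conj_eq_of_mem_normalizer {K : Subgroup H} {a : H}
    (ha : a ∈ Subgroup.normalizer (K : Set H)) : K.map (MulAut.conj a).toMonoidHom = K :=
  Subgroup.mem_normalizer_iff_map_conj_eq.mp ha

/-- **Thompson's `A × B` lemma.** -/
theorem thompson_AxB_aux [Finite H] (p : ℕ) [hp : Fact p.Prime] (A B : Subgroup H)
    (hB : IsPGroup p B) (hA : (Nat.card A).Coprime p) (hAB : ⁅A, B⁆ = ⊥) (n : ℕ) :
    ∀ Q : Subgroup H, Nat.card Q = n → IsPGroup p Q → A ≤ Subgroup.normalizer (Q : Set H) →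
      B ≤ Subgroup.normalizer (Q : Set H) →
      Q ⊓ Subgroup.centralizer (B : Set H) ≤ Subgroup.centralizer (A : Set H) → ⁅Q, A⁆ = ⊥ := by
  induction n using Nat.strong_induction_on with
  | _ n ih =>
    intro Q hn hQ hAQ hBQ hC
    by_cases hne : Q = ⊥
    · rw [hne, Subgroup.commutator_bot_left]
    have hQ1le : ⁅Q, B⁆ ≤ Q := Subgroup.le_normalizer_iff_commutator_le_left.mp hBQ
    have hlt : Nat.card ↥⁅Q, B⁆ < n := hn ▸ card_commutator_lt_of_isPGroup p Q B hQ hB hBQ hne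
    have hAcB : A ≤ Subgroup.centralizer (B : Set H) :=
      Subgroup.commutator_eq_bot_iff_le_centralizer.mp hAB
    have hAQ1 : A ≤ Subgroup.normalizer ((⁅Q, B⁆ : Subgroup H) : Set H) := by
      intro a ha
      rw [Subgroup.mem_normalizer_iff_map_conj_eq, Subgroup.map_commutator]
      have h1 : Q.map (MulAut.conj a) = Q := map_conj_eq_of_mem_normalizer (hAQ ha)
      have h2 : B.map (MulAut.conj a) = B :=
        map_conj_eq_of_mem_normalizer (Subgroup.centralizer_le_normalizer _ (hAcB ha))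
      rw [h1, h2]
    have hBQ1 : B ≤ Subgroup.normalizer ((⁅Q, B⁆ : Subgroup H) : Set H) :=
      Subgroup.normalizer_commutator_ge_right Q B
    have hC1 : ⁅Q, B⁆ ⊓ Subgroup.centralizer (B : Set H) ≤ Subgroup.centralizer (A : Set H) :=
      (inf_le_inf_right _ hQ1le).trans hC
    have h1 : ⁅⁅Q, B⁆, A⁆ = ⊥ := ih _ hlt ⁅Q, B⁆ rfl (hQ.to_le hQ1le) hAQ1 hBQ1 hC1
    have h2 : ⁅⁅B, A⁆, Q⁆ = ⊥ := by
      rw [Subgroup.commutator_comm B A, hAB, Subgroup.commutator_bot_left]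
    have h3 : ⁅⁅A, Q⁆, B⁆ = ⊥ := Subgroup.commutator_commutator_eq_bot_of_rotate h1 h2
    have h4 : ⁅A, Q⁆ ≤ Q ⊓ Subgroup.centralizer (B : Set H) :=
      le_inf (Subgroup.le_normalizer_iff_commutator_le_right.mp hAQ)
        (Subgroup.commutator_eq_bot_iff_le_centralizer.mp h3)
    have h5 : ⁅⁅Q, A⁆, A⁆ = ⊥ := by
      rw [Subgroup.commutator_comm Q A]
      exact Subgroup.commutator_eq_bot_iff_le_centralizer.mpr (h4.trans hC)
    exact commutator_eq_bot_of_commutator_commutator_eq_bot p Q A hQ hA hAQ h5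

/-- **Thompson's `A × B` lemma**: `A` a `p'`-group, `B` a `p`-group, `[A, B] = 1`, both normalizing the
`p`-group `Q`; if `A` centralizes `C_Q(B)` then `A` centralizes `Q`. -/
theorem thompson_AxB [Finite H] (p : ℕ) [hp : Fact p.Prime] (Q A B : Subgroup H)
    (hQ : IsPGroup p Q) (hB : IsPGroup p B) (hA : (Nat.card A).Coprime p) (hAB : ⁅A, B⁆ = ⊥)
    (hAQ : A ≤ Subgroup.normalizer (Q : Set H)) (hBQ : B ≤ Subgroup.normalizer (Q : Set H))
    (hC : Q ⊓ Subgroup.centralizer (B : Set H) ≤ Subgroup.centralizer (A : Set H)) :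
    ⁅Q, A⁆ = ⊥ :=
  thompson_AxB_aux p A B hB hA hAB _ Q rfl hQ hAQ hBQ hC

end Cfsg.Agent.Lib.Helper20
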