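import Cfsg.Agent.Lib.Helper20.PComponents

/-!
Images of components in quotients; comparison of `E(X)` with `E(X / O_{p'}(X))` (helper20).
-/

set_option autoImplicit false
open Cfsg
open scoped commutatorElement

namespace Cfsg.Agent.Lib.Helper20

/-- For a perfect group `K` and central `N`, the preimage of `Z(K / N)` is `Z(K)`. -/
theorem ker_to_central_quotient_eq_center {K : Type*} [Group K] (hperf : Group.IsPerfect K)
    (N : Subgroup K) [N.Normal] (hN : N ≤ Subgroup.center K) :
    ((QuotientGroup.mk' (Subgroup.center (K ⧸ N))).comp (QuotientGroup.mk' N)).ker =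
      Subgroup.center K := by
  set ρ : K →* (K ⧸ N) ⧸ Subgroup.center (K ⧸ N) :=
    (QuotientGroup.mk' (Subgroup.center (K ⧸ N))).comp (QuotientGroup.mk' N) with hρdef
  have hmem : ∀ x : K, x ∈ ρ.ker ↔ (QuotientGroup.mk' N x) ∈ Subgroup.center (K ⧸ N) := by
    intro x
    rw [MonoidHom.mem_ker]
    simp only [ρ, MonoidHom.coe_comp, Function.comp_apply, QuotientGroup.mk'_apply,
      QuotientGroup.eq_one_iff]
  apply le_antisymm
  · have hMN : ⁅ρ.ker, (⊤ : Subgroup K)⁆ ≤ N := by
      rw [Subgroup.commutator_le]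
      intro x hx k _
      have hx' := (hmem x).mp hx
      have := (Subgroup.mem_center_iff.mp hx') (QuotientGroup.mk' N k)
      rw [← QuotientGroup.eq_one_iff, ← QuotientGroup.mk'_apply, map_commutatorElement,
        commutatorElement_eq_one_iff_mul_comm]
      exact this.symm
    have h2 : ⁅⁅ρ.ker, (⊤ : Subgroup K)⁆, (⊤ : Subgroup K)⁆ = ⊥ := by
      rw [Subgroup.commutator_top_right_eq_bot_iff_le_center]
      exact hMN.trans hN
    have h1 : ⁅⁅(⊤ : Subgroup K), ρ.ker⁆, (⊤ : Subgroup K)⁆ = ⊥ := by
      rw [Subgroup.commutator_comm ⊤ ρ.ker]; exact h2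
    have h3 := Subgroup.commutator_commutator_eq_bot_of_rotate h1 h2
    have htop : ⁅(⊤ : Subgroup K), (⊤ : Subgroup K)⁆ = ⊤ := by
      rw [← commutator_def]; exact hperf.commutator_eq_top
    rw [htop, Subgroup.commutator_top_left_eq_bot_iff_le_center] at h3
    exact h3
  · intro z hz
    rw [hmem, Subgroup.mem_center_iff]
    intro y
    obtain ⟨k, rfl⟩ := QuotientGroup.mk'_surjective N y
    rw [← map_mul, ← map_mul, (Subgroup.mem_center_iff.mp hz) k]

/-- A central quotient of a quasisimple group is quasisimple. -/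
theorem isQuasisimple_quotient_central {K : Type*} [Group K] (hq : Cfsg.IsQuasisimple K)
    (N : Subgroup K) [N.Normal] (hN : N ≤ Subgroup.center K) : Cfsg.IsQuasisimple (K ⧸ N) := by
  have hperf : Group.IsPerfect K := hq.1
  have hs := hq.2
  refine ⟨Group.IsPerfect.ofSurjective (f := QuotientGroup.mk' N) (QuotientGroup.mk'_surjective N), ?_⟩
  have hker := ker_to_central_quotient_eq_center hperf N hN
  have hρ : Function.Surjective
      ((QuotientGroup.mk' (Subgroup.center (K ⧸ N))).comp (QuotientGroup.mk' N)) :=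
    (QuotientGroup.mk'_surjective _).comp (QuotientGroup.mk'_surjective _)
  exact ((QuotientGroup.quotientMulEquivOfEq hker.symm).trans
    (QuotientGroup.quotientKerEquivOfSurjective _ hρ)).symm.isSimpleGroup

/-- The image of a component under a homomorphism onto a group is trivial or a component. -/
theorem isComponent_map_or_eq_bot {G Q : Type*} [Group G] [Group Q] (f : G →* Q)
    (hf : Function.Surjective f) (K : Subgroup G) (hK : Cfsg.IsComponent K) :
    K.map f = ⊥ ∨ Cfsg.IsComponent (K.map f) := by
  have hn : (f.ker.subgroupOf K).Normal := inferInstance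
  rcases quasisimple_normal_top_or_le_center hK.2 (f.ker.subgroupOf K) hn with h | h
  · left
    rw [Subgroup.subgroupOf_eq_top] at h
    rw [Subgroup.map_eq_bot_iff]; exact h
  · right
    refine ⟨hK.1.map hf, ?_⟩
    have hq := isQuasisimple_quotient_central hK.2 (f.ker.subgroupOf K) h
    have e : ↥K ⧸ (f.subgroupMap K).ker ≃* ↥(K.map f) :=
      QuotientGroup.quotientKerEquivOfSurjective (f.subgroupMap K)
        (MonoidHom.subgroupMap_surjective f K)
    have e2 : ↥K ⧸ f.ker.subgroupOf K ≃* ↥K ⧸ (f.subgroupMap K).ker :=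
      QuotientGroup.quotientMulEquivOfEq (Subgroup.ker_subgroupMap (f := f) (H := K)).symm
    exact isQuasisimple_of_mulEquiv (e2.trans e) hq

/-- A component of `X` whose image in `X / O_{p'}(X)` is a component is a `p`-component. -/
theorem isPComponent_of_isComponent {X : Type*} [Group X] (p : ℕ) (K : Subgroup X)
    (hK : Cfsg.IsComponent K)
    (hbar : Cfsg.IsComponent (K.map (QuotientGroup.mk' (pPrimeCore p X)))) :
    Cfsg.IsPComponent p K := by
  refine ⟨hK.1, hbar, ?_⟩
  intro H hHsn hHK hmap
  rcases quasisimple_subnormal_top_or_le_center hK.2 (H.subgroupOf K) hHsn.subgroupOf with h | h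
  · rw [Subgroup.subgroupOf_eq_top] at h
    exact le_antisymm hHK h
  · exfalso
    -- H is abelian, so its image is an abelian component
    apply isQuasisimple_not_isSolvable hbar.2
    rw [← hmap]
    apply Group.isSolvable_of_comm
    rintro ⟨_, a, ha, rfl⟩ ⟨_, b, hb, rfl⟩
    apply Subtype.ext
    change QuotientGroup.mk' _ a * QuotientGroup.mk' _ b = QuotientGroup.mk' _ b * QuotientGroup.mk' _ a
    rw [← map_mul, ← map_mul]
    congr 1
    have ha' : (⟨a, hHK ha⟩ : K) ∈ Subgroup.center K :=
      h (show (⟨a, hHK ha⟩ : K) ∈ H.subgroupOf K from ha)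
    have := (Subgroup.mem_center_iff.mp ha') ⟨b, hHK hb⟩
    exact (congrArg Subtype.val this).symm

/-- A component contained in a join of components is one of them. -/
theorem isComponent_mem_of_le_sSup {G : Type*} [Group G] [Finite G] (S : Set (Subgroup G))
    (hS : ∀ K ∈ S, Cfsg.IsComponent K) (J : Subgroup G) (hJ : Cfsg.IsComponent J)
    (hle : J ≤ sSup S) : J ∈ S := by
  by_contra hJS
  have h1 : sSup S ≤ Subgroup.centralizer (J : Set G) := by
    apply sSup_le
    intro K hKS
    have hne : K ≠ J := fun h => hJS (h ▸ hKS)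
    have := components_commute K J (hS K hKS) hJ hne
    rwa [Subgroup.commutator_eq_bot_iff_le_centralizer] at this
  apply isQuasisimple_not_isSolvable hJ.2
  apply Group.isSolvable_of_comm
  rintro ⟨a, ha⟩ ⟨b, hb⟩
  apply Subtype.ext
  have := (h1 (hle ha))
  rw [Subgroup.mem_centralizer_iff] at this
  exact (this b hb).symm

/-- S1277 for any prime. -/
theorem layer_map_eq_iff_pLayer_le {X : Type*} [Group X] [Finite X] (p : ℕ) [hp : Fact p.Prime] :
    (Cfsg.layer X).map (QuotientGroup.mk' (pPrimeCore p X)) = Cfsg.layer (X ⧸ pPrimeCore p X) ↔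
      Cfsg.pLayer p X ≤ Cfsg.layer X := by
  set π := QuotientGroup.mk' (pPrimeCore p X) with hπ
  have hπs : Function.Surjective π := QuotientGroup.mk'_surjective _
  have hle : (Cfsg.layer X).map π ≤ Cfsg.layer (X ⧸ pPrimeCore p X) := by
    rw [Subgroup.map_le_iff_le_comap]
    apply sSup_le
    intro K hK
    rw [← Subgroup.map_le_iff_le_comap]
    rcases isComponent_map_or_eq_bot π hπs K hK with h | h
    · rw [h]; exact bot_le
    · exact le_sSup h
  constructor
  · intro heq
    apply sSup_le
    intro J hJ
    -- the image of J is a component inside the image of the layer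
    let S : Set (Subgroup (X ⧸ pPrimeCore p X)) :=
      {Kb | ∃ K : Subgroup X, Cfsg.IsComponent K ∧ K.map π = Kb ∧ Cfsg.IsComponent Kb}
    have hS : ∀ Kb ∈ S, Cfsg.IsComponent Kb := fun Kb h => h.choose_spec.2.2
    have hJle : J.map π ≤ sSup S := by
      have h1 : J.map π ≤ Cfsg.layer (X ⧸ pPrimeCore p X) := le_sSup hJ.2.1
      rw [← heq] at h1
      refine h1.trans ?_
      rw [Subgroup.map_le_iff_le_comap]
      apply sSup_le
      intro K hK
      rw [← Subgroup.map_le_iff_le_comap]
      rcases isComponent_map_or_eq_bot π hπs K hK with h | h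
      · rw [h]; exact bot_le
      · exact le_sSup ⟨K, hK, rfl, h⟩
    obtain ⟨K, hK, hKmap, hKbar⟩ := isComponent_mem_of_le_sSup S hS (J.map π) hJ.2.1 hJle
    have hKp : Cfsg.IsPComponent p K := isPComponent_of_isComponent p K hK (hKmap ▸ hKbar)
    have : K = J := pComponent_unique p K J hKp hJ hKmap
    rw [← this]
    exact le_sSup hK
  · intro hpl
    apply le_antisymm hle
    rw [← (pComponent_exists_unique_and_pLayer_map (X := X) p).2]
    exact Subgroup.map_mono hpl

end Cfsg.Agent.Lib.Helper20
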