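import Mathlib.GroupTheory.NoncommPiCoprod
import Mathlib.GroupTheory.Sylow
import Mathlib.GroupTheory.Nilpotent
import Cfsg.Agent.Lib.Helper20.LayerQuotient

/-!
The Fitting subgroup of a finite group is nilpotent and characteristic (helper20).
The nilpotency proof follows helper2's `Cfsg/Agent/Lib/Helper2/Cores.lean` (re-proved here under
different names to keep this library self-contained).
-/

set_option autoImplicit false
open Cfsg
open scoped commutatorElement

namespace Cfsg.Agent.Lib.Helper20

variable {G : Type*} [Group G]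

theorem le_pCore' {p : ℕ} {N : Subgroup G} (hN : N.Normal) (hp : IsPGroup p N) : N ≤ pCore p G :=
  le_sSup ⟨hN, hp⟩

theorem pCore_isPGroup' (p : ℕ) : IsPGroup p (pCore p G) :=
  Sylow.sSup_of_normal _ (fun _ hH => hH.2) (fun _ hH => hH.1)

theorem pCore_eq_bot_of_not_dvd' [Finite G] {p : ℕ} [hp : Fact p.Prime] (h : ¬ p ∣ Nat.card G) :
    pCore p G = ⊥ := by
  rw [← Subgroup.card_eq_one]
  obtain ⟨k, hk⟩ := (IsPGroup.iff_card.mp (pCore_isPGroup' (G := G) p))
  rcases Nat.eq_zero_or_pos k with rfl | hk0
  · simpa using hk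
  · exfalso
    apply h
    have h1 : Nat.card (pCore p G) ∣ Nat.card G := Subgroup.card_subgroup_dvd_card _
    rw [hk] at h1
    exact (dvd_pow_self p hk0.ne').trans h1

theorem fittingSubgroup_normal' : (fittingSubgroup G).Normal :=
  Subgroup.sSup_normal _ (fun _ hH => hH.1)

theorem le_fittingSubgroup' {N : Subgroup G} (hN : N.Normal) (hn : Group.IsNilpotent N) :
    N ≤ fittingSubgroup G :=
  le_sSup ⟨hN, hn⟩

/-- A finite group is generated by its Sylow subgroups. -/
theorem iSup_sylow_eq_top' [Finite G] :
    (⨆ (p : Nat.Primes) (P : Sylow (p : ℕ) G), (P : Subgroup G)) = ⊤ := by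
  apply Subgroup.eq_top_of_le_card
  apply Nat.le_of_dvd Nat.card_pos
  rw [Nat.dvd_iff_prime_pow_dvd_dvd]
  intro p k hp hpk
  have : Fact p.Prime := ⟨hp⟩
  have P : Sylow p G := Classical.arbitrary _
  have h1 : p ^ k ∣ Nat.card P := P.pow_dvd_card_of_pow_dvd_card hpk
  refine h1.trans (Subgroup.card_dvd_of_le ?_)
  exact le_iSup₂_of_le (⟨p, hp⟩ : Nat.Primes) P le_rfl

theorem isNilpotent_iSup_pCore' [Finite G] :
    Group.IsNilpotent (⨆ p : Nat.Primes, pCore (p : ℕ) G : Subgroup G) := by
  classical
  let ι := {q : ℕ // q ∈ (Nat.card G).primeFactors}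
  let H : ι → Subgroup G := fun q => pCore q.1 G
  have hprime : ∀ q : ι, Fact (q.1.Prime) := fun q => ⟨Nat.prime_of_mem_primeFactors q.2⟩
  have hcomm : Pairwise fun i j : ι => ∀ x y : G, x ∈ H i → y ∈ H j → Commute x y := by
    intro i j hij x y hx hy
    have := hprime i
    have := hprime j
    apply Subgroup.commute_of_normal_of_disjoint (H i) (H j) (Cfsg.pCore_normal _ _)
      (Cfsg.pCore_normal _ _) _ x y hx hy
    apply IsPGroup.disjoint_of_ne i.1 j.1 (fun h => hij (Subtype.ext h)) _ _ (pCore_isPGroup' _)
      (pCore_isPGroup' _)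
  have hnil : ∀ i : ι, Group.IsNilpotent (H i) := fun i => by
    have := hprime i
    exact (pCore_isPGroup' (G := G) i.1).isNilpotent
  have hrange : (Subgroup.noncommPiCoprod hcomm).range = ⨆ p : Nat.Primes, pCore (p : ℕ) G := by
    rw [Subgroup.noncommPiCoprod_range]
    apply le_antisymm
    · apply iSup_le
      intro i
      exact le_iSup_of_le (⟨i.1, (hprime i).out⟩ : Nat.Primes) le_rfl
    · apply iSup_le
      intro p
      have : Fact (p : ℕ).Prime := ⟨p.2⟩
      by_cases hp : (p : ℕ) ∣ Nat.card G
      · exact le_iSup_of_le (⟨p.1, Nat.mem_primeFactors.mpr ⟨p.2, hp, Nat.card_pos.ne'⟩⟩ : ι) le_rfl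
      · rw [pCore_eq_bot_of_not_dvd' hp]
        exact bot_le
  rw [← hrange]
  exact Group.nilpotent_of_surjective (Subgroup.noncommPiCoprod hcomm).rangeRestrict
    (MonoidHom.rangeRestrict_surjective _)

theorem le_iSup_pCore_of_normal_of_isNilpotent' [Finite G] {N : Subgroup G} (hN : N.Normal)
    (hn : Group.IsNilpotent N) : N ≤ ⨆ p : Nat.Primes, pCore (p : ℕ) G := by
  have h1 : N = (⊤ : Subgroup N).map N.subtype := by
    rw [← MonoidHom.range_eq_map, Subgroup.range_subtype]
  rw [h1, ← iSup_sylow_eq_top', Subgroup.map_iSup]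
  apply iSup_le
  intro p
  rw [Subgroup.map_iSup]
  apply iSup_le
  intro P
  have : Fact (p : ℕ).Prime := ⟨p.2⟩
  refine le_iSup_of_le p ?_
  have hPn : (P : Subgroup N).Normal := inferInstance
  have : (P : Subgroup N).Characteristic := P.characteristic_of_normal hPn
  apply le_pCore'
  · exact ConjAct.normal_of_characteristic_of_normal
  · exact P.isPGroup'.map _

theorem fittingSubgroup_eq_iSup_pCore' [Finite G] :
    fittingSubgroup G = ⨆ p : Nat.Primes, pCore (p : ℕ) G := by
  apply le_antisymm
  · apply sSup_le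
    rintro N ⟨hN, hn⟩
    exact le_iSup_pCore_of_normal_of_isNilpotent' hN hn
  · apply iSup_le
    intro p
    have : Fact (p : ℕ).Prime := ⟨p.2⟩
    exact le_fittingSubgroup' (Cfsg.pCore_normal _ _) (pCore_isPGroup' (G := G) p).isNilpotent

theorem fittingSubgroup_isNilpotent' [Finite G] : Group.IsNilpotent (fittingSubgroup G) := by
  rw [fittingSubgroup_eq_iSup_pCore']
  exact isNilpotent_iSup_pCore'

theorem fittingSubgroup_isSolvable [Finite G] : Group.IsSolvable (fittingSubgroup G) := by
  have := fittingSubgroup_isNilpotent' (G := G)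
  infer_instance

theorem fittingSubgroup_characteristic : (fittingSubgroup G).Characteristic := by
  unfold fittingSubgroup
  apply characteristic_sSup_of_invariant
  rintro N ⟨hNn, hNc⟩ φ
  refine ⟨hNn.map _ φ.surjective, ?_⟩
  exact Group.nilpotent_of_surjective ((φ.toMonoidHom).subgroupMap N)
    (MonoidHom.subgroupMap_surjective _ N)

theorem isComponent_map_mulEquiv {G' : Type*} [Group G'] (e : G ≃* G') (K : Subgroup G)
    (hK : Cfsg.IsComponent K) : Cfsg.IsComponent (K.map e.toMonoidHom) :=
  ⟨hK.1.map e.surjective, isQuasisimple_of_mulEquiv (e.subgroupMap K) hK.2⟩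

theorem layer_characteristic : (Cfsg.layer G).Characteristic := by
  unfold Cfsg.layer
  apply characteristic_sSup_of_invariant
  intro K hK φ
  exact isComponent_map_mulEquiv φ K hK

instance layer_normal : (Cfsg.layer G).Normal :=
  have := layer_characteristic (G := G)
  inferInstance

/-- The layer centralizes the Fitting subgroup. -/
theorem layer_le_centralizer_fitting [Finite G] :
    Cfsg.layer G ≤ Subgroup.centralizer (fittingSubgroup G : Set G) := by
  apply sSup_le
  intro K hK
  have hF : (fittingSubgroup G).Normal := fittingSubgroup_normal'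
  have := component_commutator_solvable_eq_bot K (fittingSubgroup G) hK fittingSubgroup_isSolvable
    (by rw [Subgroup.normalizer_eq_top]; exact le_top)
  rwa [Subgroup.commutator_eq_bot_iff_le_centralizer] at this

end Cfsg.Agent.Lib.Helper20

namespace Cfsg.Agent.Lib.Helper20

open scoped IsMulCommutative in
theorem center_isNilpotent (K : Type*) [Group K] : Group.IsNilpotent (Subgroup.center K) :=
  inferInstance

/-- S1317. -/
theorem center_layer_eq_fitting_inf_layer {X : Type*} [Group X] [Finite X] :
    (Subgroup.center ↥(Cfsg.layer X)).map (Cfsg.layer X).subtype =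
      Cfsg.fittingSubgroup X ⊓ Cfsg.layer X := by
  apply le_antisymm
  · apply le_inf
    · have hn : ((Subgroup.center ↥(Cfsg.layer X)).map (Cfsg.layer X).subtype).Normal :=
        ConjAct.normal_of_characteristic_of_normal
      apply le_fittingSubgroup' hn
      have := center_isNilpotent ↥(Cfsg.layer X)
      exact Group.nilpotent_of_surjective
        (((Cfsg.layer X).subtype).subgroupMap (Subgroup.center ↥(Cfsg.layer X)))
        (MonoidHom.subgroupMap_surjective _ _)
    · exact Subgroup.map_subtype_le _
  · rintro x ⟨hxF, hxE⟩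
    refine ⟨⟨x, hxE⟩, Subgroup.mem_center_iff.mpr ?_, rfl⟩
    rintro ⟨y, hy⟩
    have := layer_le_centralizer_fitting hy
    rw [Subgroup.mem_centralizer_iff] at this
    exact Subtype.ext (this x hxF).symm

end Cfsg.Agent.Lib.Helper20

namespace Cfsg.Agent.Lib.Helper20

/-- The layer of a subnormal subgroup lies in the layer. -/
theorem map_layer_subnormal_le {X : Type*} [Group X] (A : Subgroup X) (hsn : A.IsSubnormal) :
    (Cfsg.layer ↥A).map A.subtype ≤ Cfsg.layer X := by
  rw [Subgroup.map_le_iff_le_comap]
  apply sSup_le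
  intro K hK
  rw [← Subgroup.map_le_iff_le_comap]
  exact le_sSup ((isComponent_map_subtype_iff A hsn K).mp hK)

/-- The layer normalizes every subnormal subgroup. -/
theorem layer_le_normalizer_subnormal {X : Type*} [Group X] [Finite X] (A : Subgroup X)
    (hsn : A.IsSubnormal) : Cfsg.layer X ≤ Subgroup.normalizer (A : Set X) := by
  apply sSup_le
  intro L hL
  rcases component_le_or_commutes L A hL hsn with h | h
  · exact h.trans Subgroup.le_normalizer
  · rw [Subgroup.commutator_eq_bot_iff_le_centralizer] at h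
    exact h.trans (Subgroup.centralizer_le_normalizer _)

/-- S1319. -/
theorem subnormal_layer_eq_top {X : Type*} [Group X] [Finite X] (A : Subgroup X)
    (hsn : A.IsSubnormal) (hA : Cfsg.layer ↥A = ⊤) :
    A ≤ Cfsg.layer X ∧ (A.subgroupOf (Cfsg.layer X)).Normal := by
  constructor
  · have h := map_layer_subnormal_le A hsn
    rwa [hA, ← MonoidHom.range_eq_map, Subgroup.range_subtype] at h
  · exact Subgroup.normal_subgroupOf_of_le_normalizer (layer_le_normalizer_subnormal A hsn)

end Cfsg.Agent.Lib.Helper20
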