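import Cfsg.Agent.Lib.Helper20.Bender

/-!
`X` is `p`-constrained iff `L_{p'}(X) = 1` (helper20).
-/

set_option autoImplicit false

namespace Cfsg.Agent.Lib.Helper20

open scoped commutatorElement Pointwise

variable {X : Type*} [Group X] [Finite X] (p : ℕ) [hp : Fact p.Prime]

theorem pPrimeCore_le_pPrimePCore : pPrimeCore p X ≤ Cfsg.pPrimePCore p X := by
  intro x hx
  unfold Cfsg.pPrimePCore
  rw [Subgroup.mem_comap]
  have : QuotientGroup.mk' (pPrimeCore p X) x = 1 := by
    rw [← MonoidHom.mem_ker, QuotientGroup.ker_mk']; exact hx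
  rw [this]; exact one_mem _

theorem map_pPrimePCore :
    (Cfsg.pPrimePCore p X).map (QuotientGroup.mk' (pPrimeCore p X)) =
      pCore p (X ⧸ pPrimeCore p X) := by
  unfold Cfsg.pPrimePCore
  exact Subgroup.map_comap_eq_self_of_surjective (QuotientGroup.mk'_surjective _) _

instance pPrimePCore_normal : (Cfsg.pPrimePCore p X).Normal := by
  unfold Cfsg.pPrimePCore
  have h1 : (pCore p (X ⧸ pPrimeCore p X)).Characteristic := pCore_characteristic p
  have : (pCore p (X ⧸ pPrimeCore p X)).Normal := inferInstance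
  infer_instance

/-- The image of a Sylow `p`-subgroup of `O_{p',p}(X)` in `X / O_{p'}(X)` is `O_p(X / O_{p'}(X))`. -/
theorem map_sylow_pPrimePCore (P : Sylow p ↥(Cfsg.pPrimePCore p X)) :
    ((P : Subgroup ↥(Cfsg.pPrimePCore p X)).map (Cfsg.pPrimePCore p X).subtype).map
      (QuotientGroup.mk' (pPrimeCore p X)) = pCore p (X ⧸ pPrimeCore p X) := by
  set π := QuotientGroup.mk' (pPrimeCore p X) with hπ
  have hmapR : (Cfsg.pPrimePCore p X).map π = pCore p (X ⧸ pPrimeCore p X) := map_pPrimePCore p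
  set f := π.subgroupMap (Cfsg.pPrimePCore p X) with hf
  have hfs : Function.Surjective f := MonoidHom.subgroupMap_surjective π (Cfsg.pPrimePCore p X)
  have hpg : IsPGroup p ↥((Cfsg.pPrimePCore p X).map π) := by rw [hmapR]; exact pCore_isPGroup' p
  have htop : ((P.mapSurjective hfs : Sylow p ↥((Cfsg.pPrimePCore p X).map π)) :
      Subgroup ↥((Cfsg.pPrimePCore p X).map π)) = ⊤ := by
    have h1 : IsPGroup p ↥(⊤ : Subgroup ↥((Cfsg.pPrimePCore p X).map π)) := by
      intro g
      obtain ⟨k, hk⟩ := hpg g.1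
      exact ⟨k, Subtype.ext hk⟩
    exact ((P.mapSurjective hfs).is_maximal' h1 le_top).symm
  rw [Sylow.coe_mapSurjective] at htop
  have h2 : ((P : Subgroup ↥(Cfsg.pPrimePCore p X)).map (Cfsg.pPrimePCore p X).subtype).map π =
      ((P : Subgroup ↥(Cfsg.pPrimePCore p X)).map f).map
        ((Cfsg.pPrimePCore p X).map π).subtype := by
    rw [Subgroup.map_map, Subgroup.map_map]
    rfl
  rw [h2, htop, ← MonoidHom.range_eq_map, Subgroup.range_subtype, hmapR]

/-- Frattini: `X = N_X(P) O_{p'}(X)` for a Sylow `p`-subgroup `P` of `O_{p',p}(X)`. -/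
theorem exists_normalizer_mul_pPrimeCore (P : Sylow p ↥(Cfsg.pPrimePCore p X)) (x : X) :
    ∃ w ∈ Subgroup.normalizer
        (((P : Subgroup ↥(Cfsg.pPrimePCore p X)).map (Cfsg.pPrimePCore p X).subtype : Subgroup X) :
          Set X),
      ∃ o ∈ pPrimeCore p X, x = w * o := by
  set π := QuotientGroup.mk' (pPrimeCore p X) with hπ
  set Ph := (P : Subgroup ↥(Cfsg.pPrimePCore p X)).map (Cfsg.pPrimePCore p X).subtype with hPh
  have hfr : Subgroup.normalizer (Ph : Set X) ⊔ Cfsg.pPrimePCore p X = ⊤ :=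
    Sylow.normalizer_sup_eq_top P
  have hx : x ∈ ((Subgroup.normalizer (Ph : Set X) ⊔ Cfsg.pPrimePCore p X : Subgroup X) :
      Set X) := by
    rw [hfr]; trivial
  rw [Subgroup.mul_normal] at hx
  obtain ⟨n, hn, r, hr, hnr⟩ := Set.mem_mul.mp hx
  -- r = u * o with u ∈ Ph, o ∈ O
  have hπr : π r ∈ Ph.map π := by
    rw [hPh, map_sylow_pPrimePCore p P, ← map_pPrimePCore p]
    exact Subgroup.mem_map_of_mem _ hr
  obtain ⟨u, hu, hur⟩ := Subgroup.mem_map.mp hπr
  refine ⟨n * u, mul_mem hn (Subgroup.le_normalizer hu), u⁻¹ * r, ?_, ?_⟩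
  · rw [← QuotientGroup.ker_mk' (pPrimeCore p X), MonoidHom.mem_ker, map_mul, map_inv, ← hπ, hur]
    exact inv_mul_cancel _
  · rw [← hnr]; group

theorem sylow_pPrimePCore_inf_pPrimeCore (P : Sylow p ↥(Cfsg.pPrimePCore p X)) :
    ((P : Subgroup ↥(Cfsg.pPrimePCore p X)).map (Cfsg.pPrimePCore p X).subtype) ⊓ pPrimeCore p X
      = ⊥ := by
  apply disjoint_iff.mp
  apply Subgroup.disjoint_of_coprime_natCard
  have h1 : IsPGroup p ↥((P : Subgroup ↥(Cfsg.pPrimePCore p X)).map
      (Cfsg.pPrimePCore p X).subtype) := P.isPGroup'.map _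
  obtain ⟨k, hk⟩ := IsPGroup.iff_card.mp h1
  rw [hk]
  exact Nat.Coprime.pow_left k (pPrimeCore_coprime' p).symm

theorem isPConstrained_iff_centralizer_pCore_le :
    Cfsg.IsPConstrained p X ↔
      Subgroup.centralizer ((pCore p (X ⧸ pPrimeCore p X) : Subgroup (X ⧸ pPrimeCore p X)) :
        Set (X ⧸ pPrimeCore p X)) ≤ pCore p (X ⧸ pPrimeCore p X) := by
  set π := QuotientGroup.mk' (pPrimeCore p X) with hπ
  constructor
  · intro hcon
    obtain ⟨P⟩ : Nonempty (Sylow p ↥(Cfsg.pPrimePCore p X)) := Sylow.nonempty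
    set Ph := (P : Subgroup ↥(Cfsg.pPrimePCore p X)).map (Cfsg.pPrimePCore p X).subtype with hPh
    intro xb hxb
    obtain ⟨x, rfl⟩ := QuotientGroup.mk'_surjective (pPrimeCore p X) xb
    obtain ⟨w, hw, o, ho, hxwo⟩ := exists_normalizer_mul_pPrimeCore p P x
    have hπo : π o = 1 := by
      rw [← MonoidHom.mem_ker, hπ, QuotientGroup.ker_mk']; exact ho
    have hπx : π x = π w := by rw [hxwo, map_mul, hπo, mul_one]
    have hwc : w ∈ Subgroup.centralizer (Ph : Set X) := by
      rw [Subgroup.mem_centralizer_iff]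
      intro y hy
      have hc1 : w * y * w⁻¹ * y⁻¹ ∈ Ph :=
        mul_mem ((Subgroup.mem_normalizer_iff.mp hw y).mp hy) (inv_mem hy)
      have hπy : π y ∈ pCore p (X ⧸ pPrimeCore p X) := by
        rw [← map_sylow_pPrimePCore p P]; exact Subgroup.mem_map_of_mem _ hy
      have hcomm : π y * π w = π w * π y := by
        rw [← hπx]; exact (Subgroup.mem_centralizer_iff.mp hxb) (π y) hπy
      have hc2 : w * y * w⁻¹ * y⁻¹ ∈ pPrimeCore p X := by
        rw [← QuotientGroup.ker_mk' (pPrimeCore p X), MonoidHom.mem_ker]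
        simp only [map_mul, map_inv]
        rw [← hπ, ← hcomm]; group
      have : w * y * w⁻¹ * y⁻¹ ∈ Ph ⊓ pPrimeCore p X := ⟨hc1, hc2⟩
      rw [sylow_pPrimePCore_inf_pPrimeCore p P, Subgroup.mem_bot] at this
      calc y * w = (w * y * w⁻¹ * y⁻¹)⁻¹ * (w * y) := by group
        _ = w * y := by rw [this]; group
    have hwR : w ∈ Cfsg.pPrimePCore p X := hcon P hwc
    show π x ∈ _
    rw [hπx, ← map_pPrimePCore p]
    exact Subgroup.mem_map_of_mem _ hwR
  · intro hcen P x hx
    show x ∈ Cfsg.pPrimePCore p X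
    unfold Cfsg.pPrimePCore
    rw [Subgroup.mem_comap]
    apply hcen
    rw [Subgroup.mem_centralizer_iff]
    intro yb hyb
    rw [← map_sylow_pPrimePCore p P] at hyb
    obtain ⟨y, hy, rfl⟩ := Subgroup.mem_map.mp hyb
    have := (Subgroup.mem_centralizer_iff.mp hx) y hy
    rw [← map_mul, ← map_mul, this]

theorem isPConstrained_iff_pLayer_eq_bot :
    Cfsg.IsPConstrained p X ↔ Cfsg.pLayer p X = ⊥ := by
  rw [isPConstrained_iff_centralizer_pCore_le]
  have hO : pPrimeCore p (X ⧸ pPrimeCore p X) = ⊥ := pPrimeCore_quotient_eq_bot p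
  have hF : fittingSubgroup (X ⧸ pPrimeCore p X) = pCore p (X ⧸ pPrimeCore p X) :=
    fitting_eq_pCore_of_pPrimeCore_eq_bot p hO
  rw [← hF, centralizer_fitting_le_iff_layer_eq_bot]
  have hmap := (pComponent_exists_unique_and_pLayer_map (X := X) p).2
  constructor
  · intro h
    unfold Cfsg.pLayer
    rw [sSup_eq_bot]
    intro K hK
    exfalso
    have hKb : Cfsg.IsComponent (K.map (QuotientGroup.mk' (pPrimeCore p X))) := hK.2.1
    have hle : K.map (QuotientGroup.mk' (pPrimeCore p X)) ≤ Cfsg.layer (X ⧸ pPrimeCore p X) :=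
      component_le_layer _ hKb
    rw [h, le_bot_iff] at hle
    exact isComponent_ne_bot hKb hle
  · intro h
    rw [← hmap, h, Subgroup.map_bot]

end Cfsg.Agent.Lib.Helper20
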