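import Cfsg.Agent.Lib.Helper20.Quasisimple

set_option autoImplicit false
open Cfsg
open scoped commutatorElement

namespace Cfsg.Agent.Lib.Helper20

theorem subgroupOf_le_subgroupOf_iff {G : Type*} [Group G] {L H Y : Subgroup G} (hL : L ≤ Y) :
    L.subgroupOf Y ≤ H.subgroupOf Y ↔ L ≤ H := by
  constructor
  · intro h x hx
    exact h (show (⟨x, hL hx⟩ : Y) ∈ L.subgroupOf Y from hx)
  · intro h x hx
    exact h hx

theorem commutator_subgroupOf_eq_bot_iff {G : Type*} [Group G] {L H Y : Subgroup G}
    (hL : L ≤ Y) (hH : H ≤ Y) :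
    ⁅L.subgroupOf Y, H.subgroupOf Y⁆ = ⊥ ↔ ⁅L, H⁆ = ⊥ := by
  rw [Subgroup.commutator_eq_bot_iff_le_centralizer, Subgroup.commutator_eq_bot_iff_le_centralizer]
  constructor
  · intro h x hx
    rw [Subgroup.mem_centralizer_iff]
    intro y hy
    have := h (show (⟨x, hL hx⟩ : Y) ∈ L.subgroupOf Y from hx)
    rw [Subgroup.mem_centralizer_iff] at this
    have := this ⟨y, hH hy⟩ (show (⟨y, hH hy⟩ : Y) ∈ H.subgroupOf Y from hy)
    exact congrArg Subtype.val this
  · intro h x hx
    rw [Subgroup.mem_centralizer_iff]
    intro y hy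
    have := h (show (x : G) ∈ L from hx)
    rw [Subgroup.mem_centralizer_iff] at this
    exact Subtype.ext (this y hy)

theorem isComponent_subgroupOf {G : Type*} [Group G] {L Y : Subgroup G} (hL : Cfsg.IsComponent L)
    (hY : Y.IsSubnormal) (hLY : L ≤ Y) : Cfsg.IsComponent (L.subgroupOf Y) := by
  rw [isComponent_map_subtype_iff Y hY, Subgroup.map_subgroupOf_eq_of_le hLY]
  exact hL

/-- Aschbacher 31.4, in a form suited for induction on the order. -/
theorem component_le_or_commutes_aux (n : ℕ) :
    ∀ (G : Type*) [Group G] [Finite G], Nat.card G = n → ∀ (L H : Subgroup G),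
      Cfsg.IsComponent L → H.IsSubnormal → L ≤ H ∨ ⁅L, H⁆ = ⊥ := by
  induction n using Nat.strong_induction_on with
  | _ n ih =>
    intro G _ _ hn L H hL hH
    by_cases hLtop : L = ⊤
    · -- G quasisimple
      subst hLtop
      have hq : Cfsg.IsQuasisimple G :=
        isQuasisimple_of_mulEquiv Subgroup.topEquiv hL.2
      rcases quasisimple_subnormal_top_or_le_center hq H hH with h | h
      · left; rw [h]
      · right
        rw [Subgroup.commutator_comm, Subgroup.commutator_eq_bot_iff_le_centralizer]
        exact h.trans (Subgroup.center_le_centralizer _)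
    by_cases hHtop : H = ⊤
    · left; rw [hHtop]; exact le_top
    obtain ⟨X, hXn, hLX, hXlt⟩ := hL.1.exists_normal_and_le_and_lt_top_of_ne hLtop
    obtain ⟨Y, hYn, hHY, hYlt⟩ := hH.exists_normal_and_le_and_lt_top_of_ne hHtop
    have cardlt : ∀ K : Subgroup G, K < ⊤ → Nat.card K < n := by
      intro K hK
      rw [← hn]
      by_contra hge
      exact hK.ne (Subgroup.eq_top_of_le_card K (not_lt.mp hge))
    by_cases hLY : L ≤ Y
    · -- work inside Y
      have := ih (Nat.card Y) (cardlt Y hYlt) Y rfl (L.subgroupOf Y) (H.subgroupOf Y)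
        (isComponent_subgroupOf hL hYn.isSubnormal hLY) hH.subgroupOf
      rw [subgroupOf_le_subgroupOf_iff hLY, commutator_subgroupOf_eq_bot_iff hLY hHY] at this
      exact this
    · -- work inside X with the normal subgroup X ⊓ Y
      right
      have hXYn : (X ⊓ Y).Normal := inferInstance
      have hXYle : X ⊓ Y ≤ X := inf_le_left
      have := ih (Nat.card X) (cardlt X hXlt) X rfl (L.subgroupOf X) ((X ⊓ Y).subgroupOf X)
        (isComponent_subgroupOf hL hXn.isSubnormal hLX) (hXYn.isSubnormal.subgroupOf)
      rw [subgroupOf_le_subgroupOf_iff hLX, commutator_subgroupOf_eq_bot_iff hLX hXYle] at this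
      rcases this with h | h
      · exact absurd (h.trans inf_le_right) hLY
      · -- three subgroups lemma
        have hLperf : ⁅L, L⁆ = L := by
          have : Group.IsPerfect L := hL.2.1
          exact Subgroup.isPerfect_iff.mp this
        have hYL : ⁅Y, L⁆ ≤ X ⊓ Y := by
          apply le_inf
          · exact (Subgroup.commutator_mono le_rfl hLX).trans (Subgroup.commutator_le_right Y X)
          · exact Subgroup.commutator_le_left Y L
        have h1 : ⁅⁅L, Y⁆, L⁆ = ⊥ := by
          rw [eq_bot_iff, Subgroup.commutator_comm, ← h]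
          apply Subgroup.commutator_mono le_rfl
          rw [Subgroup.commutator_comm]; exact hYL
        have h2 : ⁅⁅Y, L⁆, L⁆ = ⊥ := by
          rw [eq_bot_iff, Subgroup.commutator_comm, ← h]
          exact Subgroup.commutator_mono le_rfl hYL
        have h3 : ⁅⁅L, L⁆, Y⁆ = ⊥ :=
          Subgroup.commutator_commutator_eq_bot_of_rotate h1 h2
        rw [hLperf] at h3
        rw [eq_bot_iff, ← h3]
        exact Subgroup.commutator_mono le_rfl hHY

theorem component_le_or_commutes {G : Type*} [Group G] [Finite G] (L H : Subgroup G)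
    (hL : Cfsg.IsComponent L) (hH : H.IsSubnormal) : L ≤ H ∨ ⁅L, H⁆ = ⊥ :=
  component_le_or_commutes_aux (Nat.card G) G rfl L H hL hH

end Cfsg.Agent.Lib.Helper20

namespace Cfsg.Agent.Lib.Helper20

theorem isQuasisimple_nontrivial {X : Type*} [Group X] (hX : Cfsg.IsQuasisimple X) :
    Nontrivial X := by
  have hs := hX.2
  have : Nontrivial (X ⧸ Subgroup.center X) := hs.toNontrivial
  exact (QuotientGroup.mk'_surjective (Subgroup.center X)).nontrivial

theorem isQuasisimple_not_isSolvable {X : Type*} [Group X] (hX : Cfsg.IsQuasisimple X) :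
    ¬ Group.IsSolvable X := by
  have := isQuasisimple_nontrivial hX
  have hp : Group.IsPerfect X := hX.1
  exact Group.IsPerfect.not_isSolvable X

/-- A component is a component of any subgroup containing it. -/
theorem isComponent_subgroupOf_of_le {G : Type*} [Group G] {L M : Subgroup G}
    (hL : Cfsg.IsComponent L) (hLM : L ≤ M) : Cfsg.IsComponent (L.subgroupOf M) :=
  ⟨hL.1.subgroupOf, isQuasisimple_of_mulEquiv (Subgroup.subgroupOfEquivOfLe hLM).symm hL.2⟩

/-- Aschbacher 31.6: a component centralizes every solvable subgroup it normalizes. -/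
theorem component_commutator_solvable_eq_bot {G : Type*} [Group G] [Finite G] (L H : Subgroup G)
    (hL : Cfsg.IsComponent L) (hsolv : Group.IsSolvable ↥H)
    (hinv : L ≤ Subgroup.normalizer (H : Set G)) : ⁅L, H⁆ = ⊥ := by
  set M := L ⊔ H with hM
  have hLM : L ≤ M := le_sup_left
  have hHM : H ≤ M := le_sup_right
  have hMN : M ≤ Subgroup.normalizer (H : Set G) := sup_le hinv Subgroup.le_normalizer
  have hHn : (H.subgroupOf M).Normal := Subgroup.normal_subgroupOf_of_le_normalizer hMN
  have := component_le_or_commutes (L.subgroupOf M) (H.subgroupOf M)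
    (isComponent_subgroupOf_of_le hL hLM) hHn.isSubnormal
  rw [subgroupOf_le_subgroupOf_iff hLM, commutator_subgroupOf_eq_bot_iff hLM hHM] at this
  rcases this with h | h
  · exfalso
    apply isQuasisimple_not_isSolvable hL.2
    exact Group.isSolvable_of_isSolvable_injective (Subgroup.inclusion_injective h)
  · exact h

end Cfsg.Agent.Lib.Helper20
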