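import Cfsg.Prelude.Def_Local

set_option autoImplicit false
open Cfsg
open scoped commutatorElement

namespace Cfsg.Agent.Lib.Helper20

/-- If `H ⊔ Z(X) = ⊤` and `H` is normal then `X' ≤ H`. -/
theorem commutator_le_of_sup_center_eq_top {X : Type*} [Group X] (H : Subgroup X) [hH : H.Normal]
    (hsup : H ⊔ Subgroup.center X = ⊤) : commutator X ≤ H := by
  rw [commutator_def, ← hsup, Subgroup.commutator_le]
  intro a ha b _
  rw [Subgroup.mem_sup_of_normal_left] at ha
  obtain ⟨h1, hh1, z1, hz1, rfl⟩ := ha
  rw [commutatorElement_mul_left_eq_conj_mul]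
  have hz : ⁅z1, b⁆ = 1 := by
    rw [commutatorElement_eq_one_iff_mul_comm]
    exact ((Subgroup.mem_center_iff.mp hz1) b).symm
  rw [hz, mul_one, mul_inv_cancel, one_mul]
  have : ⁅h1, b⁆ = h1 * (b * h1⁻¹ * b⁻¹) := by
    simp [commutatorElement_def, mul_assoc]
  rw [this]
  exact H.mul_mem hh1 (hH.conj_mem _ (H.inv_mem hh1) b)

theorem quasisimple_normal_top_or_le_center {X : Type*} [Group X] (hX : Cfsg.IsQuasisimple X)
    (H : Subgroup X) (hH : H.Normal) : H = ⊤ ∨ H ≤ Subgroup.center X := by
  obtain ⟨hperf, hsimp⟩ := hX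
  have hmapN : (H.map (QuotientGroup.mk' (Subgroup.center X))).Normal :=
    Subgroup.Normal.map hH _ (QuotientGroup.mk'_surjective _)
  rcases hmapN.eq_bot_or_eq_top with hbot | htop
  · right
    rw [Subgroup.map_eq_bot_iff, QuotientGroup.ker_mk'] at hbot
    exact hbot
  · left
    have hsup : H ⊔ Subgroup.center X = ⊤ := by
      have := congrArg (Subgroup.comap (QuotientGroup.mk' (Subgroup.center X))) htop
      rw [Subgroup.comap_map_eq, QuotientGroup.ker_mk', Subgroup.comap_top] at this
      exact this
    have hcomm : commutator X ≤ H := commutator_le_of_sup_center_eq_top H hsup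
    have : commutator X = ⊤ := hperf.commutator_eq_top
    rw [this] at hcomm
    exact top_le_iff.mp hcomm

theorem quasisimple_subnormal_top_or_le_center {X : Type*} [Group X] (hX : Cfsg.IsQuasisimple X)
    (H : Subgroup X) (hH : H.IsSubnormal) : H = ⊤ ∨ H ≤ Subgroup.center X := by
  induction hH with
  | top => left; rfl
  | step H K h_le hSubn hN ih =>
    rcases ih with rfl | hK
    · have : H.Normal := by
        rw [Subgroup.normal_subgroupOf_iff_le_normalizer h_le, top_le_iff,
          Subgroup.normalizer_eq_top_iff] at hN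
        exact hN
      exact quasisimple_normal_top_or_le_center hX H this
    · right; exact h_le.trans hK

end Cfsg.Agent.Lib.Helper20

namespace Cfsg.Agent.Lib.Helper20

/-- Commutators are unchanged by multiplying with central elements. -/
theorem commutatorElement_mul_center {X : Type*} [Group X] (h1 h2 z1 z2 : X)
    (hz1 : z1 ∈ Subgroup.center X) (hz2 : z2 ∈ Subgroup.center X) :
    ⁅h1 * z1, h2 * z2⁆ = ⁅h1, h2⁆ := by
  have c1 : ∀ b : X, ⁅z1, b⁆ = 1 := fun b => by
    rw [commutatorElement_eq_one_iff_mul_comm]
    exact ((Subgroup.mem_center_iff.mp hz1) b).symm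
  have c2 : ∀ b : X, ⁅b, z2⁆ = 1 := fun b => by
    rw [commutatorElement_eq_one_iff_mul_comm]
    exact ((Subgroup.mem_center_iff.mp hz2) b)
  rw [commutatorElement_mul_left_eq_conj_mul, c1, mul_one, mul_inv_cancel, one_mul,
    commutatorElement_mul_right_eq_mul_conj, c2, mul_one, mul_inv_cancel_right]

/-- If `H ⊔ Z(X) = ⊤` with `H` normal then `X' = ⁅H, H⁆`. -/
theorem commutator_eq_of_sup_center_eq_top {X : Type*} [Group X] (H : Subgroup X) [hH : H.Normal]
    (hsup : H ⊔ Subgroup.center X = ⊤) : commutator X = ⁅H, H⁆ := by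
  apply le_antisymm
  · rw [commutator_def, ← hsup, Subgroup.commutator_le]
    intro a ha b hb
    rw [Subgroup.mem_sup_of_normal_left] at ha hb
    obtain ⟨h1, hh1, z1, hz1, rfl⟩ := ha
    obtain ⟨h2, hh2, z2, hz2, rfl⟩ := hb
    rw [commutatorElement_mul_center h1 h2 z1 z2 hz1 hz2]
    exact Subgroup.commutator_mem_commutator hh1 hh2
  · rw [commutator_def]
    exact Subgroup.commutator_mono le_top le_top

theorem central_quotient_simple_commutator_sup_center {X : Type*} [Group X]
    (hs : IsSimpleGroup (X ⧸ Subgroup.center X)) (hna : ¬ IsMulCommutative (X ⧸ Subgroup.center X)) :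
    commutator X ⊔ Subgroup.center X = ⊤ := by
  have hN : ((commutator X).map (QuotientGroup.mk' (Subgroup.center X))).Normal :=
    Subgroup.Normal.map inferInstance _ (QuotientGroup.mk'_surjective _)
  rcases hN.eq_bot_or_eq_top with hbot | htop
  · exfalso
    apply hna
    rw [Subgroup.map_eq_bot_iff, QuotientGroup.ker_mk'] at hbot
    exact Subgroup.Normal.quotient_commutative_iff_commutator_le.mpr hbot
  · have := congrArg (Subgroup.comap (QuotientGroup.mk' (Subgroup.center X))) htop
    rw [Subgroup.comap_map_eq, QuotientGroup.ker_mk', Subgroup.comap_top] at this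
    exact this

/-- If `H ⊔ Z(X) = ⊤` then `Z(H) = Z(X) ∩ H` (as subgroups of `H`). -/
theorem center_eq_subgroupOf_of_sup_center_eq_top {X : Type*} [Group X] (H : Subgroup X)
    (hsup : H ⊔ Subgroup.center X = ⊤) :
    Subgroup.center H = (Subgroup.center X).subgroupOf H := by
  ext ⟨z, hz⟩
  rw [Subgroup.mem_subgroupOf, Subgroup.mem_center_iff, Subgroup.mem_center_iff]
  constructor
  · intro h g
    -- z commutes with all of H and center, hence with H ⊔ center = ⊤
    have hg : g ∈ H ⊔ Subgroup.center X := hsup ▸ Subgroup.mem_top g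
    have hle : H ⊔ Subgroup.center X ≤ Subgroup.centralizer {z} := by
      apply sup_le
      · intro y hy
        rw [Subgroup.mem_centralizer_singleton_iff]
        have := h ⟨y, hy⟩
        have := congrArg Subtype.val this
        simpa using this
      · intro y hy
        rw [Subgroup.mem_centralizer_singleton_iff]
        exact ((Subgroup.mem_center_iff.mp hy) z).symm
    have := hle hg
    rw [Subgroup.mem_centralizer_singleton_iff] at this
    exact this
  · intro h g
    apply Subtype.ext
    simpa using h g

theorem central_quotient_simple_commutator_quasisimple {X : Type*} [Group X]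
    (hs : IsSimpleGroup (X ⧸ Subgroup.center X)) (hna : ¬ IsMulCommutative (X ⧸ Subgroup.center X)) :
    Cfsg.IsQuasisimple ↥(commutator X) := by
  have hsup := central_quotient_simple_commutator_sup_center hs hna
  constructor
  · -- perfect
    rw [Subgroup.isPerfect_iff]
    exact (commutator_eq_of_sup_center_eq_top (commutator X) hsup).symm
  · -- simple central quotient
    have hcen := center_eq_subgroupOf_of_sup_center_eq_top (commutator X) hsup
    let φ : ↥(commutator X) →* X ⧸ Subgroup.center X :=
      (QuotientGroup.mk' (Subgroup.center X)).comp (commutator X).subtype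
    have hsurj : Function.Surjective φ := by
      rw [← MonoidHom.range_eq_top, MonoidHom.range_eq_map]
      have h1 : Subgroup.map φ ⊤ = Subgroup.map (QuotientGroup.mk' (Subgroup.center X)) (commutator X) := by
        rw [← Subgroup.map_map, ← MonoidHom.range_eq_map, Subgroup.range_subtype]
      rw [h1]
      have h2 : Subgroup.map (QuotientGroup.mk' (Subgroup.center X)) (commutator X ⊔ Subgroup.center X) = ⊤ := by
        rw [hsup, ← MonoidHom.range_eq_map, MonoidHom.range_eq_top]
        exact QuotientGroup.mk'_surjective _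
      rw [Subgroup.map_sup] at h2
      have h3 : Subgroup.map (QuotientGroup.mk' (Subgroup.center X)) (Subgroup.center X) = ⊥ := by
        rw [Subgroup.map_eq_bot_iff, QuotientGroup.ker_mk']
      rw [h3, sup_bot_eq] at h2
      exact h2
    have hker : φ.ker = Subgroup.center ↥(commutator X) := by
      rw [hcen]
      ext x
      rw [MonoidHom.mem_ker, Subgroup.mem_subgroupOf]
      simp only [φ, MonoidHom.coe_comp, Function.comp_apply, Subgroup.coe_subtype,
        QuotientGroup.mk'_apply, QuotientGroup.eq_one_iff]
    let e1 : ↥(commutator X) ⧸ φ.ker ≃* X ⧸ Subgroup.center X :=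
      QuotientGroup.quotientKerEquivOfSurjective φ hsurj
    let e2 : ↥(commutator X) ⧸ Subgroup.center ↥(commutator X) ≃* ↥(commutator X) ⧸ φ.ker :=
      QuotientGroup.quotientMulEquivOfEq hker.symm
    exact (e2.trans e1).isSimpleGroup

end Cfsg.Agent.Lib.Helper20

namespace Cfsg.Agent.Lib.Helper20

theorem map_center_mulEquiv {A B : Type*} [Group A] [Group B] (e : A ≃* B) :
    (Subgroup.center A).map (e : A →* B) = Subgroup.center B := by
  ext b
  constructor
  · rintro ⟨a, ha, rfl⟩
    exact (MulEquivClass.apply_mem_center_iff e).mpr ha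
  · intro hb
    refine ⟨e.symm b, ?_, by simp⟩
    exact (MulEquivClass.apply_mem_center_iff e.symm).mpr hb

theorem isQuasisimple_of_mulEquiv {A B : Type*} [Group A] [Group B] (e : A ≃* B)
    (hA : Cfsg.IsQuasisimple A) : Cfsg.IsQuasisimple B := by
  obtain ⟨hp, hs⟩ := hA
  constructor
  · exact Group.IsPerfect.ofSurjective (f := (e : A →* B)) e.surjective
  · exact (QuotientGroup.congr (Subgroup.center A) (Subgroup.center B) e
      (map_center_mulEquiv e)).symm.isSimpleGroup

theorem isQuasisimple_mulEquiv_iff {A B : Type*} [Group A] [Group B] (e : A ≃* B) :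
    Cfsg.IsQuasisimple A ↔ Cfsg.IsQuasisimple B :=
  ⟨isQuasisimple_of_mulEquiv e, isQuasisimple_of_mulEquiv e.symm⟩

/-- Components of a subnormal subgroup are exactly the components of the group inside it. -/
theorem isComponent_map_subtype_iff {G : Type*} [Group G] (H : Subgroup G) (hH : H.IsSubnormal)
    (K : Subgroup ↥H) : Cfsg.IsComponent K ↔ Cfsg.IsComponent (K.map H.subtype) := by
  have e : ↥K ≃* ↥(K.map H.subtype) := K.equivMapOfInjective H.subtype H.subtype_injective
  constructor
  · rintro ⟨hsn, hq⟩
    exact ⟨hsn.trans' hH, isQuasisimple_of_mulEquiv e hq⟩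
  · rintro ⟨hsn, hq⟩
    refine ⟨?_, isQuasisimple_of_mulEquiv e.symm hq⟩
    have := hsn.subgroupOf (K := H)
    rwa [Subgroup.subgroupOf, Subgroup.comap_map_eq_self_of_injective H.subtype_injective] at this

end Cfsg.Agent.Lib.Helper20
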