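import Cfsg.Agent.Lib.Helper20.Cores

/-!
Basic facts on `p`-components (helper20).
-/

set_option autoImplicit false
open Cfsg
open scoped commutatorElement

namespace Cfsg.Agent.Lib.Helper20

theorem commutator_self_isSubnormal {G : Type*} [Group G] {K : Subgroup G} (hK : K.IsSubnormal) :
    (⁅K, K⁆ : Subgroup G).IsSubnormal := by
  have hle : ⁅K, K⁆ ≤ K := Subgroup.commutator_le_self K
  have hn : ((⁅K, K⁆ : Subgroup G).subgroupOf K).Normal :=
    Subgroup.normal_subgroupOf_of_le_normalizer (Subgroup.normalizer_commutator_ge_left K K)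
  exact Subgroup.IsSubnormal.trans hle hn.isSubnormal hK

theorem isComponent_perfect {G : Type*} [Group G] {K : Subgroup G} (hK : Cfsg.IsComponent K) :
    ⁅K, K⁆ = K := by
  have : Group.IsPerfect K := hK.2.1
  exact Subgroup.isPerfect_iff.mp this

theorem isComponent_ne_bot {G : Type*} [Group G] {K : Subgroup G} (hK : Cfsg.IsComponent K) :
    K ≠ ⊥ := by
  have := isQuasisimple_nontrivial hK.2
  exact (Subgroup.nontrivial_iff_ne_bot K).mp this

theorem map_mk'_eq_bot_iff {G : Type*} [Group G] (N : Subgroup G) [N.Normal] (H : Subgroup G) :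
    H.map (QuotientGroup.mk' N) = ⊥ ↔ H ≤ N := by
  rw [Subgroup.map_eq_bot_iff, QuotientGroup.ker_mk']

/-- S1289. -/
theorem pComponent_basic {X : Type*} [Group X] [Finite X] (p : ℕ) [hp : Fact p.Prime]
    (K : Subgroup X) (hK : Cfsg.IsPComponent p K) :
    K.IsSubnormal ∧ ⁅K, K⁆ = K ∧ p ∣ Nat.card ↥K ∧
      ∀ H : Subgroup X, H ≤ K → H.IsSubnormal → ⁅H, H⁆ = H → p ∣ Nat.card ↥H → H = K := by
  obtain ⟨hsn, hcomp, hmin⟩ := hK
  set π := QuotientGroup.mk' (pPrimeCore p X) with hπ
  have hKbar : ⁅K.map π, K.map π⁆ = K.map π := isComponent_perfect hcomp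
  refine ⟨hsn, ?_, ?_, ?_⟩
  · apply hmin _ (commutator_self_isSubnormal hsn) (Subgroup.commutator_le_self K)
    rw [Subgroup.map_commutator, hKbar]
  · by_contra hnd
    have hc : (Nat.card K).Coprime p :=
      ((Nat.Prime.coprime_iff_not_dvd hp.out).mpr hnd).symm
    have hle := subnormal_coprime_le_pPrimeCore p K hsn hc
    have : K.map π = ⊥ := (map_mk'_eq_bot_iff _ K).mpr hle
    exact isComponent_ne_bot hcomp this
  · intro H hHK hHsn hHperf hpH
    apply hmin H hHsn hHK
    have hle : H.map π ≤ K.map π := Subgroup.map_mono hHK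
    have hHbar_sn : (H.map π).IsSubnormal := hHsn.map (QuotientGroup.mk'_surjective _)
    rcases quasisimple_subnormal_top_or_le_center hcomp.2 ((H.map π).subgroupOf (K.map π))
      hHbar_sn.subgroupOf with h1 | h1
    · rw [Subgroup.subgroupOf_eq_top] at h1
      exact le_antisymm hle h1
    · exfalso
      -- H̄ is abelian and perfect, hence trivial
      have hab : ⁅H.map π, H.map π⁆ = ⊥ := by
        rw [Subgroup.commutator_eq_bot_iff_le_centralizer]
        intro a ha
        rw [Subgroup.mem_centralizer_iff]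
        intro b hb
        have ha' : (⟨a, hle ha⟩ : K.map π) ∈ Subgroup.center (K.map π) :=
          h1 (show (⟨a, hle ha⟩ : K.map π) ∈ (H.map π).subgroupOf (K.map π) from ha)
        have := (Subgroup.mem_center_iff.mp ha') ⟨b, hle hb⟩
        exact congrArg Subtype.val this
      have hperf : ⁅H.map π, H.map π⁆ = H.map π := by
        rw [← Subgroup.map_commutator, hHperf]
      rw [hperf] at hab
      have hHO : H ≤ pPrimeCore p X := (map_mk'_eq_bot_iff _ H).mp hab
      have hdvd : Nat.card H ∣ Nat.card (pPrimeCore p X) := Subgroup.card_dvd_of_le hHO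
      have hc := pPrimeCore_coprime' (G := X) p
      have : p ∣ Nat.card (pPrimeCore p X) := hpH.trans hdvd
      have h1 : p ∣ Nat.gcd (Nat.card (pPrimeCore p X)) p := Nat.dvd_gcd this dvd_rfl
      rw [hc] at h1
      exact hp.out.one_lt.ne' (Nat.dvd_one.mp h1)

end Cfsg.Agent.Lib.Helper20

namespace Cfsg.Agent.Lib.Helper20

theorem card_subgroupOf_dvd {G : Type*} [Group G] (H K : Subgroup G) :
    Nat.card (H.subgroupOf K) ∣ Nat.card H := by
  rw [← Subgroup.card_map_of_injective K.subtype_injective (K := H.subgroupOf K)]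
  apply Subgroup.card_dvd_of_le
  rw [Subgroup.subgroupOf_map_subtype]
  exact inf_le_left

/-- `O_{p'}` of a subnormal subgroup `K` is `K ∩ O_{p'}(G)`. -/
theorem pPrimeCore_subnormal_eq {G : Type*} [Group G] [Finite G] (p : ℕ) (K : Subgroup G)
    (hK : K.IsSubnormal) : pPrimeCore p ↥K = (pPrimeCore p G).subgroupOf K := by
  apply le_antisymm
  · intro x hx
    rw [Subgroup.mem_subgroupOf]
    have hsn : ((pPrimeCore p ↥K).map K.subtype).IsSubnormal :=
      (Subgroup.Normal.isSubnormal inferInstance).trans' hK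
    have hc : (Nat.card ((pPrimeCore p ↥K).map K.subtype)).Coprime p := by
      rw [Subgroup.card_map_of_injective K.subtype_injective]
      exact pPrimeCore_coprime' p
    exact subnormal_coprime_le_pPrimeCore p _ hsn hc ⟨x, hx, rfl⟩
  · apply le_pPrimeCore' inferInstance
    exact Nat.Coprime.coprime_dvd_left (card_subgroupOf_dvd _ K) (pPrimeCore_coprime' p)

/-- For a subnormal subgroup `K`, `K / O_{p'}(K)` is the image of `K` in `G / O_{p'}(G)`. -/
noncomputable def quotientCoreEquivMap {G : Type*} [Group G] [Finite G] (p : ℕ) (K : Subgroup G)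
    (hK : K.IsSubnormal) :
    ↥K ⧸ pPrimeCore p ↥K ≃* ↥(K.map (QuotientGroup.mk' (pPrimeCore p G))) :=
  (QuotientGroup.quotientMulEquivOfEq
    (by rw [Subgroup.ker_subgroupMap, QuotientGroup.ker_mk', pPrimeCore_subnormal_eq p K hK])).trans
    (QuotientGroup.quotientKerEquivOfSurjective
      ((QuotientGroup.mk' (pPrimeCore p G)).subgroupMap K)
      (MonoidHom.subgroupMap_surjective _ K))

/-- S1275 (for any prime). -/
theorem pComponent_quotient_core_quasisimple {X : Type*} [Group X] [Finite X] (p : ℕ)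
    (K : Subgroup X) (hK : Cfsg.IsPComponent p K) :
    Cfsg.IsQuasisimple (↥K ⧸ pPrimeCore p ↥K) :=
  isQuasisimple_of_mulEquiv (quotientCoreEquivMap p K hK.1).symm hK.2.1.2

end Cfsg.Agent.Lib.Helper20

namespace Cfsg.Agent.Lib.Helper20

/-- A perfect central extension of a quasisimple group is quasisimple. -/
theorem isQuasisimple_of_central_quotient {K : Type*} [Group K] (hperf : Group.IsPerfect K)
    (N : Subgroup K) [N.Normal] (hN : N ≤ Subgroup.center K)
    (hq : Cfsg.IsQuasisimple (K ⧸ N)) : Cfsg.IsQuasisimple K := by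
  refine ⟨hperf, ?_⟩
  have hs := hq.2
  let ρ : K →* (K ⧸ N) ⧸ Subgroup.center (K ⧸ N) :=
    (QuotientGroup.mk' (Subgroup.center (K ⧸ N))).comp (QuotientGroup.mk' N)
  have hρ : Function.Surjective ρ :=
    (QuotientGroup.mk'_surjective _).comp (QuotientGroup.mk'_surjective _)
  have hmem : ∀ x : K, x ∈ ρ.ker ↔ (QuotientGroup.mk' N x) ∈ Subgroup.center (K ⧸ N) := by
    intro x
    rw [MonoidHom.mem_ker]
    simp only [ρ, MonoidHom.coe_comp, Function.comp_apply, QuotientGroup.mk'_apply,
      QuotientGroup.eq_one_iff]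
  have hker : ρ.ker = Subgroup.center K := by
    apply le_antisymm
    · -- three subgroups lemma
      have hMN : ⁅ρ.ker, (⊤ : Subgroup K)⁆ ≤ N := by
        rw [Subgroup.commutator_le]
        intro x hx k _
        have hx' := (hmem x).mp hx
        have := (Subgroup.mem_center_iff.mp hx') (QuotientGroup.mk' N k)
        rw [← QuotientGroup.eq_one_iff, ← QuotientGroup.mk'_apply, map_commutatorElement,
          commutatorElement_eq_one_iff_mul_comm]
        exact this.symm
      have h2 : ⁅⁅ρ.ker, (⊤ : Subgroup K)⁆, (⊤ : Subgroup K)⁆ = ⊥ := by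
        rw [Subgroup.commutator_top_right_eq_bot_iff_le_center]
        exact hMN.trans hN
      have h1 : ⁅⁅(⊤ : Subgroup K), ρ.ker⁆, (⊤ : Subgroup K)⁆ = ⊥ := by
        rw [Subgroup.commutator_comm ⊤ ρ.ker]; exact h2
      have h3 := Subgroup.commutator_commutator_eq_bot_of_rotate h1 h2
      have htop : ⁅(⊤ : Subgroup K), (⊤ : Subgroup K)⁆ = ⊤ := by
        rw [← commutator_def]; exact hperf.commutator_eq_top
      rw [htop, Subgroup.commutator_top_left_eq_bot_iff_le_center] at h3
      exact h3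
    · intro z hz
      rw [hmem, Subgroup.mem_center_iff]
      intro y
      obtain ⟨k, rfl⟩ := QuotientGroup.mk'_surjective N y
      rw [← map_mul, ← map_mul, (Subgroup.mem_center_iff.mp hz) k]
  exact ((QuotientGroup.quotientMulEquivOfEq hker.symm).trans
    (QuotientGroup.quotientKerEquivOfSurjective ρ hρ)).isSimpleGroup

/-- S1276 for any prime. -/
theorem pComponent_quasisimple_iff {X : Type*} [Group X] [Finite X] (p : ℕ) [hp : Fact p.Prime]
    (K : Subgroup X) (hK : Cfsg.IsPComponent p K) :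
    Cfsg.IsQuasisimple ↥K ↔ ⁅K, ((pPrimeCore p ↥K).map K.subtype)⁆ = ⊥ := by
  obtain ⟨-, hperf, hdvd, -⟩ := pComponent_basic p K hK
  have hcent : ⁅K, ((pPrimeCore p ↥K).map K.subtype)⁆ = ⊥ ↔
      pPrimeCore p ↥K ≤ Subgroup.center ↥K := by
    rw [Subgroup.commutator_eq_bot_iff_le_centralizer]
    constructor
    · intro h o ho
      rw [Subgroup.mem_center_iff]
      rintro ⟨k, hk⟩
      have := h hk
      rw [Subgroup.mem_centralizer_iff] at this
      have := this o.1 ⟨o, ho, rfl⟩
      exact Subtype.ext this.symm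
    · intro h k hk
      rw [Subgroup.mem_centralizer_iff]
      rintro _ ⟨o, ho, rfl⟩
      have := (Subgroup.mem_center_iff.mp (h ho)) ⟨k, hk⟩
      exact (congrArg Subtype.val this).symm
  rw [hcent]
  constructor
  · intro hq
    rcases quasisimple_normal_top_or_le_center hq (pPrimeCore p ↥K) inferInstance with h | h
    · exfalso
      have hc := pPrimeCore_coprime' (G := ↥K) p
      rw [h, Subgroup.card_top] at hc
      have h1 : p ∣ Nat.gcd (Nat.card ↥K) p := Nat.dvd_gcd hdvd dvd_rfl
      rw [hc] at h1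
      exact hp.out.one_lt.ne' (Nat.dvd_one.mp h1)
    · exact h
  · intro h
    exact isQuasisimple_of_central_quotient (Subgroup.isPerfect_iff.mpr hperf) _ h
      (pComponent_quotient_core_quasisimple p K hK)

end Cfsg.Agent.Lib.Helper20

namespace Cfsg.Agent.Lib.Helper20

open scoped IsMulCommutative in
/-- In a finite perfect group `g ^ |G : Z(G)| = 1` for all `g` (transfer into the centre). -/
theorem perfect_pow_index_center {K : Type*} [Group K] [Finite K] (hperf : Group.IsPerfect K)
    (g : K) : g ^ (Subgroup.center K).index = 1 := by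
  have h1 : commutator K ≤ (MonoidHom.transferCenterPow K).ker :=
    Abelianization.commutator_subset_ker _
  rw [hperf.commutator_eq_top] at h1
  have h2 : g ∈ (MonoidHom.transferCenterPow K).ker := h1 (Subgroup.mem_top g)
  rw [MonoidHom.mem_ker] at h2
  have := congrArg Subtype.val h2
  simpa using this

/-- A finite perfect group whose central quotient has order prime to `p` has order prime to `p`. -/
theorem perfect_coprime_of_index_center_coprime {K : Type*} [Group K] [Finite K] (p : ℕ)
    [hp : Fact p.Prime] (hperf : Group.IsPerfect K) (hc : ((Subgroup.center K).index).Coprime p) :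
    (Nat.card K).Coprime p := by
  rw [Nat.coprime_comm, Nat.Prime.coprime_iff_not_dvd hp.out]
  intro hdvd
  obtain ⟨g, hg⟩ := exists_prime_orderOf_dvd_card' p hdvd
  have h1 : orderOf g ∣ (Subgroup.center K).index :=
    orderOf_dvd_of_pow_eq_one (perfect_pow_index_center hperf g)
  rw [hg] at h1
  have h2 : p ∣ Nat.gcd ((Subgroup.center K).index) p := Nat.dvd_gcd h1 dvd_rfl
  rw [hc] at h2
  exact hp.out.one_lt.ne' (Nat.dvd_one.mp h2)

/-- S1273. -/
theorem pComponent_no_normal_coprime_index {X : Type*} [Group X] [Finite X] (p : ℕ)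
    [hp : Fact p.Prime] (K : Subgroup X) (hK : Cfsg.IsPComponent p K) (N : Subgroup ↥K) [hN : N.Normal]
    (hidx : (N.index).Coprime p) : N = ⊤ := by
  obtain ⟨hsn, hcomp, hmin⟩ := hK
  set π := QuotientGroup.mk' (pPrimeCore p X) with hπ
  have hN'sn : (N.map K.subtype).IsSubnormal := hN.isSubnormal.trans' hsn
  have hN'le : N.map K.subtype ≤ K := Subgroup.map_subtype_le N
  have hbar_sn : ((N.map K.subtype).map π).IsSubnormal :=
    hN'sn.map (QuotientGroup.mk'_surjective _)
  rcases quasisimple_subnormal_top_or_le_center hcomp.2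
    (((N.map K.subtype).map π).subgroupOf (K.map π)) hbar_sn.subgroupOf with h1 | h1
  · rw [Subgroup.subgroupOf_eq_top] at h1
    have := hmin (N.map K.subtype) hN'sn hN'le (le_antisymm (Subgroup.map_mono hN'le) h1)
    apply Subgroup.map_injective K.subtype_injective
    rw [this, ← MonoidHom.range_eq_map, Subgroup.range_subtype]
  · exfalso
    set f := π.subgroupMap K with hf
    have hfs : Function.Surjective f := MonoidHom.subgroupMap_surjective π K
    have hle : N.map f ≤ Subgroup.center ↥(K.map π) := by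
      rintro y ⟨n, hn, rfl⟩
      apply h1
      rw [Subgroup.mem_subgroupOf]
      exact ⟨n.1, ⟨n, hn, rfl⟩, rfl⟩
    have hd1 : (Subgroup.center ↥(K.map π)).index ∣ (N.map f).index :=
      Subgroup.index_dvd_of_le hle
    have hd2 : (N.map f).index ∣ N.index := Subgroup.index_map_dvd N hfs
    have hc : ((Subgroup.center ↥(K.map π)).index).Coprime p :=
      Nat.Coprime.coprime_dvd_left (hd1.trans hd2) hidx
    have hKc := perfect_coprime_of_index_center_coprime p hcomp.2.1 hc
    have hle2 := subnormal_coprime_le_pPrimeCore p (K.map π) hcomp.1 hKc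
    rw [pPrimeCore_quotient_eq_bot, le_bot_iff] at hle2
    exact isComponent_ne_bot hcomp hle2

end Cfsg.Agent.Lib.Helper20

namespace Cfsg.Agent.Lib.Helper20

/-- Key step for uniqueness of `p`-components: a `p`-component lies in every subnormal subgroup
whose image in `X / O_{p'}(X)` contains the image of the `p`-component. -/
theorem pComponent_le_of_map_le {X : Type*} [Group X] [Finite X] (p : ℕ) [hp : Fact p.Prime]
    (K₁ : Subgroup X) (hK₁ : Cfsg.IsPComponent p K₁) (M : Subgroup X) (hM : M.IsSubnormal) :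
    K₁.map (QuotientGroup.mk' (pPrimeCore p X)) ≤ M.map (QuotientGroup.mk' (pPrimeCore p X)) →
      K₁ ≤ M := by
  set O := pPrimeCore p X with hO
  set π := QuotientGroup.mk' O with hπ
  induction hM with
  | top => intro _; exact le_top
  | step H K h_le hSubn hN ih =>
    intro hle
    have hK₁K : K₁ ≤ K := ih (hle.trans (Subgroup.map_mono h_le))
    have hKnorm : K ≤ Subgroup.normalizer (H : Set X) :=
      (Subgroup.normal_subgroupOf_iff_le_normalizer h_le).mp hN
    -- the normal subgroup `H ∩ K₁` of `K₁`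
    have hNn : (H.subgroupOf K₁).Normal :=
      Subgroup.normal_subgroupOf_of_le_normalizer (hK₁K.trans hKnorm)
    -- its index is prime to p
    have hidx : ((H.subgroupOf K₁).index).Coprime p := by
      change (H.relIndex K₁).Coprime p
      rw [← Subgroup.relIndex_subgroupOf hK₁K]
      set φ := QuotientGroup.mk' (H.subgroupOf K) with hφ
      have hker : φ.ker = H.subgroupOf K := QuotientGroup.ker_mk' _
      rw [← hker, Subgroup.relIndex_ker]
      have himg : (K₁.subgroupOf K).map φ ≤ (O.subgroupOf K).map φ := by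
        rintro _ ⟨⟨x, hxK⟩, hx, rfl⟩
        have hx1 : x ∈ K₁ := hx
        have : π x ∈ H.map π := hle ⟨x, hx1, rfl⟩
        obtain ⟨h, hh, hhx⟩ := this
        have ho : h⁻¹ * x ∈ O := by
          rw [← QuotientGroup.eq_one_iff, ← QuotientGroup.mk'_apply, ← hπ, map_mul, map_inv,
            hhx, inv_mul_cancel]
        have hoK : h⁻¹ * x ∈ K := K.mul_mem (K.inv_mem (h_le hh)) hxK
        refine ⟨⟨h⁻¹ * x, hoK⟩, ho, ?_⟩
        have hh' : (⟨h, h_le hh⟩ : K) ∈ H.subgroupOf K := hh
        have e : (⟨x, hxK⟩ : K) = ⟨h, h_le hh⟩ * ⟨h⁻¹ * x, hoK⟩ := by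
          apply Subtype.ext; simp
        rw [e, map_mul]
        have : φ ⟨h, h_le hh⟩ = 1 := by
          rw [hφ, QuotientGroup.mk'_apply, QuotientGroup.eq_one_iff]; exact hh'
        rw [this, one_mul]
      have hd1 : Nat.card ((K₁.subgroupOf K).map φ) ∣ Nat.card ((O.subgroupOf K).map φ) :=
        Subgroup.card_dvd_of_le himg
      have hd2 : Nat.card ((O.subgroupOf K).map φ) ∣ Nat.card (O.subgroupOf K) :=
        Subgroup.card_map_dvd _ φ
      have hd3 : Nat.card (O.subgroupOf K) ∣ Nat.card O := card_subgroupOf_dvd O K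
      exact Nat.Coprime.coprime_dvd_left (hd1.trans (hd2.trans hd3)) (pPrimeCore_coprime' p)
    have := pComponent_no_normal_coprime_index p K₁ hK₁ (H.subgroupOf K₁) hidx
    rwa [Subgroup.subgroupOf_eq_top] at this

theorem pComponent_unique {X : Type*} [Group X] [Finite X] (p : ℕ) [hp : Fact p.Prime]
    (K₁ K₂ : Subgroup X) (hK₁ : Cfsg.IsPComponent p K₁) (hK₂ : Cfsg.IsPComponent p K₂)
    (h : K₁.map (QuotientGroup.mk' (pPrimeCore p X)) = K₂.map (QuotientGroup.mk' (pPrimeCore p X))) :
    K₁ = K₂ :=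
  le_antisymm (pComponent_le_of_map_le p K₁ hK₁ K₂ hK₂.1 h.le)
    (pComponent_le_of_map_le p K₂ hK₂ K₁ hK₁.1 h.ge)

theorem pComponent_exists {X : Type*} [Group X] [Finite X] (p : ℕ)
    (Kbar : Subgroup (X ⧸ pPrimeCore p X)) (hKbar : Cfsg.IsComponent Kbar) :
    ∃ K : Subgroup X, Cfsg.IsPComponent p K ∧
      K.map (QuotientGroup.mk' (pPrimeCore p X)) = Kbar := by
  set π := QuotientGroup.mk' (pPrimeCore p X) with hπ
  let S : Set (Subgroup X) := {H | H.IsSubnormal ∧ H.map π = Kbar}
  have hne : S.Nonempty :=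
    ⟨Kbar.comap π, hKbar.1.comap π,
      Subgroup.map_comap_eq_self_of_surjective (QuotientGroup.mk'_surjective _) Kbar⟩
  obtain ⟨K, hKS, hKmin⟩ := WellFounded.has_min (wellFounded_lt (α := Subgroup X)) S hne
  refine ⟨K, ⟨hKS.1, hKS.2 ▸ hKbar, ?_⟩, hKS.2⟩
  intro H hHsn hHK hmap
  by_contra hne
  exact hKmin H ⟨hHsn, hmap.trans hKS.2⟩ (lt_of_le_of_ne hHK hne)

/-- S1272. -/
theorem pComponent_exists_unique_and_pLayer_map {X : Type*} [Group X] [Finite X] (p : ℕ)
    [Fact p.Prime] :
    (∀ Kbar : Subgroup (X ⧸ pPrimeCore p X), Cfsg.IsComponent Kbar →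
      ∃! K : Subgroup X, Cfsg.IsPComponent p K ∧
        K.map (QuotientGroup.mk' (pPrimeCore p X)) = Kbar) ∧
    (Cfsg.pLayer p X).map (QuotientGroup.mk' (pPrimeCore p X)) =
      Cfsg.layer (X ⧸ pPrimeCore p X) := by
  constructor
  · intro Kbar hKbar
    obtain ⟨K, hK, hmap⟩ := pComponent_exists p Kbar hKbar
    refine ⟨K, ⟨hK, hmap⟩, ?_⟩
    rintro K' ⟨hK', hmap'⟩
    exact pComponent_unique p K' K hK' hK (hmap'.trans hmap.symm)
  · apply le_antisymm
    · rw [Subgroup.map_le_iff_le_comap]
      apply sSup_le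
      intro K hK
      rw [← Subgroup.map_le_iff_le_comap]
      exact le_sSup hK.2.1
    · apply sSup_le
      intro Kbar hKbar
      obtain ⟨K, hK, hmap⟩ := pComponent_exists p Kbar hKbar
      rw [← hmap]
      exact Subgroup.map_mono (le_sSup hK)

end Cfsg.Agent.Lib.Helper20

namespace Cfsg.Agent.Lib.Helper20

/-- The layer normalizes every component. -/
theorem layer_le_normalizer_component {G : Type*} [Group G] [Finite G] (K : Subgroup G)
    (hK : Cfsg.IsComponent K) : Cfsg.layer G ≤ Subgroup.normalizer (K : Set G) := by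
  apply sSup_le
  intro J hJ
  by_cases hJK : J = K
  · rw [hJK]; exact Subgroup.le_normalizer
  · have hc := components_commute J K hJ hK hJK
    rw [Subgroup.commutator_eq_bot_iff_le_centralizer] at hc
    exact hc.trans (Subgroup.centralizer_le_normalizer _)

theorem map_conj_map_mk' {X : Type*} [Group X] (N : Subgroup X) [N.Normal] (K : Subgroup X) (g : X) :
    (K.map (MulAut.conj g).toMonoidHom).map (QuotientGroup.mk' N) =
      (K.map (QuotientGroup.mk' N)).map (MulAut.conj (QuotientGroup.mk' N g)).toMonoidHom := by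
  rw [Subgroup.map_map, Subgroup.map_map]
  congr 1

theorem le_map_conj_of_mem_normalizer {G : Type*} [Group G] (K : Subgroup G) (y : G)
    (hy : y ∈ Subgroup.normalizer (K : Set G)) : K ≤ K.map (MulAut.conj y).toMonoidHom := by
  intro z hz
  refine ⟨y⁻¹ * z * y, ?_, by simp [mul_assoc]⟩
  have := (Subgroup.mem_normalizer_iff''.mp hy z).mp hz
  exact this

/-- An element whose image normalizes the image of a `p`-component normalizes the `p`-component. -/
theorem pComponent_mem_normalizer {X : Type*} [Group X] [Finite X] (p : ℕ) [hp : Fact p.Prime]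
    (K : Subgroup X) (hK : Cfsg.IsPComponent p K) (g : X)
    (hg : QuotientGroup.mk' (pPrimeCore p X) g ∈
      Subgroup.normalizer ((K.map (QuotientGroup.mk' (pPrimeCore p X)) : Subgroup _) : Set _)) :
    g ∈ Subgroup.normalizer (K : Set X) := by
  have key : ∀ g : X, QuotientGroup.mk' (pPrimeCore p X) g ∈
      Subgroup.normalizer ((K.map (QuotientGroup.mk' (pPrimeCore p X)) : Subgroup _) : Set _) →
      K ≤ K.map (MulAut.conj g).toMonoidHom := by
    intro g hg
    apply pComponent_le_of_map_le p K hK _ (hK.1.map (MulAut.conj g).surjective)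
    rw [map_conj_map_mk']
    exact le_map_conj_of_mem_normalizer _ _ hg
  have h1 := key g hg
  have h2 := key g⁻¹ (by rw [map_inv]; exact Subgroup.inv_mem _ hg)
  rw [Subgroup.mem_normalizer_iff]
  intro h
  constructor
  · intro hh
    obtain ⟨k, hk, hkh⟩ := h2 hh
    have : g * h * g⁻¹ = k := by
      have : g⁻¹ * k * g⁻¹⁻¹ = h := by simpa using hkh
      rw [← this]; group
    rw [this]; exact hk
  · intro hh
    obtain ⟨k, hk, hkh⟩ := h1 hh
    have : h = k := by
      have h3 : g * k * g⁻¹ = g * h * g⁻¹ := by simpa using hkh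
      have h4 := mul_right_cancel h3
      exact (mul_left_cancel h4).symm
    rw [this]; exact hk

/-- S1274. -/
theorem pComponent_normal_in_pLayer {X : Type*} [Group X] [Finite X] (p : ℕ) [hp : Fact p.Prime]
    (K : Subgroup X) (hK : Cfsg.IsPComponent p K) : (K.subgroupOf (Cfsg.pLayer p X)).Normal := by
  apply Subgroup.normal_subgroupOf_of_le_normalizer
  intro g hg
  apply pComponent_mem_normalizer p K hK g
  have h1 : QuotientGroup.mk' (pPrimeCore p X) g ∈
      (Cfsg.pLayer p X).map (QuotientGroup.mk' (pPrimeCore p X)) := ⟨g, hg, rfl⟩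
  rw [(pComponent_exists_unique_and_pLayer_map (X := X) p).2] at h1
  exact layer_le_normalizer_component _ hK.2.1 h1

end Cfsg.Agent.Lib.Helper20

namespace Cfsg.Agent.Lib.Helper20

theorem pComponent_le_pLayer {X : Type*} [Group X] (p : ℕ) (K : Subgroup X)
    (hK : Cfsg.IsPComponent p K) : K ≤ Cfsg.pLayer p X := le_sSup hK

theorem pLayer_le_normalizer_pComponent {X : Type*} [Group X] [Finite X] (p : ℕ) [hp : Fact p.Prime]
    (K : Subgroup X) (hK : Cfsg.IsPComponent p K) :
    Cfsg.pLayer p X ≤ Subgroup.normalizer (K : Set X) :=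
  (Subgroup.normal_subgroupOf_iff_le_normalizer (pComponent_le_pLayer p K hK)).mp
    (pComponent_normal_in_pLayer p K hK)

/-- `O_{p'}(K)` viewed in `X` is `O_{p'}(X) ∩ K` for subnormal `K`. -/
theorem map_pPrimeCore_subnormal {X : Type*} [Group X] [Finite X] (p : ℕ) (K : Subgroup X)
    (hK : K.IsSubnormal) : (pPrimeCore p ↥K).map K.subtype = pPrimeCore p X ⊓ K := by
  rw [pPrimeCore_subnormal_eq p K hK, Subgroup.subgroupOf_map_subtype]

/-- S1278 for any prime. -/
theorem pComponents_commutator {X : Type*} [Group X] [Finite X] (p : ℕ) [hp : Fact p.Prime]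
    (K L : Subgroup X) (hK : Cfsg.IsPComponent p K) (hL : Cfsg.IsPComponent p L) (hne : K ≠ L) :
    ⁅K, L⁆ ≤ ((pPrimeCore p ↥K).map K.subtype) ⊓ ((pPrimeCore p ↥L).map L.subtype) ∧
      (Cfsg.IsQuasisimple ↥K → ⁅K, L⁆ = ⊥) := by
  set π := QuotientGroup.mk' (pPrimeCore p X) with hπ
  have hbar : K.map π ≠ L.map π := fun h => hne (pComponent_unique p K L hK hL h)
  have hcomm : ⁅K.map π, L.map π⁆ = ⊥ := components_commute _ _ hK.2.1 hL.2.1 hbar
  have hO : ⁅K, L⁆ ≤ pPrimeCore p X := by
    rw [← map_mk'_eq_bot_iff, Subgroup.map_commutator, hcomm]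
  have hKn : ⁅K, L⁆ ≤ K := by
    rw [← Subgroup.le_normalizer_iff_commutator_le_left]
    exact (pComponent_le_pLayer p L hL).trans (pLayer_le_normalizer_pComponent p K hK)
  have hLn : ⁅K, L⁆ ≤ L := by
    rw [← Subgroup.le_normalizer_iff_commutator_le_right]
    exact (pComponent_le_pLayer p K hK).trans (pLayer_le_normalizer_pComponent p L hL)
  have h1 : ⁅K, L⁆ ≤ (pPrimeCore p ↥K).map K.subtype := by
    rw [map_pPrimeCore_subnormal p K hK.1]; exact le_inf hO hKn
  have h2 : ⁅K, L⁆ ≤ (pPrimeCore p ↥L).map L.subtype := by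
    rw [map_pPrimeCore_subnormal p L hL.1]; exact le_inf hO hLn
  refine ⟨le_inf h1 h2, ?_⟩
  intro hq
  have hKO := (pComponent_quasisimple_iff p K hK).mp hq
  have hperf : ⁅K, K⁆ = K := (pComponent_basic p K hK).2.1
  have e1 : ⁅⁅K, L⁆, K⁆ = ⊥ := by
    have h3 : ⁅⁅K, L⁆, K⁆ ≤ ⁅(pPrimeCore p ↥K).map K.subtype, K⁆ :=
      Subgroup.commutator_mono h1 le_rfl
    have h4 : ⁅(pPrimeCore p ↥K).map K.subtype, K⁆ = ⊥ := by
      rw [Subgroup.commutator_comm]; exact hKO
    rw [h4] at h3
    exact le_bot_iff.mp h3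
  have e2 : ⁅⁅L, K⁆, K⁆ = ⊥ := by
    rw [Subgroup.commutator_comm L K]; exact e1
  have e3 : ⁅⁅K, K⁆, L⁆ = ⊥ := Subgroup.commutator_commutator_eq_bot_of_rotate e1 e2
  rwa [hperf] at e3

end Cfsg.Agent.Lib.Helper20

namespace Cfsg.Agent.Lib.Helper20

/-- General form of `pComponent_le_of_map_le`: a subgroup with no proper normal subgroup of index
prime to `p` lies in every subnormal subgroup whose image mod `O_{p'}` contains its image. -/
theorem le_of_map_le_of_no_coprime_index {X : Type*} [Group X] [Finite X] (p : ℕ)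
    (K₁ : Subgroup X)
    (hno : ∀ N : Subgroup ↥K₁, N.Normal → (N.index).Coprime p → N = ⊤)
    (M : Subgroup X) (hM : M.IsSubnormal) :
    K₁.map (QuotientGroup.mk' (pPrimeCore p X)) ≤ M.map (QuotientGroup.mk' (pPrimeCore p X)) →
      K₁ ≤ M := by
  set O := pPrimeCore p X with hO
  set π := QuotientGroup.mk' O with hπ
  induction hM with
  | top => intro _; exact le_top
  | step H K h_le hSubn hN ih =>
    intro hle
    have hK₁K : K₁ ≤ K := ih (hle.trans (Subgroup.map_mono h_le))
    have hKnorm : K ≤ Subgroup.normalizer (H : Set X) :=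
      (Subgroup.normal_subgroupOf_iff_le_normalizer h_le).mp hN
    have hNn : (H.subgroupOf K₁).Normal :=
      Subgroup.normal_subgroupOf_of_le_normalizer (hK₁K.trans hKnorm)
    have hidx : ((H.subgroupOf K₁).index).Coprime p := by
      change (H.relIndex K₁).Coprime p
      rw [← Subgroup.relIndex_subgroupOf hK₁K]
      set φ := QuotientGroup.mk' (H.subgroupOf K) with hφ
      have hker : φ.ker = H.subgroupOf K := QuotientGroup.ker_mk' _
      rw [← hker, Subgroup.relIndex_ker]
      have himg : (K₁.subgroupOf K).map φ ≤ (O.subgroupOf K).map φ := by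
        rintro _ ⟨⟨x, hxK⟩, hx, rfl⟩
        have hx1 : x ∈ K₁ := hx
        have : π x ∈ H.map π := hle ⟨x, hx1, rfl⟩
        obtain ⟨h, hh, hhx⟩ := this
        have ho : h⁻¹ * x ∈ O := by
          rw [← QuotientGroup.eq_one_iff, ← QuotientGroup.mk'_apply, ← hπ, map_mul, map_inv,
            hhx, inv_mul_cancel]
        have hoK : h⁻¹ * x ∈ K := K.mul_mem (K.inv_mem (h_le hh)) hxK
        refine ⟨⟨h⁻¹ * x, hoK⟩, ho, ?_⟩
        have hh' : (⟨h, h_le hh⟩ : K) ∈ H.subgroupOf K := hh
        have e : (⟨x, hxK⟩ : K) = ⟨h, h_le hh⟩ * ⟨h⁻¹ * x, hoK⟩ := by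
          apply Subtype.ext; simp
        rw [e, map_mul]
        have : φ ⟨h, h_le hh⟩ = 1 := by
          rw [hφ, QuotientGroup.mk'_apply, QuotientGroup.eq_one_iff]; exact hh'
        rw [this, one_mul]
      have hd1 : Nat.card ((K₁.subgroupOf K).map φ) ∣ Nat.card ((O.subgroupOf K).map φ) :=
        Subgroup.card_dvd_of_le himg
      have hd2 : Nat.card ((O.subgroupOf K).map φ) ∣ Nat.card (O.subgroupOf K) :=
        Subgroup.card_map_dvd _ φ
      have hd3 : Nat.card (O.subgroupOf K) ∣ Nat.card O := card_subgroupOf_dvd O K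
      exact Nat.Coprime.coprime_dvd_left (hd1.trans (hd2.trans hd3)) (pPrimeCore_coprime' p)
    have := hno (H.subgroupOf K₁) hNn hidx
    rwa [Subgroup.subgroupOf_eq_top] at this

/-- S1887. -/
theorem pComponents_commutator_le_and_criterion {X : Type*} [Group X] [Finite X] {p : ℕ}
    [hp : Fact p.Prime] :
    (∀ K L : Subgroup X, Cfsg.IsPComponent p K → Cfsg.IsPComponent p L → K ≠ L →
      ⁅K, L⁆ ≤ Cfsg.pPrimeCore p X) ∧
    (∀ H : Subgroup X, H.IsSubnormal →
      Cfsg.IsComponent (H.map (QuotientGroup.mk' (Cfsg.pPrimeCore p X))) →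
      (∀ N : Subgroup ↥H, N.Normal → (N.index).Coprime p → N = ⊤) → Cfsg.IsPComponent p H) := by
  constructor
  · intro K L hK hL hne
    have h := (pComponents_commutator p K L hK hL hne).1
    rw [map_pPrimeCore_subnormal p K hK.1] at h
    exact h.trans (inf_le_left.trans inf_le_left)
  · intro H hsn hbar hno
    refine ⟨hsn, hbar, ?_⟩
    intro M hMsn hMH hmap
    exact le_antisymm hMH (le_of_map_le_of_no_coprime_index p H hno M hMsn hmap.ge)

/-- S2019. -/
theorem pComponent_isComponent_iff {X : Type*} [Group X] [Finite X] (p : ℕ) (hp : p.Prime)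
    (K : Subgroup X) (hK : Cfsg.IsPComponent p K) :
    (Cfsg.IsComponent K ↔ ⁅K, Cfsg.pPrimeCore p X⁆ = ⊥) ∧
      (Cfsg.IsComponent K ↔ Cfsg.IsQuasisimple ↥K) := by
  have hpf : Fact p.Prime := ⟨hp⟩
  have h2 : Cfsg.IsComponent K ↔ Cfsg.IsQuasisimple ↥K := ⟨fun h => h.2, fun h => ⟨hK.1, h⟩⟩
  refine ⟨?_, h2⟩
  constructor
  · intro hc
    rcases component_le_or_commutes K (pPrimeCore p X) hc
      (Subgroup.Normal.isSubnormal inferInstance) with h | h
    · exfalso
      have hdvd := (pComponent_basic p K hK).2.2.1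
      have hd2 : Nat.card K ∣ Nat.card (pPrimeCore p X) := Subgroup.card_dvd_of_le h
      have hc' := pPrimeCore_coprime' (G := X) p
      have h1 : p ∣ Nat.gcd (Nat.card (pPrimeCore p X)) p := Nat.dvd_gcd (hdvd.trans hd2) dvd_rfl
      rw [hc'] at h1
      exact hp.one_lt.ne' (Nat.dvd_one.mp h1)
    · exact h
  · intro h
    rw [h2, pComponent_quasisimple_iff p K hK, eq_bot_iff, ← h]
    apply Subgroup.commutator_mono le_rfl
    rw [map_pPrimeCore_subnormal p K hK.1]
    exact inf_le_left

end Cfsg.Agent.Lib.Helper20
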