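import Cfsg.Agent.Lib.Helper20.FactorialBound

/-!
`E(X)` is the last term of the derived series of `F*(X)` (helper20).
-/

set_option autoImplicit false
open Cfsg
open scoped commutatorElement

namespace Cfsg.Agent.Lib.Helper20

/-- The layer is perfect. -/
theorem layer_perfect {X : Type*} [Group X] : ⁅Cfsg.layer X, Cfsg.layer X⁆ = Cfsg.layer X := by
  apply le_antisymm (Subgroup.commutator_le_self _)
  apply sSup_le
  intro K hK
  have h := isComponent_perfect hK
  rw [← h]
  exact Subgroup.commutator_mono (le_sSup hK) (le_sSup hK)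

theorem map_derivedSeries_succ {X : Type*} [Group X] (H : Subgroup X) (n : ℕ) :
    (derivedSeries ↥H (n + 1)).map H.subtype =
      ⁅(derivedSeries ↥H n).map H.subtype, (derivedSeries ↥H n).map H.subtype⁆ := by
  rw [derivedSeries_succ, Subgroup.map_commutator]

/-- S1316. -/
theorem iInf_derivedSeries_genFitting {X : Type*} [Group X] [Finite X] :
    (⨅ n : ℕ, (derivedSeries ↥(Cfsg.generalizedFittingSubgroup X) n).map
      (Cfsg.generalizedFittingSubgroup X).subtype) = Cfsg.layer X := by
  set Fs := Cfsg.generalizedFittingSubgroup X with hFs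
  have hEle : Cfsg.layer X ≤ Fs := le_sup_left
  have hFle : fittingSubgroup X ≤ Fs := le_sup_right
  apply le_antisymm
  · -- the quotient of F* by E is solvable
    set E' := (Cfsg.layer X).subgroupOf Fs with hE'
    have hE'n : E'.Normal := inferInstance
    let f : ↥(fittingSubgroup X) →* ↥Fs ⧸ E' :=
      (QuotientGroup.mk' E').comp (Subgroup.inclusion hFle)
    have hf : Function.Surjective f := by
      intro y
      obtain ⟨⟨x, hx⟩, rfl⟩ := QuotientGroup.mk'_surjective E' y
      have hx' : x ∈ Cfsg.layer X ⊔ fittingSubgroup X := hx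
      rw [Subgroup.mem_sup_of_normal_left] at hx'
      obtain ⟨e, he, g, hg, rfl⟩ := hx'
      refine ⟨⟨g, hg⟩, ?_⟩
      simp only [f, MonoidHom.coe_comp, Function.comp_apply, QuotientGroup.mk'_apply]
      rw [QuotientGroup.eq]
      change (⟨g, hFle hg⟩ : ↥Fs)⁻¹ * ⟨e * g, hx⟩ ∈ E'
      rw [hE', Subgroup.mem_subgroupOf]
      have : ((⟨g, hFle hg⟩ : ↥Fs)⁻¹ * ⟨e * g, hx⟩ : ↥Fs).1 = g⁻¹ * e * g := by
        simp [mul_assoc]
      rw [this]
      exact (inferInstance : (Cfsg.layer X).Normal).conj_mem' e he g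
    have hsolvF := fittingSubgroup_isSolvable (G := X)
    have hsolv : Group.IsSolvable (↥Fs ⧸ E') := Group.isSolvable_of_surjective hf
    obtain ⟨n, hn⟩ := hsolv
    have h1 : (derivedSeries ↥Fs n).map (QuotientGroup.mk' E') ≤ derivedSeries (↥Fs ⧸ E') n :=
      map_derivedSeries_le_derivedSeries _ n
    rw [hn, le_bot_iff, Subgroup.map_eq_bot_iff, QuotientGroup.ker_mk'] at h1
    refine (iInf_le _ n).trans ?_
    rintro _ ⟨x, hx, rfl⟩
    exact h1 hx
  · apply le_iInf
    intro n
    induction n with
    | zero =>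
      rw [derivedSeries_zero, ← MonoidHom.range_eq_map, Subgroup.range_subtype]
      exact hEle
    | succ n ih =>
      rw [map_derivedSeries_succ, ← layer_perfect]
      exact Subgroup.commutator_mono ih ih

end Cfsg.Agent.Lib.Helper20
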