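import Cfsg.Agent.Lib.Helper20.CharPLocal
import Cfsg.Agent.Lib.Helper20.Signalizer

set_option autoImplicit false

namespace Cfsg.Agent.Lib.Helper20

open Cfsg

/-- If `F*(K)` is a `p`-group then `F*(K) = O_p(K)`. -/
theorem genFitting_eq_pCore_of_isPGroup {K : Type*} [Group K] [Finite K] (p : ℕ)
    [hp : Fact p.Prime] (h : IsPGroup p ↥(generalizedFittingSubgroup K)) :
    generalizedFittingSubgroup K = pCore p K :=
  le_antisymm (le_pCore' inferInstance h) ((pCore_le_fitting' p).trans le_sup_right)

theorem isPGroup_genFitting_of_eq_pCore {K : Type*} [Group K] (p : ℕ)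
    (h : generalizedFittingSubgroup K = pCore p K) :
    IsPGroup p ↥(generalizedFittingSubgroup K) := by
  rw [h]; exact pCore_isPGroup' p

/-- A subgroup with solvable-free image: a perfect subgroup lies in every normal subgroup with
`p`-group quotient. -/
theorem perfect_le_of_isPGroup_quotient {A : Type*} [Group A] [Finite A] (p : ℕ)
    [hp : Fact p.Prime] (B : Subgroup A) [B.Normal] (hAB : IsPGroup p (A ⧸ B)) (L : Subgroup A)
    (hL : Group.IsPerfect ↥L) : L ≤ B := by
  have hmap : L.map (QuotientGroup.mk' B) = ⊥ := by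
    by_contra hne
    have hnt : Nontrivial ↥(L.map (QuotientGroup.mk' B)) :=
      (Subgroup.nontrivial_iff_ne_bot _).mpr hne
    have hperf : Group.IsPerfect ↥(L.map (QuotientGroup.mk' B)) :=
      Group.IsPerfect.ofSurjective (f := (QuotientGroup.mk' B).subgroupMap L)
        (MonoidHom.subgroupMap_surjective _ _)
    have hpg : IsPGroup p ↥(L.map (QuotientGroup.mk' B)) := hAB.to_subgroup _
    have hnil : Group.IsNilpotent ↥(L.map (QuotientGroup.mk' B)) := hpg.isNilpotent
    exact Group.IsPerfect.not_isSolvable ↥(L.map (QuotientGroup.mk' B)) inferInstance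
  rw [Subgroup.map_eq_bot_iff, QuotientGroup.ker_mk'] at hmap
  exact hmap

/-- A `p'`-subgroup lies in every normal subgroup with `p`-group quotient. -/
theorem coprime_le_of_isPGroup_quotient {A : Type*} [Group A] [Finite A] (p : ℕ)
    [hp : Fact p.Prime] (B : Subgroup A) [B.Normal] (hAB : IsPGroup p (A ⧸ B)) (D : Subgroup A)
    (hD : (Nat.card D).Coprime p) : D ≤ B := by
  have hmap : D.map (QuotientGroup.mk' B) = ⊥ := by
    apply eq_bot_of_isPGroup_of_coprime p _ (hAB.to_subgroup _)
    exact Nat.Coprime.coprime_dvd_left (Subgroup.card_map_dvd D (QuotientGroup.mk' B)) hD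
  rw [Subgroup.map_eq_bot_iff, QuotientGroup.ker_mk'] at hmap
  exact hmap

/-- Extending by a `p`-group on top preserves `F* = O_p`. -/
theorem genFitting_eq_pCore_of_normal_of_isPGroup_quotient {A : Type*} [Group A] [Finite A] (p : ℕ)
    [hp : Fact p.Prime] (B : Subgroup A) [hB : B.Normal] (hAB : IsPGroup p (A ⧸ B))
    (h : generalizedFittingSubgroup ↥B = pCore p ↥B) :
    generalizedFittingSubgroup A = pCore p A := by
  obtain ⟨hE, hO⟩ := layer_eq_bot_and_pPrimeCore_eq_bot_of_genFitting_eq_pCore p h
  have hEA : layer A = ⊥ := by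
    rw [eq_bot_iff]
    apply sSup_le
    intro L hL
    have hLB : L ≤ B := perfect_le_of_isPGroup_quotient p B hAB L hL.2.1
    have := component_le_map_layer_of_le hL hLB
    rwa [hE, Subgroup.map_bot] at this
  have hOA : pPrimeCore p A = ⊥ := by
    have hn1 : (pPrimeCore p A).Normal := pPrimeCore_normal' p
    have h1 : pPrimeCore p A ≤ B :=
      coprime_le_of_isPGroup_quotient p B hAB _ (pPrimeCore_coprime' p)
    have hn : ((pPrimeCore p A).subgroupOf B).Normal := inferInstance
    have hc : (Nat.card ((pPrimeCore p A).subgroupOf B)).Coprime p := by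
      rw [Nat.card_congr (Subgroup.subgroupOfEquivOfLe h1).toEquiv]
      exact pPrimeCore_coprime' p
    have h2 := le_pPrimeCore' hn hc
    rw [hO] at h2
    rw [eq_bot_iff]
    intro x hx
    have : (⟨x, h1 hx⟩ : ↥B) ∈ (pPrimeCore p A).subgroupOf B := hx
    have h3 := h2 this
    rw [Subgroup.mem_bot] at h3 ⊢
    exact congrArg Subtype.val h3
  unfold generalizedFittingSubgroup
  rw [hEA, bot_sup_eq]
  exact fitting_eq_pCore_of_pPrimeCore_eq_bot p hOA

end Cfsg.Agent.Lib.Helper20

namespace Cfsg.Agent.Lib.Helper20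

open Cfsg

theorem normalizer_le_normalizer_centralizer' {G : Type*} [Group G] (V : Subgroup G) :
    Subgroup.normalizer (V : Set G) ≤
      Subgroup.normalizer ((Subgroup.centralizer (V : Set G) : Subgroup G) : Set G) := by
  have key : ∀ g ∈ Subgroup.normalizer (V : Set G), ∀ c ∈ Subgroup.centralizer (V : Set G),
      g * c * g⁻¹ ∈ Subgroup.centralizer (V : Set G) := by
    intro g hg c hc
    rw [Subgroup.mem_centralizer_iff] at hc ⊢
    intro v hv
    have hv' : g⁻¹ * v * g ∈ V := by
      have h2 := (Subgroup.mem_normalizer_iff.mp (Subgroup.inv_mem _ hg) v).mp hv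
      simpa using h2
    have h3 := hc _ hv'
    calc v * (g * c * g⁻¹) = g * ((g⁻¹ * v * g) * c) * g⁻¹ := by group
      _ = g * (c * (g⁻¹ * v * g)) * g⁻¹ := by rw [h3]
      _ = g * c * g⁻¹ * v := by group
  intro g hg
  rw [Subgroup.mem_normalizer_iff]
  intro c
  constructor
  · exact key g hg c
  · intro h
    have := key g⁻¹ (Subgroup.inv_mem _ hg) _ h
    simpa [mul_assoc] using this

section StepC

variable {G : Type*} [Group G] [Finite G] (p : ℕ) [hp : Fact p.Prime]

/-- If `V ⊴ U` are `p`-subgroups and `F*(C_G(V)) = O_p(C_G(V))`, then the same holds for `C_G(U)`. -/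
theorem genFitting_centralizer_eq_pCore_of_normal (U V : Subgroup G) (hVU : V ≤ U)
    (hUV : U ≤ Subgroup.normalizer (V : Set G)) (hU : IsPGroup p ↥U)
    (h : generalizedFittingSubgroup ↥(Subgroup.centralizer (V : Set G)) =
      pCore p ↥(Subgroup.centralizer (V : Set G))) :
    generalizedFittingSubgroup ↥(Subgroup.centralizer (U : Set G)) =
      pCore p ↥(Subgroup.centralizer (U : Set G)) := by
  -- U normalizes H = C_G(V)
  have hn : U ≤ Subgroup.normalizer ((Subgroup.centralizer (V : Set G) : Subgroup G) : Set G) :=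
    hUV.trans (normalizer_le_normalizer_centralizer' V)
  have hBn : ((Subgroup.centralizer (V : Set G)).subgroupOf
      (Subgroup.centralizer (V : Set G) ⊔ U)).Normal := normal_subgroupOf_sup _ _ hn
  have hAB : IsPGroup p (↥(Subgroup.centralizer (V : Set G) ⊔ U) ⧸
      (Subgroup.centralizer (V : Set G)).subgroupOf (Subgroup.centralizer (V : Set G) ⊔ U)) :=
    IsPGroup.of_surjective hU _ (surjective_to_sup_quotient _ _ hn)
  have hB : generalizedFittingSubgroup ↥((Subgroup.centralizer (V : Set G)).subgroupOf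
      (Subgroup.centralizer (V : Set G) ⊔ U)) = pCore p ↥((Subgroup.centralizer (V : Set G)).subgroupOf
      (Subgroup.centralizer (V : Set G) ⊔ U)) :=
    genFitting_eq_pCore_of_mulEquiv p (Subgroup.subgroupOfEquivOfLe le_sup_left).symm h
  have hA := genFitting_eq_pCore_of_normal_of_isPGroup_quotient p _ hAB hB
  have hC := genFitting_centralizer_eq_pCore p hA
    (U.subgroupOf (Subgroup.centralizer (V : Set G) ⊔ U)) hU.comap_subtype
  have hmap : (Subgroup.centralizer ((U.subgroupOf (Subgroup.centralizer (V : Set G) ⊔ U) :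
      Subgroup ↥(Subgroup.centralizer (V : Set G) ⊔ U)) : Set _)).map
        (Subgroup.centralizer (V : Set G) ⊔ U).subtype = Subgroup.centralizer (U : Set G) := by
    ext x
    constructor
    · rintro ⟨a, ha, rfl⟩
      have ha' := Subgroup.mem_centralizer_iff.mp ha
      rw [Subgroup.mem_centralizer_iff]
      intro u hu
      exact congrArg Subtype.val (ha' ⟨u, le_sup_right (a := Subgroup.centralizer (V : Set G)) hu⟩ hu)
    · intro hx
      have hxA : x ∈ Subgroup.centralizer (V : Set G) ⊔ U :=
        le_sup_left (a := Subgroup.centralizer (V : Set G)) (Subgroup.centralizer_le hVU hx)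
      refine ⟨⟨x, hxA⟩, Subgroup.mem_centralizer_iff.mpr ?_, rfl⟩
      rw [Subgroup.mem_centralizer_iff] at hx
      intro u hu
      exact Subtype.ext (hx u hu)
  exact genFitting_eq_pCore_of_mulEquiv p
    ((Subgroup.equivMapOfInjective _ _ (Subgroup.subtype_injective _)).trans
      (MulEquiv.subgroupCongr hmap)) hC

theorem genFitting_centralizer_eq_pCore_of_le_aux (U : Subgroup G) (hU : IsPGroup p ↥U) (n : ℕ) :
    ∀ V : Subgroup G, V ≤ U → Nat.card U - Nat.card V = n →
      generalizedFittingSubgroup ↥(Subgroup.centralizer (V : Set G)) =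
        pCore p ↥(Subgroup.centralizer (V : Set G)) →
      generalizedFittingSubgroup ↥(Subgroup.centralizer (U : Set G)) =
        pCore p ↥(Subgroup.centralizer (U : Set G)) := by
  induction n using Nat.strong_induction_on with
  | _ n ih =>
    intro V hVU hn h
    by_cases hVeq : V = U
    · subst hVeq; exact h
    have hnil : Group.IsNilpotent ↥U := hU.isNilpotent
    have hnc := normalizerCondition_of_isNilpotent (G := ↥U)
    have hV'lt : V.subgroupOf U < ⊤ := by
      rw [lt_top_iff_ne_top]
      intro htop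
      rw [Subgroup.subgroupOf_eq_top] at htop
      exact hVeq (le_antisymm hVU htop)
    have h1 := hnc _ hV'lt
    have hVV₁ : V ≤ (Subgroup.normalizer ((V.subgroupOf U : Subgroup ↥U) : Set ↥U)).map U.subtype := by
      intro x hx
      exact ⟨⟨x, hVU hx⟩, h1.le (show (⟨x, hVU hx⟩ : ↥U) ∈ V.subgroupOf U from hx), rfl⟩
    have hV₁U : (Subgroup.normalizer ((V.subgroupOf U : Subgroup ↥U) : Set ↥U)).map U.subtype ≤ U :=
      Subgroup.map_subtype_le _
    have hV₁N : (Subgroup.normalizer ((V.subgroupOf U : Subgroup ↥U) : Set ↥U)).map U.subtype ≤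
        Subgroup.normalizer (V : Set G) := by
      rintro x ⟨y, hy, rfl⟩
      have hy' := Subgroup.mem_normalizer_iff.mp hy
      rw [Subgroup.mem_normalizer_iff]
      intro v
      constructor
      · intro hv
        exact (hy' ⟨v, hVU hv⟩).mp hv
      · intro hv
        have hvU : v ∈ U := by
          have h2 : v = (y : G)⁻¹ * ((y : G) * v * (y : G)⁻¹) * (y : G) := by group
          rw [h2]
          exact U.mul_mem (U.mul_mem (U.inv_mem y.2) (hVU hv)) y.2
        exact (hy' ⟨v, hvU⟩).mpr hv
    have hne : V ≠ (Subgroup.normalizer ((V.subgroupOf U : Subgroup ↥U) : Set ↥U)).map U.subtype := by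
      intro heq
      obtain ⟨y, hy1, hy2⟩ := SetLike.exists_of_lt h1
      apply hy2
      have : (y : G) ∈ (Subgroup.normalizer ((V.subgroupOf U : Subgroup ↥U) : Set ↥U)).map U.subtype :=
        ⟨y, hy1, rfl⟩
      rw [← heq] at this
      exact this
    have hlt : V < (Subgroup.normalizer ((V.subgroupOf U : Subgroup ↥U) : Set ↥U)).map U.subtype :=
      lt_of_le_of_ne hVV₁ hne
    have hcard : Nat.card V <
        Nat.card ((Subgroup.normalizer ((V.subgroupOf U : Subgroup ↥U) : Set ↥U)).map U.subtype) :=
      Set.ncard_lt_ncard (SetLike.coe_ssubset_coe.mpr hlt) (Set.toFinite _)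
    have hcard2 := Subgroup.card_le_of_le hV₁U
    have hstep := genFitting_centralizer_eq_pCore_of_normal p _ V hVV₁ hV₁N (hU.to_le hV₁U) h
    exact ih _ (by omega) _ hV₁U rfl hstep

/-- S1246-type: for `p`-subgroups `V ≤ U`, `F*(C_G(V)) = O_p(C_G(V))` implies the same for `U`. -/
theorem genFitting_centralizer_eq_pCore_of_le (U V : Subgroup G) (hVU : V ≤ U) (hU : IsPGroup p ↥U)
    (h : generalizedFittingSubgroup ↥(Subgroup.centralizer (V : Set G)) =
      pCore p ↥(Subgroup.centralizer (V : Set G))) :
    generalizedFittingSubgroup ↥(Subgroup.centralizer (U : Set G)) =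
      pCore p ↥(Subgroup.centralizer (U : Set G)) :=
  genFitting_centralizer_eq_pCore_of_le_aux p U hU _ V hVU rfl h

/-- S1246. -/
theorem isPGroup_genFitting_centralizer_of_le (U V : Subgroup G) (hVU : V ≤ U) (hU : IsPGroup p ↥U)
    (hV : IsPGroup p ↥(generalizedFittingSubgroup ↥(Subgroup.centralizer (V : Set G)))) :
    IsPGroup p ↥(generalizedFittingSubgroup ↥(Subgroup.centralizer (U : Set G))) :=
  isPGroup_genFitting_of_eq_pCore p
    (genFitting_centralizer_eq_pCore_of_le p U V hVU hU (genFitting_eq_pCore_of_isPGroup p hV))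

end StepC

end Cfsg.Agent.Lib.Helper20

namespace Cfsg.Agent.Lib.Helper20

open Cfsg

section LocalTransport

variable {G : Type*} [Group G]

theorem map_centralizer_subgroupOf (M B : Subgroup G) (hBM : B ≤ M)
    (hCM : Subgroup.centralizer (B : Set G) ≤ M) :
    (Subgroup.centralizer ((B.subgroupOf M : Subgroup ↥M) : Set ↥M)).map M.subtype =
      Subgroup.centralizer (B : Set G) := by
  ext x
  constructor
  · rintro ⟨a, ha, rfl⟩
    have ha' := Subgroup.mem_centralizer_iff.mp ha
    rw [Subgroup.mem_centralizer_iff]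
    intro u hu
    exact congrArg Subtype.val (ha' ⟨u, hBM hu⟩ hu)
  · intro hx
    refine ⟨⟨x, hCM hx⟩, Subgroup.mem_centralizer_iff.mpr ?_, rfl⟩
    rw [Subgroup.mem_centralizer_iff] at hx
    intro u hu
    exact Subtype.ext (hx u hu)

/-- `C_M(B) ≃* C_G(B)` when `B ≤ M` and `C_G(B) ≤ M`. -/
noncomputable def centralizerSubgroupOfEquiv (M B : Subgroup G) (hBM : B ≤ M)
    (hCM : Subgroup.centralizer (B : Set G) ≤ M) :
    ↥(Subgroup.centralizer ((B.subgroupOf M : Subgroup ↥M) : Set ↥M)) ≃*
      ↥(Subgroup.centralizer (B : Set G)) :=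
  (Subgroup.equivMapOfInjective _ _ (Subgroup.subtype_injective _)).trans
    (MulEquiv.subgroupCongr (map_centralizer_subgroupOf M B hBM hCM))

variable [Finite G] (p : ℕ) [hp : Fact p.Prime]

/-- If `F*(C_G(B)) = O_p(C_G(B))` for a `p`-subgroup `B`, then `F*(N_G(B)) = O_p(N_G(B))`. -/
theorem genFitting_normalizer_eq_pCore_of_centralizer (B : Subgroup G) (hB : IsPGroup p ↥B)
    (h : generalizedFittingSubgroup ↥(Subgroup.centralizer (B : Set G)) =
      pCore p ↥(Subgroup.centralizer (B : Set G))) :
    generalizedFittingSubgroup ↥(Subgroup.normalizer (B : Set G)) =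
      pCore p ↥(Subgroup.normalizer (B : Set G)) := by
  have hBN : B ≤ Subgroup.normalizer (B : Set G) := Subgroup.le_normalizer
  have hCN : Subgroup.centralizer (B : Set G) ≤ Subgroup.normalizer (B : Set G) :=
    Subgroup.centralizer_le_normalizer _
  have h1 := genFitting_eq_pCore_of_mulEquiv p
    (centralizerSubgroupOfEquiv (Subgroup.normalizer (B : Set G)) B hBN hCN).symm h
  apply genFitting_eq_pCore_of_centralizer p _ _ h1
  have hn : (B.subgroupOf (Subgroup.normalizer (B : Set G))).Normal :=
    Subgroup.normal_in_normalizer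
  exact le_pCore' hn hB.comap_subtype

/-- S2922. -/
theorem genFitting_eq_pCore_of_normalizer_normal (B C : Subgroup G) (hB : IsPGroup p ↥B)
    (hCB : C ≤ B) (hCn : (C.subgroupOf B).Normal)
    (hC : generalizedFittingSubgroup ↥(Subgroup.normalizer (C : Set G)) =
      pCore p ↥(Subgroup.normalizer (C : Set G))) :
    generalizedFittingSubgroup ↥(Subgroup.normalizer (B : Set G)) =
        pCore p ↥(Subgroup.normalizer (B : Set G)) ∧
      generalizedFittingSubgroup ↥(Subgroup.centralizer (B : Set G)) =
        pCore p ↥(Subgroup.centralizer (B : Set G)) := by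
  have hBH : B ≤ Subgroup.normalizer (C : Set G) :=
    (Subgroup.normal_subgroupOf_iff_le_normalizer hCB).mp hCn
  have hCH : Subgroup.centralizer (B : Set G) ≤ Subgroup.normalizer (C : Set G) :=
    (Subgroup.centralizer_le hCB).trans (Subgroup.centralizer_le_normalizer _)
  have h1 := genFitting_centralizer_eq_pCore p hC (B.subgroupOf (Subgroup.normalizer (C : Set G)))
    hB.comap_subtype
  have h2 := genFitting_eq_pCore_of_mulEquiv p
    (centralizerSubgroupOfEquiv (Subgroup.normalizer (C : Set G)) B hBH hCH) h1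
  exact ⟨genFitting_normalizer_eq_pCore_of_centralizer p B hB h2, h2⟩

end LocalTransport

end Cfsg.Agent.Lib.Helper20
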