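import Mathlib
import Cfsg.Prelude.Def_Solvable
import Cfsg.Agent.Lib.Helper20.Cores
import Cfsg.Agent.Lib.Helper4.BurnsideClass
import Cfsg.Agent.Lib.Helper9.ClassSize

/-!
All `p`-regular class sizes are powers of `p` iff the group has an abelian `p`-complement.
-/

namespace Cfsg.Agent.Lib.Helper20

open Cfsg

namespace PRC

universe u

/-- all `p`-regular elements have centralizers of `p`-power index -/
def HP (p : ℕ) (G : Type*) [Group G] : Prop :=
  ∀ x : G, (orderOf x).Coprime p → ∃ k : ℕ, (Subgroup.centralizer ({x} : Set G)).index = p ^ k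

section basics

variable {G : Type*} [Group G] [Finite G] {p : ℕ}

theorem ncard_carrier_eq_index (x : G) :
    (ConjClasses.mk x).carrier.ncard = (Subgroup.centralizer ({x} : Set G)).index := by
  have h1 := Cfsg.Agent.Lib.Helper9.card_carrier_mul_card_centralizer x
  have h2 := Subgroup.index_mul_card (Subgroup.centralizer ({x} : Set G))
  rw [← _root_.Nat.card_coe_set_eq]
  have hpos : 0 < Nat.card (Subgroup.centralizer ({x} : Set G)) := Nat.card_pos
  exact Nat.eq_of_mul_eq_mul_right hpos (h1.trans h2.symm)

omit [Finite G] in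
theorem relIndex_mul_card' {H K : Subgroup G} (h : H ≤ K) :
    H.relIndex K * Nat.card H = Nat.card K := by
  have := Subgroup.relIndex_mul_relIndex (⊥ : Subgroup G) H K bot_le h
  rw [Subgroup.relIndex_bot_left, Subgroup.relIndex_bot_left] at this
  rw [mul_comm]
  exact this

/-- second isomorphism theorem, index form -/
theorem relIndex_dvd_index_of_normal_right (C N : Subgroup G) [N.Normal] :
    C.relIndex N ∣ C.index := by
  have h1 : N.relIndex (C ⊔ N) = N.relIndex C := Subgroup.relIndex_sup_right C N
  have h2 := relIndex_mul_card' (le_sup_right : N ≤ C ⊔ N)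
  have h3 := relIndex_mul_card' (inf_le_left : C ⊓ N ≤ C)
  have h4 := relIndex_mul_card' (inf_le_right : C ⊓ N ≤ N)
  rw [Subgroup.inf_relIndex_left] at h3
  rw [Subgroup.inf_relIndex_right] at h4
  have h5 := relIndex_mul_card' (le_sup_left : C ≤ C ⊔ N)
  have hpos : 0 < Nat.card C := Nat.card_pos
  have h6 : C.relIndex (C ⊔ N) = C.relIndex N := by
    apply Nat.eq_of_mul_eq_mul_right hpos
    rw [h5, ← h2, h1, ← h4, ← h3]
    ring
  rw [← h6]
  exact Subgroup.relIndex_dvd_index_of_le le_sup_left

/-- the `p`-core is a normal `p`-subgroup -/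
theorem pCore_mem' (hp : p.Prime) :
    pCore p G ∈ {N : Subgroup G | N.Normal ∧ IsPGroup p N} := by
  apply SupClosed.sSup_mem _ (Set.toFinite _) _ (le_refl _)
  · rintro H ⟨hHn, hHc⟩ K ⟨hKn, hKc⟩
    exact ⟨inferInstance, IsPGroup.to_sup_of_normal_right hHc hKc⟩
  · exact ⟨inferInstance, IsPGroup.of_bot⟩

theorem le_pCore' {N : Subgroup G} (hN : N.Normal) (hp : IsPGroup p N) : N ≤ pCore p G :=
  le_sSup ⟨hN, hp⟩

/-- a characteristic `p`-subgroup or `p'`-subgroup of a normal subgroup goes into the core -/
theorem pCore_ne_bot_of_normal (hp : p.Prime) {N : Subgroup G} [hN : N.Normal]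
    (h : pCore p N ≠ ⊥) : pCore p G ≠ ⊥ := by
  have hchar := pCore_characteristic (G := N) p
  have hn : ((pCore p N).map N.subtype).Normal :=
    ConjAct.normal_of_characteristic_of_normal (H := N) (K := pCore p N)
  have hpg : IsPGroup p ((pCore p N).map N.subtype) := (pCore_mem' hp).2.map _
  have hle := le_pCore' hn hpg
  intro e
  rw [e, le_bot_iff, Subgroup.map_eq_bot_iff_of_injective _ N.subtype_injective] at hle
  exact h hle

theorem pPrimeCore_ne_bot_of_normal {N : Subgroup G} [hN : N.Normal]
    (h : pPrimeCore p N ≠ ⊥) : pPrimeCore p G ≠ ⊥ := by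
  have hchar := pPrimeCore_characteristic (G := N) p
  have hn : ((pPrimeCore p N).map N.subtype).Normal :=
    ConjAct.normal_of_characteristic_of_normal (H := N) (K := pPrimeCore p N)
  have hc : (Nat.card ((pPrimeCore p N).map N.subtype)).Coprime p := by
    rw [Subgroup.card_map_of_injective N.subtype_injective]
    exact pPrimeCore_coprime' p
  have hle := le_pPrimeCore' hn hc
  intro e
  rw [e, le_bot_iff, Subgroup.map_eq_bot_iff_of_injective _ N.subtype_injective] at hle
  exact h hle

end basics

section inherit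

variable {G : Type*} [Group G] [Finite G] {p : ℕ}

theorem HP.normal (hp : p.Prime) (h : HP p G) (N : Subgroup G) [hN : N.Normal] : HP p N := by
  intro x hx
  have hx' : (orderOf (x : G)).Coprime p := by rwa [Subgroup.orderOf_coe]
  obtain ⟨k, hk⟩ := h (x : G) hx'
  have hdvd : (Subgroup.centralizer ({(x : G)} : Set G)).relIndex N ∣
      (Subgroup.centralizer ({(x : G)} : Set G)).index := relIndex_dvd_index_of_normal_right _ N
  have heq : Subgroup.centralizer ({x} : Set N) =
      (Subgroup.centralizer ({(x : G)} : Set G)).subgroupOf N := by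
    ext y
    simp only [Subgroup.mem_centralizer_iff, Set.mem_singleton_iff, forall_eq,
      Subgroup.mem_subgroupOf]
    constructor
    · intro e
      have := congrArg (Subtype.val) e
      simpa using this
    · intro e
      apply Subtype.ext
      simpa using e
  rw [heq]
  rw [hk] at hdvd
  obtain ⟨j, -, hj⟩ := (Nat.dvd_prime_pow hp).mp hdvd
  exact ⟨j, hj⟩

/-- lifting `p`-regular elements -/
theorem exists_lift (hp : p.Prime) (N : Subgroup G) [N.Normal] (y : G ⧸ N)
    (hy : (orderOf y).Coprime p) :
    ∃ x : G, (QuotientGroup.mk' N) x = y ∧ (orderOf x).Coprime p := by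
  obtain ⟨z, rfl⟩ := QuotientGroup.mk'_surjective N y
  set d := orderOf ((QuotientGroup.mk' N) z) with hd
  set n := orderOf z with hn
  have hnpos : 0 < n := orderOf_pos z
  by_cases hd1 : d = 1
  · refine ⟨1, ?_, by simp⟩
    rw [map_one]
    exact (orderOf_eq_one_iff.mp hd1).symm
  have hdpos : 0 < d := orderOf_pos _
  have hd2 : 1 < d := by omega
  -- n = p^a * m
  set a := n.factorization p with ha
  set m := n / p ^ a with hm
  have hnm : p ^ a * m = n := Nat.ordProj_mul_ordCompl_eq_self n p
  have hmcop : m.Coprime p := (Nat.coprime_ordCompl hp (ne_of_gt hnpos)).symm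
  have hcop : (p ^ a).Coprime d := (Nat.Coprime.pow_left a hy.symm)
  obtain ⟨u, -, hu⟩ := Nat.exists_mul_mod_eq_one_of_coprime hcop hd2
  refine ⟨z ^ (p ^ a * u), ?_, ?_⟩
  · rw [map_pow, ← pow_mod_orderOf, ← hd, hu, pow_one]
  · have h1 : (z ^ (p ^ a * u)) ^ m = 1 := by
      rw [← pow_mul, mul_right_comm, hnm, pow_mul, hn, pow_orderOf_eq_one, one_pow]
    exact Nat.Coprime.coprime_dvd_left (orderOf_dvd_of_pow_eq_one h1) hmcop

theorem HP.quotient (hp : p.Prime) (h : HP p G) (N : Subgroup G) [hN : N.Normal] :
    HP p (G ⧸ N) := by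
  intro y hy
  obtain ⟨x, rfl, hx⟩ := exists_lift hp N y hy
  obtain ⟨k, hk⟩ := h x hx
  have hle : (Subgroup.centralizer ({x} : Set G)).map (QuotientGroup.mk' N) ≤
      Subgroup.centralizer ({(QuotientGroup.mk' N) x} : Set (G ⧸ N)) := by
    rintro _ ⟨c, hc0, rfl⟩
    have hc : c ∈ Subgroup.centralizer ({x} : Set G) := hc0
    rw [Subgroup.mem_centralizer_iff] at hc ⊢
    intro w hw
    rw [Set.mem_singleton_iff] at hw
    rw [hw, ← map_mul, ← map_mul, hc x rfl]
  have h1 := Subgroup.index_dvd_of_le hle
  have h2 : ((Subgroup.centralizer ({x} : Set G)).map (QuotientGroup.mk' N)).index ∣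
      (Subgroup.centralizer ({x} : Set G)).index :=
    Subgroup.index_map_dvd _ (QuotientGroup.mk'_surjective N)
  have h3 := h1.trans h2
  rw [hk] at h3
  obtain ⟨j, -, hj⟩ := (Nat.dvd_prime_pow hp).mp h3
  exact ⟨j, hj⟩

/-- a normal `p'`-subgroup is centralized by every `p`-regular element -/
theorem le_centralizer_of_coprime (h : HP p G) (M : Subgroup G) [M.Normal]
    (hM : (Nat.card M).Coprime p) (x : G) (hx : (orderOf x).Coprime p) :
    M ≤ Subgroup.centralizer ({x} : Set G) := by
  obtain ⟨k, hk⟩ := h x hx
  have h1 : (Subgroup.centralizer ({x} : Set G)).relIndex M ∣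
      (Subgroup.centralizer ({x} : Set G)).index := relIndex_dvd_index_of_normal_right _ M
  have h2 : (Subgroup.centralizer ({x} : Set G)).relIndex M ∣ Nat.card M :=
    Subgroup.relIndex_dvd_card _ _
  rw [hk] at h1
  have h3 : (Subgroup.centralizer ({x} : Set G)).relIndex M = 1 := by
    have hc : (p ^ k).Coprime (Nat.card M) := Nat.Coprime.pow_left k hM.symm
    exact Nat.eq_one_of_dvd_coprimes hc h1 h2
  exact Subgroup.relIndex_eq_one.mp h3

end inherit

section claims

theorem isPGroup_of_no_regular {p : ℕ} (hp : p.Prime) {Y : Type*} [Group Y] [Finite Y]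
    (h : ∀ g : Y, (orderOf g).Coprime p → g = 1) : IsPGroup p Y := by
  intro g
  refine ⟨(orderOf g).factorization p, ?_⟩
  apply h
  have hnm : p ^ (orderOf g).factorization p * (orderOf g / p ^ (orderOf g).factorization p) =
      orderOf g := Nat.ordProj_mul_ordCompl_eq_self (orderOf g) p
  have h1 : (g ^ (p ^ (orderOf g).factorization p)) ^
      (orderOf g / p ^ (orderOf g).factorization p) = 1 := by
    rw [← pow_mul, hnm, pow_orderOf_eq_one]
  exact Nat.Coprime.coprime_dvd_left (orderOf_dvd_of_pow_eq_one h1)
    (Nat.coprime_ordCompl hp (orderOf_pos g).ne').symm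

/-- Claim B: a nontrivial group with `HP` has a nontrivial `p`-core or `p'`-core. -/
theorem cores_ne_bot_aux (p : ℕ) (hp : p.Prime) (n : ℕ) :
    ∀ (Y : Type u) [Group Y] [Finite Y], Nat.card Y = n → HP p Y → Nontrivial Y →
      pCore p Y ≠ ⊥ ∨ pPrimeCore p Y ≠ ⊥ := by
  induction n using Nat.strong_induction_on with
  | _ n ih =>
    intro Y _ _ hn hY hnt
    by_cases hsimple : ∃ N : Subgroup Y, N.Normal ∧ N ≠ ⊥ ∧ N ≠ ⊤
    · obtain ⟨N, hNn, hNb, hNt⟩ := hsimple
      haveI := hNn
      have hlt : Nat.card N < n := by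
        rw [← hn]
        exact card_lt_of_lt_top (lt_top_iff_ne_top.mpr hNt)
      have hntN : Nontrivial N := (Subgroup.nontrivial_iff_ne_bot N).mpr hNb
      rcases ih _ hlt N rfl (hY.normal hp N) hntN with h | h
      · left
        exact pCore_ne_bot_of_normal hp h
      · right
        exact pPrimeCore_ne_bot_of_normal h
    · push Not at hsimple
      have : IsSimpleGroup Y :=
        { toNontrivial := hnt
          eq_bot_or_eq_top_of_normal := fun N hN => by
            by_contra hcon
            push Not at hcon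
            exact hcon.2 (hsimple N hN hcon.1) }
      have htb : (⊤ : Subgroup Y) ≠ ⊥ := by
        have : Nontrivial (Subgroup Y) := Subgroup.nontrivial_iff.mpr hnt
        exact top_ne_bot
      by_cases hreg : ∃ g : Y, g ≠ 1 ∧ (orderOf g).Coprime p
      · obtain ⟨g, hg1, hgc⟩ := hreg
        obtain ⟨k, hk⟩ := hY g hgc
        have : Fintype Y := Fintype.ofFinite Y
        have hprime := Cfsg.Agent.Lib.Helper4.burnside_class p k hp g hg1 hk
        right
        have hcop : (Nat.card Y).Coprime p := by
          have hdvd : orderOf g ∣ Nat.card Y := orderOf_dvd_natCard g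
          rcases (Nat.dvd_prime hprime).mp hdvd with h1 | h1
          · exact absurd (orderOf_eq_one_iff.mp h1) hg1
          · rw [← h1]
            exact hgc
        have hle : (⊤ : Subgroup Y) ≤ pPrimeCore p Y :=
          le_pPrimeCore' inferInstance (by rw [Subgroup.card_top]; exact hcop)
        intro e
        rw [e, le_bot_iff] at hle
        exact htb hle
      · push Not at hreg
        left
        have hpg : IsPGroup p Y := isPGroup_of_no_regular hp (fun g hg => by
          by_contra h
          exact (hreg g h) hg)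
        have hle : (⊤ : Subgroup Y) ≤ pCore p Y :=
          le_pCore' inferInstance (hpg.to_subgroup ⊤)
        intro e
        rw [e, le_bot_iff] at hle
        exact htb hle

/-- Claim X: if `O_p(X) = 1` then every `p`-regular element lies in `O_{p'}(X)`. -/
theorem regular_mem_pPrimeCore_aux (p : ℕ) (hp : p.Prime) (n : ℕ) :
    ∀ (X : Type u) [Group X] [Finite X], Nat.card X = n → HP p X → pCore p X = ⊥ →
      ∀ x : X, (orderOf x).Coprime p → x ∈ pPrimeCore p X := by
  induction n using Nat.strong_induction_on with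
  | _ n ih =>
    intro X _ _ hn hX hO x hx
    have hpf : Fact p.Prime := ⟨hp⟩
    have hMn : (pPrimeCore p X).Normal := (pPrimeCore_mem' p).1
    have hMc : (Nat.card (pPrimeCore p X)).Coprime p := pPrimeCore_coprime' p
    -- regular elements centralize M
    have hreg : ∀ y : X, (orderOf y).Coprime p →
        y ∈ Subgroup.centralizer ((pPrimeCore p X : Subgroup X) : Set X) := by
      intro y hy
      have hle := le_centralizer_of_coprime hX (pPrimeCore p X) hMc y hy
      rw [Subgroup.mem_centralizer_iff]
      intro m hm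
      have hm' := hle hm
      rw [Subgroup.mem_centralizer_iff] at hm'
      exact (hm' y rfl).symm
    by_cases hC : Subgroup.centralizer ((pPrimeCore p X : Subgroup X) : Set X) = ⊤
    · -- M is central
      have hcen : ∀ m ∈ pPrimeCore p X, ∀ y : X, m * y = y * m := by
        intro m hm y
        have hy : y ∈ Subgroup.centralizer ((pPrimeCore p X : Subgroup X) : Set X) := by
          rw [hC]
          exact Subgroup.mem_top y
        rw [Subgroup.mem_centralizer_iff] at hy
        exact hy m hm
      have hXq : HP p (X ⧸ pPrimeCore p X) := hX.quotient hp (pPrimeCore p X)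
      have hq : pPrimeCore p (X ⧸ pPrimeCore p X) = ⊥ := pPrimeCore_quotient_eq_bot p
      by_cases hnt : Nontrivial (X ⧸ pPrimeCore p X)
      · exfalso
        rcases cores_ne_bot_aux p hp _ (X ⧸ pPrimeCore p X) rfl hXq hnt with h | h
        · -- a nontrivial normal p-subgroup of the quotient
          have hNn : (pCore p (X ⧸ pPrimeCore p X)).Normal := (pCore_mem' hp).1
          have hNp : IsPGroup p (pCore p (X ⧸ pPrimeCore p X)) := (pCore_mem' hp).2
          obtain ⟨N, hN⟩ : ∃ N : Subgroup X,
              N = (pCore p (X ⧸ pPrimeCore p X)).comap (QuotientGroup.mk' (pPrimeCore p X)) :=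
            ⟨_, rfl⟩
          have hNnorm : N.Normal := by
            rw [hN]
            infer_instance
          obtain ⟨f, hf⟩ : ∃ f : N →* pCore p (X ⧸ pPrimeCore p X),
              ∀ y : N, ((f y : pCore p (X ⧸ pPrimeCore p X)) : X ⧸ pPrimeCore p X) =
                (QuotientGroup.mk' (pPrimeCore p X)) (y : X) := by
            subst hN
            exact ⟨(QuotientGroup.mk' (pPrimeCore p X)).subgroupComap _, fun y => rfl⟩
          have hfsurj : Function.Surjective f := by
            intro z
            obtain ⟨y, hy⟩ := QuotientGroup.mk'_surjective (pPrimeCore p X) (z : X ⧸ pPrimeCore p X)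
            have hyN : y ∈ N := by
              rw [hN, Subgroup.mem_comap, hy]
              exact z.2
            refine ⟨⟨y, hyN⟩, ?_⟩
            apply Subtype.ext
            rw [hf]
            exact hy
          have hker : f.ker ≤ Subgroup.center N := by
            intro y hy
            rw [MonoidHom.mem_ker] at hy
            have h1 : (QuotientGroup.mk' (pPrimeCore p X)) (y : X) = 1 := by
              rw [← hf, hy]
              rfl
            rw [QuotientGroup.mk'_apply, QuotientGroup.eq_one_iff] at h1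
            rw [Subgroup.mem_center_iff]
            intro w
            apply Subtype.ext
            simp only [Subgroup.coe_mul]
            exact (hcen (y : X) h1 (w : X)).symm
          have hnilN : Group.IsNilpotent (pCore p (X ⧸ pPrimeCore p X)) := hNp.isNilpotent
          have hnil : Group.IsNilpotent N := Subgroup.isNilpotent_of_ker_le_center f hker
          have hSyl : ∀ P : Sylow p N, (P : Subgroup N).Normal := by
            intro P
            infer_instance
          have P : Sylow p N := default
          have hPchar : (P : Subgroup N).Characteristic := P.characteristic_of_normal (hSyl P)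
          have hPn : ((P : Subgroup N).map N.subtype).Normal :=
            ConjAct.normal_of_characteristic_of_normal (H := N) (K := (P : Subgroup N))
          have hPp : IsPGroup p ((P : Subgroup N).map N.subtype) := P.2.map _
          have hPle := le_pCore' hPn hPp
          rw [hO, le_bot_iff, Subgroup.map_eq_bot_iff_of_injective _ N.subtype_injective] at hPle
          -- but p divides |N|
          have hdvd1 : p ∣ Nat.card (pCore p (X ⧸ pPrimeCore p X)) := by
            rcases hNp.card_eq_or_dvd with h1 | h1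
            · exact absurd (Subgroup.card_eq_one.mp h1) h
            · exact h1
          have hdvd2 : p ∣ Nat.card N :=
            hdvd1.trans (Subgroup.card_dvd_of_surjective f hfsurj)
          exact P.ne_bot_of_dvd_card hdvd2 hPle
        · exact h hq
      · rw [not_nontrivial_iff_subsingleton] at hnt
        have : (QuotientGroup.mk' (pPrimeCore p X)) x = (QuotientGroup.mk' (pPrimeCore p X)) 1 :=
          Subsingleton.elim _ _
        rw [map_one, QuotientGroup.mk'_apply, QuotientGroup.eq_one_iff] at this
        exact this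
    · -- the centralizer of M is proper
      have hCn : (Subgroup.centralizer ((pPrimeCore p X : Subgroup X) : Set X)).Normal :=
        Subgroup.normal_centralizer
      have hlt : Nat.card (Subgroup.centralizer ((pPrimeCore p X : Subgroup X) : Set X)) < n := by
        rw [← hn]
        exact card_lt_of_lt_top (lt_top_iff_ne_top.mpr hC)
      have hXC := hX.normal hp (Subgroup.centralizer ((pPrimeCore p X : Subgroup X) : Set X))
      have hOC : pCore p (Subgroup.centralizer ((pPrimeCore p X : Subgroup X) : Set X)) = ⊥ := by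
        by_contra h
        exact (pCore_ne_bot_of_normal hp h) hO
      have hxC := hreg x hx
      have hmem := ih _ hlt _ rfl hXC hOC ⟨x, hxC⟩ (by rw [Subgroup.orderOf_mk]; exact hx)
      have hn2 : ((pPrimeCore p (Subgroup.centralizer
          ((pPrimeCore p X : Subgroup X) : Set X))).map (Subgroup.subtype _)).Normal := by
        have := pPrimeCore_characteristic
          (G := Subgroup.centralizer ((pPrimeCore p X : Subgroup X) : Set X)) p
        exact ConjAct.normal_of_characteristic_of_normal
      have hc2 : (Nat.card ((pPrimeCore p (Subgroup.centralizer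
          ((pPrimeCore p X : Subgroup X) : Set X))).map (Subgroup.subtype _))).Coprime p := by
        rw [Subgroup.card_map_of_injective (Subgroup.subtype_injective _)]
        exact pPrimeCore_coprime' p
      exact le_pPrimeCore' hn2 hc2 (Subgroup.mem_map.mpr ⟨⟨x, hxC⟩, hmem, rfl⟩)

end claims

section forward

variable {G : Type u} [Group G] [Finite G] {p : ℕ}

theorem pCore_quotient_eq_bot' (hp : p.Prime) : pCore p (G ⧸ pCore p G) = ⊥ := by
  have hOn : (pCore p G).Normal := (pCore_mem' hp).1
  have hOp : IsPGroup p (pCore p G) := (pCore_mem' hp).2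
  have hRn : (pCore p (G ⧸ pCore p G)).Normal := (pCore_mem' hp).1
  have hRp : IsPGroup p (pCore p (G ⧸ pCore p G)) := (pCore_mem' hp).2
  have h1 : IsPGroup p ((pCore p (G ⧸ pCore p G)).comap (QuotientGroup.mk' (pCore p G))) := by
    apply hRp.comap_of_ker_isPGroup
    rw [QuotientGroup.ker_mk']
    exact hOp
  have h2 : (pCore p (G ⧸ pCore p G)).comap (QuotientGroup.mk' (pCore p G)) ≤ pCore p G :=
    le_pCore' inferInstance h1
  rw [eq_bot_iff]
  intro y hy
  obtain ⟨x, rfl⟩ := QuotientGroup.mk'_surjective (pCore p G) y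
  have hx : x ∈ (pCore p (G ⧸ pCore p G)).comap (QuotientGroup.mk' (pCore p G)) := hy
  have := h2 hx
  rw [Subgroup.mem_bot, QuotientGroup.mk'_apply, QuotientGroup.eq_one_iff]
  exact this

theorem exists_abelian_complement (hp : p.Prime) (h : HP p G) :
    ∃ H : Subgroup G, (∀ a ∈ H, ∀ b ∈ H, a * b = b * a) ∧ ¬ p ∣ Nat.card H ∧
      ∃ k : ℕ, H.index = p ^ k := by
  have hpf : Fact p.Prime := ⟨hp⟩
  have hOn : (pCore p G).Normal := (pCore_mem' hp).1
  have hOp : IsPGroup p (pCore p G) := (pCore_mem' hp).2
  have hq : HP p (G ⧸ pCore p G) := h.quotient hp _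
  have hqO : pCore p (G ⧸ pCore p G) = ⊥ := pCore_quotient_eq_bot' hp
  have hreg := regular_mem_pPrimeCore_aux p hp _ (G ⧸ pCore p G) rfl hq hqO
  obtain ⟨M, hM⟩ : ∃ M : Subgroup (G ⧸ pCore p G), M = pPrimeCore p (G ⧸ pCore p G) := ⟨_, rfl⟩
  rw [← hM] at hreg
  have hMn : M.Normal := by rw [hM]; exact (pPrimeCore_mem' p).1
  have hMc : (Nat.card M).Coprime p := by rw [hM]; exact pPrimeCore_coprime' p
  -- M is abelian
  have hMab : ∀ a ∈ M, ∀ b ∈ M, a * b = b * a := by
    intro a ha b hb
    have hbreg : (orderOf b).Coprime p := by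
      have : orderOf b ∣ Nat.card M := by
        have := orderOf_dvd_natCard (⟨b, hb⟩ : M)
        rwa [Subgroup.orderOf_mk] at this
      exact Nat.Coprime.coprime_dvd_left this hMc
    have := le_centralizer_of_coprime hq M hMc b hbreg ha
    rw [Subgroup.mem_centralizer_iff] at this
    exact (this b rfl).symm
  -- the quotient by M is a p-group
  have hQp : IsPGroup p ((G ⧸ pCore p G) ⧸ M) := by
    apply isPGroup_of_no_regular hp
    intro y hy
    obtain ⟨x, rfl, hx⟩ := exists_lift hp M y hy
    rw [QuotientGroup.mk'_apply, QuotientGroup.eq_one_iff]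
    exact hreg x hx
  obtain ⟨j, hj⟩ := hQp.exists_card_eq
  have hMidx : M.index = p ^ j := by rw [Subgroup.index_eq_card]; exact hj
  obtain ⟨i, hi⟩ := hOp.exists_card_eq
  -- the preimage L of M
  obtain ⟨L, hL⟩ : ∃ L : Subgroup G, L = M.comap (QuotientGroup.mk' (pCore p G)) := ⟨_, rfl⟩
  have hLn : L.Normal := by rw [hL]; infer_instance
  have hOL : pCore p G ≤ L := by
    intro x hx
    rw [hL, Subgroup.mem_comap, QuotientGroup.mk'_apply, (QuotientGroup.eq_one_iff x).mpr hx]
    exact M.one_mem
  have hLidx : L.index = p ^ j := by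
    rw [hL, Subgroup.index_comap_of_surjective _ (QuotientGroup.mk'_surjective _)]
    exact hMidx
  have hLmap : L.map (QuotientGroup.mk' (pCore p G)) = M := by
    rw [hL]
    exact Subgroup.map_comap_eq_self_of_surjective (QuotientGroup.mk'_surjective _) M
  have hrel : (pCore p G).relIndex L = Nat.card M := by
    have := Subgroup.relIndex_ker (QuotientGroup.mk' (pCore p G)) (K := L)
    rw [QuotientGroup.ker_mk', hLmap] at this
    exact this
  have hcardO : Nat.card ((pCore p G).subgroupOf L) = p ^ i := by
    rw [Nat.card_congr (Subgroup.subgroupOfEquivOfLe hOL).toEquiv]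
    exact hi
  have hcop : Nat.Coprime (Nat.card ((pCore p G).subgroupOf L)) ((pCore p G).subgroupOf L).index := by
    rw [hcardO]
    have : ((pCore p G).subgroupOf L).index = Nat.card M := hrel
    rw [this]
    exact Nat.Coprime.pow_left i hMc.symm
  obtain ⟨H', hH'⟩ := Subgroup.exists_right_complement'_of_coprime hcop
  have hdisj : (pCore p G).subgroupOf L ⊓ H' = ⊥ := hH'.disjoint.eq_bot
  have hcardH' : Nat.card H' = Nat.card M := by
    have h1 := hH'.card_mul_card
    have h2 := relIndex_mul_card' hOL
    rw [hrel, hi] at h2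
    rw [hcardO] at h1
    have hpos : 0 < p ^ i := pow_pos hp.pos i
    apply Nat.eq_of_mul_eq_mul_left hpos
    rw [h1, ← h2]
    ring
  have hidxH' : H'.index = p ^ i := by
    rw [hH'.index_eq_card, hcardO]
  refine ⟨H'.map L.subtype, ?_, ?_, ?_⟩
  · -- abelian
    rintro _ ⟨a, ha, rfl⟩ _ ⟨b, hb, rfl⟩
    have hcomm : a * b * a⁻¹ * b⁻¹ ∈ (pCore p G).subgroupOf L ⊓ H' := by
      rw [Subgroup.mem_inf]
      refine ⟨?_, H'.mul_mem (H'.mul_mem (H'.mul_mem ha hb) (H'.inv_mem ha)) (H'.inv_mem hb)⟩
      rw [Subgroup.mem_subgroupOf]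
      have hLmem : ∀ c : G, c ∈ L → (QuotientGroup.mk' (pCore p G)) c ∈ M := by
        intro c hc
        rw [hL, Subgroup.mem_comap] at hc
        exact hc
      have hamem : (QuotientGroup.mk' (pCore p G)) (a : G) ∈ M := hLmem _ a.2
      have hbmem : (QuotientGroup.mk' (pCore p G)) (b : G) ∈ M := hLmem _ b.2
      have := hMab _ hamem _ hbmem
      rw [← QuotientGroup.eq_one_iff, ← QuotientGroup.mk'_apply]
      simp only [Subgroup.coe_mul, Subgroup.coe_inv, map_mul, map_inv]
      rw [this]
      group
    rw [hdisj, Subgroup.mem_bot] at hcomm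
    have : a * b = b * a := by
      have := congrArg (fun t => t * b * a) hcomm
      simpa [mul_assoc] using this
    have := congrArg (L.subtype) this
    simpa using this
  · rw [Subgroup.card_map_of_injective L.subtype_injective, hcardH']
    intro hdvd
    exact (Nat.Prime.coprime_iff_not_dvd hp).mp hMc.symm hdvd
  · refine ⟨i + j, ?_⟩
    have h1 := Subgroup.relIndex_mul_index (Subgroup.map_subtype_le H' : H'.map L.subtype ≤ L)
    have h2 : (H'.map L.subtype).relIndex L = H'.index := by
      rw [Subgroup.relIndex, Subgroup.subgroupOf, Subgroup.comap_map_eq_self_of_injective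
        L.subtype_injective]
    rw [h2, hidxH', hLidx] at h1
    rw [← h1, pow_add]

end forward

section backward

/-- a `p`-regular element is conjugate into an abelian `p'`-subgroup of `p`-power index -/
theorem conj_mem_aux (p : ℕ) (hp : p.Prime) (n : ℕ) :
    ∀ (G : Type u) [Group G] [Finite G], Nat.card G = n →
      ∀ (H : Subgroup G), (∀ a ∈ H, ∀ b ∈ H, a * b = b * a) → ¬ p ∣ Nat.card H →
        (∃ k : ℕ, H.index = p ^ k) →
        ∀ x : G, (orderOf x).Coprime p → ∃ g : G, g * x * g⁻¹ ∈ H := by
  induction n using Nat.strong_induction_on with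
  | _ n ih =>
    intro G _ _ hn H hab hcop hidx x hx
    obtain ⟨k, hk⟩ := hidx
    by_cases hx1 : x = 1
    · refine ⟨1, ?_⟩
      rw [hx1]
      simp
    have hord1 : orderOf x ≠ 1 := fun e => hx1 (orderOf_eq_one_iff.mp e)
    obtain ⟨q, hq⟩ : ∃ q, q = (orderOf x).minFac := ⟨_, rfl⟩
    have hqp : q.Prime := by rw [hq]; exact Nat.minFac_prime hord1
    have hqdvd : q ∣ orderOf x := by rw [hq]; exact Nat.minFac_dvd _
    have hqne : q ≠ p := by
      intro e
      rw [e] at hqdvd
      exact hp.one_lt.ne' (Nat.Coprime.eq_one_of_dvd hx.symm hqdvd)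
    have hqf : Fact q.Prime := ⟨hqp⟩
    obtain ⟨m, hm⟩ : ∃ m, m = orderOf x / q := ⟨_, rfl⟩
    have hordx1 : orderOf (x ^ m) = q := by
      rw [hm]
      exact orderOf_pow_orderOf_div (orderOf_pos x).ne' hqdvd
    have hQ : IsPGroup q (Subgroup.zpowers (x ^ m)) := by
      apply IsPGroup.of_card (n := 1)
      rw [Nat.card_zpowers, hordx1, pow_one]
    have hndvd : ¬ q ∣ Nat.card (G ⧸ H) := by
      rw [← Subgroup.index_eq_card, hk]
      intro hd
      exact hqne ((Nat.prime_dvd_prime_iff_eq hqp hp).mp (hqp.dvd_of_dvd_pow hd))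
    obtain ⟨c, hc⟩ := hQ.nonempty_fixed_point_of_prime_not_dvd_card (G ⧸ H) hndvd
    obtain ⟨g, rfl⟩ := QuotientGroup.mk_surjective c
    have hfix : ((x ^ m * g : G) : G ⧸ H) = (g : G ⧸ H) :=
      hc ⟨x ^ m, Subgroup.mem_zpowers _⟩
    rw [QuotientGroup.eq] at hfix
    obtain ⟨y, hy⟩ : ∃ y, y = g⁻¹ * x * g := ⟨_, rfl⟩
    have hyconj : y = MulAut.conj g⁻¹ x := by
      rw [hy, MulAut.conj_apply, inv_inv]
    have hyord : orderOf y = orderOf x := by
      rw [hyconj]
      exact MulEquiv.orderOf_eq _ x
    have hym : y ^ m = g⁻¹ * x ^ m * g := by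
      rw [hyconj, ← map_pow, MulAut.conj_apply, inv_inv]
    have hymH : y ^ m ∈ H := by
      rw [hym]
      have := H.inv_mem hfix
      simpa [mul_assoc] using this
    have hym1 : y ^ m ≠ 1 := by
      intro e
      rw [hym] at e
      have : x ^ m = 1 := by
        have := congrArg (fun t => g * t * g⁻¹) e
        simpa [mul_assoc] using this
      rw [this, orderOf_one] at hordx1
      exact hqp.one_lt.ne hordx1
    obtain ⟨C, hCdef⟩ : ∃ C : Subgroup G, C = Subgroup.centralizer ({y ^ m} : Set G) := ⟨_, rfl⟩
    have hHC : H ≤ C := by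
      intro z hz
      rw [hCdef, Subgroup.mem_centralizer_iff]
      intro w hw
      rw [Set.mem_singleton_iff] at hw
      rw [hw]
      exact hab _ hymH _ hz
    have hyC : y ∈ C := by
      rw [hCdef, Subgroup.mem_centralizer_iff]
      intro w hw
      rw [Set.mem_singleton_iff] at hw
      rw [hw]
      exact (Commute.pow_self y m).eq
    by_cases hC : C = ⊤
    · -- `y ^ m` is central
      have hcen : ∀ w : G, y ^ m * w = w * y ^ m := by
        intro w
        have : w ∈ C := by rw [hC]; exact Subgroup.mem_top w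
        rw [hCdef, Subgroup.mem_centralizer_iff] at this
        exact this _ rfl
      obtain ⟨Z, hZ⟩ : ∃ Z : Subgroup G, Z = Subgroup.zpowers (y ^ m) := ⟨_, rfl⟩
      have hZcen : ∀ z ∈ Z, ∀ w : G, w * z = z * w := by
        intro z hz w
        rw [hZ, Subgroup.mem_zpowers_iff] at hz
        obtain ⟨i, rfl⟩ := hz
        exact (Commute.zpow_right (show Commute w (y ^ m) from (hcen w).symm) i).eq
      have hZn : Z.Normal :=
        ⟨fun z hz w => by rw [hZcen z hz w, mul_inv_cancel_right]; exact hz⟩
      have hZH : Z ≤ H := by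
        rw [hZ, Subgroup.zpowers_le]
        exact hymH
      have hZb : Z ≠ ⊥ := by
        intro e
        have : y ^ m ∈ Z := by rw [hZ]; exact Subgroup.mem_zpowers _
        rw [e, Subgroup.mem_bot] at this
        exact hym1 this
      have hlt : Nat.card (G ⧸ Z) < n := by
        rw [← hn, ← Subgroup.index_eq_card, ← Subgroup.index_mul_card Z]
        have h1 : 1 < Nat.card Z := (Subgroup.one_lt_card_iff_ne_bot Z).mpr hZb
        have h2 : 0 < Z.index := Nat.pos_of_ne_zero Z.index_ne_zero_of_finite
        exact lt_mul_of_one_lt_right h2 h1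
      have hab' : ∀ a ∈ H.map (QuotientGroup.mk' Z), ∀ b ∈ H.map (QuotientGroup.mk' Z),
          a * b = b * a := by
        rintro _ ⟨a, ha, rfl⟩ _ ⟨b, hb, rfl⟩
        rw [← map_mul, ← map_mul, hab a ha b hb]
      have hcop' : ¬ p ∣ Nat.card (H.map (QuotientGroup.mk' Z)) := fun hd =>
        hcop (hd.trans (Subgroup.card_map_dvd H (QuotientGroup.mk' Z)))
      have hidx' : ∃ k' : ℕ, (H.map (QuotientGroup.mk' Z)).index = p ^ k' := by
        refine ⟨k, ?_⟩
        rw [Subgroup.index_map_eq H (QuotientGroup.mk'_surjective Z)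
          (by rw [QuotientGroup.ker_mk']; exact hZH)]
        exact hk
      have hyord' : (orderOf ((QuotientGroup.mk' Z) y)).Coprime p := by
        apply Nat.Coprime.coprime_dvd_left (orderOf_map_dvd _ y)
        rw [hyord]
        exact hx
      obtain ⟨gbar, hgbar⟩ := ih _ hlt (G ⧸ Z) rfl (H.map (QuotientGroup.mk' Z)) hab' hcop' hidx'
        ((QuotientGroup.mk' Z) y) hyord'
      obtain ⟨c, rfl⟩ := QuotientGroup.mk'_surjective Z gbar
      rw [← map_inv, ← map_mul, ← map_mul] at hgbar
      obtain ⟨h0, hh0, he⟩ := hgbar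
      have h1 : h0⁻¹ * (c * y * c⁻¹) ∈ Z := by
        rw [← QuotientGroup.eq]
        exact he
      have h2 : c * y * c⁻¹ ∈ H := by
        have := H.mul_mem hh0 (hZH h1)
        rwa [mul_inv_cancel_left] at this
      refine ⟨c * g⁻¹, ?_⟩
      rw [hy] at h2
      simpa [mul_assoc] using h2
    · -- the centralizer is proper
      have hlt : Nat.card C < n := by
        rw [← hn]
        exact card_lt_of_lt_top (lt_top_iff_ne_top.mpr hC)
      have hab' : ∀ a ∈ H.subgroupOf C, ∀ b ∈ H.subgroupOf C, a * b = b * a := by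
        intro a ha b hb
        apply Subtype.ext
        exact hab _ ha _ hb
      have hcop' : ¬ p ∣ Nat.card (H.subgroupOf C) := by
        rw [Nat.card_congr (Subgroup.subgroupOfEquivOfLe hHC).toEquiv]
        exact hcop
      have hidx' : ∃ k' : ℕ, (H.subgroupOf C).index = p ^ k' := by
        have : H.relIndex C ∣ H.index := Subgroup.relIndex_dvd_index_of_le hHC
        rw [hk] at this
        obtain ⟨j, -, hj⟩ := (Nat.dvd_prime_pow hp).mp this
        exact ⟨j, hj⟩
      obtain ⟨c, hc⟩ := ih _ hlt C rfl (H.subgroupOf C) hab' hcop' hidx' ⟨y, hyC⟩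
        (by rw [Subgroup.orderOf_mk, hyord]; exact hx)
      have h2 : (c : G) * y * (c : G)⁻¹ ∈ H := hc
      refine ⟨(c : G) * g⁻¹, ?_⟩
      rw [hy] at h2
      simpa [mul_assoc] using h2

theorem main_iff {G : Type u} [Group G] [Finite G] {p : ℕ} (hp : p.Prime) :
    (∀ x : G, (orderOf x).Coprime p → ∃ k : ℕ, (ConjClasses.mk x).carrier.ncard = p ^ k) ↔
    (∃ H : Subgroup G, IsMulCommutative H ∧ ¬ p ∣ Nat.card H ∧ ∃ k : ℕ, H.index = p ^ k) := by
  constructor
  · intro h
    have hHP : HP p G := by
      intro x hx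
      obtain ⟨k, hk⟩ := h x hx
      rw [ncard_carrier_eq_index] at hk
      exact ⟨k, hk⟩
    obtain ⟨H, hab, hcop, hidx⟩ := exists_abelian_complement hp hHP
    refine ⟨H, ⟨⟨fun a b => Subtype.ext (hab _ a.2 _ b.2)⟩⟩, hcop, hidx⟩
  · rintro ⟨H, hcomm, hcop, k, hk⟩ x hx
    have hab : ∀ a ∈ H, ∀ b ∈ H, a * b = b * a := by
      intro a ha b hb
      have := isMulCommutative_iff.mp hcomm (⟨a, ha⟩ : H) ⟨b, hb⟩
      exact congrArg Subtype.val this
    obtain ⟨g, hg⟩ := conj_mem_aux p hp _ G rfl H hab hcop ⟨k, hk⟩ x hx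
    have hconj : ConjClasses.mk x = ConjClasses.mk (g * x * g⁻¹) := by
      rw [ConjClasses.mk_eq_mk_iff_isConj, isConj_iff]
      exact ⟨g, rfl⟩
    rw [hconj, ncard_carrier_eq_index]
    have hle : H ≤ Subgroup.centralizer ({g * x * g⁻¹} : Set G) := by
      intro z hz
      rw [Subgroup.mem_centralizer_iff]
      intro w hw
      rw [Set.mem_singleton_iff] at hw
      rw [hw]
      exact hab _ hg _ hz
    have hdvd := Subgroup.index_dvd_of_le hle
    rw [hk] at hdvd
    obtain ⟨j, -, hj⟩ := (Nat.dvd_prime_pow hp).mp hdvd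
    exact ⟨j, hj⟩

end backward

end PRC

end Cfsg.Agent.Lib.Helper20
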