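import Cfsg.Agent.Lib.Helper20.AutOrbFwd

set_option linter.style.haveILetI false
set_option linter.unusedVariables false

namespace Cfsg.Agent.Lib.Helper20

variable {G : Type*} [Group G]



theorem autOrb_exists_aut_extending [Finite G] {q : ℕ} [hq : Fact q.Prime] (P : Subgroup G)
    [P.Normal] (hidx : P.index = q) (c d : G) (hc : orderOf c = q) (hd : orderOf d = q)
    (hcP : c ∉ P) (hdP : d ∉ P) (S : MulAut P)
    (hS : S * MulAut.conjNormal c = MulAut.conjNormal d * S) :
    ∃ α : MulAut G, α c = d ∧ ∀ y : P, α (y : G) = (S y : G) := by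
  obtain ⟨φ, hφ⟩ : ∃ φ : Multiplicative ℤ →* MulAut P,
      ∀ k : ℤ, φ (Multiplicative.ofAdd k) = MulAut.conjNormal (c ^ k) :=
    ⟨zpowersHom (MulAut P) (MulAut.conjNormal c), fun k => by
      rw [zpowersHom_apply, toAdd_ofAdd, map_zpow]⟩
  have h₁ : ∀ k : Multiplicative ℤ, P.subtype.comp (φ k).toMonoidHom
      = (MulAut.conj ((zpowersHom G c) k)).toMonoidHom.comp P.subtype := by
    intro k
    obtain ⟨k, rfl⟩ := Multiplicative.ofAdd.surjective k
    ext y
    simp only [MonoidHom.comp_apply, MulEquiv.coe_toMonoidHom, Subgroup.coe_subtype,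
      MulAut.conj_apply, zpowersHom_apply, toAdd_ofAdd]
    rw [hφ, MulAut.conjNormal_apply]
  have hSk : ∀ k : ℤ, S * MulAut.conjNormal (c ^ k) = MulAut.conjNormal (d ^ k) * S := by
    intro k
    have h1 : SemiconjBy S (MulAut.conjNormal c) (MulAut.conjNormal d) := hS
    have h2 := h1.zpow_right k
    rw [map_zpow, map_zpow]
    exact h2
  have h₂ : ∀ k : Multiplicative ℤ, (P.subtype.comp S.toMonoidHom).comp (φ k).toMonoidHom
      = (MulAut.conj ((zpowersHom G d) k)).toMonoidHom.comp (P.subtype.comp S.toMonoidHom) := by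
    intro k
    obtain ⟨k, rfl⟩ := Multiplicative.ofAdd.surjective k
    ext y
    simp only [MonoidHom.comp_apply, MulEquiv.coe_toMonoidHom, Subgroup.coe_subtype,
      MulAut.conj_apply, zpowersHom_apply, toAdd_ofAdd]
    rw [hφ]
    have h3 := congrArg (fun f : MulAut P => ((f y : P) : G)) (hSk k)
    simp only [MulAut.mul_apply] at h3
    rw [h3, MulAut.conjNormal_apply]
  obtain ⟨ψ₁, hψ₁⟩ : ∃ ψ₁ : P ⋊[φ] Multiplicative ℤ →* G, ψ₁ = SemidirectProduct.lift P.subtype
      (zpowersHom G c) h₁ := ⟨_, rfl⟩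
  obtain ⟨ψ₂, hψ₂⟩ : ∃ ψ₂ : P ⋊[φ] Multiplicative ℤ →* G, ψ₂ = SemidirectProduct.lift
      (P.subtype.comp S.toMonoidHom) (zpowersHom G d) h₂ := ⟨_, rfl⟩
  have hψ₁a : ∀ x : P ⋊[φ] Multiplicative ℤ, ψ₁ x = (x.left : G) * c ^ (Multiplicative.toAdd x.right) := by
    intro x
    rw [hψ₁]
    rfl
  have hψ₂a : ∀ x : P ⋊[φ] Multiplicative ℤ,
      ψ₂ x = (S x.left : G) * d ^ (Multiplicative.toAdd x.right) := by
    intro x
    rw [hψ₂]
    rfl
  have kerchar : ∀ e : G, orderOf e = q → e ∉ P → ∀ u : G, u ∈ P → ∀ k : ℤ, u * e ^ k = 1 →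
      u = 1 ∧ (q : ℤ) ∣ k := by
    intro e he heP u hu k huk
    have h1 : e ^ k = u⁻¹ := eq_inv_of_mul_eq_one_right huk
    have h2 : e ^ k = 1 := autOrb_zpow_mem P e he heP k (h1 ▸ P.inv_mem hu)
    refine ⟨?_, ?_⟩
    · rw [h2, mul_one] at huk; exact huk
    · rw [← he]; exact orderOf_dvd_iff_zpow_eq_one.mpr h2
  have hker12 : ψ₁.ker ≤ ψ₂.ker := by
    intro x hx
    rw [MonoidHom.mem_ker, hψ₁a] at hx
    rw [MonoidHom.mem_ker, hψ₂a]
    obtain ⟨h1, h2⟩ := kerchar c hc hcP _ x.left.2 _ hx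
    have h3 : x.left = 1 := Subtype.ext h1
    have h4 : d ^ (Multiplicative.toAdd x.right) = 1 := by
      rw [← hd] at h2; exact orderOf_dvd_iff_zpow_eq_one.mp h2
    rw [h3, map_one, h4]
    simp
  have hker21 : ψ₂.ker ≤ ψ₁.ker := by
    intro x hx
    rw [MonoidHom.mem_ker, hψ₂a] at hx
    rw [MonoidHom.mem_ker, hψ₁a]
    obtain ⟨h1, h2⟩ := kerchar d hd hdP _ (S x.left).2 _ hx
    have h3 : x.left = 1 := by
      have : S x.left = 1 := Subtype.ext h1
      exact (map_eq_one_iff S S.injective).mp this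
    have h4 : c ^ (Multiplicative.toAdd x.right) = 1 := by
      rw [← hc] at h2; exact orderOf_dvd_iff_zpow_eq_one.mp h2
    rw [h3, h4]
    simp
  have hsurj : Function.Surjective ψ₁ := by
    intro g
    obtain ⟨k, u, hu, hg⟩ := autOrb_dec P hidx c hcP g
    refine ⟨SemidirectProduct.inr (Multiplicative.ofAdd (k : ℤ)) * SemidirectProduct.inl ⟨u, hu⟩, ?_⟩
    rw [map_mul, hψ₁, SemidirectProduct.lift_inr, SemidirectProduct.lift_inl, zpowersHom_apply,
      toAdd_ofAdd, zpow_natCast, hg]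
    rfl
  obtain ⟨α₀, hα₀⟩ : ∃ α₀ : G →* G, ∀ x, α₀ (ψ₁ x) = ψ₂ x :=
    ⟨ψ₁.liftOfRightInverse (Function.surjInv hsurj) (Function.rightInverse_surjInv hsurj)
      ⟨ψ₂, hker12⟩, fun x => MonoidHom.liftOfRightInverse_comp_apply _ _ _ _ x⟩
  have hinj : Function.Injective α₀ := by
    rw [injective_iff_map_eq_one]
    intro g hg
    obtain ⟨x, rfl⟩ := hsurj g
    rw [hα₀] at hg
    exact hker21 hg
  refine ⟨MulEquiv.ofBijective α₀ ⟨hinj, Finite.injective_iff_surjective.mp hinj⟩, ?_, ?_⟩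
  · have h1 : ψ₁ (SemidirectProduct.inr (Multiplicative.ofAdd (1 : ℤ))) = c := by
      rw [hψ₁, SemidirectProduct.lift_inr, zpowersHom_apply, toAdd_ofAdd, zpow_one]
    have h2 : ψ₂ (SemidirectProduct.inr (Multiplicative.ofAdd (1 : ℤ))) = d := by
      rw [hψ₂, SemidirectProduct.lift_inr, zpowersHom_apply, toAdd_ofAdd, zpow_one]
    show α₀ c = d
    rw [← h1, hα₀, h2]
  · intro y
    have h1 : ψ₁ (SemidirectProduct.inl y) = (y : G) := by
      rw [hψ₁, SemidirectProduct.lift_inl]; rfl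
    have h2 : ψ₂ (SemidirectProduct.inl y) = (S y : G) := by
      rw [hψ₂, SemidirectProduct.lift_inl]; rfl
    show α₀ (y : G) = (S y : G)
    rw [← h1, hα₀, h2]

theorem autOrb_backward [Finite G] {p q n : ℕ} [hp : Fact p.Prime] [hq : Fact q.Prime]
    (hpq : p ≠ q) (hn : 1 ≤ n) (hcard : Nat.card G = p ^ n * q)
    (hSyl : ∀ P : Sylow p G, (P : Subgroup G).Normal ∧
      Cfsg.IsElementaryAbelian p (P : Subgroup G))
    (hprim : orderOf (p : ZMod q) = q - 1)
    (hfpf : ∀ x y : G, orderOf x = q → orderOf y = p → x * y * x⁻¹ ≠ y) :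
    Nat.card (MulAction.orbitRel.Quotient (MulAut G) G) = 3 := by
  classical
  obtain ⟨P⟩ : Nonempty (Sylow p G) := inferInstance
  obtain ⟨hPn, hPc, hPe⟩ := hSyl P
  haveI := hPn
  have hcomm : ∀ a b : (P : Subgroup G), a * b = b * a := fun a b => hPc.is_comm.comm a b
  have hexp : ∀ a : (P : Subgroup G), a ^ p = 1 := fun a => Subtype.ext (by simpa using hPe a a.2)
  have hPcard : Nat.card (P : Subgroup G) = p ^ n := by
    rw [P.card_eq_multiplicity, hcard]
    congr 1
    rw [Nat.factorization_mul (pow_ne_zero _ hp.out.ne_zero) hq.out.ne_zero, Finsupp.add_apply,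
      hp.out.factorization_pow, hq.out.factorization, Finsupp.single_eq_same,
      Finsupp.single_eq_of_ne hpq, add_zero]
  have hidx : (P : Subgroup G).index = q := by
    have h1 := (P : Subgroup G).card_mul_index
    rw [hPcard, hcard] at h1
    exact Nat.eq_of_mul_eq_mul_left (pow_pos hp.out.pos _) h1
  have hcop : p.Coprime q := (Nat.coprime_primes hp.out hq.out).mpr hpq
  have hmem : ∀ y : G, y ^ p = 1 → y ∈ (P : Subgroup G) := by
    intro y hy
    have h1 : (QuotientGroup.mk y : G ⧸ (P : Subgroup G)) ^ p = 1 := by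
      rw [← QuotientGroup.mk_pow, hy]; rfl
    have h2 : (QuotientGroup.mk y : G ⧸ (P : Subgroup G)) ^ q = 1 := by
      rw [← QuotientGroup.mk_pow]
      exact (QuotientGroup.eq_one_iff _).mpr (hidx ▸ Subgroup.pow_index_mem _ y)
    have h3 := pow_gcd_eq_one.mpr ⟨h1, h2⟩
    rw [Nat.Coprime.gcd_eq_one hcop, pow_one] at h3
    exact (QuotientGroup.eq_one_iff _).mp h3
  have hout : ∀ g : G, g ∉ (P : Subgroup G) → orderOf g = q := by
    intro g hg
    have hgq : g ^ q ∈ (P : Subgroup G) := hidx ▸ Subgroup.pow_index_mem _ g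
    by_cases h1 : g ^ q = 1
    · have hg1 : g ≠ 1 := fun h => hg (h ▸ one_mem _)
      exact orderOf_eq_prime h1 hg1
    · exfalso
      have hy : orderOf (g ^ q) = p := orderOf_eq_prime (hPe _ hgq) h1
      have hx1 : g ^ p ≠ 1 := fun h => hg (hmem g h)
      have hx : orderOf (g ^ p) = q :=
        orderOf_eq_prime (by rw [← pow_mul, mul_comm, pow_mul, hPe _ hgq]) hx1
      refine hfpf (g ^ p) (g ^ q) hx hy ?_
      rw [← pow_add, add_comm, pow_add, mul_inv_cancel_right]
  obtain ⟨c, hc⟩ := exists_prime_orderOf_dvd_card' (G := G) q (hcard ▸ dvd_mul_left q _)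
  have hcP : c ∉ (P : Subgroup G) := by
    intro h
    have h1 : orderOf c ∣ p := orderOf_dvd_of_pow_eq_one (hPe c h)
    rw [hc] at h1
    exact hpq ((Nat.prime_dvd_prime_iff_eq hq.out hp.out).mp h1).symm
  have hTq : ∀ e : G, orderOf e = q → (MulAut.conjNormal e : MulAut (P : Subgroup G)) ^ q = 1 := by
    intro e he
    rw [← map_pow, ← he, pow_orderOf_eq_one, map_one]
  have hTf : ∀ e : G, orderOf e = q → ∀ y : (P : Subgroup G), MulAut.conjNormal e y = y → y = 1 := by
    intro e he y hy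
    by_contra hy1
    have hyo : orderOf (y : G) = p :=
      orderOf_eq_prime (hPe _ y.2) (fun h => hy1 (Subtype.ext h))
    exact hfpf e y he hyo (by rw [← MulAut.conjNormal_apply, hy])
  obtain ⟨v₀, hv₀⟩ : ∃ v₀ : (P : Subgroup G), v₀ ≠ 1 := by
    haveI : Nontrivial (P : Subgroup G) := by
      rw [← Finite.one_lt_card_iff_nontrivial, hPcard]
      exact Nat.one_lt_pow (by omega) hp.out.one_lt
    exact exists_ne 1
  have htrq : ∀ g h : G, g ∉ (P : Subgroup G) → h ∉ (P : Subgroup G) →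
      ∃ α : MulAut G, α g = h := by
    intro g h hg hh
    obtain ⟨S, hS, _⟩ := mul_exists_intertwiner (A := (P : Subgroup G)) hpq hprim hcomm hexp
      (MulAut.conjNormal g) (MulAut.conjNormal h) (hTq g (hout g hg)) (hTq h (hout h hh))
      (hTf g (hout g hg)) (hTf h (hout h hh)) v₀ v₀ hv₀ hv₀
    obtain ⟨α, hα, _⟩ := autOrb_exists_aut_extending (P : Subgroup G) hidx g h (hout g hg)
      (hout h hh) hg hh S hS
    exact ⟨α, hα⟩
  have htrp : ∀ v w : G, v ∈ (P : Subgroup G) → w ∈ (P : Subgroup G) → v ≠ 1 → w ≠ 1 →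
      ∃ α : MulAut G, α v = w := by
    intro v w hv hw hv1 hw1
    obtain ⟨S, hS, hSv⟩ := mul_exists_intertwiner (A := (P : Subgroup G)) hpq hprim hcomm hexp
      (MulAut.conjNormal c) (MulAut.conjNormal c) (hTq c hc) (hTq c hc)
      (hTf c hc) (hTf c hc) ⟨v, hv⟩ ⟨w, hw⟩ (fun h => hv1 (congrArg Subtype.val h))
      (fun h => hw1 (congrArg Subtype.val h))
    obtain ⟨α, _, hα⟩ := autOrb_exists_aut_extending (P : Subgroup G) hidx c c hc hc hcP hcP S hS
    refine ⟨α, ?_⟩
    have := hα ⟨v, hv⟩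
    rw [hSv] at this
    exact this
  -- counting
  have hinv : ∀ x y : G, (Quotient.mk'' x : MulAction.orbitRel.Quotient (MulAut G) G)
      = Quotient.mk'' y → orderOf x = orderOf y := by
    intro x y h
    obtain ⟨α, hα⟩ := (autOrb_mk_eq_iff _ _).mp h
    rw [← hα]
    exact α.orderOf_eq y
  have hv₀o : orderOf (v₀ : G) = p :=
    orderOf_eq_prime (hPe _ v₀.2) (fun h => hv₀ (Subtype.ext h))
  have hne12 : (Quotient.mk'' (1 : G) : MulAction.orbitRel.Quotient (MulAut G) G)
      ≠ Quotient.mk'' (v₀ : G) := by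
    intro h
    have := hinv _ _ h
    rw [orderOf_one, hv₀o] at this
    exact hp.out.ne_one this.symm
  have hne13 : (Quotient.mk'' (1 : G) : MulAction.orbitRel.Quotient (MulAut G) G)
      ≠ Quotient.mk'' c := by
    intro h
    have := hinv _ _ h
    rw [orderOf_one, hc] at this
    exact hq.out.ne_one this.symm
  have hne23 : (Quotient.mk'' (v₀ : G) : MulAction.orbitRel.Quotient (MulAut G) G)
      ≠ Quotient.mk'' c := by
    intro h
    have := hinv _ _ h
    rw [hv₀o, hc] at this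
    exact hpq this
  haveI : Fintype (MulAction.orbitRel.Quotient (MulAut G) G) := Fintype.ofFinite _
  have huniv : (Finset.univ : Finset (MulAction.orbitRel.Quotient (MulAut G) G))
      = {Quotient.mk'' 1, Quotient.mk'' (v₀ : G), Quotient.mk'' c} := by
    symm
    rw [Finset.eq_univ_iff_forall]
    intro x
    induction x using Quotient.inductionOn' with
    | h g =>
      simp only [Finset.mem_insert, Finset.mem_singleton]
      by_cases hg1 : g = 1
      · left; rw [hg1]
      · by_cases hgP : g ∈ (P : Subgroup G)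
        · right; left
          rw [autOrb_mk_eq_iff]
          exact htrp _ _ v₀.2 hgP (fun h => hv₀ (Subtype.ext h)) hg1
        · right; right
          rw [autOrb_mk_eq_iff]
          exact htrq _ _ hcP hgP
  rw [Nat.card_eq_fintype_card, ← Finset.card_univ, huniv, Finset.card_insert_of_notMem,
    Finset.card_insert_of_notMem, Finset.card_singleton]
  · simpa using hne23
  · simp only [Finset.mem_insert, Finset.mem_singleton, not_or]
    exact ⟨hne12, hne13⟩

end Cfsg.Agent.Lib.Helper20
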