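import Cfsg.Agent.Lib.Helper20.AutOrbLin

set_option linter.style.haveILetI false

namespace Cfsg.Agent.Lib.Helper20

/-- the endomorphism of the `ZMod p`-module `Additive A` attached to an automorphism of `A` -/
noncomputable def autToEnd (p : ℕ) (A : Type*) [CommGroup A] [Module (ZMod p) (Additive A)] :
    MulAut A →* Module.End (ZMod p) (Additive A) where
  toFun S := (MonoidHom.toAdditive S.toMonoidHom).toZModLinearMap p
  map_one' := by ext x; rfl
  map_mul' := fun S S' => by ext x; rfl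

theorem autToEnd_apply (p : ℕ) (A : Type*) [CommGroup A] [Module (ZMod p) (Additive A)]
    (S : MulAut A) (x : Additive A) : autToEnd p A S x = Additive.ofMul (S x.toMul) := rfl

theorem mul_primitive_of_transitive_aux {A : Type*} [CommGroup A] {p q : ℕ} [hp : Fact p.Prime]
    [hq : Fact q.Prime] (hpq : p ≠ q) [Module (ZMod p) (Additive A)]
    [Finite A] [Nontrivial A]
    (T : MulAut A) (hTq : T ^ q = 1) (hfpf : ∀ a, T a = a → a = 1)
    (H1 : ∀ i, 0 < i → i < q → ∃ S : MulAut A, S * T = T ^ i * S)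
    (H2 : ∀ v w : A, v ≠ 1 → w ≠ 1 → ∃ (S : MulAut A) (i : ℕ), 0 < i ∧ i < q ∧
      S * T = T ^ i * S ∧ S v = w) :
    orderOf (p : ZMod q) = q - 1 := by
  have hinj : ∀ S : MulAut A, Function.Injective (autToEnd p A S) := by
    intro S x y hxy
    have h1 : S x.toMul = S y.toMul := congrArg Additive.toMul hxy
    exact congrArg Additive.ofMul (S.injective h1)
  refine primitive_of_transitive (V := Additive A) hpq (autToEnd p A T) ?_ ?_ ?_ ?_
  · rw [← map_pow, hTq, map_one]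
  · intro v hv
    have h1 : T v.toMul = v.toMul := congrArg Additive.toMul hv
    exact congrArg Additive.ofMul (hfpf _ h1)
  · intro i hi0 hiq
    obtain ⟨S, hS⟩ := H1 i hi0 hiq
    refine ⟨autToEnd p A S, hinj S, ?_⟩
    rw [← map_pow, ← map_mul, ← map_mul, hS]
  · intro v w hv hw
    obtain ⟨S, i, hi0, hiq, hS, hSv⟩ := H2 v.toMul w.toMul
      (fun h => hv (congrArg Additive.ofMul h)) (fun h => hw (congrArg Additive.ofMul h))
    refine ⟨autToEnd p A S, i, hi0, hiq, hinj S, ?_, ?_⟩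
    · rw [← map_pow, ← map_mul, ← map_mul, hS]
    · exact congrArg Additive.ofMul hSv

theorem mul_primitive_of_transitive {A : Type*} [Group A] {p q : ℕ} [hp : Fact p.Prime]
    [hq : Fact q.Prime] (hpq : p ≠ q)
    [Finite A] [Nontrivial A] (hcomm : ∀ a b : A, a * b = b * a) (hexp : ∀ a : A, a ^ p = 1)
    (T : MulAut A) (hTq : T ^ q = 1) (hfpf : ∀ a, T a = a → a = 1)
    (H1 : ∀ i, 0 < i → i < q → ∃ S : MulAut A, S * T = T ^ i * S)
    (H2 : ∀ v w : A, v ≠ 1 → w ≠ 1 → ∃ (S : MulAut A) (i : ℕ), 0 < i ∧ i < q ∧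
      S * T = T ^ i * S ∧ S v = w) :
    orderOf (p : ZMod q) = q - 1 := by
  letI : CommGroup A := { ‹Group A› with mul_comm := hcomm }
  letI : Module (ZMod p) (Additive A) :=
    AddCommGroup.zmodModule (fun x => congrArg Additive.ofMul (hexp x.toMul))
  exact mul_primitive_of_transitive_aux hpq T hTq hfpf H1 H2

theorem mul_fpf_pair_trivial_aux {A : Type*} [CommGroup A] {p q : ℕ} [hp : Fact p.Prime]
    [hq : Fact q.Prime] (hpq : p ≠ q) [Module (ZMod p) (Additive A)]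
    (X Y : MulAut A) (hXY : X * Y = Y * X) (hX : X ^ q = 1) (hY : Y ^ q = 1)
    (fY : ∀ a, Y a = a → a = 1) (fXY : ∀ j, j < q → ∀ a, (X * Y ^ j) a = a → a = 1) :
    ∀ a : A, a = 1 := by
  have key := fpf_pair_trivial (V := Additive A) hpq (autToEnd p A X) (autToEnd p A Y)
    (by rw [← map_mul, ← map_mul, hXY]) (by rw [← map_pow, hX, map_one])
    (by rw [← map_pow, hY, map_one])
    (fun v hv => congrArg Additive.ofMul (fY _ (congrArg Additive.toMul hv)))
    (fun j hj v hv => by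
      rw [← map_pow, ← map_mul] at hv
      exact congrArg Additive.ofMul (fXY j hj _ (congrArg Additive.toMul hv)))
  intro a
  exact congrArg Additive.toMul (key (Additive.ofMul a))

theorem mul_fpf_pair_trivial {A : Type*} [Group A] {p q : ℕ} [hp : Fact p.Prime]
    [hq : Fact q.Prime] (hpq : p ≠ q)
    (hcomm : ∀ a b : A, a * b = b * a) (hexp : ∀ a : A, a ^ p = 1)
    (X Y : MulAut A) (hXY : X * Y = Y * X) (hX : X ^ q = 1) (hY : Y ^ q = 1)
    (fY : ∀ a, Y a = a → a = 1) (fXY : ∀ j, j < q → ∀ a, (X * Y ^ j) a = a → a = 1) :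
    ∀ a : A, a = 1 := by
  letI : CommGroup A := { ‹Group A› with mul_comm := hcomm }
  letI : Module (ZMod p) (Additive A) :=
    AddCommGroup.zmodModule (fun x => congrArg Additive.ofMul (hexp x.toMul))
  exact mul_fpf_pair_trivial_aux hpq X Y hXY hX hY fY fXY

theorem mul_exists_intertwiner_aux {A : Type*} [CommGroup A] {p q : ℕ} [hp : Fact p.Prime]
    [hq : Fact q.Prime] (hpq : p ≠ q) (hprim : orderOf (p : ZMod q) = q - 1)
    [Module (ZMod p) (Additive A)] [Finite A]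
    (T₁ T₂ : MulAut A) (h₁ : T₁ ^ q = 1) (h₂ : T₂ ^ q = 1)
    (f₁ : ∀ a, T₁ a = a → a = 1) (f₂ : ∀ a, T₂ a = a → a = 1)
    (v₁ v₂ : A) (hv₁ : v₁ ≠ 1) (hv₂ : v₂ ≠ 1) :
    ∃ S : MulAut A, S * T₁ = T₂ * S ∧ S v₁ = v₂ := by
  obtain ⟨S, hS, hSv⟩ := exists_intertwiner (V := Additive A) hpq hprim (autToEnd p A T₁)
    (autToEnd p A T₂) (by rw [← map_pow, h₁, map_one]) (by rw [← map_pow, h₂, map_one])
    (fun v hv => congrArg Additive.ofMul (f₁ _ (congrArg Additive.toMul hv)))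
    (fun v hv => congrArg Additive.ofMul (f₂ _ (congrArg Additive.toMul hv)))
    (Additive.ofMul v₁) (Additive.ofMul v₂) (fun h => hv₁ (congrArg Additive.toMul h))
    (fun h => hv₂ (congrArg Additive.toMul h))
  refine ⟨MulEquiv.toAdditive.symm S, ?_, ?_⟩
  · ext a
    exact congrArg Additive.toMul (hS (Additive.ofMul a))
  · exact congrArg Additive.toMul hSv

theorem mul_exists_intertwiner {A : Type*} [Group A] {p q : ℕ} [hp : Fact p.Prime]
    [hq : Fact q.Prime] (hpq : p ≠ q) (hprim : orderOf (p : ZMod q) = q - 1)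
    [Finite A] (hcomm : ∀ a b : A, a * b = b * a) (hexp : ∀ a : A, a ^ p = 1)
    (T₁ T₂ : MulAut A) (h₁ : T₁ ^ q = 1) (h₂ : T₂ ^ q = 1)
    (f₁ : ∀ a, T₁ a = a → a = 1) (f₂ : ∀ a, T₂ a = a → a = 1)
    (v₁ v₂ : A) (hv₁ : v₁ ≠ 1) (hv₂ : v₂ ≠ 1) :
    ∃ S : MulAut A, S * T₁ = T₂ * S ∧ S v₁ = v₂ := by
  letI : CommGroup A := { ‹Group A› with mul_comm := hcomm }
  letI : Module (ZMod p) (Additive A) :=
    AddCommGroup.zmodModule (fun x => congrArg Additive.ofMul (hexp x.toMul))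
  exact mul_exists_intertwiner_aux hpq hprim T₁ T₂ h₁ h₂ f₁ f₂ v₁ v₂ hv₁ hv₂

end Cfsg.Agent.Lib.Helper20
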