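import Mathlib
import Cfsg.Prelude.Def_Transfer
import Cfsg.Agent.Lib.Helper4.BurnsidePQ
import Cfsg.Agent.Lib.Helper20.AutOrbMul

set_option linter.style.haveILetI false
set_option linter.unusedVariables false

open scoped commutatorElement

namespace Cfsg.Agent.Lib.Helper20

variable {G : Type*} [Group G]



theorem autOrb_mk_eq_iff (x y : G) :
    (Quotient.mk'' x : MulAction.orbitRel.Quotient (MulAut G) G) = Quotient.mk'' y ↔
      ∃ α : MulAut G, α y = x := by
  rw [Quotient.eq'', MulAction.orbitRel_apply, MulAction.mem_orbit_iff]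
  rfl

theorem autOrb_data [Finite G] {p₀ q₀ : ℕ} (hp : p₀.Prime) (hq : q₀.Prime) (hne : p₀ ≠ q₀)
    (x₀ y₀ : G) (hx : orderOf x₀ = p₀) (hy : orderOf y₀ = q₀)
    (h3 : Nat.card (MulAction.orbitRel.Quotient (MulAut G) G) = 3) :
    (∀ g : G, orderOf g = 1 ∨ orderOf g = p₀ ∨ orderOf g = q₀) ∧
    (∀ g h : G, orderOf g = orderOf h → ∃ α : MulAut G, α g = h) := by
  classical
  have hp1 : p₀ ≠ 1 := hp.ne_one
  have hq1 : q₀ ≠ 1 := hq.ne_one
  have hinv : ∀ (α : MulAut G) (z : G), orderOf (α z) = orderOf z := fun α z => α.orderOf_eq z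
  have hne12 : (Quotient.mk'' (1 : G) : MulAction.orbitRel.Quotient (MulAut G) G)
      ≠ Quotient.mk'' x₀ := by
    intro h
    obtain ⟨α, hα⟩ := (autOrb_mk_eq_iff _ _).mp h
    have := hinv α x₀
    rw [hα, orderOf_one, hx] at this
    exact hp1 this.symm
  have hne13 : (Quotient.mk'' (1 : G) : MulAction.orbitRel.Quotient (MulAut G) G)
      ≠ Quotient.mk'' y₀ := by
    intro h
    obtain ⟨α, hα⟩ := (autOrb_mk_eq_iff _ _).mp h
    have := hinv α y₀
    rw [hα, orderOf_one, hy] at this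
    exact hq1 this.symm
  have hne23 : (Quotient.mk'' x₀ : MulAction.orbitRel.Quotient (MulAut G) G)
      ≠ Quotient.mk'' y₀ := by
    intro h
    obtain ⟨α, hα⟩ := (autOrb_mk_eq_iff _ _).mp h
    have := hinv α y₀
    rw [hα, hx, hy] at this
    exact hne this
  haveI : Fintype (MulAction.orbitRel.Quotient (MulAut G) G) := Fintype.ofFinite _
  have hall : ∀ c : MulAction.orbitRel.Quotient (MulAut G) G,
      c = Quotient.mk'' 1 ∨ c = Quotient.mk'' x₀ ∨ c = Quotient.mk'' y₀ := by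
    intro c
    by_contra hc
    push Not at hc
    have h4 : ({c, Quotient.mk'' 1, Quotient.mk'' x₀, Quotient.mk'' y₀} :
        Finset (MulAction.orbitRel.Quotient (MulAut G) G)).card = 4 := by
      rw [Finset.card_insert_of_notMem, Finset.card_insert_of_notMem,
        Finset.card_insert_of_notMem, Finset.card_singleton]
      · simpa using hne23
      · simp only [Finset.mem_insert, Finset.mem_singleton, not_or]
        exact ⟨hne12, hne13⟩
      · simp only [Finset.mem_insert, Finset.mem_singleton, not_or]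
        exact ⟨hc.1, hc.2.1, hc.2.2⟩
    have h5 := Finset.card_le_univ ({c, Quotient.mk'' 1, Quotient.mk'' x₀, Quotient.mk'' y₀} :
        Finset (MulAction.orbitRel.Quotient (MulAut G) G))
    rw [h4, ← Nat.card_eq_fintype_card, h3] at h5
    omega
  have hbase : ∀ g : G, ∃ z : G, (z = 1 ∨ z = x₀ ∨ z = y₀) ∧ ∃ α : MulAut G, α z = g := by
    intro g
    rcases hall (Quotient.mk'' g) with h | h | h
    · exact ⟨1, Or.inl rfl, (autOrb_mk_eq_iff _ _).mp h⟩
    · exact ⟨x₀, Or.inr (Or.inl rfl), (autOrb_mk_eq_iff _ _).mp h⟩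
    · exact ⟨y₀, Or.inr (Or.inr rfl), (autOrb_mk_eq_iff _ _).mp h⟩
  have hbord : ∀ z : G, (z = 1 ∨ z = x₀ ∨ z = y₀) →
      (orderOf z = 1 ∨ orderOf z = p₀ ∨ orderOf z = q₀) := by
    rintro z (rfl | rfl | rfl)
    · exact Or.inl orderOf_one
    · exact Or.inr (Or.inl hx)
    · exact Or.inr (Or.inr hy)
  have hbinj : ∀ z z' : G, (z = 1 ∨ z = x₀ ∨ z = y₀) → (z' = 1 ∨ z' = x₀ ∨ z' = y₀) →
      orderOf z = orderOf z' → z = z' := by
    rintro z z' (rfl | rfl | rfl) (rfl | rfl | rfl) h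
    all_goals first
      | rfl
      | (exfalso; rw [orderOf_one] at h; omega)
      | (exfalso; omega)
  constructor
  · intro g
    obtain ⟨z, hz, α, rfl⟩ := hbase g
    rw [hinv]
    exact hbord z hz
  · intro g h hgh
    obtain ⟨z, hz, α, rfl⟩ := hbase g
    obtain ⟨z', hz', β, rfl⟩ := hbase h
    rw [hinv, hinv] at hgh
    have := hbinj z z' hz hz' hgh
    subst this
    refine ⟨β * α⁻¹, ?_⟩
    rw [MulAut.mul_apply, MulAut.inv_apply_self]




theorem autOrb_two_primes {n : ℕ} (hnpp : ¬ IsPrimePow n) (hnt : n ≠ 1) (hn0 : n ≠ 0) :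
    ∃ p₀ q₀ : ℕ, p₀.Prime ∧ q₀.Prime ∧ p₀ ≠ q₀ ∧ p₀ ∣ n ∧ q₀ ∣ n := by
  have hp : n.minFac.Prime := Nat.minFac_prime hnt
  by_contra hcon
  push Not at hcon
  have h1 : ∀ {d : ℕ}, d.Prime → d ∣ n → d = n.minFac := by
    intro d hd hdn
    by_contra hne
    exact hcon n.minFac d hp hd (Ne.symm hne) (Nat.minFac_dvd n) hdn
  have h2 := Nat.eq_prime_pow_of_unique_prime_dvd hn0 h1
  apply hnpp
  rw [h2]
  refine hp.isPrimePow.pow ?_
  intro h0
  rw [h0, pow_zero] at h2
  exact hnt h2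

theorem autOrb_exists_char_abelian [Nontrivial G] [hs : Group.IsSolvable G] :
    ∃ A : Subgroup G, A.Characteristic ∧ A ≠ ⊥ ∧ ∀ a ∈ A, ∀ b ∈ A, a * b = b * a := by
  classical
  obtain ⟨n, hn, hmin⟩ : ∃ n, derivedSeries G n = ⊥ ∧ ∀ m < n, derivedSeries G m ≠ ⊥ :=
    ⟨Nat.find hs.solvable, Nat.find_spec hs.solvable, fun m hm => Nat.find_min hs.solvable hm⟩
  cases n with
  | zero =>
    rw [derivedSeries_zero] at hn
    exact absurd hn top_ne_bot
  | succ n =>
    refine ⟨derivedSeries G n, inferInstance, hmin n (Nat.lt_succ_self n), ?_⟩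
    intro a ha b hb
    rw [derivedSeries_succ] at hn
    have h1 : ⁅a, b⁆ ∈ ⁅derivedSeries G n, derivedSeries G n⁆ :=
      Subgroup.commutator_mem_commutator ha hb
    rw [hn, Subgroup.mem_bot] at h1
    exact commutatorElement_eq_one_iff_mul_comm.mp h1




theorem autOrb_char_mem {A : Subgroup G} (hA : A.Characteristic) (α : MulAut G) {a : G}
    (ha : a ∈ A) : α a ∈ A := by
  have h1 := hA.fixed α
  have h2 : a ∈ A.comap α.toMonoidHom := by rw [h1]; exact ha
  exact h2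

/-- an `r`-element has order `r` when all orders are `1`, `p₀`, `q₀` -/
theorem autOrb_order_pelement {p₀ q₀ r : ℕ} (hp : p₀.Prime) (hq : q₀.Prime) (hr : r.Prime)
    (hord : ∀ g : G, orderOf g = 1 ∨ orderOf g = p₀ ∨ orderOf g = q₀)
    (g : G) (k : ℕ) (hg : g ^ (r ^ k) = 1) : g ^ r = 1 := by
  have h1 : orderOf g ∣ r ^ k := orderOf_dvd_of_pow_eq_one hg
  obtain ⟨j, _, hj⟩ := (Nat.dvd_prime_pow hr).mp h1
  rcases Nat.eq_zero_or_pos j with h0 | h0
  · rw [h0, pow_zero] at hj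
    rw [orderOf_eq_one_iff.mp hj, one_pow]
  · have hrd : r ∣ orderOf g := by rw [hj]; exact dvd_pow_self r h0.ne'
    have hprime : (orderOf g).Prime := by
      rcases hord g with h | h | h
      · rw [h] at hrd
        exact absurd (Nat.dvd_one.mp hrd) hr.ne_one
      · rw [h]; exact hp
      · rw [h]; exact hq
    have : r = orderOf g := (Nat.prime_dvd_prime_iff_eq hr hprime).mp hrd
    rw [this]
    exact pow_orderOf_eq_one g

theorem autOrb_normal_sylow [Finite G] {p₀ q₀ : ℕ} (hp : p₀.Prime) (hq : q₀.Prime)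
    (hord : ∀ g : G, orderOf g = 1 ∨ orderOf g = p₀ ∨ orderOf g = q₀)
    (htr : ∀ g h : G, orderOf g = orderOf h → ∃ α : MulAut G, α g = h)
    (A : Subgroup G) (hA : A.Characteristic) (hAne : A ≠ ⊥)
    (hAc : ∀ a ∈ A, ∀ b ∈ A, a * b = b * a) :
    ∃ r : ℕ, (r = p₀ ∨ r = q₀) ∧ ∃ R : Subgroup G, R.Normal ∧ R ≠ ⊥ ∧
      (∀ g, g ∈ R ↔ g ^ r = 1) ∧ (∀ a ∈ R, ∀ b ∈ R, a * b = b * a) := by
  obtain ⟨⟨a, haA⟩, ha1⟩ := (Subgroup.ne_bot_iff_exists_ne_one).mp hAne
  have ha1' : a ≠ 1 := fun h => ha1 (Subtype.ext h)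
  have hr : orderOf a = p₀ ∨ orderOf a = q₀ := by
    rcases hord a with h | h | h
    · exact absurd (orderOf_eq_one_iff.mp h) ha1'
    · exact Or.inl h
    · exact Or.inr h
  have hrp : (orderOf a).Prime := by
    rcases hr with h | h
    · rw [h]; exact hp
    · rw [h]; exact hq
  have hmemA : ∀ g : G, g ^ orderOf a = 1 → g ∈ A := by
    intro g hg
    have h1 : orderOf g ∣ orderOf a := orderOf_dvd_of_pow_eq_one hg
    rcases (Nat.dvd_prime hrp).mp h1 with h | h
    · rw [orderOf_eq_one_iff.mp h]; exact A.one_mem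
    · obtain ⟨α, hα⟩ := htr a g h.symm
      rw [← hα]
      exact autOrb_char_mem hA α haA
  refine ⟨orderOf a, hr, ?_⟩
  refine ⟨{ carrier := {g | g ^ orderOf a = 1}
            mul_mem' := ?_
            one_mem' := one_pow _
            inv_mem' := ?_ }, ?_, ?_, ?_, ?_⟩
  · intro x y hx hy
    have hc : Commute x y := hAc x (hmemA x hx) y (hmemA y hy)
    show (x * y) ^ orderOf a = 1
    rw [hc.mul_pow, hx, hy, one_mul]
  · intro x hx
    show (x⁻¹) ^ orderOf a = 1
    rw [inv_pow, hx, inv_one]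
  · constructor
    intro n hn g
    show (g * n * g⁻¹) ^ orderOf a = 1
    rw [conj_pow, hn, mul_one, mul_inv_cancel]
  · intro hbot
    have : a ∈ ({ carrier := {g | g ^ orderOf a = 1}
                  mul_mem' := by
                    intro x y hx hy
                    have hc : Commute x y := hAc x (hmemA x hx) y (hmemA y hy)
                    show (x * y) ^ orderOf a = 1
                    rw [hc.mul_pow, hx, hy, one_mul]
                  one_mem' := one_pow _
                  inv_mem' := by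
                    intro x hx
                    show (x⁻¹) ^ orderOf a = 1
                    rw [inv_pow, hx, inv_one] } : Subgroup G) := pow_orderOf_eq_one a
    rw [hbot, Subgroup.mem_bot] at this
    exact ha1' this
  · intro g
    rfl
  · intro x hx y hy
    exact hAc x (hmemA x hx) y (hmemA y hy)

theorem autOrb_sylow_eq [Finite G] {p₀ q₀ r : ℕ} (hp : p₀.Prime) (hq : q₀.Prime)
    [hr : Fact r.Prime]
    (hord : ∀ g : G, orderOf g = 1 ∨ orderOf g = p₀ ∨ orderOf g = q₀)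
    (R : Subgroup G) (hR : ∀ g, g ∈ R ↔ g ^ r = 1) (S : Sylow r G) : (S : Subgroup G) = R := by
  have hSR : (S : Subgroup G) ≤ R := by
    intro g hg
    rw [hR]
    obtain ⟨k, hk⟩ := S.2 ⟨g, hg⟩
    have hk' : g ^ (r ^ k) = 1 := by
      have := congrArg Subtype.val hk
      simpa using this
    exact autOrb_order_pelement hp hq hr.out hord g k hk'
  have hRp : IsPGroup r R := by
    intro g
    refine ⟨1, Subtype.ext ?_⟩
    rw [pow_one]
    exact (hR g).mp g.2
  exact (S.is_maximal' hRp hSR).symm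

theorem autOrb_no_commute {p₀ q₀ r s : ℕ} (hp : p₀.Prime) (hq : q₀.Prime)
    (hrs : (r = p₀ ∧ s = q₀) ∨ (r = q₀ ∧ s = p₀)) (hne : p₀ ≠ q₀)
    (hord : ∀ g : G, orderOf g = 1 ∨ orderOf g = p₀ ∨ orderOf g = q₀)
    (x y : G) (hx : orderOf x = s) (hy : orderOf y = r) : x * y * x⁻¹ ≠ y := by
  intro h
  have hc : Commute x y := by
    have : x * y = y * x := by
      calc x * y = (x * y * x⁻¹) * x := by group
        _ = y * x := by rw [h]
    exact this
  have hr : r.Prime := by rcases hrs with ⟨h1, _⟩ | ⟨h1, _⟩ <;> rw [h1] <;> assumption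
  have hs : s.Prime := by rcases hrs with ⟨_, h1⟩ | ⟨_, h1⟩ <;> rw [h1] <;> assumption
  have hrs' : r ≠ s := by
    rcases hrs with ⟨h1, h2⟩ | ⟨h1, h2⟩
    · rw [h1, h2]; exact hne
    · rw [h1, h2]; exact hne.symm
  have hcop : (orderOf x).Coprime (orderOf y) := by
    rw [hx, hy]; exact (Nat.coprime_primes hs hr).mpr hrs'.symm
  have h1 := hc.orderOf_mul_eq_mul_orderOf_of_coprime hcop
  rw [hx, hy] at h1
  have hnp : ¬ (s * r).Prime := Nat.not_prime_mul hs.ne_one hr.ne_one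
  rcases hord (x * y) with h2 | h2 | h2
  · rw [h1] at h2
    have := hs.two_le
    have := hr.two_le
    nlinarith
  · rw [h1] at h2; rw [h2] at hnp; exact hnp hp
  · rw [h1] at h2; rw [h2] at hnp; exact hnp hq




theorem autOrb_dec {q : ℕ} [hq : Fact q.Prime] (P : Subgroup G) [P.Normal]
    (hidx : P.index = q) (c : G) (hcP : c ∉ P) (g : G) : ∃ k : ℕ, ∃ u ∈ P, g = c ^ k * u := by
  have hcard : Nat.card (G ⧸ P) = q := by rw [← hidx]; rfl
  have hne : (QuotientGroup.mk c : G ⧸ P) ≠ 1 := by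
    rwa [Ne, QuotientGroup.eq_one_iff]
  obtain ⟨k, hk⟩ := mem_powers_of_prime_card hcard hne (g' := (QuotientGroup.mk g : G ⧸ P))
  refine ⟨k, (c ^ k)⁻¹ * g, ?_, by group⟩
  rw [← QuotientGroup.eq]
  exact hk

theorem autOrb_zpow_mem {q : ℕ} [hq : Fact q.Prime] (P : Subgroup G) [P.Normal] (e : G)
    (he : orderOf e = q) (heP : e ∉ P) (k : ℤ) (hk : e ^ k ∈ P) : e ^ k = 1 := by
  have h1 : (QuotientGroup.mk e : G ⧸ P) ^ q = 1 := by
    rw [← QuotientGroup.mk_pow, ← he, pow_orderOf_eq_one]; rfl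
  have h2 : (QuotientGroup.mk e : G ⧸ P) ≠ 1 := by rwa [Ne, QuotientGroup.eq_one_iff]
  have h3 : orderOf (QuotientGroup.mk e : G ⧸ P) = q := orderOf_eq_prime h1 h2
  have h4 : (QuotientGroup.mk e : G ⧸ P) ^ k = 1 := by
    rw [← QuotientGroup.mk_zpow]; exact (QuotientGroup.eq_one_iff _).mpr hk
  have h5 := orderOf_dvd_iff_zpow_eq_one.mpr h4
  rw [h3, ← he] at h5
  exact orderOf_dvd_iff_zpow_eq_one.mp h5

theorem autOrb_resAut (P : Subgroup G) (hchar : ∀ α : MulAut G, ∀ y ∈ P, α y ∈ P)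
    (α : MulAut G) : ∃ S : MulAut P, ∀ y : P, (S y : G) = α y := by
  refine ⟨{ toFun := fun y => ⟨α y, hchar α y y.2⟩
            invFun := fun y => ⟨α⁻¹ y, hchar α⁻¹ y y.2⟩
            left_inv := fun y => Subtype.ext (by simp)
            right_inv := fun y => Subtype.ext (by simp)
            map_mul' := fun x y => Subtype.ext (by simp) }, fun y => rfl⟩

theorem autOrb_no_commuting_pair {p q : ℕ} [hp : Fact p.Prime] [hq : Fact q.Prime]
    (hpq : p ≠ q) (P : Subgroup G) [P.Normal] (hcomm : ∀ a ∈ P, ∀ b ∈ P, a * b = b * a)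
    (hexp : ∀ a ∈ P, a ^ p = 1)
    (hfpf : ∀ x : G, x ≠ 1 → x ^ q = 1 → ∀ y ∈ P, x * y * x⁻¹ = y → y = 1)
    (a b : G) (hab : a * b = b * a) (ha : a ^ q = 1) (hb : b ^ q = 1) (ha1 : a ≠ 1)
    (hb' : b ∉ Subgroup.zpowers a) : P = ⊥ := by
  have hb1 : b ≠ 1 := fun h => hb' (h ▸ Subgroup.one_mem _)
  have hq1 : 1 < q := hq.out.one_lt
  have key := mul_fpf_pair_trivial (A := P) hpq (fun x y => Subtype.ext (hcomm x x.2 y y.2))
    (fun x => Subtype.ext (by simpa using hexp x x.2))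
    (MulAut.conjNormal a) (MulAut.conjNormal b) (by rw [← map_mul, ← map_mul, hab])
    (by rw [← map_pow, ha, map_one]) (by rw [← map_pow, hb, map_one])
    (fun y hy => Subtype.ext (hfpf b hb1 hb y y.2 (by
      have := congrArg Subtype.val hy
      simpa [MulAut.conjNormal_apply] using this)))
    (fun j hj y hy => by
      have hX : MulAut.conjNormal a * MulAut.conjNormal b ^ j
          = (MulAut.conjNormal (a * b ^ j) : MulAut P) := by rw [map_mul, map_pow]
      rw [hX] at hy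
      have hy' : (a * b ^ j) * y * (a * b ^ j)⁻¹ = y := by
        have := congrArg Subtype.val hy
        rw [MulAut.conjNormal_apply] at this
        exact this
      refine Subtype.ext (hfpf (a * b ^ j) ?_ ?_ y y.2 hy')
      · intro h1
        rcases Nat.eq_zero_or_pos j with h0 | h0
        · rw [h0, pow_zero, mul_one] at h1
          exact ha1 h1
        · apply hb'
          have hbj : b ^ j ∈ Subgroup.zpowers a := by
            have : b ^ j = a⁻¹ := (eq_inv_of_mul_eq_one_right h1)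
            rw [this]
            exact Subgroup.inv_mem _ (Subgroup.mem_zpowers a)
          have hjq : j.Coprime q := by
            rw [Nat.coprime_comm, Nat.Prime.coprime_iff_not_dvd hq.out]
            intro hdvd
            have := Nat.le_of_dvd h0 hdvd
            omega
          obtain ⟨j', _, hjj'⟩ := Nat.exists_mul_mod_eq_one_of_coprime hjq hq1
          have h2 : b = (b ^ j) ^ j' := by
            rw [← pow_mul, pow_eq_pow_mod (j * j') hb, hjj', pow_one]
          rw [h2]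
          exact Subgroup.pow_mem _ hbj _
      · have hc : Commute a (b ^ j) := Commute.pow_right hab j
        rw [hc.mul_pow, ha, ← pow_mul, mul_comm, pow_mul, hb, one_pow, one_mul])
  rw [Subgroup.eq_bot_iff_forall]
  intro y hy
  exact congrArg Subtype.val (key ⟨y, hy⟩)

theorem autOrb_sylow_q_card [Finite G] {r s : ℕ} [hr : Fact r.Prime] [hs : Fact s.Prime]
    (hrs : r ≠ s) (R : Subgroup G) [R.Normal] (hRne : R ≠ ⊥)
    (hcomm : ∀ a ∈ R, ∀ b ∈ R, a * b = b * a) (hexp : ∀ a ∈ R, a ^ r = 1)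
    (hfpf : ∀ x : G, x ≠ 1 → x ^ s = 1 → ∀ y ∈ R, x * y * x⁻¹ = y → y = 1)
    (hsel : ∀ (g : G) (k : ℕ), g ^ (s ^ k) = 1 → g ^ s = 1)
    (Q : Sylow s G) (hQne : (Q : Subgroup G) ≠ ⊥) : Nat.card Q = s := by
  by_contra hne
  haveI : Nontrivial (Q : Subgroup G) := (Subgroup.nontrivial_iff_ne_bot _).mpr hQne
  haveI : Nontrivial (Subgroup.center (Q : Subgroup G)) := IsPGroup.center_nontrivial Q.2
  obtain ⟨⟨z, hz⟩, hz1⟩ := exists_ne (1 : Subgroup.center (Q : Subgroup G))
  have hz1' : (z : G) ≠ 1 := by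
    intro h
    apply hz1
    exact Subtype.ext (Subtype.ext h)
  have hQs : ∀ g ∈ (Q : Subgroup G), g ^ s = 1 := by
    intro g hg
    obtain ⟨k, hk⟩ := Q.2 ⟨g, hg⟩
    have hk' : g ^ (s ^ k) = 1 := by
      have := congrArg Subtype.val hk
      simpa using this
    exact hsel g k hk'
  have hzs : (z : G) ^ s = 1 := hQs _ z.2
  have hzo : orderOf (z : G) = s := orderOf_eq_prime hzs hz1'
  have hzc : Nat.card (Subgroup.zpowers (z : G)) = s := by rw [Nat.card_zpowers, hzo]
  have hzle : Subgroup.zpowers (z : G) ≤ (Q : Subgroup G) := by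
    rw [Subgroup.zpowers_le]; exact z.2
  obtain ⟨b, hbQ, hbz⟩ : ∃ b ∈ (Q : Subgroup G), b ∉ Subgroup.zpowers (z : G) := by
    by_contra hcon
    push Not at hcon
    have : (Q : Subgroup G) = Subgroup.zpowers (z : G) := le_antisymm hcon hzle
    have h2 : Nat.card (Q : Subgroup G) = Nat.card (Subgroup.zpowers (z : G)) :=
      congrArg (fun H : Subgroup G => Nat.card H) this
    exact hne (h2.trans hzc)
  have hcomm' : (z : G) * b = b * (z : G) := by
    have := (Subgroup.mem_center_iff.mp hz) ⟨b, hbQ⟩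
    exact (congrArg Subtype.val this).symm
  exact hRne (autOrb_no_commuting_pair hrs R hcomm hexp hfpf (z : G) b hcomm' hzs (hQs b hbQ) hz1'
    hbz)

theorem autOrb_primitive_root [Finite G] {p q : ℕ} [hp : Fact p.Prime] [hq : Fact q.Prime]
    (hpq : p ≠ q) (P : Subgroup G) [P.Normal] (hP : P ≠ ⊥)
    (hcomm : ∀ a ∈ P, ∀ b ∈ P, a * b = b * a) (hexp : ∀ a ∈ P, a ^ p = 1)
    (c : G) (hc : c ^ q = 1) (hcP : c ∉ P)
    (hfpf : ∀ y ∈ P, c * y * c⁻¹ = y → y = 1)
    (hdec : ∀ g : G, ∃ k : ℕ, ∃ u ∈ P, g = c ^ k * u)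
    (hchar : ∀ α : MulAut G, ∀ y ∈ P, α y ∈ P)
    (htq : ∀ i, 0 < i → i < q → ∃ α : MulAut G, α c = c ^ i)
    (htp : ∀ v ∈ P, ∀ w ∈ P, v ≠ 1 → w ≠ 1 → ∃ α : MulAut G, α v = w) :
    orderOf (p : ZMod q) = q - 1 := by
  haveI : Nontrivial P := (Subgroup.nontrivial_iff_ne_bot _).mpr hP
  have hconj : ∀ (x : G) (y : P), ((MulAut.conjNormal x y : P) : G) = x * y * x⁻¹ :=
    fun x y => MulAut.conjNormal_apply x y
  refine mul_primitive_of_transitive (A := P) hpq (fun x y => Subtype.ext (hcomm x x.2 y y.2))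
    (fun x => Subtype.ext (by simpa using hexp x x.2)) (MulAut.conjNormal c)
    (by rw [← map_pow, hc, map_one]) ?_ ?_ ?_
  · intro y hy
    refine Subtype.ext (hfpf y y.2 ?_)
    rw [← hconj, hy]
  · intro i hi0 hiq
    obtain ⟨α, hα⟩ := htq i hi0 hiq
    obtain ⟨S, hS⟩ := autOrb_resAut P hchar α
    refine ⟨S, ?_⟩
    ext y
    rw [← map_pow]
    simp only [MulAut.mul_apply]
    rw [hS, hconj, hconj, hS, map_mul, map_mul, map_inv, hα]
  · intro v w hv hw
    obtain ⟨α, hα⟩ := htp v v.2 w w.2 (fun h => hv (Subtype.ext h)) (fun h => hw (Subtype.ext h))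
    obtain ⟨S, hS⟩ := autOrb_resAut P hchar α
    obtain ⟨k, u, hu, hku⟩ := hdec (α c)
    have hck : c ^ k = c ^ (k % q) := pow_eq_pow_mod k hc
    have hpos : 0 < k % q := by
      rcases Nat.eq_zero_or_pos (k % q) with h0 | h0
      · exfalso
        rw [hck, h0, pow_zero, one_mul] at hku
        apply hcP
        have h1 : α⁻¹ (α c) ∈ P := hchar α⁻¹ _ (hku ▸ hu)
        simpa using h1
      · exact h0
    refine ⟨S, k % q, hpos, Nat.mod_lt _ hq.out.pos, ?_, ?_⟩
    · ext y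
      rw [← map_pow]
      simp only [MulAut.mul_apply]
      rw [hS, hconj, hconj, hS, map_mul, map_mul, map_inv, hku, hck]
      have h1 : u * α y * u⁻¹ = α y := by
        rw [hcomm u hu (α y) (hchar α y y.2)]
        group
      calc c ^ (k % q) * u * α ↑y * (c ^ (k % q) * u)⁻¹
          = c ^ (k % q) * (u * α y * u⁻¹) * (c ^ (k % q))⁻¹ := by group
        _ = c ^ (k % q) * α y * (c ^ (k % q))⁻¹ := by rw [h1]
    · exact Subtype.ext (by rw [hS, hα])



theorem autOrb_card_eq [Finite G] {r s : ℕ} (hr : r.Prime) (hs : s.Prime) (hrs : r ≠ s)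
    (hord : ∀ g : G, orderOf g = 1 ∨ orderOf g = r ∨ orderOf g = s) :
    Nat.card G = r ^ (Nat.card G).factorization r * s ^ (Nat.card G).factorization s := by
  have hn0 : Nat.card G ≠ 0 := Nat.card_pos.ne'
  have hprimes : ∀ {d : ℕ}, d.Prime → d ∣ Nat.card G → d = r ∨ d = s := by
    intro d hd hdn
    haveI : Fact d.Prime := ⟨hd⟩
    obtain ⟨x, hx⟩ := exists_prime_orderOf_dvd_card' d hdn
    rcases hord x with h | h | h
    · rw [hx] at h; exact absurd h hd.ne_one
    · rw [hx] at h; exact Or.inl h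
    · rw [hx] at h; exact Or.inr h
  have h1 : ordCompl[s] (Nat.card G) ≠ 0 := (Nat.ordCompl_pos s hn0).ne'
  have h2 : ∀ {d : ℕ}, d.Prime → d ∣ ordCompl[s] (Nat.card G) → d = r := by
    intro d hd hdn
    rcases hprimes hd (hdn.trans (Nat.ordCompl_dvd _ _)) with h | h
    · exact h
    · exfalso
      rw [h] at hdn
      exact Nat.not_dvd_ordCompl hs hn0 hdn
  have h3 := Nat.eq_prime_pow_of_unique_prime_dvd h1 h2
  have h4 : (ordCompl[s] (Nat.card G)).factorization r = (Nat.card G).factorization r := by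
    rw [Nat.factorization_ordCompl, Finsupp.erase_ne hrs]
  have h5 : (ordCompl[s] (Nat.card G)).factorization r
      = (ordCompl[s] (Nat.card G)).primeFactorsList.length := by
    conv_lhs => rw [h3]
    rw [hr.factorization_pow, Finsupp.single_eq_same]
  rw [← h4, h5, ← h3, mul_comm]
  exact (Nat.ordProj_mul_ordCompl_eq_self _ _).symm

theorem autOrb_forward [Finite G] (hnpp : ¬ IsPrimePow (Nat.card G)) (hnt : Nat.card G ≠ 1)
    (h3 : Nat.card (MulAction.orbitRel.Quotient (MulAut G) G) = 3) :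
    ∃ (p q n : ℕ) (_ : Fact p.Prime) (_ : Fact q.Prime), p ≠ q ∧ 1 ≤ n ∧
      Nat.card G = p ^ n * q ∧
      (∀ P : Sylow p G, (P : Subgroup G).Normal ∧ Cfsg.IsElementaryAbelian p (P : Subgroup G)) ∧
      orderOf (p : ZMod q) = q - 1 ∧
      ∀ x y : G, orderOf x = q → orderOf y = p → x * y * x⁻¹ ≠ y := by
  have hn0 : Nat.card G ≠ 0 := Nat.card_pos.ne'
  obtain ⟨p₀, q₀, hp, hq, hne, hpd, hqd⟩ := autOrb_two_primes hnpp hnt hn0
  haveI : Fact p₀.Prime := ⟨hp⟩
  haveI : Fact q₀.Prime := ⟨hq⟩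
  obtain ⟨x₀, hx₀⟩ := exists_prime_orderOf_dvd_card' p₀ hpd
  obtain ⟨y₀, hy₀⟩ := exists_prime_orderOf_dvd_card' q₀ hqd
  obtain ⟨hord, htr⟩ := autOrb_data hp hq hne x₀ y₀ hx₀ hy₀ h3
  have hab := autOrb_card_eq hp hq hne hord
  haveI : Group.IsSolvable G := Cfsg.Agent.Lib.Helper4.isSolvable_of_card_pq p₀ q₀ _ _ hp hq hab
  haveI : Nontrivial G := (Finite.one_lt_card_iff_nontrivial).mp (by omega)
  obtain ⟨A, hAchar, hAne, hAc⟩ := autOrb_exists_char_abelian (G := G)
  obtain ⟨r, hr, R, hRn, hRne, hRmem, hRc⟩ :=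
    autOrb_normal_sylow hp hq hord htr A hAchar hAne hAc
  obtain ⟨s, hrs⟩ : ∃ s, (r = p₀ ∧ s = q₀) ∨ (r = q₀ ∧ s = p₀) := by
    rcases hr with h | h
    · exact ⟨q₀, Or.inl ⟨h, rfl⟩⟩
    · exact ⟨p₀, Or.inr ⟨h, rfl⟩⟩
  have hrP : r.Prime := by rcases hrs with ⟨h1, _⟩ | ⟨h1, _⟩ <;> rw [h1] <;> assumption
  have hsP : s.Prime := by rcases hrs with ⟨_, h1⟩ | ⟨_, h1⟩ <;> rw [h1] <;> assumption
  have hrs' : r ≠ s := by
    rcases hrs with ⟨h1, h2⟩ | ⟨h1, h2⟩
    · rw [h1, h2]; exact hne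
    · rw [h1, h2]; exact hne.symm
  haveI : Fact r.Prime := ⟨hrP⟩
  haveI : Fact s.Prime := ⟨hsP⟩
  have hord' : ∀ g : G, orderOf g = 1 ∨ orderOf g = r ∨ orderOf g = s := by
    intro g
    rcases hrs with ⟨h1, h2⟩ | ⟨h1, h2⟩
    · rw [h1, h2]; exact hord g
    · rw [h1, h2]
      rcases hord g with h | h | h
      · exact Or.inl h
      · exact Or.inr (Or.inr h)
      · exact Or.inr (Or.inl h)
  obtain ⟨xr, hxr⟩ : ∃ x : G, orderOf x = r := by
    rcases hrs with ⟨h1, _⟩ | ⟨h1, _⟩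
    · exact ⟨x₀, by rw [h1]; exact hx₀⟩
    · exact ⟨y₀, by rw [h1]; exact hy₀⟩
  obtain ⟨xs, hxs⟩ : ∃ x : G, orderOf x = s := by
    rcases hrs with ⟨_, h1⟩ | ⟨_, h1⟩
    · exact ⟨y₀, by rw [h1]; exact hy₀⟩
    · exact ⟨x₀, by rw [h1]; exact hx₀⟩
  have hnc : ∀ x y : G, orderOf x = s → orderOf y = r → x * y * x⁻¹ ≠ y :=
    fun x y hx hy => autOrb_no_commute hp hq hrs hne hord x y hx hy
  have hfpf : ∀ x : G, x ≠ 1 → x ^ s = 1 → ∀ y ∈ R, x * y * x⁻¹ = y → y = 1 := by
    intro x hx1 hxs y hy hxy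
    by_contra hy1
    have hox : orderOf x = s := orderOf_eq_prime hxs hx1
    have hoy : orderOf y = r := orderOf_eq_prime ((hRmem y).mp hy) hy1
    exact hnc x y hox hoy hxy
  have hsel : ∀ (g : G) (k : ℕ), g ^ (s ^ k) = 1 → g ^ s = 1 :=
    fun g k => autOrb_order_pelement hp hq hsP hord g k
  have hsd : s ∣ Nat.card G := hxs ▸ orderOf_dvd_natCard xs
  have hrd : r ∣ Nat.card G := hxr ▸ orderOf_dvd_natCard xr
  obtain ⟨Q⟩ : Nonempty (Sylow s G) := inferInstance
  have hQne : (Q : Subgroup G) ≠ ⊥ := Q.ne_bot_of_dvd_card hsd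
  have hexpR : ∀ a ∈ R, a ^ r = 1 := fun a ha => (hRmem a).mp ha
  have hQcard := autOrb_sylow_q_card hrs' R hRne hRc hexpR hfpf hsel Q hQne
  have hcard := autOrb_card_eq hrP hsP hrs' hord'
  have hQc2 := Q.card_eq_multiplicity
  rw [hQcard] at hQc2
  rw [← hQc2] at hcard
  have hSyl : ∀ P : Sylow r G, (P : Subgroup G) = R :=
    fun P => autOrb_sylow_eq hp hq hord R hRmem P
  have hn1 : 1 ≤ (Nat.card G).factorization r :=
    hrP.factorization_pos_of_dvd hn0 hrd
  -- index of R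
  have hRcard : Nat.card R = r ^ (Nat.card G).factorization r := by
    obtain ⟨P⟩ : Nonempty (Sylow r G) := inferInstance
    rw [← hSyl P]
    exact P.card_eq_multiplicity
  have hidx : R.index = s := by
    have h1 := R.card_mul_index
    rw [hRcard] at h1
    have h2 : r ^ (Nat.card G).factorization r * R.index
        = r ^ (Nat.card G).factorization r * s := by
      rw [h1]; exact hcard
    exact Nat.eq_of_mul_eq_mul_left (pow_pos hrP.pos _) h2
  have hxsR : xs ∉ R := by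
    intro h
    have h1 : orderOf xs ∣ r := orderOf_dvd_of_pow_eq_one ((hRmem xs).mp h)
    rw [hxs] at h1
    exact hrs' ((Nat.prime_dvd_prime_iff_eq hsP hrP).mp h1).symm
  have hchar : ∀ α : MulAut G, ∀ y ∈ R, α y ∈ R := by
    intro α y hy
    rw [hRmem] at hy ⊢
    rw [← map_pow, hy, map_one]
  refine ⟨r, s, (Nat.card G).factorization r, ⟨hrP⟩, ⟨hsP⟩, hrs', hn1, hcard, ?_, ?_, hnc⟩
  · intro P
    rw [hSyl P]
    refine ⟨hRn, ⟨⟨fun a b => Subtype.ext (hRc a a.2 b b.2)⟩⟩, hexpR⟩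
  · refine autOrb_primitive_root hrs' R hRne hRc hexpR xs (hxs ▸ pow_orderOf_eq_one xs) hxsR
      ?_ (autOrb_dec R hidx xs hxsR) hchar ?_ ?_
    · intro y hy hxy
      have hxs1 : xs ≠ 1 := by
        intro h
        rw [h, orderOf_one] at hxs
        exact hsP.ne_one hxs.symm
      exact hfpf xs hxs1 (hxs ▸ pow_orderOf_eq_one xs) y hy hxy
    · intro i hi0 hiq
      apply htr
      rw [hxs]
      have hcop : (orderOf xs).Coprime i := by
        rw [hxs, Nat.Prime.coprime_iff_not_dvd hsP]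
        intro hdvd
        have := Nat.le_of_dvd hi0 hdvd
        omega
      rw [hcop.orderOf_pow, hxs]
    · intro v hv w hw hv1 hw1
      apply htr
      rw [orderOf_eq_prime (hexpR v hv) hv1, orderOf_eq_prime (hexpR w hw) hw1]

end Cfsg.Agent.Lib.Helper20
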