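import Mathlib

set_option linter.style.haveILetI false

open Polynomial

namespace Cfsg.Agent.Lib.Helper20

theorem cyc_coprime {p q : ℕ} [hp : Fact p.Prime] [hq : Fact q.Prime] (hpq : p ≠ q) : p.Coprime q :=
  (Nat.coprime_primes hp.out hq.out).mpr hpq

theorem cyc_orderOf_le {p q : ℕ} [hp : Fact p.Prime] [hq : Fact q.Prime] (hpq : p ≠ q) :
    orderOf (p : ZMod q) ≤ q - 1 := by
  have e : orderOf (ZMod.unitOfCoprime p (cyc_coprime hpq)) = orderOf (p : ZMod q) := by
    rw [← orderOf_units, ZMod.coe_unitOfCoprime]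
  rw [← e]
  have h1 : orderOf (ZMod.unitOfCoprime p (cyc_coprime hpq)) ∣ Nat.card (ZMod q)ˣ := orderOf_dvd_natCard _
  have h2 : Nat.card (ZMod q)ˣ = q - 1 := by
    rw [Nat.card_eq_fintype_card, ZMod.card_units_eq_totient, Nat.totient_prime hq.out]
  rw [h2] at h1
  have : 0 < q - 1 := by have := hq.out.two_le; omega
  exact Nat.le_of_dvd this h1

theorem cyc_natDegree_factor {p q : ℕ} [hp : Fact p.Prime] [hq : Fact q.Prime] (hpq : p ≠ q)
    {g : (ZMod p)[X]} (hg : Irreducible g) (hdvd : g ∣ cyclotomic q (ZMod p)) :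
    g.natDegree = orderOf (p : ZMod q) := by
  have h := Polynomial.natDegree_of_dvd_cyclotomic_of_irreducible (K := ZMod p) (p := p) (f := 1)
    (n := q) (by simp) (cyc_coprime hpq) hdvd hg
  rw [h, ← orderOf_units, ZMod.coe_unitOfCoprime]
  simp

theorem aeval_semiconj_pow {A : Type*} [Monoid A] {S T T' : A}
    (h : S * T = T' * S) (n : ℕ) : S * T ^ n = T' ^ n * S := by
  induction n with
  | zero => simp
  | succ n ih => rw [pow_succ, ← mul_assoc, ih, mul_assoc, h, ← mul_assoc, ← pow_succ]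

theorem aeval_semiconj {R A : Type*} [CommSemiring R] [Semiring A] [Algebra R A] {S T T' : A}
    (h : S * T = T' * S) (f : R[X]) : S * aeval T f = aeval T' f * S := by
  induction f using Polynomial.induction_on' with
  | add f g hf hg => simp [mul_add, add_mul, hf, hg]
  | monomial n a =>
    rw [aeval_monomial, aeval_monomial, ← mul_assoc, ← Algebra.commutes, mul_assoc,
      aeval_semiconj_pow h, mul_assoc]

theorem primitive_of_transitive {p q : ℕ} [hp : Fact p.Prime] [hq : Fact q.Prime] (hpq : p ≠ q)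
    {V : Type*} [AddCommGroup V] [Module (ZMod p) V] [Finite V] [Nontrivial V]
    (T : Module.End (ZMod p) V) (hTq : T ^ q = 1) (hfpf : ∀ v, T v = v → v = 0)
    (H1 : ∀ i, 0 < i → i < q →
      ∃ S : Module.End (ZMod p) V, Function.Injective S ∧ S * T = T ^ i * S)
    (H2 : ∀ v w : V, v ≠ 0 → w ≠ 0 → ∃ (S : Module.End (ZMod p) V) (i : ℕ), 0 < i ∧ i < q ∧
      Function.Injective S ∧ S * T = T ^ i * S ∧ S v = w) :
    orderOf (p : ZMod q) = q - 1 := by
  haveI : Module.Finite (ZMod p) V := Module.Finite.of_finite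
  have hint : IsIntegral (ZMod p) T := Algebra.IsIntegral.isIntegral T
  obtain ⟨μ, hμ⟩ : ∃ μ, μ = minpoly (ZMod p) T := ⟨_, rfl⟩
  have hμ0 : μ ≠ 0 := hμ ▸ minpoly.ne_zero hint
  have hμu : ¬ IsUnit μ := hμ ▸ minpoly.not_isUnit _ _
  have hμT : aeval T μ = 0 := hμ ▸ minpoly.aeval _ _
  have hμdvd : μ ∣ X ^ q - 1 := by
    rw [hμ]; apply minpoly.dvd; simp [hTq]
  have hqp : (q : ZMod p) ≠ 0 := by
    rw [Ne, ZMod.natCast_eq_zero_iff]
    intro h
    exact hpq ((Nat.prime_dvd_prime_iff_eq hp.out hq.out).mp h)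
  obtain ⟨g, hgirr, hgμ⟩ := WfDvdMonoid.exists_irreducible_factor hμu hμ0
  obtain ⟨h, hμgh⟩ := hgμ
  have hg0 : g ≠ 0 := hgirr.ne_zero
  have hh0 : h ≠ 0 := by
    rintro rfl
    rw [mul_zero] at hμgh
    exact hμ0 hμgh
  -- kernel vector
  have hker : ∃ w₁ : V, w₁ ≠ 0 ∧ aeval T g w₁ = 0 := by
    have hhT : aeval T h ≠ 0 := by
      intro h0
      have h1 := natDegree_le_natDegree (minpoly.degree_le_of_ne_zero (ZMod p) T hh0 h0)
      rw [← hμ, hμgh, natDegree_mul hg0 hh0] at h1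
      have := hgirr.natDegree_pos
      omega
    obtain ⟨v, hv⟩ : ∃ v, aeval T h v ≠ 0 := by
      by_contra hcon
      push Not at hcon
      exact hhT (LinearMap.ext hcon)
    refine ⟨aeval T h v, hv, ?_⟩
    rw [← Module.End.mul_apply, ← map_mul, ← hμgh, hμT]
    rfl
  have hsep : (X ^ q - 1 : (ZMod p)[X]).Separable := by
    have := separable_X_pow_sub_C (1 : ZMod p) (n := q) hqp one_ne_zero
    simpa using this
  have hcop : IsCoprime g h := by
    have h1 : (g * h).Separable := hμgh ▸ hsep.of_dvd hμdvd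
    exact h1.isCoprime
  have hcopker : ∀ w : V, aeval T g w = 0 → aeval T h w = 0 → w = 0 := by
    intro w hgw hhw
    obtain ⟨a, b, hab⟩ := hcop
    have := congrArg (fun f => aeval T f w) hab
    simp only [map_add, map_mul, map_one, LinearMap.add_apply, Module.End.mul_apply, hgw, hhw,
      map_zero, zero_add, Module.End.one_apply] at this
    exact this.symm
  have hgXq : g ∣ X ^ q - 1 := (Dvd.intro _ hμgh.symm).trans hμdvd
  have hgΦ : g ∣ cyclotomic q (ZMod p) := by
    have h1 : g ∣ cyclotomic q (ZMod p) * (X - 1) := by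
      rw [cyclotomic_prime_mul_X_sub_one]; exact hgXq
    rcases hgirr.prime.dvd_or_dvd h1 with h2 | h2
    · exact h2
    · exfalso
      obtain ⟨k, hk⟩ := h2
      obtain ⟨w₁, hw1, hgw⟩ := hker
      apply hw1; apply hfpf
      have : aeval T (X - 1 : (ZMod p)[X]) w₁ = 0 := by
        rw [hk, mul_comm, map_mul, Module.End.mul_apply, hgw, map_zero]
      simpa [sub_eq_zero] using this
  have hq1 : 1 < q := hq.out.one_lt
  -- g(T) = 0
  have hgT : aeval T g = 0 := by
    by_contra hne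
    obtain ⟨v₀, hv₀⟩ : ∃ v, aeval T g v ≠ 0 := by
      by_contra hcon
      push Not at hcon
      exact hne (LinearMap.ext hcon)
    obtain ⟨w₁, hw1, hgw1⟩ := hker
    obtain ⟨w₂, hw₂⟩ : ∃ w₂, w₂ = aeval T g v₀ := ⟨_, rfl⟩
    have hw2ne : w₂ ≠ 0 := hw₂ ▸ hv₀
    have hhw2 : aeval T h w₂ = 0 := by
      rw [hw₂, ← Module.End.mul_apply, ← map_mul, mul_comm, ← hμgh, hμT]
      rfl
    have hv : w₁ + w₂ ≠ 0 := by
      intro h0
      have h1 : w₂ = -w₁ := by
        rw [add_comm] at h0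
        exact eq_neg_of_add_eq_zero_left h0
      apply hw2ne
      apply hcopker w₂ _ hhw2
      rw [h1, map_neg, hgw1, neg_zero]
    obtain ⟨S, i, hi0, hiq, hSinj, hST, hSv⟩ := H2 w₁ (w₁ + w₂) hw1 hv
    have hiq' : i.Coprime q := by
      rw [Nat.coprime_comm, Nat.Prime.coprime_iff_not_dvd hq.out]
      intro hdvd
      have := Nat.le_of_dvd hi0 hdvd
      omega
    obtain ⟨j, hjq, hij⟩ := Nat.exists_mul_mod_eq_one_of_coprime hiq' hq1
    have hTij : (T ^ i) ^ j = T := by
      rw [← pow_mul, pow_eq_pow_mod _ hTq, hij, pow_one]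
    have hSTj : S * T ^ j = T * S := by
      rw [aeval_semiconj_pow hST j, hTij]
    have hu_eq : aeval T h (w₁ + w₂) = aeval T h w₁ := by rw [map_add, hhw2, add_zero]
    have hu_ne : aeval T h w₁ ≠ 0 := fun h0 => hw1 (hcopker w₁ hgw1 h0)
    have hgu : aeval T g (aeval T h w₁) = 0 := by
      rw [← Module.End.mul_apply, ← map_mul, mul_comm, map_mul, Module.End.mul_apply, hgw1,
        map_zero]
    have h1 : aeval T h (S w₁) = S (aeval (T ^ j) h w₁) :=
      (LinearMap.congr_fun (aeval_semiconj hSTj h) w₁).symm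
    have hk : aeval T (h.comp (X ^ j)) = aeval (T ^ j) h := by
      rw [aeval_comp]; simp
    have hu' : aeval T (h.comp (X ^ j)) w₁ ≠ 0 := by
      intro h0
      rw [hk] at h0
      rw [hSv, hu_eq, h0, map_zero] at h1
      exact hu_ne h1
    have hndvd : ¬ g ∣ h.comp (X ^ j) := by
      rintro ⟨k', hk'⟩
      apply hu'
      rw [hk', mul_comm, map_mul, Module.End.mul_apply, hgw1, map_zero]
    obtain ⟨a, b, hab⟩ := hgirr.coprime_iff_not_dvd.mpr hndvd
    have hw1eq : w₁ = aeval T b (aeval T (h.comp (X ^ j)) w₁) := by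
      have := congrArg (fun f => aeval T f w₁) hab
      simp only [map_add, map_mul, map_one, LinearMap.add_apply, Module.End.mul_apply, hgw1,
        map_zero, zero_add, Module.End.one_apply] at this
      exact this.symm
    have h2 : S (aeval T b (aeval T (h.comp (X ^ j)) w₁))
        = aeval (T ^ i) b (S (aeval T (h.comp (X ^ j)) w₁)) :=
      LinearMap.congr_fun (aeval_semiconj hST b) _
    have hv_eq : w₁ + w₂ = aeval (T ^ i) b (aeval T h w₁) := by
      rw [← hu_eq, ← hSv, h1, ← hk, ← h2, ← hw1eq]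
    have hgv : aeval T g (w₁ + w₂) = 0 := by
      rw [hv_eq]
      have hbi : aeval (T ^ i) b = aeval T (b.comp (X ^ i)) := by
        rw [aeval_comp]; simp
      rw [hbi, ← Module.End.mul_apply, ← map_mul, mul_comm, map_mul, Module.End.mul_apply, hgu,
        map_zero]
    have : aeval T g w₂ = 0 := by
      rw [map_add, hgw1, zero_add] at hgv; exact hgv
    exact hw2ne (hcopker w₂ this hhw2)
  have hgcomp : ∀ i, 0 < i → i < q → g ∣ g.comp (X ^ i) := by
    intro i hi0 hiq
    obtain ⟨S, hSinj, hST⟩ := H1 i hi0 hiq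
    have hSsurj : Function.Surjective S := Finite.injective_iff_surjective.mp hSinj
    have h1 := aeval_semiconj hST g
    rw [hgT, mul_zero] at h1
    have h2 : aeval (T ^ i) g = 0 := by
      ext v
      obtain ⟨u, rfl⟩ := hSsurj v
      have := LinearMap.congr_fun h1 u
      simpa using this.symm
    have h3 : aeval T (g.comp (X ^ i)) = 0 := by
      rw [aeval_comp]; simpa using h2
    exact (Dvd.intro _ hμgh.symm).trans (hμ ▸ minpoly.dvd _ _ h3)
  haveI : Fact (Irreducible g) := ⟨hgirr⟩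
  obtain ⟨r, hr⟩ : ∃ r : AdjoinRoot g, r = AdjoinRoot.root g := ⟨_, rfl⟩
  have hroot : ∀ f : (ZMod p)[X], g ∣ f → aeval r f = 0 := by
    rintro f ⟨k, hk⟩
    rw [hk, map_mul, hr, AdjoinRoot.aeval_eq, AdjoinRoot.mk_self, zero_mul]
  have hrq : r ^ q = 1 := by
    have := hroot (X ^ q - 1) hgXq
    simpa [sub_eq_zero] using this
  have hr1 : r ≠ 1 := by
    intro h1
    have h0 := hroot _ hgΦ
    rw [h1] at h0
    have h2 : aeval (1 : AdjoinRoot g) (cyclotomic q (ZMod p)) = (q : AdjoinRoot g) := by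
      rw [aeval_def, eval₂_eq_eval_map, map_cyclotomic, eval_one_cyclotomic_prime]
    rw [h2] at h0
    have h3 : (algebraMap (ZMod p) (AdjoinRoot g)) (q : ZMod p) = 0 := by simpa using h0
    exact hqp ((map_eq_zero_iff _ (algebraMap (ZMod p) (AdjoinRoot g)).injective).mp h3)
  have hord : orderOf r = q := orderOf_eq_prime hrq hr1
  have hroots : ∀ i, 0 < i → i < q → aeval (r ^ i) g = 0 := by
    intro i hi0 hiq
    have := hroot _ (hgcomp i hi0 hiq)
    rw [aeval_comp] at this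
    simpa using this
  have hcard : q - 1 ≤ g.natDegree := by
    classical
    obtain ⟨Z, hZ⟩ : ∃ Z : Finset (AdjoinRoot g), Z = (Finset.Ico 1 q).image (fun i => r ^ i) :=
      ⟨_, rfl⟩
    have hZcard : Z.card = q - 1 := by
      rw [hZ, Finset.card_image_of_injOn, Nat.card_Ico]
      intro i hi j hj hij
      have hi' : i ∈ Set.Iio (orderOf r) := by
        rw [hord]; exact (Finset.mem_Ico.mp hi).2
      have hj' : j ∈ Set.Iio (orderOf r) := by
        rw [hord]; exact (Finset.mem_Ico.mp hj).2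
      exact pow_injOn_Iio_orderOf hi' hj' hij
    have hsub : Z.val ⊆ (g.map (algebraMap (ZMod p) (AdjoinRoot g))).roots := by
      intro x hx
      rw [hZ] at hx
      simp only [Finset.image_val, Multiset.mem_dedup, Multiset.mem_map, Finset.mem_val,
        Finset.mem_Ico] at hx
      obtain ⟨i, ⟨hi1, hiq⟩, rfl⟩ := hx
      rw [mem_roots (map_ne_zero hg0), IsRoot, eval_map, ← aeval_def]
      exact hroots i hi1 hiq
    have := card_le_degree_of_subset_roots hsub
    rwa [hZcard, natDegree_map] at this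
  have h1 := cyc_natDegree_factor hpq hgirr hgΦ
  have h2 := cyc_orderOf_le (p := p) (q := q) hpq
  omega

theorem cyc_irreducible {p q : ℕ} [hp : Fact p.Prime] [hq : Fact q.Prime] (hpq : p ≠ q)
    (hprim : orderOf (p : ZMod q) = q - 1) : Irreducible (cyclotomic q (ZMod p)) := by
  have hpn : ¬ p ∣ q := by
    intro h
    exact hpq ((Nat.prime_dvd_prime_iff_eq hp.out hq.out).mp h)
  refine ZMod.irreducible_of_dvd_cyclotomic_of_natDegree hpn dvd_rfl ?_
  rw [natDegree_cyclotomic, Nat.totient_prime hq.out, ← hprim, ← orderOf_units, ZMod.coe_unitOfCoprime]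

/-- the geometric sum of a fixed-point-free endomorphism of order dividing `q` vanishes -/
theorem geom_sum_eq_zero_of_fpf {R V : Type*} [CommRing R] [AddCommGroup V] [Module R V]
    (Z : Module.End R V) (q : ℕ) (hZ : Z ^ q = 1) (hf : ∀ v, Z v = v → v = 0) :
    ∑ i ∈ Finset.range q, Z ^ i = 0 := by
  ext v
  rw [LinearMap.zero_apply]
  apply hf
  have h1 := mul_geom_sum Z q
  rw [hZ, sub_self] at h1
  have h2 := LinearMap.congr_fun h1 v
  rw [Module.End.mul_apply, LinearMap.sub_apply, LinearMap.zero_apply, sub_eq_zero] at h2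
  exact h2

theorem pow_fpf_of_fpf {R V : Type*} [CommRing R] [AddCommGroup V] [Module R V]
    (Y : Module.End R V) {q : ℕ} (hq : q.Prime) (hY : Y ^ q = 1) (fY : ∀ v, Y v = v → v = 0)
    (i : ℕ) (hi0 : 0 < i) (hiq : i < q) : ∀ v, (Y ^ i) v = v → v = 0 := by
  intro v hv
  apply fY
  have hiq' : i.Coprime q := by
    rw [Nat.coprime_comm, Nat.Prime.coprime_iff_not_dvd hq]
    intro hdvd
    have := Nat.le_of_dvd hi0 hdvd
    omega
  obtain ⟨j, _, hij⟩ := Nat.exists_mul_mod_eq_one_of_coprime hiq' hq.one_lt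
  have h1 : ∀ k : ℕ, ((Y ^ i) ^ k) v = v := by
    intro k
    induction k with
    | zero => simp
    | succ k ih => rw [pow_succ, Module.End.mul_apply, hv, ih]
  have h2 : (Y ^ i) ^ j = Y := by rw [← pow_mul, pow_eq_pow_mod _ hY, hij, pow_one]
  have := h1 j
  rwa [h2] at this

theorem fpf_pair_trivial {p q : ℕ} [hp : Fact p.Prime] [hq : Fact q.Prime] (hpq : p ≠ q)
    {V : Type*} [AddCommGroup V] [Module (ZMod p) V]
    (X Y : Module.End (ZMod p) V) (hXY : X * Y = Y * X) (hX : X ^ q = 1) (hY : Y ^ q = 1)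
    (fY : ∀ v, Y v = v → v = 0) (fXY : ∀ j, j < q → ∀ v, (X * Y ^ j) v = v → v = 0) :
    ∀ v : V, v = 0 := by
  have hqp : (q : ZMod p) ≠ 0 := by
    rw [Ne, ZMod.natCast_eq_zero_iff]
    intro h
    exact hpq ((Nat.prime_dvd_prime_iff_eq hp.out hq.out).mp h)
  have hc : ∀ j, Commute X (Y ^ j) := fun j => Commute.pow_right hXY j
  have hsum : ∑ j ∈ Finset.range q, ∑ i ∈ Finset.range q, (X * Y ^ j) ^ i = 0 := by
    apply Finset.sum_eq_zero
    intro j hj
    apply geom_sum_eq_zero_of_fpf (X * Y ^ j) q ?_ (fXY j (Finset.mem_range.mp hj))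
    rw [(hc j).mul_pow, hX, ← pow_mul, mul_comm, pow_mul, hY, one_pow, one_mul]
  rw [Finset.sum_comm] at hsum
  have h3 : ∀ i ∈ Finset.range q, ∑ j ∈ Finset.range q, (X * Y ^ j) ^ i
      = if i = 0 then (q : Module.End (ZMod p) V) else 0 := by
    intro i hi
    have h4 : ∀ j, (X * Y ^ j) ^ i = X ^ i * (Y ^ i) ^ j := by
      intro j
      rw [(hc j).mul_pow, ← pow_mul, ← pow_mul, mul_comm j i]
    simp_rw [h4, ← Finset.mul_sum]
    split_ifs with h0
    · subst h0; simp
    · rw [geom_sum_eq_zero_of_fpf (Y ^ i) q (by rw [← pow_mul, mul_comm, pow_mul, hY, one_pow])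
        (pow_fpf_of_fpf Y hq.out hY fY i (Nat.pos_of_ne_zero h0) (Finset.mem_range.mp hi)),
        mul_zero]
  rw [Finset.sum_congr rfl h3, Finset.sum_ite_eq' ] at hsum
  have hq0 : 0 ∈ Finset.range q := Finset.mem_range.mpr hq.out.pos
  rw [if_pos hq0] at hsum
  intro v
  have h5 := LinearMap.congr_fun hsum v
  rw [LinearMap.zero_apply, Module.End.natCast_apply, ← Nat.cast_smul_eq_nsmul (ZMod p)] at h5
  rcases smul_eq_zero.mp h5 with h6 | h6
  · exact absurd h6 hqp
  · exact h6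

theorem exists_coord_equiv {K V : Type*} [Field K] [Finite K] [AddCommGroup V] [Module K V]
    [Finite V] (v : V) (hv : v ≠ 0) :
    ∃ (d : ℕ) (e : V ≃ₗ[K] (Fin (d + 1) → K)), e v = Pi.single 0 1 ∧
      Nat.card V = Nat.card K ^ (d + 1) := by
  classical
  have hs : LinearIndepOn K id ({v} : Set V) := (linearIndepOn_singleton_iff K).mpr hv
  have hvmem : v ∈ hs.extend (Set.subset_univ _) :=
    Module.Basis.subset_extend hs (Set.mem_singleton v)
  haveI : Fintype ↥(hs.extend (Set.subset_univ _)) := Fintype.ofFinite _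
  have hpos : 0 < Fintype.card ↥(hs.extend (Set.subset_univ _)) :=
    Fintype.card_pos_iff.mpr ⟨⟨v, hvmem⟩⟩
  obtain ⟨d, hd⟩ : ∃ d, Fintype.card ↥(hs.extend (Set.subset_univ _)) = d + 1 :=
    ⟨Fintype.card ↥(hs.extend (Set.subset_univ _)) - 1, by omega⟩
  obtain ⟨σ₀⟩ : Nonempty (↥(hs.extend (Set.subset_univ _)) ≃ Fin (d + 1)) :=
    ⟨Fintype.equivFinOfCardEq hd⟩
  obtain ⟨σ, hσ⟩ : ∃ σ : ↥(hs.extend (Set.subset_univ _)) ≃ Fin (d + 1), σ ⟨v, hvmem⟩ = 0 :=
    ⟨σ₀.trans (Equiv.swap (σ₀ ⟨v, hvmem⟩) 0), by simp⟩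
  obtain ⟨b', hb'⟩ : ∃ b' : Module.Basis (Fin (d + 1)) K V, b' 0 = v := by
    refine ⟨(Module.Basis.extend hs).reindex σ, ?_⟩
    rw [Module.Basis.reindex_apply, ← hσ, Equiv.symm_apply_apply]
    exact Module.Basis.extend_apply_self hs _
  refine ⟨d, b'.equivFun, ?_, ?_⟩
  · rw [← hb']
    ext j
    rw [Module.Basis.equivFun_apply, Module.Basis.repr_self, Finsupp.single_apply,
      Pi.single_apply]
    by_cases h : j = 0
    · simp [h]
    · rw [if_neg h, if_neg (Ne.symm h)]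
  · rw [Nat.card_congr b'.equivFun.toEquiv, Nat.card_fun, Nat.card_fin]

theorem exists_intertwiner {p q : ℕ} [hp : Fact p.Prime] [hq : Fact q.Prime] (hpq : p ≠ q)
    (hprim : orderOf (p : ZMod q) = q - 1)
    {V : Type*} [AddCommGroup V] [Module (ZMod p) V] [Finite V]
    (T₁ T₂ : Module.End (ZMod p) V) (h₁ : T₁ ^ q = 1) (h₂ : T₂ ^ q = 1)
    (f₁ : ∀ v, T₁ v = v → v = 0) (f₂ : ∀ v, T₂ v = v → v = 0)
    (v₁ v₂ : V) (hv₁ : v₁ ≠ 0) (hv₂ : v₂ ≠ 0) :
    ∃ S : V ≃+ V, (∀ v, S (T₁ v) = T₂ (S v)) ∧ S v₁ = v₂ := by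
  have hirr := cyc_irreducible hpq hprim
  haveI : Fact (Irreducible (cyclotomic q (ZMod p))) := ⟨hirr⟩
  haveI : Module.Finite (ZMod p) (AdjoinRoot (cyclotomic q (ZMod p))) :=
    (cyclotomic.monic q (ZMod p)).finite_adjoinRoot
  haveI : Finite (AdjoinRoot (cyclotomic q (ZMod p))) := Module.finite_of_finite (ZMod p)
  have hΦ : ∀ T : Module.End (ZMod p) V, T ^ q = 1 → (∀ v, T v = v → v = 0) →
      aeval T (cyclotomic q (ZMod p)) = 0 := by
    intro T hT hf
    rw [cyclotomic_prime, map_sum]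
    simp only [map_pow, aeval_X]
    exact geom_sum_eq_zero_of_fpf T q hT hf
  have key : ∀ T : Module.End (ZMod p) V, T ^ q = 1 → (∀ v, T v = v → v = 0) → ∀ v : V, v ≠ 0 →
      ∃ (d : ℕ) (e : V ≃+ (Fin (d + 1) → AdjoinRoot (cyclotomic q (ZMod p)))),
        (∀ u, e (T u) = AdjoinRoot.root (cyclotomic q (ZMod p)) • e u) ∧ e v = Pi.single 0 1 ∧
        Nat.card V = Nat.card (AdjoinRoot (cyclotomic q (ZMod p))) ^ (d + 1) := by
    intro T hT hf v hv
    have h0 : ∀ a ∈ Ideal.span {cyclotomic q (ZMod p)},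
        (aeval T : (ZMod p)[X] →ₐ[ZMod p] Module.End (ZMod p) V).toRingHom a = 0 := by
      intro a ha
      obtain ⟨k, rfl⟩ := Ideal.mem_span_singleton.mp ha
      show aeval T (cyclotomic q (ZMod p) * k) = 0
      rw [map_mul, hΦ T hT hf, zero_mul]
    obtain ⟨φ, hφ⟩ : ∃ φ : AdjoinRoot (cyclotomic q (ZMod p)) →+* Module.End (ZMod p) V,
        φ (AdjoinRoot.root (cyclotomic q (ZMod p))) = T := by
      refine ⟨Ideal.Quotient.lift (Ideal.span {cyclotomic q (ZMod p)})
        (aeval T : (ZMod p)[X] →ₐ[ZMod p] Module.End (ZMod p) V).toRingHom h0, ?_⟩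
      show Ideal.Quotient.lift (Ideal.span {cyclotomic q (ZMod p)})
        (aeval T : (ZMod p)[X] →ₐ[ZMod p] Module.End (ZMod p) V).toRingHom h0
        (Ideal.Quotient.mk _ X) = T
      rw [Ideal.Quotient.lift_mk]
      simp
    letI : Module (AdjoinRoot (cyclotomic q (ZMod p))) V := Module.compHom V φ
    obtain ⟨d, e, hev, hcard⟩ :=
      exists_coord_equiv (K := AdjoinRoot (cyclotomic q (ZMod p))) v hv
    refine ⟨d, e.toAddEquiv, ?_, hev, hcard⟩
    intro u
    have h1 : T u = (AdjoinRoot.root (cyclotomic q (ZMod p))) • u := by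
      show T u = φ (AdjoinRoot.root (cyclotomic q (ZMod p))) u
      rw [hφ]
    rw [h1]
    exact e.map_smul _ _
  obtain ⟨d₁, e₁, he₁, hev₁, hc₁⟩ := key T₁ h₁ f₁ v₁ hv₁
  obtain ⟨d₂, e₂, he₂, hev₂, hc₂⟩ := key T₂ h₂ f₂ v₂ hv₂
  have hd : d₁ = d₂ := by
    have h3 : Nat.card (AdjoinRoot (cyclotomic q (ZMod p))) ^ (d₁ + 1)
        = Nat.card (AdjoinRoot (cyclotomic q (ZMod p))) ^ (d₂ + 1) := hc₁.symm.trans hc₂
    have hK : 1 < Nat.card (AdjoinRoot (cyclotomic q (ZMod p))) := Finite.one_lt_card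
    have := Nat.pow_right_injective hK h3
    omega
  subst hd
  refine ⟨e₁.trans e₂.symm, ?_, ?_⟩
  · intro v
    apply e₂.injective
    rw [he₂]
    simp only [AddEquiv.trans_apply, AddEquiv.apply_symm_apply]
    exact he₁ v
  · simp only [AddEquiv.trans_apply]
    rw [hev₁, ← hev₂, AddEquiv.symm_apply_apply]

end Cfsg.Agent.Lib.Helper20
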