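import Cfsg.Agent.Lib.Helper20.LBalance18
import Cfsg.Agent.Lib.Helper20.CoprimeLift
import Cfsg.Agent.Lib.Helper20.LayerQuotient
import Cfsg.Agent.Lib.Helper20.Components
import Cfsg.Agent.Lib.Helper20.PComponents

set_option linter.style.haveILetI false
set_option linter.unusedVariables false
set_option linter.unusedSectionVars false
set_option autoImplicit false

namespace Cfsg.Agent.Lib.Helper20

open scoped commutatorElement
open Cfsg

/-- A subgroup whose elements conjugate `H` into itself normalizes `H`. -/
theorem le_normalizer_of_conj_mem' {W : Type*} [Group W] (L H : Subgroup W)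
    (h : ∀ l ∈ L, ∀ a ∈ H, l * a * l⁻¹ ∈ H) : L ≤ Subgroup.normalizer (H : Set W) := by
  intro l hl
  rw [Subgroup.mem_normalizer_iff]
  intro a
  constructor
  · exact h l hl a
  · intro ha
    have := h l⁻¹ (L.inv_mem hl) _ ha
    have e : l⁻¹ * (l * a * l⁻¹) * l⁻¹⁻¹ = a := by group
    rwa [e] at this

/-- A component centralizes every subgroup it normalizes and is not contained in. -/
theorem component_commutator_eq_bot_of_not_le {W : Type*} [Group W] [Finite W] (L H : Subgroup W)
    (hL : IsComponent L) (hinv : L ≤ Subgroup.normalizer (H : Set W)) (hnle : ¬ L ≤ H) :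
    ⁅L, H⁆ = ⊥ := by
  set M := L ⊔ H with hM
  have hLM : L ≤ M := le_sup_left
  have hHM : H ≤ M := le_sup_right
  have hMN : M ≤ Subgroup.normalizer (H : Set W) := sup_le hinv Subgroup.le_normalizer
  have hHn : (H.subgroupOf M).Normal := Subgroup.normal_subgroupOf_of_le_normalizer hMN
  have := component_le_or_commutes (L.subgroupOf M) (H.subgroupOf M)
    (isComponent_subgroupOf_of_le hL hLM) hHn.isSubnormal
  rw [subgroupOf_le_subgroupOf_iff hLM, commutator_subgroupOf_eq_bot_iff hLM hHM] at this
  rcases this with h | h
  · exact absurd h hnle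
  · exact h

/-- The image of a `p`-component under a surjection with `p'`-kernel is a `p`-component. -/
theorem isPComponent_map_of_coprime_ker {A B : Type*} [Group A] [Group B] [Finite A] (p : ℕ)
    [hp : Fact p.Prime] (f : A →* B) (hf : Function.Surjective f)
    (hker : (Nat.card f.ker).Coprime p) (K : Subgroup A) (hK : IsPComponent p K) :
    IsPComponent p (K.map f) := by
  haveI : Finite B := Finite.of_surjective f hf
  have hsn : (K.map f).IsSubnormal := hK.1.map hf
  apply (pComponents_commutator_le_and_criterion (X := B) (p := p)).2 (K.map f) hsn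
  · -- the image modulo the core is a component
    have hle : pPrimeCore p A ≤ ((QuotientGroup.mk' (pPrimeCore p B)).comp f).ker := by
      intro a ha
      rw [MonoidHom.mem_ker, MonoidHom.comp_apply, ← MonoidHom.mem_ker, QuotientGroup.ker_mk']
      have hn : ((pPrimeCore p A).map f).Normal :=
        Subgroup.Normal.map inferInstance f hf
      have hc : (Nat.card ((pPrimeCore p A).map f)).Coprime p :=
        Nat.Coprime.coprime_dvd_left (Subgroup.card_map_dvd _ f) (pPrimeCore_coprime' p)
      exact le_pPrimeCore' hn hc ⟨a, ha, rfl⟩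
    set gbar : A ⧸ pPrimeCore p A →* B ⧸ pPrimeCore p B :=
      QuotientGroup.lift (pPrimeCore p A) ((QuotientGroup.mk' (pPrimeCore p B)).comp f) hle
      with hgbar
    have hgs : Function.Surjective gbar := by
      intro b
      obtain ⟨b', rfl⟩ := QuotientGroup.mk'_surjective (pPrimeCore p B) b
      obtain ⟨a, rfl⟩ := hf b'
      exact ⟨QuotientGroup.mk' _ a, rfl⟩
    have heq : (K.map f).map (QuotientGroup.mk' (pPrimeCore p B)) =
        (K.map (QuotientGroup.mk' (pPrimeCore p A))).map gbar := by
      rw [Subgroup.map_map, Subgroup.map_map]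
      congr 1
    rw [heq]
    rcases isComponent_map_or_eq_bot gbar hgs _ hK.2.1 with h | h
    · exfalso
      rw [← heq, map_mk'_eq_bot_iff] at h
      obtain ⟨-, -, hdvd, -⟩ := pComponent_basic p K hK
      obtain ⟨k, hk⟩ := exists_prime_orderOf_dvd_card' (G := ↥K) p hdvd
      have hfk : f k.1 ∈ pPrimeCore p B := h ⟨k.1, k.2, rfl⟩
      have h1 : orderOf (f k.1) ∣ p := by
        have : orderOf (f k.1) ∣ orderOf k.1 := orderOf_map_dvd f k.1
        rwa [Subgroup.orderOf_coe, hk] at this
      have h2 : orderOf (f k.1) ∣ Nat.card (pPrimeCore p B) := by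
        have := orderOf_dvd_natCard (⟨f k.1, hfk⟩ : ↥(pPrimeCore p B))
        rwa [← Subgroup.orderOf_coe] at this
      have h3 : orderOf (f k.1) = 1 :=
        Nat.eq_one_of_dvd_coprimes (pPrimeCore_coprime' (G := B) p) h2 h1
      rw [orderOf_eq_one_iff] at h3
      have hkk : k.1 ∈ f.ker := h3
      have h4 : orderOf k.1 ∣ Nat.card f.ker := by
        have := orderOf_dvd_natCard (⟨k.1, hkk⟩ : ↥f.ker)
        rwa [← Subgroup.orderOf_coe] at this
      rw [Subgroup.orderOf_coe, hk] at h4
      have h5 : p ∣ Nat.gcd (Nat.card f.ker) p := Nat.dvd_gcd h4 dvd_rfl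
      rw [hker] at h5
      exact hp.out.one_lt.ne' (Nat.dvd_one.mp h5)
    · exact h
  · intro N hN hidx
    set φ := f.subgroupMap K with hφ
    have hφs : Function.Surjective φ := MonoidHom.subgroupMap_surjective f K
    haveI : (N.comap φ).Normal := hN.comap φ
    have h1 : (N.comap φ).index = N.index := Subgroup.index_comap_of_surjective N hφs
    have h2 := pComponent_no_normal_coprime_index p K hK (N.comap φ) (by rw [h1]; exact hidx)
    apply Subgroup.comap_injective hφs
    rw [h2, Subgroup.comap_top]

/-- A `p`-component of a normal subgroup is a `p`-component of the group. -/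
theorem isPComponent_map_subtype_of_normal {Y : Type*} [Group Y] [Finite Y] (p : ℕ)
    [hp : Fact p.Prime] (N : Subgroup Y) [hN : N.Normal] (K : Subgroup ↥N)
    (hK : IsPComponent p K) : IsPComponent p (K.map N.subtype) := by
  have hsn : (K.map N.subtype).IsSubnormal := hK.1.trans' hN.isSubnormal
  set e : ↥K ≃* ↥(K.map N.subtype) := K.equivMapOfInjective N.subtype N.subtype_injective with he
  apply (pComponents_commutator_le_and_criterion (X := Y) (p := p)).2 (K.map N.subtype) hsn
  · refine ⟨hsn.map (QuotientGroup.mk'_surjective _), ?_⟩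
    have hq := pComponent_quotient_core_quasisimple p K hK
    exact isQuasisimple_of_mulEquiv
      ((quotientCoreCongr p e).trans (quotientCoreEquivMap p (K.map N.subtype) hsn)) hq
  · intro N' hN' hidx
    haveI : (N'.comap e.toMonoidHom).Normal := hN'.comap _
    have h1 : (N'.comap e.toMonoidHom).index = N'.index :=
      Subgroup.index_comap_of_surjective N' e.surjective
    have h2 := pComponent_no_normal_coprime_index p K hK (N'.comap e.toMonoidHom)
      (by rw [h1]; exact hidx)
    apply Subgroup.comap_injective (f := e.toMonoidHom) e.surjective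
    rw [h2, Subgroup.comap_top]

end Cfsg.Agent.Lib.Helper20
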