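import Cfsg.Agent.Lib.Helper20.LBalance2

/-!
`L_{p'}`-balance type lemmas, part 3 (helper20): a component `L` with `[L, x] ≠ L` commutes with
`O_{p'}(C_G(x))` when `O_{p'}(G) = 1` and `x` has order `p`.  Uses the diagonal
`l ↦ l · l^x ⋯ l^{x^{p-1}}`.
-/

set_option autoImplicit false

namespace Cfsg.Agent.Lib.Helper20

open scoped commutatorElement
open Cfsg

section diag

variable {G : Type*} [Group G]

/-- `l · l^x ⋯ l^{x^{n-1}}`, where `l^{x^i} = x^i l x^{-i}`. -/
def diagProd (x l : G) : ℕ → G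
  | 0 => 1
  | n + 1 => l * (x * diagProd x l n * x⁻¹)

theorem diagProd_zero (x l : G) : diagProd x l 0 = 1 := rfl

theorem diagProd_succ (x l : G) (n : ℕ) :
    diagProd x l (n + 1) = l * (x * diagProd x l n * x⁻¹) := rfl

theorem diagProd_succ' (x l : G) (n : ℕ) :
    diagProd x l (n + 1) = diagProd x l n * (x ^ n * l * (x ^ n)⁻¹) := by
  induction n with
  | zero => simp [diagProd]
  | succ n ih =>
    calc diagProd x l (n + 1 + 1) = l * (x * diagProd x l (n + 1) * x⁻¹) := rfl
      _ = l * (x * (diagProd x l n * (x ^ n * l * (x ^ n)⁻¹)) * x⁻¹) := by rw [ih]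
      _ = (l * (x * diagProd x l n * x⁻¹)) * (x ^ (n + 1) * l * (x ^ (n + 1))⁻¹) := by
          rw [pow_succ' x n]; group
      _ = diagProd x l (n + 1) * (x ^ (n + 1) * l * (x ^ (n + 1))⁻¹) := rfl

theorem diagProd_one (x : G) (n : ℕ) : diagProd x 1 n = 1 := by
  induction n with
  | zero => rfl
  | succ n ih => rw [diagProd_succ, ih]; group

theorem commute_conj_diagProd (x : G) (L : Subgroup G) (g : G) :
    ∀ (n j : ℕ) (l : G), l ∈ L →
      (∀ i, j ≤ i → i < j + n → ∀ l' ∈ L, Commute g (x ^ i * l' * (x ^ i)⁻¹)) →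
      Commute g (x ^ j * diagProd x l n * (x ^ j)⁻¹) := by
  intro n
  induction n with
  | zero =>
    intro j l _ _
    rw [diagProd_zero, mul_one, mul_inv_cancel]
    exact Commute.one_right g
  | succ n ih =>
    intro j l hl h
    have e : x ^ j * diagProd x l (n + 1) * (x ^ j)⁻¹ =
        (x ^ j * l * (x ^ j)⁻¹) * (x ^ (j + 1) * diagProd x l n * (x ^ (j + 1))⁻¹) := by
      rw [diagProd_succ, pow_succ' x j]; group
    rw [e]
    exact Commute.mul_right (h j le_rfl (by omega) l hl)
      (ih (j + 1) l hl (fun i hi1 hi2 => h i (by omega) (by omega)))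

variable (x : G) (L : Subgroup G) (p : ℕ)

theorem diagProd_mul
    (Hc : ∀ i, 0 < i → i < p → ∀ l ∈ L, ∀ l' ∈ L, Commute l (x ^ i * l' * (x ^ i)⁻¹)) :
    ∀ n, n ≤ p → ∀ l ∈ L, ∀ l' ∈ L,
      diagProd x (l * l') n = diagProd x l n * diagProd x l' n := by
  intro n
  induction n with
  | zero => intro _ l _ l' _; simp [diagProd]
  | succ n ih =>
    intro hn l hl l' hl'
    have hc : Commute l' (x ^ 1 * diagProd x l n * (x ^ 1)⁻¹) :=
      commute_conj_diagProd x L l' n 1 l hl
        (fun i hi1 hi2 l'' hl'' => Hc i (by omega) (by omega) l' hl' l'' hl'')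
    rw [pow_one] at hc
    rw [diagProd_succ, diagProd_succ, diagProd_succ, ih (by omega) l hl l' hl']
    calc l * l' * (x * (diagProd x l n * diagProd x l' n) * x⁻¹)
        = l * (l' * (x * diagProd x l n * x⁻¹)) * (x * diagProd x l' n * x⁻¹) := by group
      _ = l * ((x * diagProd x l n * x⁻¹) * l') * (x * diagProd x l' n * x⁻¹) := by rw [hc.eq]
      _ = l * (x * diagProd x l n * x⁻¹) * (l' * (x * diagProd x l' n * x⁻¹)) := by group

theorem diagProd_inv
    (Hc : ∀ i, 0 < i → i < p → ∀ l ∈ L, ∀ l' ∈ L, Commute l (x ^ i * l' * (x ^ i)⁻¹))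
    (n : ℕ) (hn : n ≤ p) (l : G) (hl : l ∈ L) :
    diagProd x l⁻¹ n = (diagProd x l n)⁻¹ := by
  have h := diagProd_mul x L p Hc n hn l hl l⁻¹ (L.inv_mem hl)
  rw [mul_inv_cancel, diagProd_one] at h
  exact eq_inv_of_mul_eq_one_right h.symm

theorem diagProd_pow
    (Hc : ∀ i, 0 < i → i < p → ∀ l ∈ L, ∀ l' ∈ L, Commute l (x ^ i * l' * (x ^ i)⁻¹))
    (n : ℕ) (hn : n ≤ p) (l : G) (hl : l ∈ L) (k : ℕ) :
    diagProd x (l ^ k) n = (diagProd x l n) ^ k := by
  induction k with
  | zero => rw [pow_zero, pow_zero, diagProd_one]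
  | succ k ih =>
    rw [pow_succ, pow_succ, diagProd_mul x L p Hc n hn _ (L.pow_mem hl k) l hl, ih]

theorem diagProd_conj_self
    (Hc : ∀ i, 0 < i → i < p → ∀ l ∈ L, ∀ l' ∈ L, Commute l (x ^ i * l' * (x ^ i)⁻¹))
    (hp : 0 < p) (hxp : x ^ p = 1) (l : G) (hl : l ∈ L) :
    x * diagProd x l p * x⁻¹ = diagProd x l p := by
  obtain ⟨q, rfl⟩ : ∃ q, p = q + 1 := ⟨p - 1, by omega⟩
  have hc : Commute l (x ^ 1 * diagProd x l q * (x ^ 1)⁻¹) :=
    commute_conj_diagProd x L l q 1 l hl
      (fun i hi1 hi2 l'' hl'' => Hc i (by omega) (by omega) l hl l'' hl'')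
  rw [pow_one] at hc
  have e1 : x * (x ^ q * l * (x ^ q)⁻¹) * x⁻¹ = l := by
    have : x * (x ^ q * l * (x ^ q)⁻¹) * x⁻¹ = x ^ (q + 1) * l * (x ^ (q + 1))⁻¹ := by
      rw [pow_succ' x q]; group
    rw [this, hxp]; group
  calc x * diagProd x l (q + 1) * x⁻¹
      = (x * diagProd x l q * x⁻¹) * (x * (x ^ q * l * (x ^ q)⁻¹) * x⁻¹) := by
        rw [diagProd_succ']; group
    _ = (x * diagProd x l q * x⁻¹) * l := by rw [e1]
    _ = l * (x * diagProd x l q * x⁻¹) := hc.eq.symm
    _ = diagProd x l (q + 1) := (diagProd_succ x l q).symm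

theorem diagProd_conj_of_commute (d : G) (hd : Commute d x) (l : G) (n : ℕ) :
    d * diagProd x l n * d⁻¹ = diagProd x (d * l * d⁻¹) n := by
  induction n with
  | zero => simp [diagProd]
  | succ n ih =>
    rw [diagProd_succ, diagProd_succ, ← ih]
    calc d * (l * (x * diagProd x l n * x⁻¹)) * d⁻¹
        = d * l * d⁻¹ * ((d * x) * diagProd x l n * (d * x)⁻¹) := by group
      _ = d * l * d⁻¹ * ((x * d) * diagProd x l n * (x * d)⁻¹) := by rw [hd.eq]
      _ = d * l * d⁻¹ * (x * (d * diagProd x l n * d⁻¹) * x⁻¹) := by group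

theorem mem_centralizer_of_diagProd_eq_one
    (Hc : ∀ i, 0 < i → i < p → ∀ l ∈ L, ∀ l' ∈ L, Commute l (x ^ i * l' * (x ^ i)⁻¹))
    (hp : 0 < p) (l : G) (hl : l ∈ L) (h : diagProd x l p = 1) :
    l ∈ Subgroup.centralizer (L : Set G) := by
  obtain ⟨q, rfl⟩ : ∃ q, p = q + 1 := ⟨p - 1, by omega⟩
  rw [diagProd_succ] at h
  have e : l = (x * diagProd x l q * x⁻¹)⁻¹ := eq_inv_of_mul_eq_one_left h
  rw [Subgroup.mem_centralizer_iff]
  intro l' hl'
  have hc : Commute l' (x ^ 1 * diagProd x l q * (x ^ 1)⁻¹) :=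
    commute_conj_diagProd x L l' q 1 l hl
      (fun i hi1 hi2 l'' hl'' => Hc i (by omega) (by omega) l' hl' l'' hl'')
  rw [pow_one] at hc
  rw [e]
  exact hc.inv_right.eq

end diag

section main

variable {G : Type*} [Group G]

theorem le_normalizer_commutator_left [Finite G] (A B : Subgroup G) :
    A ≤ Subgroup.normalizer ((⁅A, B⁆ : Subgroup G) : Set G) := by
  intro a ha
  apply mem_normalizer_of_map_conj_le
  rw [Subgroup.map_le_iff_le_comap, Subgroup.commutator_le]
  intro a' ha' b hb
  rw [Subgroup.mem_comap]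
  have e : (MulAut.conj a).toMonoidHom ⁅a', b⁆ = ⁅a * a', b⁆ * ⁅a, b⁆⁻¹ := by
    simp only [MulEquiv.coe_toMonoidHom, MulAut.conj_apply, commutatorElement_def]
    group
  rw [e]
  exact Subgroup.mul_mem _ (Subgroup.commutator_mem_commutator (A.mul_mem ha ha') hb)
    (Subgroup.inv_mem _ (Subgroup.commutator_mem_commutator ha hb))

/-- For a component `L` and `B ≤ N_G(L)`: `[L, B] = L` or `[L, B] = 1`. -/
theorem commutator_eq_self_or_eq_bot [Finite G] (L : Subgroup G) (hL : IsComponent L)
    (B : Subgroup G) (hB : B ≤ Subgroup.normalizer (L : Set G)) : ⁅L, B⁆ = L ∨ ⁅L, B⁆ = ⊥ := by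
  have hle : ⁅L, B⁆ ≤ L := Cfsg.Agent.Lib.Helper16.commutator_le_of_le_normalizer' L B hB
  have hn : ((⁅L, B⁆ : Subgroup G).subgroupOf L).Normal :=
    (Subgroup.normal_subgroupOf_iff_le_normalizer hle).mpr (le_normalizer_commutator_left L B)
  rcases quasisimple_normal_top_or_le_center hL.2 _ hn with h | h
  · left
    apply le_antisymm hle
    rwa [Subgroup.subgroupOf_eq_top] at h
  · right
    have hc : ⁅L, B⁆ ≤ Subgroup.centralizer (L : Set G) := by
      intro g hg
      rw [Subgroup.mem_centralizer_iff]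
      intro l hl
      have h1 := h (show (⟨g, hle hg⟩ : ↥L) ∈ (⁅L, B⁆ : Subgroup G).subgroupOf L from
        Subgroup.mem_subgroupOf.mpr hg)
      rw [Subgroup.mem_center_iff] at h1
      exact congrArg Subtype.val (h1 ⟨l, hl⟩)
    have h1 : ⁅⁅L, B⁆, L⁆ = ⊥ := Subgroup.commutator_eq_bot_iff_le_centralizer.mpr hc
    have h2 : ⁅⁅B, L⁆, L⁆ = ⊥ := by rw [Subgroup.commutator_comm B L]; exact h1
    have h3 := Subgroup.commutator_commutator_eq_bot_of_rotate h1 h2
    rwa [Subgroup.isPerfect_iff.mp hL.2.1] at h3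

theorem centralizer_zpowers_eq_centralizer_singleton (x : G) :
    Subgroup.centralizer ((Subgroup.zpowers x : Subgroup G) : Set G) =
      Subgroup.centralizer ({x} : Set G) := by
  apply le_antisymm
  · apply Subgroup.centralizer_le
    intro y hy
    rw [Set.mem_singleton_iff] at hy
    rw [hy]; exact Subgroup.mem_zpowers x
  · intro g hg
    rw [Subgroup.mem_centralizer_iff]
    rintro _ ⟨k, rfl⟩
    have h1 : Commute x g := Subgroup.mem_centralizer_iff.mp hg x rfl
    exact (h1.zpow_left k).eq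

theorem isPGroup_zpowers_of_orderOf_eq {p : ℕ} (x : G) (hx : orderOf x = p) :
    IsPGroup p (Subgroup.zpowers x) :=
  IsPGroup.of_card (n := 1) (by rw [Nat.card_zpowers, hx, pow_one])

/-- The basic facts on `O_{p'}(C_G(x))` as a subgroup of `G`. -/
theorem centralizerPPrimeCore_facts [Finite G] (p : ℕ) (x : G) :
    (Nat.card (centralizerPPrimeCore p x)).Coprime p ∧
      centralizerPPrimeCore p x ≤ Subgroup.centralizer ({x} : Set G) ∧
      Subgroup.centralizer ({x} : Set G) ≤
        Subgroup.normalizer ((centralizerPPrimeCore p x : Subgroup G) : Set G) := by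
  unfold centralizerPPrimeCore
  obtain ⟨D, hD⟩ : ∃ D : Subgroup G, D = (pPrimeCore p ↥(Subgroup.centralizer ({x} : Set G))).map
    (Subgroup.centralizer ({x} : Set G)).subtype := ⟨_, rfl⟩
  rw [← hD]
  have hDcard : (Nat.card D).Coprime p := by
    rw [hD, Subgroup.card_map_of_injective (Subgroup.subtype_injective _)]
    exact pPrimeCore_coprime' p
  have hDC : D ≤ Subgroup.centralizer ({x} : Set G) := by
    rw [hD]; exact Subgroup.map_subtype_le _
  have hCD : Subgroup.centralizer ({x} : Set G) ≤ Subgroup.normalizer (D : Set G) := by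
    have e : D.subgroupOf (Subgroup.centralizer ({x} : Set G)) =
        pPrimeCore p ↥(Subgroup.centralizer ({x} : Set G)) := by
      rw [hD]; exact Subgroup.comap_map_eq_self_of_injective (Subgroup.subtype_injective _) _
    apply (Subgroup.normal_subgroupOf_iff_le_normalizer hDC).mp
    rw [e]; infer_instance
  exact ⟨hDcard, hDC, hCD⟩

/-- A `p'`-subgroup `D ≤ C_G(x)` normalized by `C_G(x)` (`x` of order `p`) normalizes every
component, when `O_{p'}(G) = 1`. -/
theorem le_normalizer_component_of_centralizer_le [Finite G] (p : ℕ) [hp : Fact p.Prime]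
    (hO : pPrimeCore p G = ⊥) (x : G) (hx : orderOf x = p) (D : Subgroup G)
    (hDcard : (Nat.card D).Coprime p) (hDC : D ≤ Subgroup.centralizer ({x} : Set G))
    (hCD : Subgroup.centralizer ({x} : Set G) ≤ Subgroup.normalizer (D : Set G))
    (L : Subgroup G) (hL : IsComponent L) : D ≤ Subgroup.normalizer (L : Set G) := by
  have hzC := centralizer_zpowers_eq_centralizer_singleton x
  exact le_normalizer_component_of_pPrime hO (Subgroup.zpowers x)
    (isPGroup_zpowers_of_orderOf_eq x hx) D hDcard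
    (by rw [hzC]; exact hDC) (by rw [hzC]; exact hCD) L hL

/-- General form: a `p'`-subgroup `D ≤ C_G(x)` normalized by `C_G(x)` centralizes every component
`L` with `[L, x] ≠ L`. -/
theorem commutator_eq_bot_of_centralizer_le [Finite G] (p : ℕ) [hp : Fact p.Prime]
    (hO : pPrimeCore p G = ⊥) (x : G) (hx : orderOf x = p) (D : Subgroup G)
    (hDcard : (Nat.card D).Coprime p) (hDC : D ≤ Subgroup.centralizer ({x} : Set G))
    (hCD : Subgroup.centralizer ({x} : Set G) ≤ Subgroup.normalizer (D : Set G))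
    (L : Subgroup G) (hL : IsComponent L)
    (hne : ⁅L, Subgroup.zpowers x⁆ ≠ L) : ⁅L, D⁆ = ⊥ := by
  have hzC := centralizer_zpowers_eq_centralizer_singleton x
  have hDL : D ≤ Subgroup.normalizer (L : Set G) :=
    le_normalizer_component_of_centralizer_le p hO x hx D hDcard hDC hCD L hL
  rcases commutator_eq_self_or_eq_bot L hL D hDL with hK | hK
  swap
  · exact hK
  exfalso
  have hLnot : ¬ (Nat.card L).Coprime p := by
    intro h
    have hLO := subnormal_coprime_le_pPrimeCore p L hL.1 h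
    rw [hO, le_bot_iff] at hLO
    have := isQuasisimple_nontrivial hL.2
    rw [hLO] at this
    exact not_nontrivial _ this
  by_cases hxL : x ∈ Subgroup.normalizer (L : Set G)
  · have hzL : Subgroup.zpowers x ≤ Subgroup.normalizer (L : Set G) := by
      rw [Subgroup.zpowers_le]; exact hxL
    rcases commutator_eq_self_or_eq_bot L hL (Subgroup.zpowers x) hzL with h | h
    · exact hne h
    · have hLC : L ≤ Subgroup.centralizer ({x} : Set G) := by
        rw [← hzC]; exact Subgroup.commutator_eq_bot_iff_le_centralizer.mp h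
      have h1 : ⁅L, D⁆ ≤ D := by
        rw [Subgroup.commutator_comm]
        exact Cfsg.Agent.Lib.Helper16.commutator_le_of_le_normalizer' D L (hLC.trans hCD)
      rw [hK] at h1
      exact hLnot (Nat.Coprime.coprime_dvd_left (Subgroup.card_dvd_of_le h1) hDcard)
  · have hxpow : x ^ p = 1 := by rw [← hx]; exact pow_orderOf_eq_one x
    have Hc : ∀ i, 0 < i → i < p → ∀ l ∈ L, ∀ l' ∈ L, Commute l (x ^ i * l' * (x ^ i)⁻¹) := by
      intro i hi0 hip l hl l' hl'
      have hxi : x ^ i ∉ Subgroup.normalizer (L : Set G) := by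
        intro h
        apply hxL
        refine mem_of_pow_mem_of_coprime _ h ?_
        rw [hx]; exact (Nat.coprime_of_lt_prime hi0.ne' hip hp.out).symm
      have hne' : L.map (MulAut.conj (x ^ i)).toMonoidHom ≠ L := fun h =>
        hxi ((Cfsg.Agent.Lib.Helper16.map_conj_eq_self_iff L _).mp h)
      have hcm := components_commute _ _ hL
        (isComponent_map_mulEquiv (MulAut.conj (x ^ i)) L hL) hne'.symm
      exact commutes_of_commutator_eq_bot hcm hl ⟨l', hl', rfl⟩
    have hp0 : 0 < p := hp.out.pos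
    let Λ : Subgroup G :=
      { carrier := {l | l ∈ L ∧ diagProd x l p ∈ D}
        mul_mem' := by
          rintro a b ⟨ha, ha'⟩ ⟨hb, hb'⟩
          refine ⟨L.mul_mem ha hb, ?_⟩
          rw [diagProd_mul x L p Hc p le_rfl a ha b hb]
          exact D.mul_mem ha' hb'
        one_mem' := ⟨L.one_mem, by rw [diagProd_one]; exact D.one_mem⟩
        inv_mem' := by
          rintro a ⟨ha, ha'⟩
          refine ⟨L.inv_mem ha, ?_⟩
          rw [diagProd_inv x L p Hc p le_rfl a ha]
          exact D.inv_mem ha' }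
    have hΛ : ⁅L, D⁆ ≤ Λ := by
      rw [Subgroup.commutator_le]
      intro l hl d hd
      have hdl : d * l⁻¹ * d⁻¹ ∈ L :=
        (Subgroup.mem_normalizer_iff.mp (hDL hd) l⁻¹).mp (L.inv_mem hl)
      have hdx : Commute d x := (Subgroup.mem_centralizer_iff.mp (hDC hd) x rfl).symm
      have e : ⁅l, d⁆ = l * (d * l⁻¹ * d⁻¹) := by rw [commutatorElement_def]; group
      refine ⟨?_, ?_⟩
      · rw [e]; exact L.mul_mem hl hdl
      · have e2 : diagProd x ⁅l, d⁆ p = ⁅diagProd x l p, d⁆ := by
          rw [e, diagProd_mul x L p Hc p le_rfl l hl _ hdl, ← diagProd_conj_of_commute x d hdx,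
            diagProd_inv x L p Hc p le_rfl l hl, commutatorElement_def]
          group
        rw [e2]
        have hδC : diagProd x l p ∈ Subgroup.centralizer ({x} : Set G) := by
          rw [Subgroup.mem_centralizer_iff]
          intro y hy
          rw [Set.mem_singleton_iff] at hy
          rw [hy]
          have := diagProd_conj_self x L p Hc hp0 hxpow l hl
          calc x * diagProd x l p = (x * diagProd x l p * x⁻¹) * x := by group
            _ = diagProd x l p * x := by rw [this]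
        have h1 := (Subgroup.mem_normalizer_iff.mp (hCD hδC) d).mp hd
        rw [commutatorElement_def]
        exact D.mul_mem h1 (D.inv_mem hd)
    obtain ⟨t, htL, ⟨e, hte⟩, htc, -⟩ :=
      exists_pElement_central_mod hO ⊥ IsPGroup.of_bot L hL L le_rfl bot_le
    have htΛ : t ∈ Λ := hΛ (by rw [hK]; exact htL)
    have h1 : diagProd x t p ∈ D := htΛ.2
    have h2 : (diagProd x t p) ^ (p ^ e) = 1 := by
      rw [← diagProd_pow x L p Hc p le_rfl t htL, ← hte, pow_orderOf_eq_one, diagProd_one]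
    have h3 : diagProd x t p = 1 := by
      have hc := orderOf_coprime_of_mem hDcard h1
      have hd := orderOf_dvd_of_pow_eq_one h2
      have := Nat.Coprime.eq_one_of_dvd (Nat.Coprime.pow_right e hc) hd
      exact orderOf_eq_one_iff.mp this
    exact htc (mem_centralizer_of_diagProd_eq_one x L p Hc hp0 t htL h3)

theorem commutator_centralizerPPrimeCore_eq_bot [Finite G] (p : ℕ) [hp : Fact p.Prime]
    (hO : pPrimeCore p G = ⊥) (x : G) (hx : orderOf x = p) (L : Subgroup G) (hL : IsComponent L)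
    (hne : ⁅L, Subgroup.zpowers x⁆ ≠ L) : ⁅L, centralizerPPrimeCore p x⁆ = ⊥ := by
  obtain ⟨h1, h2, h3⟩ := centralizerPPrimeCore_facts p x
  exact commutator_eq_bot_of_centralizer_le p hO x hx _ h1 h2 h3 L hL hne

end main

end Cfsg.Agent.Lib.Helper20
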