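import Cfsg.Agent.Lib.Helper20.BPropComp1
import Cfsg.Agent.Lib.Helper20.LBalance3

set_option linter.style.haveILetI false
set_option linter.unusedVariables false
set_option linter.unusedSectionVars false
set_option autoImplicit false

namespace Cfsg.Agent.Lib.Helper20

open scoped commutatorElement
open Cfsg

variable {Y : Type*} [Group Y] [Finite Y]

/-- `C_{Y/O(Y)}(t̄) = C_Y(t) O(Y) / O(Y)` for an involution `t`. -/
theorem centralizer_singleton_map_mk'_oddCore (t : Y) (ht : orderOf t = 2) :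
    (Subgroup.centralizer ({t} : Set Y)).map (QuotientGroup.mk' (oddCore Y)) =
      Subgroup.centralizer ({QuotientGroup.mk' (oddCore Y) t} : Set (Y ⧸ oddCore Y)) := by
  haveI : Fact (Nat.Prime 2) := ⟨Nat.prime_two⟩
  have hO : ¬ 2 ∣ Nat.card (oddCore Y) := by
    intro h
    have hc := pPrimeCore_coprime' (G := Y) 2
    have : 2 ∣ Nat.gcd (Nat.card (oddCore Y)) 2 := Nat.dvd_gcd h dvd_rfl
    rw [hc] at this
    exact absurd (Nat.dvd_one.mp this) (by norm_num)
  have h := centralizer_map_mk'_of_coprime 2 (oddCore Y) hO (Subgroup.zpowers t)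
    (isPGroup_zpowers_of_orderOf_eq t ht)
  rw [centralizer_zpowers_eq_centralizer_singleton, MonoidHom.map_zpowers,
    centralizer_zpowers_eq_centralizer_singleton] at h
  exact h.symm

theorem orderOf_mk'_oddCore_eq_two (t : Y) (ht : orderOf t = 2) :
    orderOf (QuotientGroup.mk' (oddCore Y) t) = 2 := by
  haveI : Fact (Nat.Prime 2) := ⟨Nat.prime_two⟩
  apply orderOf_eq_prime
  · have h2 : t ^ 2 = 1 := by rw [← ht]; exact pow_orderOf_eq_one t
    rw [← map_pow, h2, map_one]
  · intro h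
    rw [← MonoidHom.mem_ker, QuotientGroup.ker_mk'] at h
    have h1 : orderOf t ∣ Nat.card (oddCore Y) := by
      have := orderOf_dvd_natCard (⟨t, h⟩ : ↥(oddCore Y))
      rwa [← Subgroup.orderOf_coe] at this
    rw [ht] at h1
    have hc := pPrimeCore_coprime' (G := Y) 2
    have : 2 ∣ Nat.gcd (Nat.card (oddCore Y)) 2 := Nat.dvd_gcd h1 dvd_rfl
    rw [hc] at this
    exact absurd (Nat.dvd_one.mp this) (by norm_num)

/-- The abstract form of S1775: in a group `Y` such that `Y / O(Y)` has the B-property, a 2-component `K` of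
`C_Y(t)` (`t` an involution) maps onto a component of `C_{Y/O(Y)}(t̄)`, and `[K, E] ≤ O(Y)` for every `K`-invariant
subgroup `E` of odd order of `C_Y(t)`. -/
theorem bProperty_component_main (hB : HasBProperty (Y ⧸ oddCore Y)) (t : Y) (ht : orderOf t = 2)
    (K : Subgroup Y) (hKD : K ≤ Subgroup.centralizer ({t} : Set Y))
    (hK : IsPComponent 2 (K.subgroupOf (Subgroup.centralizer ({t} : Set Y)))) :
    IsComponent ((K.map (QuotientGroup.mk' (oddCore Y))).subgroupOf
        (Subgroup.centralizer ({QuotientGroup.mk' (oddCore Y) t} : Set (Y ⧸ oddCore Y)))) ∧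
      ∀ E : Subgroup Y, E ≤ Subgroup.centralizer ({t} : Set Y) → Odd (Nat.card E) →
        K ≤ Subgroup.normalizer (E : Set Y) → ⁅K, E⁆ ≤ oddCore Y := by
  haveI : Fact (Nat.Prime 2) := ⟨Nat.prime_two⟩
  set O := oddCore Y with hOdef
  set π := QuotientGroup.mk' O with hπ
  set D := Subgroup.centralizer ({t} : Set Y) with hD
  set W := Subgroup.centralizer ({π t} : Set (Y ⧸ O)) with hW
  have hDW : D.map π = W := centralizer_singleton_map_mk'_oddCore t ht
  have htbar : orderOf (π t) = 2 := orderOf_mk'_oddCore_eq_two t ht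
  -- the restriction of π to D → W
  have hmem : ∀ d : ↥D, (π.comp D.subtype) d ∈ W := by
    intro d
    rw [← hDW]
    exact ⟨d.1, d.2, rfl⟩
  set φ : ↥D →* ↥W := (π.comp D.subtype).codRestrict W hmem with hφ
  have hφval : ∀ d : ↥D, ((φ d : ↥W) : Y ⧸ O) = π d.1 := fun d => rfl
  have hφs : Function.Surjective φ := by
    intro w
    have hw : w.1 ∈ D.map π := by rw [hDW]; exact w.2
    obtain ⟨d, hd, hdw⟩ := hw
    exact ⟨⟨d, hd⟩, Subtype.ext hdw⟩
  have hker : (Nat.card φ.ker).Coprime 2 := by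
    have hle : φ.ker ≤ O.subgroupOf D := by
      intro d hd
      rw [Subgroup.mem_subgroupOf]
      have : φ d = 1 := hd
      have h2 : π d.1 = 1 := congrArg (fun w : ↥W => (w : Y ⧸ O)) this
      exact (QuotientGroup.eq_one_iff d.1).mp h2
    exact Nat.Coprime.coprime_dvd_left
      ((Subgroup.card_dvd_of_le hle).trans (card_subgroupOf_dvd O D)) (pPrimeCore_coprime' 2)
  -- the image of K is a 2-component of W
  have himg : (K.subgroupOf D).map φ = (K.map π).subgroupOf W := by
    ext w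
    constructor
    · rintro ⟨d, hd, rfl⟩
      rw [Subgroup.mem_subgroupOf, hφval]
      exact ⟨d.1, hd, rfl⟩
    · intro hw
      rw [Subgroup.mem_subgroupOf] at hw
      obtain ⟨k, hk, hkw⟩ := hw
      exact ⟨⟨k, hKD hk⟩, hk, Subtype.ext hkw⟩
  have hKW : IsPComponent 2 ((K.map π).subgroupOf W) := by
    rw [← himg]
    exact isPComponent_map_of_coprime_ker 2 φ hφs hker _ hK
  -- the B-property of the quotient
  have hBt := hB (π t) htbar
  have hbot : oddCore (Y ⧸ O) = ⊥ := pPrimeCore_quotient_eq_bot 2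
  rw [hbot, le_bot_iff, Subgroup.map_eq_bot_iff_of_injective _ (Subgroup.subtype_injective _)] at hBt
  have hcomm : ⁅(K.map π).subgroupOf W, pPrimeCore 2 ↥W⁆ = ⊥ := by
    rw [eq_bot_iff, ← hBt]
    exact Subgroup.commutator_mono (pComponent_le_pLayer 2 _ hKW) le_rfl
  have hcomp : IsComponent ((K.map π).subgroupOf W) :=
    ((pComponent_isComponent_iff 2 Nat.prime_two _ hKW).1).2 hcomm
  refine ⟨hcomp, ?_⟩
  intro E hED hEodd hKE
  -- the image of E in W
  set Et : Subgroup ↥W := (E.map π).subgroupOf W with hEt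
  have hnorm : (K.map π).subgroupOf W ≤ Subgroup.normalizer (Et : Set ↥W) := by
    apply le_normalizer_of_conj_mem'
    intro l hl a ha
    rw [Subgroup.mem_subgroupOf] at hl ha ⊢
    obtain ⟨k, hk, hkl⟩ := hl
    obtain ⟨e, he, hea⟩ := ha
    refine ⟨k * e * k⁻¹, ?_, ?_⟩
    · have := (Subgroup.mem_normalizer_iff.mp (hKE hk) e).mp he
      exact this
    · rw [map_mul, map_mul, map_inv, hkl, hea]; rfl
  have hnle : ¬ (K.map π).subgroupOf W ≤ Et := by
    intro hle
    obtain ⟨-, -, hdvd, -⟩ := pComponent_basic 2 _ hKW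
    have h1 : Nat.card ((K.map π).subgroupOf W) ∣ Nat.card Et := Subgroup.card_dvd_of_le hle
    have h2 : Nat.card Et ∣ Nat.card (E.map π) := card_subgroupOf_dvd _ _
    have h3 : Nat.card (E.map π) ∣ Nat.card E := Subgroup.card_map_dvd _ π
    have h4 : 2 ∣ Nat.card E := hdvd.trans (h1.trans (h2.trans h3))
    rw [Nat.odd_iff] at hEodd
    omega
  have hzero := component_commutator_eq_bot_of_not_le _ Et hcomp hnorm hnle
  rw [Subgroup.commutator_le]
  intro k hk e he
  apply (QuotientGroup.eq_one_iff (N := O) _).mp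
  change π ⁅k, e⁆ = 1
  rw [map_commutatorElement, commutatorElement_eq_one_iff_mul_comm]
  have hk' : (⟨π k, by rw [← hDW]; exact ⟨k, hKD hk, rfl⟩⟩ : ↥W) ∈ (K.map π).subgroupOf W := by
    rw [Subgroup.mem_subgroupOf]; exact ⟨k, hk, rfl⟩
  have he' : (⟨π e, by rw [← hDW]; exact ⟨e, hED he, rfl⟩⟩ : ↥W) ∈ Et := by
    rw [Subgroup.mem_subgroupOf]; exact ⟨e, he, rfl⟩
  have := commutes_of_commutator_eq_bot hzero hk' he'
  exact congrArg (fun w : ↥W => (w : Y ⧸ O)) this

end Cfsg.Agent.Lib.Helper20
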