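import Cfsg.Agent.Lib.Helper20.BPropComp2
import Cfsg.Agent.Lib.Helper20.Fitting
import Cfsg.Agent.Lib.Helper20.ExtLayer

set_option linter.style.haveILetI false
set_option linter.unusedVariables false
set_option linter.unusedSectionVars false
set_option autoImplicit false

namespace Cfsg.Agent.Lib.Helper20

open scoped commutatorElement
open Cfsg

variable {G : Type*} [Group G] [Finite G]

/-- If `F*(G)` is a non-abelian simple group, no nonidentity element is central. -/
theorem centralizer_ne_top_of_simple_fstar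
    (hF : IsSimpleGroup ↥(generalizedFittingSubgroup G))
    (hF' : ¬ IsMulCommutative ↥(generalizedFittingSubgroup G)) (y : G) (hy : y ≠ 1) :
    Subgroup.centralizer ({y} : Set G) ≠ ⊤ := by
  intro htop
  have hyc : y ∈ Subgroup.center G := by
    rw [Subgroup.mem_center_iff]
    intro g
    have : g ∈ Subgroup.centralizer ({y} : Set G) := by rw [htop]; trivial
    exact Subgroup.mem_centralizer_singleton_iff.mp this
  have hcF : Subgroup.center G ≤ generalizedFittingSubgroup G :=
    (le_fittingSubgroup' inferInstance (center_isNilpotent G)).trans le_sup_right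
  set F := generalizedFittingSubgroup G with hFdef
  have hyF : y ∈ F := hcF hyc
  have hyZ : (⟨y, hyF⟩ : ↥F) ∈ Subgroup.center ↥F := by
    rw [Subgroup.mem_center_iff]
    intro g
    apply Subtype.ext
    exact (Subgroup.mem_center_iff.mp hyc g.1)
  rcases (inferInstance : (Subgroup.center ↥F).Normal).eq_bot_or_eq_top with h | h
  · rw [h, Subgroup.mem_bot] at hyZ
    exact hy (congrArg Subtype.val hyZ)
  · apply hF'
    refine ⟨⟨fun a b => ?_⟩⟩
    have hb : b ∈ Subgroup.center ↥F := by rw [h]; trivial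
    exact (Subgroup.mem_center_iff.mp hb a)

/-- Transport of a `p`-component of `X` into a subgroup `D` of `↥Cy` in which `X` is normal. -/
theorem isPComponent_subgroupOf_subgroupOf (p : ℕ) [hp : Fact p.Prime] (Cy X : Subgroup G)
    (hXCy : X ≤ Cy) (D : Subgroup ↥Cy) (hXD : X.subgroupOf Cy ≤ D)
    (hNn : ((X.subgroupOf Cy).subgroupOf D).Normal) (J : Subgroup ↥X) (hJ : IsPComponent p J) :
    ((J.map X.subtype).subgroupOf Cy ≤ D) ∧
      IsPComponent p (((J.map X.subtype).subgroupOf Cy).subgroupOf D) := by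
  have hJD : (J.map X.subtype).subgroupOf Cy ≤ D := by
    intro c hc
    apply hXD
    rw [Subgroup.mem_subgroupOf] at hc ⊢
    obtain ⟨j, hj, hjc⟩ := hc
    rw [← hjc]
    exact j.2
  refine ⟨hJD, ?_⟩
  obtain ⟨N, hN⟩ : ∃ N : Subgroup ↥D, N = (X.subgroupOf Cy).subgroupOf D := ⟨_, rfl⟩
  haveI : N.Normal := hN ▸ hNn
  obtain ⟨e₁, he₁⟩ : ∃ e₁ : ↥((X.subgroupOf Cy).subgroupOf D) ≃* ↥X,
      e₁ = (Subgroup.subgroupOfEquivOfLe hXD).trans (Subgroup.subgroupOfEquivOfLe hXCy) := ⟨_, rfl⟩
  have he₁val : ∀ j : ↥X, (((e₁.symm j : ↥((X.subgroupOf Cy).subgroupOf D)) : ↥D) : ↥Cy).1 = j.1 := by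
    intro j; rw [he₁]; rfl
  have hK₁ : IsPComponent p (J.map e₁.symm.toMonoidHom) :=
    isPComponent_map_mulEquiv p e₁.symm J hJ
  have hK₂ := isPComponent_map_subtype_of_normal p ((X.subgroupOf Cy).subgroupOf D) _ hK₁
  have heq : ((J.map e₁.symm.toMonoidHom).map ((X.subgroupOf Cy).subgroupOf D).subtype) =
      ((J.map X.subtype).subgroupOf Cy).subgroupOf D := by
    ext d
    rw [Subgroup.mem_subgroupOf, Subgroup.mem_subgroupOf]
    constructor
    · rintro ⟨n, ⟨j, hj, rfl⟩, rfl⟩
      exact ⟨j, hj, (he₁val j).symm⟩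
    · rintro ⟨j, hj, hjd⟩
      refine ⟨e₁.symm j, ⟨j, hj, rfl⟩, ?_⟩
      apply Subtype.ext
      apply Subtype.ext
      exact (he₁val j).trans hjd
  rw [← heq]
  exact hK₂

/-- The 2-component `J` of `L_{2'}(C_G(x)) ∩ C_G(y)` is a 2-component of `C_{C_G(y)}(x)`. -/
theorem isPComponent_in_centralizer_of_layer_inf (x y : G) (hxy : x * y = y * x)
    (J : Subgroup ↥((pLayer 2 ↥(Subgroup.centralizer ({x} : Set G))).map
      (Subgroup.centralizer ({x} : Set G)).subtype ⊓ Subgroup.centralizer ({y} : Set G)))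
    (hJ : IsPComponent 2 J) :
    ((J.map (Subgroup.subtype _)).subgroupOf (Subgroup.centralizer ({y} : Set G)) ≤
      Subgroup.centralizer ({(⟨x, Subgroup.mem_centralizer_singleton_iff.mpr hxy⟩ :
        ↥(Subgroup.centralizer ({y} : Set G)))} : Set ↥(Subgroup.centralizer ({y} : Set G)))) ∧
    IsPComponent 2 (((J.map (Subgroup.subtype _)).subgroupOf (Subgroup.centralizer ({y} : Set G))).subgroupOf
      (Subgroup.centralizer ({(⟨x, Subgroup.mem_centralizer_singleton_iff.mpr hxy⟩ :
        ↥(Subgroup.centralizer ({y} : Set G)))} : Set ↥(Subgroup.centralizer ({y} : Set G))))) := by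
  haveI : Fact (Nat.Prime 2) := ⟨Nat.prime_two⟩
  have hLxCx : (pLayer 2 ↥(Subgroup.centralizer ({x} : Set G))).map
      (Subgroup.centralizer ({x} : Set G)).subtype ≤ Subgroup.centralizer ({x} : Set G) :=
    Subgroup.map_subtype_le _
  have hXD : ((pLayer 2 ↥(Subgroup.centralizer ({x} : Set G))).map
      (Subgroup.centralizer ({x} : Set G)).subtype ⊓ Subgroup.centralizer ({y} : Set G)).subgroupOf
        (Subgroup.centralizer ({y} : Set G)) ≤
      Subgroup.centralizer ({(⟨x, Subgroup.mem_centralizer_singleton_iff.mpr hxy⟩ :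
        ↥(Subgroup.centralizer ({y} : Set G)))} : Set ↥(Subgroup.centralizer ({y} : Set G))) := by
    intro c hc
    rw [Subgroup.mem_subgroupOf] at hc
    rw [Subgroup.mem_centralizer_singleton_iff]
    apply Subtype.ext
    exact Subgroup.mem_centralizer_singleton_iff.mp (hLxCx hc.1)
  have hLxconj : ∀ g ∈ Subgroup.centralizer ({x} : Set G),
      ∀ l ∈ (pLayer 2 ↥(Subgroup.centralizer ({x} : Set G))).map
        (Subgroup.centralizer ({x} : Set G)).subtype,
      g * l * g⁻¹ ∈ (pLayer 2 ↥(Subgroup.centralizer ({x} : Set G))).map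
        (Subgroup.centralizer ({x} : Set G)).subtype := by
    intro g hg l hl
    obtain ⟨l', hl', rfl⟩ := hl
    have := (inferInstance : (pLayer 2 ↥(Subgroup.centralizer ({x} : Set G))).Normal).conj_mem
      l' hl' ⟨g, hg⟩
    exact ⟨_, this, rfl⟩
  apply isPComponent_subgroupOf_subgroupOf 2 _ _ inf_le_right _ hXD _ J hJ
  constructor
  intro n hn d
  rw [Subgroup.mem_subgroupOf, Subgroup.mem_subgroupOf] at hn ⊢
  have hdx : (d.1.1 : G) ∈ Subgroup.centralizer ({x} : Set G) := by
    have := Subgroup.mem_centralizer_singleton_iff.mp d.2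
    rw [Subgroup.mem_centralizer_singleton_iff]
    exact congrArg Subtype.val this
  refine ⟨hLxconj _ hdx _ hn.1, ?_⟩
  exact Subgroup.mul_mem _ (Subgroup.mul_mem _ d.1.2 hn.2) (Subgroup.inv_mem _ d.1.2)

/-- S1775. -/
theorem two_component_double_layer_main
    (hF : IsSimpleGroup ↥(generalizedFittingSubgroup G))
    (hF' : ¬ IsMulCommutative ↥(generalizedFittingSubgroup G))
    (hsec : ∀ (H : Subgroup G) (N : Subgroup ↥H) [N.Normal], (H ≠ ⊤ ∨ N ≠ ⊥) → HasBProperty (↥H ⧸ N))
    (x y : G) (hx : orderOf x = 2) (hy : orderOf y = 2) (hxy : x * y = y * x)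
    (J : Subgroup ↥((pLayer 2 ↥(Subgroup.centralizer ({x} : Set G))).map
      (Subgroup.centralizer ({x} : Set G)).subtype ⊓ Subgroup.centralizer ({y} : Set G)))
    (hJ : IsPComponent 2 J) :
    IsComponent
        ((((J.map (Subgroup.subtype _)).subgroupOf (Subgroup.centralizer ({y} : Set G))).map
          (QuotientGroup.mk' (oddCore ↥(Subgroup.centralizer ({y} : Set G))))).subgroupOf
          (Subgroup.centralizer ({(QuotientGroup.mk' (oddCore ↥(Subgroup.centralizer ({y} : Set G)))
            ⟨x, Subgroup.mem_centralizer_singleton_iff.mpr hxy⟩ :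
              ↥(Subgroup.centralizer ({y} : Set G)) ⧸ oddCore ↥(Subgroup.centralizer ({y} : Set G)))} : Set _))) ∧
      ∀ E : Subgroup G, E ≤ Subgroup.centralizer ({x} : Set G) ⊓ Subgroup.centralizer ({y} : Set G) →
        Odd (Nat.card ↥E) →
        (∀ j ∈ J.map (Subgroup.subtype _), ∀ e ∈ E, j * e * j⁻¹ ∈ E) →
          ⁅J.map (Subgroup.subtype _), E⁆ ≤
            (oddCore ↥(Subgroup.centralizer ({y} : Set G))).map (Subgroup.centralizer ({y} : Set G)).subtype := by
  have hy1 : y ≠ 1 := by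
    intro h; rw [h, orderOf_one] at hy; norm_num at hy
  have hCy := centralizer_ne_top_of_simple_fstar hF hF' y hy1
  have hB := hsec (Subgroup.centralizer ({y} : Set G))
    (oddCore ↥(Subgroup.centralizer ({y} : Set G))) (Or.inl hCy)
  obtain ⟨hJD, hJc⟩ := isPComponent_in_centralizer_of_layer_inf x y hxy J hJ
  have hx'2 : orderOf (⟨x, Subgroup.mem_centralizer_singleton_iff.mpr hxy⟩ :
      ↥(Subgroup.centralizer ({y} : Set G))) = 2 := by
    rw [← hx]
    exact (Subgroup.orderOf_mk x _)
  obtain ⟨h1, h2⟩ := bProperty_component_main hB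
    (⟨x, Subgroup.mem_centralizer_singleton_iff.mpr hxy⟩ : ↥(Subgroup.centralizer ({y} : Set G)))
    hx'2 _ hJD hJc
  refine ⟨h1, ?_⟩
  intro E hE hodd hinv
  have hECy : E ≤ Subgroup.centralizer ({y} : Set G) := hE.trans inf_le_right
  have hJCy : J.map (Subgroup.subtype _) ≤ Subgroup.centralizer ({y} : Set G) := by
    rintro _ ⟨j, hj, rfl⟩
    exact j.2.2
  have hED : E.subgroupOf (Subgroup.centralizer ({y} : Set G)) ≤
      Subgroup.centralizer ({(⟨x, Subgroup.mem_centralizer_singleton_iff.mpr hxy⟩ :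
        ↥(Subgroup.centralizer ({y} : Set G)))} : Set ↥(Subgroup.centralizer ({y} : Set G))) := by
    intro c hc
    rw [Subgroup.mem_subgroupOf] at hc
    rw [Subgroup.mem_centralizer_singleton_iff]
    apply Subtype.ext
    exact Subgroup.mem_centralizer_singleton_iff.mp ((hE hc).1)
  have hodd' : Odd (Nat.card ↥(E.subgroupOf (Subgroup.centralizer ({y} : Set G)))) := by
    rw [Nat.card_congr (Subgroup.subgroupOfEquivOfLe hECy).toEquiv]
    exact hodd
  have hnorm : (J.map (Subgroup.subtype _)).subgroupOf (Subgroup.centralizer ({y} : Set G)) ≤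
      Subgroup.normalizer ((E.subgroupOf (Subgroup.centralizer ({y} : Set G)) :
        Subgroup ↥(Subgroup.centralizer ({y} : Set G))) : Set ↥(Subgroup.centralizer ({y} : Set G))) := by
    apply le_normalizer_of_conj_mem'
    intro l hl a ha
    rw [Subgroup.mem_subgroupOf] at hl ha ⊢
    exact hinv _ hl _ ha
  have h3 := h2 (E.subgroupOf (Subgroup.centralizer ({y} : Set G))) hED hodd' hnorm
  have h4 := Subgroup.map_mono (f := (Subgroup.centralizer ({y} : Set G)).subtype) h3
  rw [Subgroup.map_commutator, Subgroup.map_subgroupOf_eq_of_le hJCy,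
    Subgroup.map_subgroupOf_eq_of_le hECy] at h4
  exact h4

end Cfsg.Agent.Lib.Helper20
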