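import Mathlib
import Cfsg.Prelude.Def_Local
import Cfsg.Prelude.Def_Transfer

set_option autoImplicit false

namespace Cfsg.Agent.Lib.Helper20.CE1286

abbrev P5 := Equiv.Perm (Fin 5)

def s : P5 := Equiv.swap 0 1
def t : P5 := Equiv.swap 2 3
def c1 : P5 := Equiv.swap 2 3 * Equiv.swap 3 4
def c2 : P5 := Equiv.swap 0 1 * Equiv.swap 1 4

/-- The subgroup `{1, c, c⁻¹}` for `c` of order dividing 3. -/
def sub3 (c : P5) (h : c * c * c = 1) : Subgroup P5 where
  carrier := {x | x = 1 ∨ x = c ∨ x = c * c}
  one_mem' := Or.inl rfl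
  mul_mem' := by
    rintro a b (rfl | rfl | rfl) (rfl | rfl | rfl)
    · left; simp
    · right; left; simp
    · right; right; simp
    · right; left; simp
    · right; right; rfl
    · left; rw [← mul_assoc]; exact h
    · right; right; simp
    · left; rw [mul_assoc] at h; exact h
    · right; left
      calc c * c * (c * c) = (c * c * c) * c := by group
        _ = c := by rw [h, one_mul]
  inv_mem' := by
    rintro a (rfl | rfl | rfl)
    · left; simp
    · right; right
      rw [inv_eq_iff_mul_eq_one, ← mul_assoc]; exact h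
    · right; left
      rw [inv_eq_iff_mul_eq_one]; exact h

theorem hc1 : c1 * c1 * c1 = 1 := by decide
theorem hc2 : c2 * c2 * c2 = 1 := by decide

def A : Subgroup P5 where
  carrier := {x | x = 1 ∨ x = s ∨ x = t ∨ x = s * t}
  one_mem' := Or.inl rfl
  mul_mem' := by
    rintro a b (rfl | rfl | rfl | rfl) (rfl | rfl | rfl | rfl) <;> decide
  inv_mem' := by
    rintro a (rfl | rfl | rfl | rfl) <;> decide


open Classical in
noncomputable def θ (g : P5) : Subgroup P5 :=
  if g = s then sub3 c1 hc1 else if g = t then sub3 c2 hc2 else ⊥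

theorem θ_s : θ s = sub3 c1 hc1 := by simp [θ]
theorem θ_t : θ t = sub3 c2 hc2 := by
  have : t ≠ s := by decide
  simp [θ, this]
theorem θ_st : θ (s * t) = ⊥ := by
  have h1 : s * t ≠ s := by decide
  have h2 : s * t ≠ t := by decide
  simp [θ, h1, h2]

theorem mem_sub3 (c : P5) (h : c * c * c = 1) (x : P5) :
    x ∈ sub3 c h ↔ x = 1 ∨ x = c ∨ x = c * c := Iff.rfl

theorem mem_A (x : P5) : x ∈ A ↔ x = 1 ∨ x = s ∨ x = t ∨ x = s * t := Iff.rfl

theorem sub3_comm (c : P5) (h : c * c * c = 1) : IsMulCommutative (sub3 c h) := by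
  refine ⟨⟨?_⟩⟩
  rintro ⟨a, ha⟩ ⟨b, hb⟩
  apply Subtype.ext
  show a * b = b * a
  rcases ha with rfl | rfl | rfl <;> rcases hb with rfl | rfl | rfl <;> simp [mul_assoc]

theorem sub3_solvable (c : P5) (h : c * c * c = 1) : Group.IsSolvable (sub3 c h) := by
  have := sub3_comm c h
  have : ∀ a b : sub3 c h, a * b = b * a := fun a b => mul_comm' a b
  exact Group.isSolvable_of_comm this

theorem sub3_odd (c : P5) (h : c * c * c = 1) : ¬ 2 ∣ Nat.card (sub3 c h) := by
  intro h2
  obtain ⟨x, hx⟩ := exists_prime_orderOf_dvd_card' 2 h2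
  have hx' : orderOf (x : P5) = 2 := by rw [Subgroup.orderOf_coe]; exact hx
  have h3 : (x : P5) ^ 3 = 1 := by
    rcases x.2 with h0 | h0 | h0 <;> rw [h0]
    · simp
    · rw [pow_succ, pow_two]; exact h
    · calc (c * c) ^ 3 = (c * c * c) * (c * c * c) := by
            rw [pow_succ, pow_two]; simp only [mul_assoc]
        _ = 1 := by rw [h, one_mul]
  have h4 : orderOf (x : P5) ∣ 3 := orderOf_dvd_of_pow_eq_one h3
  rw [hx'] at h4
  omega


theorem s_mem : s ∈ A := Or.inr (Or.inl rfl)
theorem t_mem : t ∈ A := Or.inr (Or.inr (Or.inl rfl))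
theorem s_ne : s ≠ 1 := by decide
theorem t_ne : t ≠ 1 := by decide

theorem card_A : Nat.card ↥A = 4 := by
  have h : (A : Set P5) = ↑({1, s, t, s * t} : Finset P5) := by
    ext x
    simp only [SetLike.mem_coe, mem_A, Finset.coe_insert, Finset.coe_singleton,
      Set.mem_insert_iff, Set.mem_singleton_iff]
  have h2 : Nat.card ↥A = (A : Set P5).ncard := rfl
  rw [h2, h, Set.ncard_coe_finset]
  decide

theorem isSignalizerFunctor_θ : Cfsg.IsSignalizerFunctor 2 A θ := by
  refine ⟨?_, ?_, ?_, ?_⟩
  · rintro a (rfl | rfl | rfl | rfl) ha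
    · exact absurd rfl ha
    · rw [θ_s]
      intro x hx
      rw [Subgroup.mem_centralizer_iff]
      intro h hh
      rw [Set.mem_singleton_iff] at hh
      subst hh
      rcases (mem_sub3 _ _ _).mp hx with rfl | rfl | rfl <;> decide
    · rw [θ_t]
      intro x hx
      rw [Subgroup.mem_centralizer_iff]
      intro h hh
      rw [Set.mem_singleton_iff] at hh
      subst hh
      rcases (mem_sub3 _ _ _).mp hx with rfl | rfl | rfl <;> decide
    · rw [θ_st]; exact bot_le
  · rintro a (rfl | rfl | rfl | rfl) ha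
    · exact absurd rfl ha
    · rw [θ_s]; exact sub3_odd _ _
    · rw [θ_t]; exact sub3_odd _ _
    · rw [θ_st, Subgroup.card_bot]; norm_num
  · rintro a (rfl | rfl | rfl | rfl) ha
    · exact absurd rfl ha
    · rw [θ_s]
      rintro b (rfl | rfl | rfl | rfl) x hx <;>
        rcases (mem_sub3 _ _ _).mp hx with rfl | rfl | rfl <;> rw [mem_sub3] <;> decide
    · rw [θ_t]
      rintro b (rfl | rfl | rfl | rfl) x hx <;>
        rcases (mem_sub3 _ _ _).mp hx with rfl | rfl | rfl <;> rw [mem_sub3] <;> decide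
    · rw [θ_st]
      intro b _ x hx
      rw [Subgroup.mem_bot] at hx
      subst hx
      simp
  · rintro a (rfl | rfl | rfl | rfl) ha
    · exact absurd rfl ha
    · rintro b (rfl | rfl | rfl | rfl) hb
      · exact absurd rfl hb
      · exact inf_le_left
      · rw [θ_s, θ_t]
        rintro x hx
        obtain ⟨hx1, hx2⟩ := Subgroup.mem_inf.mp hx
        rw [Subgroup.mem_centralizer_iff] at hx2
        have h3 := hx2 _ rfl
        rcases (mem_sub3 _ _ _).mp hx1 with rfl | rfl | rfl
        · exact Subgroup.one_mem _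
        · exact absurd h3 (by decide)
        · exact absurd h3 (by decide)
      · rw [θ_s, θ_st]
        rintro x hx
        obtain ⟨hx1, hx2⟩ := Subgroup.mem_inf.mp hx
        rw [Subgroup.mem_centralizer_iff] at hx2
        have h3 := hx2 _ rfl
        rcases (mem_sub3 _ _ _).mp hx1 with rfl | rfl | rfl
        · exact Subgroup.one_mem _
        · exact absurd h3 (by decide)
        · exact absurd h3 (by decide)
    · rintro b (rfl | rfl | rfl | rfl) hb
      · exact absurd rfl hb
      · rw [θ_s, θ_t]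
        rintro x hx
        obtain ⟨hx1, hx2⟩ := Subgroup.mem_inf.mp hx
        rw [Subgroup.mem_centralizer_iff] at hx2
        have h3 := hx2 _ rfl
        rcases (mem_sub3 _ _ _).mp hx1 with rfl | rfl | rfl
        · exact Subgroup.one_mem _
        · exact absurd h3 (by decide)
        · exact absurd h3 (by decide)
      · exact inf_le_left
      · rw [θ_t, θ_st]
        rintro x hx
        obtain ⟨hx1, hx2⟩ := Subgroup.mem_inf.mp hx
        rw [Subgroup.mem_centralizer_iff] at hx2
        have h3 := hx2 _ rfl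
        rcases (mem_sub3 _ _ _).mp hx1 with rfl | rfl | rfl
        · exact Subgroup.one_mem _
        · exact absurd h3 (by decide)
        · exact absurd h3 (by decide)
    · intro b _ _
      rw [θ_st]
      exact inf_le_left.trans bot_le

theorem main : ∃ (X : Type) (_ : Group X) (_ : Finite X) (A : Subgroup X) (θ : X → Subgroup X),
    Cfsg.IsElementaryAbelian 2 A ∧ Nat.card ↥A = 4 ∧ Cfsg.IsSolvableSignalizerFunctor 2 A θ ∧
      ¬ Cfsg.IsCompleteSignalizerFunctor 2 A θ := by
  refine ⟨P5, inferInstance, inferInstance, A, θ, ?_, card_A, ⟨isSignalizerFunctor_θ, ?_⟩, ?_⟩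
  · refine ⟨⟨⟨?_⟩⟩, ?_⟩
    · rintro ⟨a, ha⟩ ⟨b, hb⟩
      apply Subtype.ext
      show a * b = b * a
      rcases ha with rfl | rfl | rfl | rfl <;> rcases hb with rfl | rfl | rfl | rfl <;> decide
    · rintro a (rfl | rfl | rfl | rfl) <;> decide
  · rintro a (rfl | rfl | rfl | rfl) ha
    · exact absurd rfl ha
    · rw [θ_s]; exact sub3_solvable _ _
    · rw [θ_t]; exact sub3_solvable _ _
    · rw [θ_st]; infer_instance
  · rintro ⟨-, X', -, hodd, hX⟩
    have h1 : c1 ∈ X' := by
      have h := hX s s_mem s_ne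
      rw [θ_s] at h
      have : c1 ∈ sub3 c1 hc1 := Or.inr (Or.inl rfl)
      rw [← h] at this
      exact (Subgroup.mem_inf.mp this).1
    have h2 : c2 ∈ X' := by
      have h := hX t t_mem t_ne
      rw [θ_t] at h
      have : c2 ∈ sub3 c2 hc2 := Or.inr (Or.inl rfl)
      rw [← h] at this
      exact (Subgroup.mem_inf.mp this).1
    have hw : c1 * c2 * c1 * c2⁻¹ ∈ X' :=
      X'.mul_mem (X'.mul_mem (X'.mul_mem h1 h2) h1) (X'.inv_mem h2)
    have ho : orderOf (c1 * c2 * c1 * c2⁻¹) = 2 :=
      orderOf_eq_prime (by decide) (by decide)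
    apply hodd
    rw [← ho]
    exact Subgroup.orderOf_dvd_natCard X' hw

end Cfsg.Agent.Lib.Helper20.CE1286
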