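import Cfsg.Agent.Lib.Helper20.FstarComm3
import Cfsg.Agent.Lib.Helper20.Cores
import Cfsg.Agent.Lib.Helper16.Subnormal

/-!
Primitive pairs (Kurzweil–Stellmacher 10.1): a primitive pair `(M₁, M₂)` with
`F*(M₁) ≤ M₂` and `F*(M₂) ≤ M₁` has characteristic `p` (helper20).
-/

set_option autoImplicit false

namespace Cfsg.Agent.Lib.Helper20

open scoped commutatorElement
open Cfsg

section abstract

variable {X : Type*} [Group X] [Finite X] {q : ℕ} [hq : Fact q.Prime]

omit [Finite X] hq in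
theorem pow_card_eq_one_of_mem' {V : Subgroup X} {v : X} (hv : v ∈ V) : v ^ Nat.card V = 1 := by
  have h := pow_card_eq_one' (G := V) (x := ⟨v, hv⟩)
  have h2 : ((⟨v, hv⟩ ^ Nat.card V : V) : X) = ((1 : V) : X) := congrArg Subtype.val h
  rw [Subgroup.coe_pow, Subgroup.coe_one] at h2
  exact h2

omit [Finite X] hq in
/-- If `g v g⁻¹ = c v'` with `v, v'` in a `q'`-group, `c` a `q`-element commuting with `v'`,
then `c = 1`. -/
theorem eq_one_of_conj_eq_mul {V : Subgroup X} (hV : (Nat.card V).Coprime q) {g v v' c : X}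
    (hv : v ∈ V) (hv' : v' ∈ V) (hc : ∃ k : ℕ, c ^ q ^ k = 1) (hcomm : Commute c v')
    (h : g * v * g⁻¹ = c * v') : c = 1 := by
  have h1 : v ^ Nat.card V = 1 := pow_card_eq_one_of_mem' hv
  have h2 : v' ^ Nat.card V = 1 := pow_card_eq_one_of_mem' hv'
  have h3 : (g * v * g⁻¹) ^ Nat.card V = 1 := by
    rw [conj_pow, h1]; group
  rw [h, hcomm.mul_pow, h2, mul_one] at h3
  obtain ⟨k, hk⟩ := hc
  have d1 : orderOf c ∣ Nat.card V := orderOf_dvd_of_pow_eq_one h3
  have d2 : orderOf c ∣ q ^ k := orderOf_dvd_of_pow_eq_one hk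
  have hcop : (orderOf c).Coprime (q ^ k) :=
    Nat.Coprime.coprime_dvd_left d1 (Nat.Coprime.pow_right k hV)
  exact orderOf_eq_one_iff.mp (Nat.Coprime.eq_one_of_dvd hcop d2)

omit [Finite X] hq in
theorem pow_conj_iterate {g u t : X} (h : g * u * g⁻¹ = t * u) (hgt : Commute g t) (n : ℕ) :
    g ^ n * u * (g ^ n)⁻¹ = t ^ n * u := by
  induction n with
  | zero => simp
  | succ n ih =>
    have hgtn : g * t ^ n * g⁻¹ = t ^ n := by
      have := (hgt.pow_right n).eq
      rw [this]; group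
    calc g ^ (n + 1) * u * (g ^ (n + 1))⁻¹ = g * (g ^ n * u * (g ^ n)⁻¹) * g⁻¹ := by
          rw [pow_succ']; group
      _ = g * (t ^ n * u) * g⁻¹ := by rw [ih]
      _ = (g * t ^ n * g⁻¹) * (g * u * g⁻¹) := by group
      _ = t ^ n * (t * u) := by rw [hgtn, h]
      _ = t ^ (n + 1) * u := by rw [pow_succ]; group

/-- Key step of Bender's primitive pair theorem, inside one member `X` of the pair. `A`, `T` are
the `q`- and `q'`-parts of `F*(X) = F(X)`; `B` a `q`-group centralizing `T`, `U` a `q'`-group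
centralizing `A`, and whatever normalizes `U` normalizes `B`. Then `B ≤ O_q(X)`. -/
theorem le_pCore_of_centralizes_hall (A T : Subgroup X) [hA : A.Normal] [hT : T.Normal]
    (hAq : IsPGroup q A) (hTq : (Nat.card T).Coprime q)
    (hC : Subgroup.centralizer ((A ⊔ T : Subgroup X) : Set X) ≤ A ⊔ T)
    (B U : Subgroup X) (hB : IsPGroup q B) (hU : (Nat.card U).Coprime q)
    (hBT : B ≤ Subgroup.centralizer (T : Set X))
    (hUA : U ≤ Subgroup.centralizer (A : Set X))
    (hN : Subgroup.normalizer (U : Set X) ≤ Subgroup.normalizer (B : Set X)) :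
    B ≤ pCore q X := by
  have hdis : Disjoint A T := by
    obtain ⟨n, hn⟩ := IsPGroup.iff_card.mp hAq
    apply Subgroup.disjoint_of_coprime_natCard
    rw [hn]
    exact Nat.Coprime.pow_left n hTq.symm
  have hcommAT : ∀ a ∈ A, ∀ t ∈ T, Commute a t := fun a ha t ht =>
    Subgroup.commute_of_normal_of_disjoint A T hA hT hdis a t ha ht
  have hTU : (Nat.card (U ⊔ T : Subgroup X)).Coprime q :=
    Nat.Coprime.coprime_dvd_left (card_sup_dvd_mul U T) (Nat.Coprime.mul_left hU hTq)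
  have key : ∀ g ∈ Subgroup.centralizer (T : Set X), (∃ k : ℕ, g ^ q ^ k = 1) →
      ∀ u ∈ U, g * u * g⁻¹ = u := by
    rintro g hg ⟨k, hk⟩ u hu
    have hc1 : g * u * g⁻¹ * u⁻¹ ∈ Subgroup.centralizer (T : Set X) := by
      have h1 : u * g⁻¹ * u⁻¹ ∈ Subgroup.centralizer (T : Set X) :=
        (Subgroup.normal_centralizer).conj_mem _ (Subgroup.inv_mem _ hg) u
      have h2 := Subgroup.mul_mem _ hg h1
      have e : g * (u * g⁻¹ * u⁻¹) = g * u * g⁻¹ * u⁻¹ := by group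
      rwa [e] at h2
    have hc2 : g * u * g⁻¹ * u⁻¹ ∈ Subgroup.centralizer (A : Set X) := by
      have huA := hUA hu
      have h1 : g * u * g⁻¹ ∈ Subgroup.centralizer (A : Set X) :=
        (Subgroup.normal_centralizer).conj_mem _ huA g
      exact Subgroup.mul_mem _ h1 (Subgroup.inv_mem _ huA)
    have hc3 : g * u * g⁻¹ * u⁻¹ ∈ A ⊔ T :=
      hC (le_centralizer_sup' (K := Subgroup.centralizer (A : Set X) ⊓
        Subgroup.centralizer (T : Set X)) inf_le_left inf_le_right ⟨hc2, hc1⟩)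
    obtain ⟨a, ha, t, ht, hat⟩ := Subgroup.mem_sup_of_normal_right.mp hc3
    have e1 : g * u * g⁻¹ = a * (t * u) := by
      rw [← mul_assoc, hat]; group
    have hapow : ∃ k : ℕ, a ^ q ^ k = 1 := by
      obtain ⟨k, hk⟩ := hAq ⟨a, ha⟩
      refine ⟨k, ?_⟩
      have h2 : ((⟨a, ha⟩ ^ q ^ k : A) : X) = ((1 : A) : X) := congrArg Subtype.val hk
      rw [Subgroup.coe_pow, Subgroup.coe_one] at h2
      exact h2
    have hau : Commute a u := by
      have := Subgroup.mem_centralizer_iff.mp (hUA hu) a ha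
      exact this
    have hatu : Commute a (t * u) := (hcommAT a ha t ht).mul_right hau
    have ha1 : a = 1 := eq_one_of_conj_eq_mul hTU (v := u) (v' := t * u)
      (Subgroup.mem_sup_left hu)
      (Subgroup.mul_mem _ (Subgroup.mem_sup_right ht) (Subgroup.mem_sup_left hu)) hapow hatu e1
    rw [ha1, one_mul] at e1
    have hgt : Commute g t := by
      have := Subgroup.mem_centralizer_iff.mp hg t ht
      exact this.symm
    have h3 := pow_conj_iterate e1 hgt (q ^ k)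
    rw [hk] at h3
    have h4 : t ^ q ^ k = 1 := by
      have : t ^ q ^ k * u = u := by rw [← h3]; group
      exact mul_eq_right.mp this
    have ht1 : t = 1 := by
      have d1 : orderOf t ∣ Nat.card T := orderOf_dvd_of_pow_eq_one (pow_card_eq_one_of_mem' ht)
      have d2 : orderOf t ∣ q ^ k := orderOf_dvd_of_pow_eq_one h4
      have hcop : (orderOf t).Coprime (q ^ k) :=
        Nat.Coprime.coprime_dvd_left d1 (Nat.Coprime.pow_right k hTq)
      exact orderOf_eq_one_iff.mp (Nat.Coprime.eq_one_of_dvd hcop d2)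
    rw [e1, ht1, one_mul]
  have hNle : Subgroup.normalClosure (B : Set X) ≤ Subgroup.centralizer (U : Set X) := by
    unfold Subgroup.normalClosure
    rw [Subgroup.closure_le]
    intro x hx
    obtain ⟨b, hb, hbx⟩ := Group.mem_conjugatesOfSet_iff.mp hx
    obtain ⟨c, hc⟩ := isConj_iff.mp hbx
    have hxT : x ∈ Subgroup.centralizer (T : Set X) := by
      rw [← hc]
      exact (Subgroup.normal_centralizer).conj_mem _ (hBT hb) c
    have hxq : ∃ k : ℕ, x ^ q ^ k = 1 := by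
      obtain ⟨k, hk⟩ := hB ⟨b, hb⟩
      refine ⟨k, ?_⟩
      have h2 : ((⟨b, hb⟩ ^ q ^ k : B) : X) = ((1 : B) : X) := congrArg Subtype.val hk
      rw [Subgroup.coe_pow, Subgroup.coe_one] at h2
      rw [← hc, conj_pow, h2]; group
    rw [SetLike.mem_coe, Subgroup.mem_centralizer_iff]
    intro u hu
    have := key x hxT hxq u hu
    calc u * x = (x * u * x⁻¹) * x := by rw [this]
      _ = x * u := by group
  have hBN : B ≤ Subgroup.normalClosure (B : Set X) := Subgroup.le_normalClosure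
  have hNB : Subgroup.normalClosure (B : Set X) ≤ Subgroup.normalizer (B : Set X) :=
    hNle.trans ((Subgroup.centralizer_le_normalizer _).trans hN)
  have hsub : B.IsSubnormal :=
    Subgroup.IsSubnormal.step B _ hBN (Subgroup.Normal.isSubnormal inferInstance)
      ((Subgroup.normal_subgroupOf_iff_le_normalizer hBN).mpr hNB)
  exact Cfsg.Agent.Lib.Helper16.le_pCore_of_isSubnormal_of_isPGroup q hsub hB

end abstract

section relative

variable {G : Type*} [Group G]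

theorem isSubnormal_subgroupOf_of_le {K N M : Subgroup G} (hNM : N ≤ M)
    (h : (K.subgroupOf M).IsSubnormal) : (K.subgroupOf N).IsSubnormal := by
  have h1 := h.comap (Subgroup.inclusion hNM)
  have e : (K.subgroupOf M).comap (Subgroup.inclusion hNM) = K.subgroupOf N := by
    ext x
    simp [Subgroup.mem_subgroupOf]
  rwa [e] at h1

theorem isSubnormal_subgroupOf_trans {K N M : Subgroup G} (hNM : N ≤ M)
    (h1 : (K.subgroupOf N).IsSubnormal) (h2 : (N.subgroupOf M).IsSubnormal) :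
    ((K ⊓ N).subgroupOf M).IsSubnormal := by
  have h3 := h1.comap (Subgroup.subgroupOfEquivOfLe hNM).toMonoidHom
  have h4 := Subgroup.IsSubnormal.trans' h3 h2
  have e : ((K.subgroupOf N).comap (Subgroup.subgroupOfEquivOfLe hNM).toMonoidHom).map
      (N.subgroupOf M).subtype = (K ⊓ N).subgroupOf M := by
    ext x
    simp only [Subgroup.mem_map, Subgroup.mem_comap, Subgroup.mem_subgroupOf, Subgroup.mem_inf]
    constructor
    · rintro ⟨y, hy, rfl⟩
      exact ⟨hy, y.2⟩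
    · rintro ⟨hx1, hx2⟩
      exact ⟨⟨x, hx2⟩, hx1, rfl⟩
  rwa [e] at h4

theorem isQuasisimple_subgroupOf_iff {K M : Subgroup G} (hKM : K ≤ M) :
    IsQuasisimple ↥(K.subgroupOf M) ↔ IsQuasisimple ↥K :=
  isQuasisimple_mulEquiv_iff (Subgroup.subgroupOfEquivOfLe hKM)

theorem isQuasisimple_map_subtype_iff {M : Subgroup G} (K : Subgroup ↥M) :
    IsQuasisimple ↥(K.map M.subtype) ↔ IsQuasisimple ↥K :=
  (isQuasisimple_mulEquiv_iff (K.equivMapOfInjective M.subtype M.subtype_injective)).symm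

/-- Relative form of "a component lies in or centralizes a normal subgroup". -/
theorem component_le_or_le_centralizer_rel [Finite G] {K Y D : Subgroup G} (hKD : K ≤ D)
    (hYD : Y ≤ D) (hDY : D ≤ Subgroup.normalizer (Y : Set G))
    (hsn : (K.subgroupOf D).IsSubnormal) (hqs : IsQuasisimple ↥K) :
    K ≤ Y ∨ K ≤ Subgroup.centralizer (Y : Set G) := by
  have hc : IsComponent (K.subgroupOf D) := ⟨hsn, (isQuasisimple_subgroupOf_iff hKD).mpr hqs⟩
  have hYn : (Y.subgroupOf D).Normal := (Subgroup.normal_subgroupOf_iff_le_normalizer hYD).mpr hDY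
  rcases component_le_or_commutes _ _ hc hYn.isSubnormal with h | h
  · exact Or.inl ((subgroupOf_le_subgroupOf_iff hKD).mp h)
  · exact Or.inr (Subgroup.commutator_eq_bot_iff_le_centralizer.mp
      ((commutator_subgroupOf_eq_bot_iff hKD hYD).mp h))

theorem le_normalizer_map_subtype' (M : Subgroup G) (Y : Subgroup ↥M) [hY : Y.Normal] :
    M ≤ Subgroup.normalizer ((Y.map M.subtype : Subgroup G) : Set G) := by
  have key : ∀ l ∈ M, ∀ g ∈ Y.map M.subtype, l * g * l⁻¹ ∈ Y.map M.subtype := by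
    rintro l hl _ ⟨y, hy, rfl⟩
    exact ⟨⟨l, hl⟩ * y * ⟨l, hl⟩⁻¹, hY.conj_mem y hy ⟨l, hl⟩, rfl⟩
  intro l hl
  rw [Subgroup.mem_normalizer_iff]
  intro g
  constructor
  · exact key l hl g
  · intro h
    have := key l⁻¹ (M.inv_mem hl) _ h
    simpa [mul_assoc] using this

/-- `C_M(F*(M)) ≤ F*(M)` for a subgroup `M`, stated in the ambient group. -/
theorem inf_centralizer_map_genFitting_le [Finite G] (M : Subgroup G) :
    M ⊓ Subgroup.centralizer (((generalizedFittingSubgroup ↥M).map M.subtype : Subgroup G) : Set G)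
      ≤ (generalizedFittingSubgroup ↥M).map M.subtype := by
  rintro x ⟨hxM, hxC⟩
  have h1 : (⟨x, hxM⟩ : ↥M) ∈
      Subgroup.centralizer (generalizedFittingSubgroup ↥M : Set ↥M) := by
    rw [Subgroup.mem_centralizer_iff]
    intro y hy
    apply Subtype.ext
    exact Subgroup.mem_centralizer_iff.mp hxC y.1 ⟨y, hy, rfl⟩
  exact ⟨⟨x, hxM⟩, centralizer_genFitting_le h1, rfl⟩

theorem map_layer_le_map_layer [Finite G] (M₁ M₂ : Subgroup G)
    (h₁ : (generalizedFittingSubgroup ↥M₁).map M₁.subtype ≤ M₂)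
    (h₂ : (generalizedFittingSubgroup ↥M₂).map M₂.subtype ≤ M₁) :
    (layer ↥M₁).map M₁.subtype ≤ (layer ↥M₂).map M₂.subtype := by
  rw [Subgroup.map_le_iff_le_comap]
  apply sSup_le
  rintro K₀ ⟨hK₀sn, hK₀qs⟩
  rw [← Subgroup.map_le_iff_le_comap]
  -- `K` is the image of the component in `G`
  have hKM₁ : K₀.map M₁.subtype ≤ M₁ := Subgroup.map_subtype_le K₀
  have hKqs : IsQuasisimple ↥(K₀.map M₁.subtype) := (isQuasisimple_map_subtype_iff K₀).mpr hK₀qs
  have hKsn₁ : ((K₀.map M₁.subtype).subgroupOf M₁).IsSubnormal := by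
    have e : (K₀.map M₁.subtype).subgroupOf M₁ = K₀ :=
      Subgroup.comap_map_eq_self_of_injective M₁.subtype_injective K₀
    rw [e]; exact hK₀sn
  have hKF₁ : K₀.map M₁.subtype ≤ (generalizedFittingSubgroup ↥M₁).map M₁.subtype :=
    Subgroup.map_mono ((le_sSup ⟨hK₀sn, hK₀qs⟩ : K₀ ≤ layer ↥M₁).trans le_sup_left)
  have hKM₂ : K₀.map M₁.subtype ≤ M₂ := hKF₁.trans h₁
  have hKD : K₀.map M₁.subtype ≤ M₁ ⊓ M₂ := le_inf hKM₁ hKM₂
  have hKsnD : ((K₀.map M₁.subtype).subgroupOf (M₁ ⊓ M₂)).IsSubnormal :=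
    isSubnormal_subgroupOf_of_le inf_le_left hKsn₁
  have hF₂M₂ : (generalizedFittingSubgroup ↥M₂).map M₂.subtype ≤ M₂ := Subgroup.map_subtype_le _
  have hF₂D : (generalizedFittingSubgroup ↥M₂).map M₂.subtype ≤ M₁ ⊓ M₂ := le_inf h₂ hF₂M₂
  have hDF₂ : M₁ ⊓ M₂ ≤ Subgroup.normalizer
      (((generalizedFittingSubgroup ↥M₂).map M₂.subtype : Subgroup G) : Set G) :=
    inf_le_right.trans (le_normalizer_map_subtype' M₂ _)
  have hKF₂ : K₀.map M₁.subtype ≤ (generalizedFittingSubgroup ↥M₂).map M₂.subtype := by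
    rcases component_le_or_le_centralizer_rel hKD hF₂D hDF₂ hKsnD hKqs with h | h
    · exact h
    · exact (le_inf hKM₂ h).trans (inf_centralizer_map_genFitting_le M₂)
  have hKsnF₂ : ((K₀.map M₁.subtype).subgroupOf
      ((generalizedFittingSubgroup ↥M₂).map M₂.subtype)).IsSubnormal :=
    isSubnormal_subgroupOf_of_le hF₂D hKsnD
  have hF₂sn : (((generalizedFittingSubgroup ↥M₂).map M₂.subtype).subgroupOf M₂).IsSubnormal := by
    have e : ((generalizedFittingSubgroup ↥M₂).map M₂.subtype).subgroupOf M₂ =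
        generalizedFittingSubgroup ↥M₂ :=
      Subgroup.comap_map_eq_self_of_injective M₂.subtype_injective _
    rw [e]; exact Subgroup.Normal.isSubnormal inferInstance
  have hKsn₂ := isSubnormal_subgroupOf_trans hF₂M₂ hKsnF₂ hF₂sn
  rw [inf_eq_left.mpr hKF₂] at hKsn₂
  have hcomp : IsComponent ((K₀.map M₁.subtype).subgroupOf M₂) :=
    ⟨hKsn₂, (isQuasisimple_subgroupOf_iff hKM₂).mpr hKqs⟩
  have h5 : (K₀.map M₁.subtype).subgroupOf M₂ ≤ layer ↥M₂ := le_sSup hcomp
  have h6 := Subgroup.map_mono (f := M₂.subtype) h5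
  rwa [Subgroup.map_subgroupOf_eq_of_le hKM₂] at h6

end relative

section primes

theorem fitting_eq_pCore_sup_inf_pPrimeCore (X : Type*) [Group X] [Finite X] (q : ℕ)
    [hq : Fact q.Prime] :
    fittingSubgroup X = pCore q X ⊔ (fittingSubgroup X ⊓ pPrimeCore q X) := by
  apply le_antisymm
  · conv_lhs => rw [fittingSubgroup_eq_iSup_pCore']
    apply iSup_le
    intro r
    have : Fact (r : ℕ).Prime := ⟨r.2⟩
    by_cases hr : (r : ℕ) = q
    · rw [hr]
      exact le_sup_left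
    · apply le_sup_of_le_right
      apply le_inf
      · exact le_fittingSubgroup' (pCore_normal _ _) (pCore_isPGroup' (G := X) r).isNilpotent
      · apply le_pPrimeCore' (pCore_normal _ _)
        obtain ⟨k, hk⟩ := IsPGroup.iff_card.mp (pCore_isPGroup' (G := X) (r : ℕ))
        rw [hk]
        exact Nat.Coprime.pow_left k ((Nat.coprime_primes r.2 hq.out).mpr hr)
  · exact sup_le (le_fittingSubgroup' (pCore_normal _ _)
      (pCore_isPGroup' (G := X) q).isNilpotent) inf_le_left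

variable {G : Type*} [Group G]

/-- `O_q(M)` as a subgroup of the ambient group. -/
def pCoreIn (q : ℕ) (M : Subgroup G) : Subgroup G := (pCore q ↥M).map M.subtype

/-- `O_{q'}(F(M))` as a subgroup of the ambient group. -/
def fitPrimeIn (q : ℕ) (M : Subgroup G) : Subgroup G :=
  (fittingSubgroup ↥M ⊓ pPrimeCore q ↥M).map M.subtype

/-- `F*(M)` as a subgroup of the ambient group. -/
def genFitIn (M : Subgroup G) : Subgroup G := (generalizedFittingSubgroup ↥M).map M.subtype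

theorem pCoreIn_le (q : ℕ) (M : Subgroup G) : pCoreIn q M ≤ M := Subgroup.map_subtype_le _

theorem fitPrimeIn_le (q : ℕ) (M : Subgroup G) : fitPrimeIn q M ≤ M := Subgroup.map_subtype_le _

theorem genFitIn_le (M : Subgroup G) : genFitIn M ≤ M := Subgroup.map_subtype_le _

theorem le_normalizer_pCoreIn (q : ℕ) (M : Subgroup G) :
    M ≤ Subgroup.normalizer (pCoreIn q M : Set G) := le_normalizer_map_subtype' M _

theorem le_normalizer_fitPrimeIn [Finite G] (q : ℕ) (M : Subgroup G) :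
    M ≤ Subgroup.normalizer (fitPrimeIn q M : Set G) := by
  have h1 : (fittingSubgroup ↥M).Normal := fittingSubgroup_normal'
  have h2 : (pPrimeCore q ↥M).Normal := (pPrimeCore_mem' q).1
  exact le_normalizer_map_subtype' M _

theorem isPGroup_pCoreIn (q : ℕ) (M : Subgroup G) : IsPGroup q (pCoreIn q M) :=
  (pCore_isPGroup' (G := ↥M) q).map _

theorem card_fitPrimeIn_coprime [Finite G] (q : ℕ) (M : Subgroup G) :
    (Nat.card (fitPrimeIn q M)).Coprime q := by
  unfold fitPrimeIn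
  rw [Subgroup.card_map_of_injective M.subtype_injective]
  exact Nat.Coprime.coprime_dvd_left (Subgroup.card_dvd_of_le inf_le_right)
    (pPrimeCore_coprime' q)

theorem pCoreIn_le_genFitIn [Finite G] (q : ℕ) [Fact q.Prime] (M : Subgroup G) :
    pCoreIn q M ≤ genFitIn M :=
  Subgroup.map_mono ((le_fittingSubgroup' (pCore_normal _ _)
    (pCore_isPGroup' (G := ↥M) q).isNilpotent).trans le_sup_right)

theorem fitPrimeIn_le_genFitIn (q : ℕ) (M : Subgroup G) : fitPrimeIn q M ≤ genFitIn M :=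
  Subgroup.map_mono (inf_le_left.trans le_sup_right)

theorem genFitIn_eq_of_layer_eq_bot [Finite G] (q : ℕ) [Fact q.Prime] (M : Subgroup G)
    (hl : layer ↥M = ⊥) : genFitIn M = pCoreIn q M ⊔ fitPrimeIn q M := by
  unfold genFitIn pCoreIn fitPrimeIn generalizedFittingSubgroup
  rw [hl, bot_sup_eq, ← Subgroup.map_sup, ← fitting_eq_pCore_sup_inf_pPrimeCore]

theorem inf_eq_bot_of_isPGroup_of_coprime [Finite G] {q : ℕ} [Fact q.Prime] {P Q : Subgroup G}
    (hP : IsPGroup q P) (hQ : (Nat.card Q).Coprime q) : P ⊓ Q = ⊥ := by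
  obtain ⟨n, hn⟩ := IsPGroup.iff_card.mp hP
  rw [← disjoint_iff]
  apply Subgroup.disjoint_of_coprime_natCard
  rw [hn]
  exact Nat.Coprime.pow_left n hQ.symm

theorem le_centralizer_of_inf_eq_bot {P Q D : Subgroup G} (hP : P ≤ D) (hQ : Q ≤ D)
    (hDP : D ≤ Subgroup.normalizer (P : Set G)) (hDQ : D ≤ Subgroup.normalizer (Q : Set G))
    (hdis : P ⊓ Q = ⊥) : P ≤ Subgroup.centralizer (Q : Set G) := by
  rw [← Subgroup.commutator_eq_bot_iff_le_centralizer, eq_bot_iff, ← hdis]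
  exact le_inf (Subgroup.le_normalizer_iff_commutator_le_left.mp (hQ.trans hDP))
    (Subgroup.le_normalizer_iff_commutator_le_right.mp (hP.trans hDQ))

theorem eq_bot_of_le_centralizer_genFitIn [Finite G] (M : Subgroup G) {Y R : Subgroup G}
    (hY : Y ≤ M) (hR : genFitIn M = R) (hYR : Y ≤ Subgroup.centralizer (R : Set G))
    (hdis : Y ⊓ R = ⊥) : Y = ⊥ := by
  have h1 : Y ≤ genFitIn M := by
    have := inf_centralizer_map_genFitting_le M
    refine le_trans (le_inf hY ?_) this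
    change Y ≤ Subgroup.centralizer ((genFitIn M : Subgroup G) : Set G)
    rw [hR]; exact hYR
  rw [hR] at h1
  rw [eq_bot_iff, ← hdis]
  exact le_inf le_rfl h1

end primes

section main

variable {G : Type*} [Group G] [Finite G]

theorem pCoreIn_centralizes_fitPrimeIn (q : ℕ) [Fact q.Prime] (M₁ M₂ : Subgroup G)
    (h₁ : genFitIn M₁ ≤ M₂) (h₂ : genFitIn M₂ ≤ M₁) :
    pCoreIn q M₁ ≤ Subgroup.centralizer (fitPrimeIn q M₂ : Set G) := by
  apply le_centralizer_of_inf_eq_bot (D := M₁ ⊓ M₂)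
  · exact le_inf (pCoreIn_le q M₁) ((pCoreIn_le_genFitIn q M₁).trans h₁)
  · exact le_inf ((fitPrimeIn_le_genFitIn q M₂).trans h₂) (fitPrimeIn_le q M₂)
  · exact inf_le_left.trans (le_normalizer_pCoreIn q M₁)
  · exact inf_le_right.trans (le_normalizer_fitPrimeIn q M₂)
  · exact inf_eq_bot_of_isPGroup_of_coprime (isPGroup_pCoreIn q M₁) (card_fitPrimeIn_coprime q M₂)

theorem pCoreIn_le_pCoreIn (q : ℕ) [Fact q.Prime] (M₁ M₂ : Subgroup G)
    (hl₁ : layer ↥M₁ = ⊥) (h₁ : genFitIn M₁ ≤ M₂) (h₂ : genFitIn M₂ ≤ M₁)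
    (hN : M₁ ⊓ Subgroup.normalizer (fitPrimeIn q M₂ : Set G) ≤ M₂) :
    pCoreIn q M₂ ≤ pCoreIn q M₁ := by
  have hBM₁ : pCoreIn q M₂ ≤ M₁ := (pCoreIn_le_genFitIn q M₂).trans h₂
  have hUM₁ : fitPrimeIn q M₂ ≤ M₁ := (fitPrimeIn_le_genFitIn q M₂).trans h₂
  have hTn : (fittingSubgroup ↥M₁ ⊓ pPrimeCore q ↥M₁).Normal := by
    have h1 : (fittingSubgroup ↥M₁).Normal := fittingSubgroup_normal'
    have h2 : (pPrimeCore q ↥M₁).Normal := (pPrimeCore_mem' q).1
    infer_instance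
  have hC : Subgroup.centralizer
      ((pCore q ↥M₁ ⊔ (fittingSubgroup ↥M₁ ⊓ pPrimeCore q ↥M₁) : Subgroup ↥M₁) : Set ↥M₁) ≤
        pCore q ↥M₁ ⊔ (fittingSubgroup ↥M₁ ⊓ pPrimeCore q ↥M₁) := by
    have h3 := centralizer_genFitting_le (G := ↥M₁)
    unfold generalizedFittingSubgroup at h3
    rw [hl₁, bot_sup_eq] at h3
    rw [← fitting_eq_pCore_sup_inf_pPrimeCore]
    exact h3
  have key := le_pCore_of_centralizes_hall (q := q) (pCore q ↥M₁)
    (fittingSubgroup ↥M₁ ⊓ pPrimeCore q ↥M₁) (pCore_isPGroup' q)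
    (Nat.Coprime.coprime_dvd_left (Subgroup.card_dvd_of_le inf_le_right) (pPrimeCore_coprime' q))
    hC ((pCoreIn q M₂).subgroupOf M₁) ((fitPrimeIn q M₂).subgroupOf M₁)
    ((isPGroup_pCoreIn q M₂).comap_subtype) ?_ ?_ ?_ ?_
  · have h4 := Subgroup.map_mono (f := M₁.subtype) key
    rwa [Subgroup.map_subgroupOf_eq_of_le hBM₁] at h4
  · rw [Nat.card_congr (Subgroup.subgroupOfEquivOfLe hUM₁).toEquiv]
    exact card_fitPrimeIn_coprime q M₂
  · intro x hx
    rw [Subgroup.mem_centralizer_iff]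
    intro t ht
    apply Subtype.ext
    have h3 : pCoreIn q M₂ ≤ Subgroup.centralizer (fitPrimeIn q M₁ : Set G) :=
      pCoreIn_centralizes_fitPrimeIn q M₂ M₁ h₂ h₁
    exact Subgroup.mem_centralizer_iff.mp (h3 hx) t.1 ⟨t, ht, rfl⟩
  · intro x hx
    rw [Subgroup.mem_centralizer_iff]
    intro t ht
    apply Subtype.ext
    have h3 : fitPrimeIn q M₂ ≤ Subgroup.centralizer (pCoreIn q M₁ : Set G) :=
      Subgroup.le_centralizer_iff.mp (pCoreIn_centralizes_fitPrimeIn q M₁ M₂ h₁ h₂)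
    exact Subgroup.mem_centralizer_iff.mp (h3 hx) t.1 ⟨t, ht, rfl⟩
  · rw [← Subgroup.subgroupOf_normalizer_eq hUM₁, ← Subgroup.subgroupOf_normalizer_eq hBM₁]
    intro x hx
    exact le_normalizer_pCoreIn q M₂ (hN ⟨x.2, hx⟩)

theorem pCoreIn_eq_bot_of (q : ℕ) [Fact q.Prime] (M₁ M₂ : Subgroup G) (hl₂ : layer ↥M₂ = ⊥)
    (h₁ : genFitIn M₁ ≤ M₂) (h₂ : genFitIn M₂ ≤ M₁) (hB : pCoreIn q M₂ = ⊥) :
    pCoreIn q M₁ = ⊥ := by
  apply eq_bot_of_le_centralizer_genFitIn M₂ (R := fitPrimeIn q M₂)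
  · exact (pCoreIn_le_genFitIn q M₁).trans h₁
  · rw [genFitIn_eq_of_layer_eq_bot q M₂ hl₂, hB, bot_sup_eq]
  · exact pCoreIn_centralizes_fitPrimeIn q M₁ M₂ h₁ h₂
  · exact inf_eq_bot_of_isPGroup_of_coprime (isPGroup_pCoreIn q M₁) (card_fitPrimeIn_coprime q M₂)

theorem fitPrimeIn_eq_bot_of (q : ℕ) [Fact q.Prime] (M₁ M₂ : Subgroup G) (hl₂ : layer ↥M₂ = ⊥)
    (h₁ : genFitIn M₁ ≤ M₂) (h₂ : genFitIn M₂ ≤ M₁) (hU : fitPrimeIn q M₂ = ⊥) :
    fitPrimeIn q M₁ = ⊥ := by
  apply eq_bot_of_le_centralizer_genFitIn M₂ (R := pCoreIn q M₂)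
  · exact (fitPrimeIn_le_genFitIn q M₁).trans h₁
  · rw [genFitIn_eq_of_layer_eq_bot q M₂ hl₂, hU, sup_bot_eq]
  · exact Subgroup.le_centralizer_iff.mp (pCoreIn_centralizes_fitPrimeIn q M₂ M₁ h₂ h₁)
  · rw [inf_comm]
    exact inf_eq_bot_of_isPGroup_of_coprime (isPGroup_pCoreIn q M₂) (card_fitPrimeIn_coprime q M₁)

theorem eq_bot_of_genFitting_eq_bot (M : Subgroup G) (h : generalizedFittingSubgroup ↥M = ⊥) :
    M = ⊥ := by
  rw [eq_bot_iff]
  intro x hx
  have h1 : (⟨x, hx⟩ : ↥M) ∈ Subgroup.centralizer (generalizedFittingSubgroup ↥M : Set ↥M) := by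
    rw [h, Subgroup.mem_centralizer_iff]
    intro y hy
    rw [SetLike.mem_coe, Subgroup.mem_bot] at hy
    rw [hy, one_mul, mul_one]
  have h2 := centralizer_genFitting_le h1
  rw [h, Subgroup.mem_bot] at h2
  rw [Subgroup.mem_bot]
  exact congrArg Subtype.val h2

/-- Bender (Kurzweil–Stellmacher 10.1.3): a primitive pair with `F*(M₁) ≤ M₂`, `F*(M₂) ≤ M₁`
has characteristic `p`. -/
theorem primitive_pair_char (M₁ M₂ : Subgroup G) (hne : M₁ ≠ M₂)
    (hP : ∀ A : Subgroup G, A ≠ ⊥ → A ≤ M₁ ⊓ M₂ →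
      (M₁ ≤ Subgroup.normalizer (A : Set G) → M₂ ⊓ Subgroup.normalizer (A : Set G) = M₁ ⊓ M₂) ∧
      (M₂ ≤ Subgroup.normalizer (A : Set G) → M₁ ⊓ Subgroup.normalizer (A : Set G) = M₁ ⊓ M₂))
    (h₁ : (generalizedFittingSubgroup ↥M₁).map M₁.subtype ≤ M₂)
    (h₂ : (generalizedFittingSubgroup ↥M₂).map M₂.subtype ≤ M₁) :
    ∃ p : ℕ, p.Prime ∧
      Subgroup.centralizer (pCore p ↥M₁ : Set ↥M₁) ≤ pCore p ↥M₁ ∧
      Subgroup.centralizer (pCore p ↥M₂ : Set ↥M₂) ≤ pCore p ↥M₂ ∧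
      (pCore p ↥M₁).map M₁.subtype ⊔ (pCore p ↥M₂).map M₂.subtype ≤ M₁ ⊓ M₂ := by
  have nocommon : ∀ A : Subgroup G, A ≠ ⊥ → A ≤ M₁ ⊓ M₂ →
      M₁ ≤ Subgroup.normalizer (A : Set G) → M₂ ≤ Subgroup.normalizer (A : Set G) → False := by
    intro A hA hAD hA1 hA2
    obtain ⟨e1, e2⟩ := hP A hA hAD
    have e1' := e1 hA1
    have e2' := e2 hA2
    rw [inf_eq_left.mpr hA2] at e1'
    rw [inf_eq_left.mpr hA1] at e2'
    exact hne (e2'.trans e1'.symm)
  have hLL : (layer ↥M₁).map M₁.subtype = (layer ↥M₂).map M₂.subtype :=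
    le_antisymm (map_layer_le_map_layer M₁ M₂ h₁ h₂) (map_layer_le_map_layer M₂ M₁ h₂ h₁)
  have hl₁ : layer ↥M₁ = ⊥ := by
    by_contra hne'
    have hL1 : (layer ↥M₁).map M₁.subtype ≠ ⊥ := by
      rwa [Ne, Subgroup.map_eq_bot_iff_of_injective _ M₁.subtype_injective]
    apply nocommon _ hL1
    · refine le_inf (Subgroup.map_subtype_le _) ?_
      rw [hLL]; exact Subgroup.map_subtype_le _
    · exact le_normalizer_map_subtype' M₁ _
    · rw [hLL]; exact le_normalizer_map_subtype' M₂ _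
  have hl₂ : layer ↥M₂ = ⊥ := by
    rw [hl₁, Subgroup.map_bot] at hLL
    exact (Subgroup.map_eq_bot_iff_of_injective _ M₂.subtype_injective).mp hLL.symm
  have hex : ∃ q : ℕ, q.Prime ∧ pCoreIn q M₁ ≠ ⊥ := by
    by_contra hcon
    push Not at hcon
    have hF1 : generalizedFittingSubgroup ↥M₁ = ⊥ := by
      unfold generalizedFittingSubgroup
      rw [hl₁, bot_sup_eq, fittingSubgroup_eq_iSup_pCore', eq_bot_iff]
      apply iSup_le
      intro r
      have h3 := hcon r r.2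
      unfold pCoreIn at h3
      rw [(Subgroup.map_eq_bot_iff_of_injective _ M₁.subtype_injective).mp h3]
    have hM1 : M₁ = ⊥ := eq_bot_of_genFitting_eq_bot M₁ hF1
    have hF2 : generalizedFittingSubgroup ↥M₂ = ⊥ := by
      have h3 : (generalizedFittingSubgroup ↥M₂).map M₂.subtype ≤ ⊥ := hM1 ▸ h₂
      exact (Subgroup.map_eq_bot_iff_of_injective _ M₂.subtype_injective).mp (le_bot_iff.mp h3)
    have hM2 : M₂ = ⊥ := eq_bot_of_genFitting_eq_bot M₂ hF2
    exact hne (hM1.trans hM2.symm)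
  obtain ⟨q, hqp, hAq⟩ := hex
  haveI : Fact q.Prime := ⟨hqp⟩
  by_cases hT : fitPrimeIn q M₁ = ⊥
  · have hU : fitPrimeIn q M₂ = ⊥ := fitPrimeIn_eq_bot_of q M₂ M₁ hl₁ h₂ h₁ hT
    refine ⟨q, hqp, ?_, ?_, ?_⟩
    · have h3 := centralizer_genFitting_le (G := ↥M₁)
      have e : generalizedFittingSubgroup ↥M₁ = pCore q ↥M₁ := by
        have h4 : fittingSubgroup ↥M₁ ⊓ pPrimeCore q ↥M₁ = ⊥ :=
          (Subgroup.map_eq_bot_iff_of_injective _ M₁.subtype_injective).mp hT
        have h5 := fitting_eq_pCore_sup_inf_pPrimeCore ↥M₁ q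
        rw [h4, sup_bot_eq] at h5
        unfold generalizedFittingSubgroup
        rw [hl₁, bot_sup_eq, h5]
      rwa [e] at h3
    · have h3 := centralizer_genFitting_le (G := ↥M₂)
      have e : generalizedFittingSubgroup ↥M₂ = pCore q ↥M₂ := by
        have h4 : fittingSubgroup ↥M₂ ⊓ pPrimeCore q ↥M₂ = ⊥ :=
          (Subgroup.map_eq_bot_iff_of_injective _ M₂.subtype_injective).mp hU
        have h5 := fitting_eq_pCore_sup_inf_pPrimeCore ↥M₂ q
        rw [h4, sup_bot_eq] at h5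
        unfold generalizedFittingSubgroup
        rw [hl₂, bot_sup_eq, h5]
      rwa [e] at h3
    · exact sup_le (le_inf (pCoreIn_le q M₁) ((pCoreIn_le_genFitIn q M₁).trans h₁))
        (le_inf ((pCoreIn_le_genFitIn q M₂).trans h₂) (pCoreIn_le q M₂))
  · exfalso
    have hU : fitPrimeIn q M₂ ≠ ⊥ := fun h => hT (fitPrimeIn_eq_bot_of q M₁ M₂ hl₂ h₁ h₂ h)
    have hTD : fitPrimeIn q M₁ ≤ M₁ ⊓ M₂ :=
      le_inf (fitPrimeIn_le q M₁) ((fitPrimeIn_le_genFitIn q M₁).trans h₁)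
    have hUD : fitPrimeIn q M₂ ≤ M₁ ⊓ M₂ :=
      le_inf ((fitPrimeIn_le_genFitIn q M₂).trans h₂) (fitPrimeIn_le q M₂)
    have hN1 : M₁ ⊓ Subgroup.normalizer (fitPrimeIn q M₂ : Set G) ≤ M₂ := by
      rw [(hP _ hU hUD).2 (le_normalizer_fitPrimeIn q M₂)]; exact inf_le_right
    have hN2 : M₂ ⊓ Subgroup.normalizer (fitPrimeIn q M₁ : Set G) ≤ M₁ := by
      rw [(hP _ hT hTD).1 (le_normalizer_fitPrimeIn q M₁)]; exact inf_le_left
    have hBA := pCoreIn_le_pCoreIn q M₁ M₂ hl₁ h₁ h₂ hN1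
    have hAB := pCoreIn_le_pCoreIn q M₂ M₁ hl₂ h₂ h₁ hN2
    have hEq : pCoreIn q M₁ = pCoreIn q M₂ := le_antisymm hAB hBA
    apply nocommon _ hAq
    · refine le_inf (pCoreIn_le q M₁) ?_
      rw [hEq]; exact pCoreIn_le q M₂
    · exact le_normalizer_pCoreIn q M₁
    · rw [hEq]; exact le_normalizer_pCoreIn q M₂

end main

end Cfsg.Agent.Lib.Helper20
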