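import Cfsg.Agent.Lib.Helper20.CharPLocal
import Cfsg.Agent.Lib.Helper20.PConstrained2
import Cfsg.Agent.Lib.Helper20.CoprimeGenK
import Cfsg.Agent.Lib.Helper20.PrimitivePair
import Cfsg.Agent.Lib.Helper2.NilpotentBasic
import Cfsg.Agent.Lib.Helper12.Klein
import Cfsg.Prelude.Def_OddOrderLocal
import Cfsg.Prelude.Def_CaseTheorems

/-!
Early criteria for characteristic `2` type (helper20): if `SCN₃(2) ≠ ∅` and all maximal `2`-locals (or
all involution centralizers) are `2`-constrained with trivial core, then a Sylow `2`-subgroup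
normalizes no nontrivial odd order subgroup, and all `2`-locals are `2`-constrained.
-/

set_option autoImplicit false
set_option linter.style.haveILetI false

namespace Cfsg.Agent.Lib.Helper20

open scoped commutatorElement
open Cfsg

/-- `X ≃* X / O_{p'}(X)` when `O_{p'}(X) = 1`. -/
noncomputable def quotientCoreEquiv {X : Type*} [Group X] [Finite X] (p : ℕ)
    (h : pPrimeCore p X = ⊥) : X ≃* X ⧸ pPrimeCore p X :=
  MulEquiv.ofBijective (QuotientGroup.mk' (pPrimeCore p X))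
    ⟨(injective_iff_map_eq_one _).mpr (fun x hx => by
        have := (QuotientGroup.eq_one_iff x).mp hx
        rwa [h, Subgroup.mem_bot] at this),
      QuotientGroup.mk'_surjective _⟩

/-- `p`-constrained with trivial `p'`-core implies `F*(X) = O_p(X)`. -/
theorem genFitting_eq_pCore_of_isPConstrained {X : Type*} [Group X] [Finite X] (p : ℕ)
    [hp : Fact p.Prime] (hc : Cfsg.IsPConstrained p X) (h : pPrimeCore p X = ⊥) :
    generalizedFittingSubgroup X = pCore p X := by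
  have h1 := genFitting_quotient_eq_pCore_of_pLayer_eq_bot p
    ((isPConstrained_iff_pLayer_eq_bot p).mp hc)
  exact genFitting_eq_pCore_of_mulEquiv p (quotientCoreEquiv p h).symm h1

/-- `F*(X) = O_p(X)` implies `p`-constrained. -/
theorem isPConstrained_of_genFitting_eq_pCore {X : Type*} [Group X] [Finite X] (p : ℕ)
    [hp : Fact p.Prime] (h : generalizedFittingSubgroup X = pCore p X) :
    Cfsg.IsPConstrained p X := by
  obtain ⟨hE, hO⟩ := layer_eq_bot_and_pPrimeCore_eq_bot_of_genFitting_eq_pCore p h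
  rw [isPConstrained_iff_layer_quotient_eq_bot]
  exact layer_eq_bot_of_mulEquiv (quotientCoreEquiv p hO) hE

/-- If `N_G(T) ≤ M` and `F*(M) = O_p(M)` then `F*(N_G(T)) = O_p(N_G(T))`. -/
theorem genFitting_normalizer_eq_pCore_of_le {G : Type*} [Group G] [Finite G] (p : ℕ)
    [hp : Fact p.Prime] (T : Subgroup G) (hT : IsPGroup p ↥T) (M : Subgroup G)
    (hNM : Subgroup.normalizer (T : Set G) ≤ M)
    (hM : generalizedFittingSubgroup ↥M = pCore p ↥M) :
    generalizedFittingSubgroup ↥(Subgroup.normalizer (T : Set G)) =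
      pCore p ↥(Subgroup.normalizer (T : Set G)) := by
  have hTM : T ≤ M := Subgroup.le_normalizer.trans hNM
  have h2 := genFitting_normalizer_eq_pCore p hM (T.subgroupOf M) hT.comap_subtype
  rw [← Subgroup.subgroupOf_normalizer_eq hTM] at h2
  exact genFitting_eq_pCore_of_mulEquiv p (Subgroup.subgroupOfEquivOfLe hNM) h2

/-- Under either hypothesis, every `2`-local `N` has `F*(N) = O_2(N)`. -/
theorem genFitting_twoLocal_eq_pCore {G : Type*} [Group G] [Finite G]
    (h : (∀ M : Subgroup G, Cfsg.IsMaximalTwoLocal M →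
        Cfsg.IsPConstrained 2 ↥M ∧ Cfsg.oddCore ↥M = ⊥) ∨
      (∀ t : G, orderOf t = 2 → Cfsg.IsPConstrained 2 ↥(Subgroup.centralizer ({t} : Set G)) ∧
        Cfsg.oddCore ↥(Subgroup.centralizer ({t} : Set G)) = ⊥))
    (T : Subgroup G) (hT : IsPGroup 2 ↥T) (hT1 : T ≠ ⊥) :
    generalizedFittingSubgroup ↥(Subgroup.normalizer (T : Set G)) =
      pCore 2 ↥(Subgroup.normalizer (T : Set G)) := by
  haveI : Fact (Nat.Prime 2) := ⟨Nat.prime_two⟩
  rcases h with h | h
  · have h0 : Cfsg.IsTwoLocal (Subgroup.normalizer (T : Set G)) := ⟨T, hT, hT1, rfl⟩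
    obtain ⟨M, hNM, hMmax⟩ := Finite.exists_le_maximal (α := Subgroup G)
      (p := fun M => Cfsg.IsTwoLocal M) h0
    have hMm : Cfsg.IsMaximalTwoLocal M := by
      refine ⟨hMmax.1, ?_⟩
      intro N hN hMN
      exact le_antisymm (hMmax.2 hN hMN) hMN
    obtain ⟨hc, ho⟩ := h M hMm
    exact genFitting_normalizer_eq_pCore_of_le 2 T hT M hNM
      (genFitting_eq_pCore_of_isPConstrained 2 hc ho)
  · apply genFitting_normalizer_eq_pCore_of_involution_centralizers _ T hT hT1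
    intro t ht
    obtain ⟨hc, ho⟩ := h t ht
    exact genFitting_eq_pCore_of_isPConstrained 2 hc ho


theorem mem_centralizer_singleton_of_conj_self {G : Type*} [Group G] {s a : G}
    (h : s * a * s⁻¹ = a) : s ∈ Subgroup.centralizer ({a} : Set G) := by
  rw [Subgroup.mem_centralizer_iff]
  intro b hb
  rw [Set.mem_singleton_iff] at hb
  subst hb
  calc b * s = (s * b * s⁻¹) * s := by rw [h]
    _ = s * b := by group

theorem conj_self_of_mem_centralizer_singleton {G : Type*} [Group G] {s a : G}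
    (h : s ∈ Subgroup.centralizer ({a} : Set G)) : s * a * s⁻¹ = a := by
  have := (Subgroup.mem_centralizer_iff.mp h) a (Set.mem_singleton a)
  rw [← this]; group

/-- If the conjugates of `a` under `S0` are `a` and `z * a` only (with `z` a central involution), then
`C_{S0}(a)` has index dividing `2` in `S0`. -/
theorem relIndex_centralizer_dvd_two {G : Type*} [Group G] (S0 : Subgroup G) (z a : G)
    (hz2 : z * z = 1) (hzc : ∀ s ∈ S0, s * z * s⁻¹ = z)
    (h : ∀ s ∈ S0, s * a * s⁻¹ = a ∨ s * a * s⁻¹ = z * a) :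
    (S0 ⊓ Subgroup.centralizer ({a} : Set G)).relIndex S0 ∣ 2 := by
  rw [Subgroup.inf_relIndex_left, Subgroup.relIndex_dvd_two_iff]
  by_cases hall : ∀ s ∈ S0, s * a * s⁻¹ = a
  · refine ⟨1, S0.one_mem, ?_⟩
    intro b hb
    right
    exact mem_centralizer_singleton_of_conj_self (hall b hb)
  · push Not at hall
    obtain ⟨s0, hs0, hs0a⟩ := hall
    have hs0a' : s0 * a * s0⁻¹ = z * a := (h s0 hs0).resolve_left hs0a
    refine ⟨s0, hs0, ?_⟩
    intro b hb
    rcases h b hb with hb1 | hb1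
    · right
      exact mem_centralizer_singleton_of_conj_self hb1
    · left
      apply mem_centralizer_singleton_of_conj_self
      calc b * s0 * a * (b * s0)⁻¹ = b * (s0 * a * s0⁻¹) * b⁻¹ := by group
        _ = b * (z * a) * b⁻¹ := by rw [hs0a']
        _ = (b * z * b⁻¹) * (b * a * b⁻¹) := by group
        _ = z * (z * a) := by rw [hzc b hb, hb1]
        _ = a := by rw [← mul_assoc, hz2, one_mul]


/-- Key step: if `C_S(a)` has index at most `2` in the Sylow `2`-subgroup `S`, `F*(N) = O_2(N)` for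
`N = N_G(⟨a⟩)`, and `X` is an `S`-invariant subgroup of odd order, then `C_X(a) = 1`. -/
theorem inf_centralizer_eq_bot_of_relIndex_dvd_two {G : Type*} [Group G] [Finite G]
    (S : Sylow 2 G) (X : Subgroup G) (hX : (Nat.card X).Coprime 2)
    (hSX : (S : Subgroup G) ≤ Subgroup.normalizer (X : Set G)) (a : G)
    (hidx : ((S : Subgroup G) ⊓ Subgroup.centralizer ({a} : Set G)).relIndex (S : Subgroup G) ∣ 2)
    (hF : generalizedFittingSubgroup
        ↥(Subgroup.normalizer ((Subgroup.zpowers a : Subgroup G) : Set G)) =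
      pCore 2 ↥(Subgroup.normalizer ((Subgroup.zpowers a : Subgroup G) : Set G))) :
    X ⊓ Subgroup.centralizer ({a} : Set G) = ⊥ := by
  haveI : Fact (Nat.Prime 2) := ⟨Nat.prime_two⟩
  obtain ⟨N, hN⟩ : ∃ N, N = Subgroup.normalizer ((Subgroup.zpowers a : Subgroup G) : Set G) :=
    ⟨_, rfl⟩
  rw [← hN] at hF
  obtain ⟨Q, hQ⟩ : ∃ Q, Q = (pCore 2 ↥N).map N.subtype := ⟨_, rfl⟩
  obtain ⟨Sa, hSa⟩ : ∃ Sa, Sa = (S : Subgroup G) ⊓ Subgroup.centralizer ({a} : Set G) := ⟨_, rfl⟩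
  obtain ⟨Y, hY⟩ : ∃ Y, Y = X ⊓ Subgroup.centralizer ({a} : Set G) := ⟨_, rfl⟩
  rw [← hSa] at hidx
  rw [← hY]
  have hCN : Subgroup.centralizer ({a} : Set G) ≤ N := by
    rw [hN, ← centralizer_zpowers_eq_centralizer_singleton]
    exact Subgroup.centralizer_le_normalizer _
  have hYN : Y ≤ N := by rw [hY]; exact inf_le_right.trans hCN
  have hSaN : Sa ≤ N := by rw [hSa]; exact inf_le_right.trans hCN
  have hSaS : Sa ≤ (S : Subgroup G) := by rw [hSa]; exact inf_le_left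
  have hQ2 : IsPGroup 2 ↥Q := by rw [hQ]; exact (pCore_isPGroup' 2).map _
  have hSa2 : IsPGroup 2 ↥Sa := S.isPGroup'.to_le hSaS
  have hQN : Q ≤ N := by
    rw [hQ]; rintro _ ⟨x, _, rfl⟩; exact x.2
  -- `N` normalizes `Q`
  have hNQ : ∀ n ∈ N, ∀ q ∈ Q, n * q * n⁻¹ ∈ Q := by
    intro n hn q hq
    rw [hQ] at hq ⊢
    obtain ⟨x, hx, rfl⟩ := hq
    have hnorm : (pCore 2 ↥N).Normal := pCore_normal' 2
    exact ⟨(⟨n, hn⟩ : ↥N) * x * (⟨n, hn⟩ : ↥N)⁻¹, hnorm.conj_mem x hx _, rfl⟩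
  have hNQ' : N ≤ Subgroup.normalizer (Q : Set G) := by
    intro n hn
    rw [Subgroup.mem_normalizer_iff]
    intro q
    constructor
    · exact hNQ n hn q
    · intro h
      have := hNQ n⁻¹ (N.inv_mem hn) _ h
      have e : n⁻¹ * (n * q * n⁻¹) * n⁻¹⁻¹ = q := by group
      rwa [e] at this
  -- `Sa` normalizes `Y`
  have hSaY : ∀ s ∈ Sa, ∀ y ∈ Y, s * y * s⁻¹ ∈ Y := by
    intro s hs y hy
    rw [hSa] at hs
    rw [hY] at hy ⊢
    refine ⟨?_, ?_⟩
    · exact (Subgroup.mem_normalizer_iff.mp (hSX hs.1) y).mp hy.1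
    · exact Subgroup.mul_mem _ (Subgroup.mul_mem _ hs.2 hy.2) (Subgroup.inv_mem _ hs.2)
  have hYcop : (Nat.card ↥Y).Coprime 2 := by
    rw [hY]
    exact Nat.Coprime.coprime_dvd_left (Subgroup.card_dvd_of_le inf_le_left) hX
  have hQY : Q ⊓ Y = ⊥ := inf_eq_bot_of_isPGroup_of_coprime hQ2 hYcop
  -- index computation
  have hR2 : IsPGroup 2 ↥(Q ⊔ Sa) :=
    IsPGroup.to_sup_of_normal_left' hQ2 hSa2 (hSaN.trans hNQ')
  have hcardR : Nat.card ↥(Q ⊔ Sa) ≤ Nat.card ↥(S : Subgroup G) := by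
    obtain ⟨P, hP⟩ := hR2.exists_le_sylow
    calc Nat.card ↥(Q ⊔ Sa) ≤ Nat.card ↥(P : Subgroup G) :=
          Nat.le_of_dvd Nat.card_pos (Subgroup.card_dvd_of_le hP)
      _ = Nat.card ↥(S : Subgroup G) := by
          rw [Sylow.card_eq_multiplicity P, Sylow.card_eq_multiplicity S]
  have hcard1 : Nat.card ↥Sa * Sa.relIndex (Q ⊔ Sa) = Nat.card ↥(Q ⊔ Sa) := by
    have h1 := (Sa.subgroupOf (Q ⊔ Sa)).card_mul_index
    rw [Nat.card_congr (Subgroup.subgroupOfEquivOfLe (le_sup_right : Sa ≤ Q ⊔ Sa)).toEquiv] at h1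
    exact h1
  have hcard2 : Nat.card ↥Sa * Sa.relIndex (S : Subgroup G) = Nat.card ↥(S : Subgroup G) := by
    have h1 := (Sa.subgroupOf (S : Subgroup G)).card_mul_index
    rw [Nat.card_congr (Subgroup.subgroupOfEquivOfLe hSaS).toEquiv] at h1
    exact h1
  have hidx2 : Sa.relIndex (S : Subgroup G) ≤ 2 := Nat.le_of_dvd (by norm_num) hidx
  have hSapos : 0 < Nat.card ↥Sa := Nat.card_pos
  have hrelR : Sa.relIndex (Q ⊔ Sa) ≤ 2 := by
    have h1 : Nat.card ↥Sa * Sa.relIndex (Q ⊔ Sa) ≤ Nat.card ↥Sa * 2 := by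
      rw [hcard1]
      calc Nat.card ↥(Q ⊔ Sa) ≤ Nat.card ↥(S : Subgroup G) := hcardR
        _ = Nat.card ↥Sa * Sa.relIndex (S : Subgroup G) := hcard2.symm
        _ ≤ Nat.card ↥Sa * 2 := Nat.mul_le_mul_left _ hidx2
    exact Nat.le_of_mul_le_mul_left h1 hSapos
  have hrelR0 : Sa.relIndex (Q ⊔ Sa) ≠ 0 := by
    intro h0
    rw [h0, mul_zero] at hcard1
    exact (Nat.card_pos (α := ↥(Q ⊔ Sa))).ne' hcard1.symm
  have hrelQ : Sa.relIndex Q ≤ 2 :=
    (Subgroup.relIndex_le_of_le_right (le_sup_left : Q ≤ Q ⊔ Sa) hrelR0).trans hrelR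
  have hrelQ0 : Sa.relIndex Q ≠ 0 := by
    intro h0
    exact hrelR0 (Subgroup.relIndex_eq_zero_of_le_right (le_sup_left : Q ≤ Q ⊔ Sa) h0)
  have hrelQd : Sa.relIndex Q ∣ 2 := by
    interval_cases h : Sa.relIndex Q
    · exact absurd rfl hrelQ0
    · exact one_dvd _
    · exact dvd_rfl
  obtain ⟨q0, hq0Q, hq0⟩ := Subgroup.relIndex_dvd_two_iff.mp hrelQd
  -- `Y` centralizes `Q ⊓ Sa`
  have hcen : ∀ q ∈ Q, q ∈ Sa → ∀ y ∈ Y, y * q * y⁻¹ = q := by
    intro q hqQ hqSa y hy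
    have h1 : y * q * y⁻¹ * q⁻¹ ∈ Q := Q.mul_mem (hNQ y (hYN hy) q hqQ) (Q.inv_mem hqQ)
    have h2 : y * q * y⁻¹ * q⁻¹ ∈ Y := by
      have := Y.mul_mem hy (Y.inv_mem (hSaY q hqSa y hy))
      have e : y * (q * y * q⁻¹)⁻¹ = y * q * y⁻¹ * q⁻¹ := by group
      rwa [e] at this
    have h3 : y * q * y⁻¹ * q⁻¹ ∈ Q ⊓ Y := ⟨h1, h2⟩
    rw [hQY, Subgroup.mem_bot] at h3
    calc y * q * y⁻¹ = (y * q * y⁻¹ * q⁻¹) * q := by group
      _ = q := by rw [h3, one_mul]
  -- `[Q, Y] ≤ Q ⊓ Sa`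
  have hcomm : ∀ q ∈ Q, ∀ y ∈ Y, q * (y * q * y⁻¹)⁻¹ ∈ Sa := by
    intro q hqQ y hy
    by_cases hqSa : q ∈ Sa
    · rw [hcen q hqQ hqSa y hy, mul_inv_cancel]
      exact Sa.one_mem
    · have hq' : y * q * y⁻¹ ∈ Q := hNQ y (hYN hy) q hqQ
      have h1 : q * q0 ∈ Sa := (hq0 q hqQ).resolve_right hqSa
      have hq'Sa : y * q * y⁻¹ ∉ Sa := by
        intro hcon
        apply hqSa
        have h2 := hcen _ hq' hcon y⁻¹ (Y.inv_mem hy)
        have e : y⁻¹ * (y * q * y⁻¹) * y⁻¹⁻¹ = q := by group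
        rw [e] at h2
        rw [h2]
        exact hcon
      have h2 : y * q * y⁻¹ * q0 ∈ Sa := (hq0 _ hq').resolve_right hq'Sa
      have := Sa.mul_mem h1 (Sa.inv_mem h2)
      have e : q * q0 * (y * q * y⁻¹ * q0)⁻¹ = q * (y * q * y⁻¹)⁻¹ := by group
      rwa [e] at this
  have hYQ : Y ≤ Subgroup.normalizer (Q : Set G) := hYN.trans hNQ'
  have hQYQ : ⁅Q, Y⁆ ≤ Q := Subgroup.le_normalizer_iff_commutator_le_left.mp hYQ
  have hQYSa : ⁅Q, Y⁆ ≤ Sa := by
    rw [Subgroup.commutator_le]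
    intro q hq y hy
    have := hcomm q hq y hy
    have e : q * (y * q * y⁻¹)⁻¹ = ⁅q, y⁆ := by
      rw [commutatorElement_def]; group
    rwa [e] at this
  have h2 : ⁅⁅Q, Y⁆, Y⁆ = ⊥ := by
    rw [eq_bot_iff, Subgroup.commutator_le]
    intro c hc y hy
    rw [Subgroup.mem_bot, commutatorElement_def]
    have := hcen c (hQYQ hc) (hQYSa hc) y hy
    calc c * y * c⁻¹ * y⁻¹ = c * (y * c * y⁻¹)⁻¹ := by group
      _ = 1 := by rw [this, mul_inv_cancel]
  have h3 : ⁅Q, Y⁆ = ⊥ :=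
    commutator_eq_bot_of_commutator_commutator_eq_bot 2 Q Y hQ2 hYcop hYQ h2
  -- `Y ≤ C_N(Q) ≤ Q`
  rw [eq_bot_iff]
  intro y hy
  rw [Subgroup.mem_bot]
  have hyC : (⟨y, hYN hy⟩ : ↥N) ∈ Subgroup.centralizer ((pCore 2 ↥N : Subgroup ↥N) : Set ↥N) := by
    rw [Subgroup.mem_centralizer_iff]
    intro x hx
    have hxQ : (x : G) ∈ Q := by rw [hQ]; exact ⟨x, hx, rfl⟩
    have h4 : ⁅(x : G), y⁆ ∈ ⁅Q, Y⁆ := Subgroup.commutator_mem_commutator hxQ hy
    rw [h3, Subgroup.mem_bot, commutatorElement_eq_one_iff_commute] at h4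
    exact Subtype.ext h4.eq
  have h5 := centralizer_genFitting_le (G := ↥N)
  rw [hF] at h5
  have hyQ : y ∈ Q := by
    rw [hQ]
    exact ⟨⟨y, hYN hy⟩, h5 hyC, rfl⟩
  have : y ∈ Q ⊓ Y := ⟨hyQ, hy⟩
  rwa [hQY, Subgroup.mem_bot] at this


/-- `Ω₁(A) ∩ S` as a subgroup of the Sylow subgroup `S`, for `A ∈ SCN(S)`. -/
def omegaOneIn {G : Type*} [Group G] (S A : Subgroup G) (hA : Cfsg.IsSCN S A) : Subgroup ↥S where
  carrier := {x | (x : G) ∈ A ∧ x * x = 1}
  one_mem' := ⟨A.one_mem, mul_one 1⟩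
  mul_mem' := by
    rintro x y ⟨hx, hx2⟩ ⟨hy, hy2⟩
    refine ⟨A.mul_mem hx hy, ?_⟩
    have hxc : (x : G) ∈ Subgroup.centralizer (A : Set G) := by
      have : (x : G) ∈ S ⊓ Subgroup.centralizer (A : Set G) := by rw [hA.2.2]; exact hx
      exact this.2
    have hcomm : y * x = x * y := by
      apply Subtype.ext
      exact (Subgroup.mem_centralizer_iff.mp hxc) (y : G) hy
    calc x * y * (x * y) = x * (y * x) * y := by group
      _ = x * (x * y) * y := by rw [hcomm]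
      _ = (x * x) * (y * y) := by group
      _ = 1 := by rw [hx2, hy2, mul_one]
  inv_mem' := by
    rintro x ⟨hx, hx2⟩
    have : x⁻¹ = x := inv_eq_of_mul_eq_one_left hx2
    rw [this]
    exact ⟨hx, hx2⟩

theorem omegaOneIn_normal {G : Type*} [Group G] (S A : Subgroup G) (hA : Cfsg.IsSCN S A) :
    (omegaOneIn S A hA).Normal := by
  constructor
  intro x hx s
  obtain ⟨hx1, hx2⟩ := hx
  refine ⟨?_, ?_⟩
  · have := (Subgroup.mem_normalizer_iff.mp (hA.2.1 s.2) (x : G)).mp hx1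
    simpa using this
  · calc s * x * s⁻¹ * (s * x * s⁻¹) = s * (x * x) * s⁻¹ := by group
      _ = 1 := by rw [hx2]; group

theorem four_lt_card_omegaOneIn {G : Type*} [Group G] [Finite G] (S A : Subgroup G)
    (hA : Cfsg.IsSCN S A) (hA3 : ¬ Cfsg.PRankLE 2 2 ↥A) :
    4 < Nat.card ↥(omegaOneIn S A hA) := by
  unfold Cfsg.PRankLE at hA3
  push Not at hA3
  obtain ⟨B, _, hB2, hBc⟩ := hA3
  have hf : ∀ b : ↥B, (⟨((b : ↥A) : G), hA.1 (b : ↥A).2⟩ : ↥S) ∈ omegaOneIn S A hA := by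
    intro b
    refine ⟨(b : ↥A).2, ?_⟩
    apply Subtype.ext
    have := hB2 (b : ↥A) b.2
    have h2 : (((b : ↥A) : G)) ^ 2 = 1 := by
      have := congrArg Subtype.val this
      simpa using this
    rw [Subgroup.coe_mul, Subgroup.coe_one, ← pow_two]
    exact h2
  have hinj : Function.Injective (fun b : ↥B =>
      (⟨⟨((b : ↥A) : G), hA.1 (b : ↥A).2⟩, hf b⟩ : ↥(omegaOneIn S A hA))) := by
    intro b c hbc
    have h1 := congrArg (fun t : ↥(omegaOneIn S A hA) => ((t : ↥S) : G)) hbc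
    exact Subtype.ext (Subtype.ext h1)
  have := Nat.card_le_card_of_injective _ hinj
  have h4 : (2 : ℕ) ^ 2 = 4 := by norm_num
  omega

/-- From `A ∈ SCN₃(S)`: a central involution `z` of `S` and an involution `a ≠ z` of `S` whose only
`S`-conjugates are `a` and `z * a`. -/
theorem exists_four_of_scn {G : Type*} [Group G] [Finite G] (S : Sylow 2 G) (A : Subgroup G)
    (hA : Cfsg.IsSCN (S : Subgroup G) A) (hA3 : ¬ Cfsg.PRankLE 2 2 ↥A) :
    ∃ z a : G, z ∈ (S : Subgroup G) ∧ a ∈ (S : Subgroup G) ∧ z * z = 1 ∧ a * a = 1 ∧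
      z * a = a * z ∧ z ≠ 1 ∧ a ≠ 1 ∧ z ≠ a ∧
      (∀ s ∈ (S : Subgroup G), s * z * s⁻¹ = z) ∧
      (∀ s ∈ (S : Subgroup G), s * a * s⁻¹ = a ∨ s * a * s⁻¹ = z * a) := by
  haveI : Fact (Nat.Prime 2) := ⟨Nat.prime_two⟩
  obtain ⟨E, hE⟩ : ∃ E, E = omegaOneIn (S : Subgroup G) A hA := ⟨_, rfl⟩
  haveI hEn : E.Normal := by rw [hE]; exact omegaOneIn_normal _ _ hA
  have hEcard : 4 < Nat.card ↥E := by rw [hE]; exact four_lt_card_omegaOneIn _ _ hA hA3
  have hP2 : IsPGroup 2 ↥(S : Subgroup G) := S.isPGroup'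
  haveI : Group.IsNilpotent ↥(S : Subgroup G) := hP2.isNilpotent
  have hEne : E ≠ ⊥ := by
    intro h
    rw [h, Subgroup.card_bot] at hEcard
    omega
  have hmeet := Cfsg.Agent.Lib.Helper2.normal_inf_center_ne_bot E hEne
  obtain ⟨z, hz, hz1⟩ : ∃ z ∈ E ⊓ Subgroup.center ↥(S : Subgroup G), z ≠ 1 := by
    by_contra hcon
    push Not at hcon
    exact hmeet ((Subgroup.eq_bot_iff_forall _).mpr hcon)
  have hzE : z ∈ omegaOneIn (S : Subgroup G) A hA := by rw [← hE]; exact hz.1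
  have hz2 : z * z = 1 := hzE.2
  have hzc : ∀ g : ↥(S : Subgroup G), g * z = z * g := Subgroup.mem_center_iff.mp hz.2
  have hzord : orderOf z = 2 := by
    apply orderOf_eq_prime
    · rw [pow_two]; exact hz2
    · exact hz1
  obtain ⟨M, hM⟩ : ∃ M, M = Subgroup.zpowers z := ⟨_, rfl⟩
  have hMmem : ∀ m ∈ M, m = 1 ∨ m = z := by
    intro m hm
    rw [hM] at hm
    obtain ⟨k, rfl⟩ := Subgroup.mem_zpowers_iff.mp hm
    rw [← zpow_mod_orderOf, hzord]
    have h2 : (k % ((2 : ℕ) : ℤ)) = 0 ∨ (k % ((2 : ℕ) : ℤ)) = 1 := by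
      have := Int.emod_two_eq_zero_or_one k
      simpa using this
    rcases h2 with h2 | h2
    · left; rw [h2, zpow_zero]
    · right; rw [h2, zpow_one]
  have hzM : z ∈ M := by rw [hM]; exact Subgroup.mem_zpowers z
  haveI hMn : M.Normal := by
    constructor
    intro m hm g
    have hmc : g * m = m * g := by
      rcases hMmem m hm with rfl | rfl
      · rw [mul_one, one_mul]
      · exact hzc g
    rw [hmc, mul_assoc, mul_inv_cancel, mul_one]
    exact hm
  have hMcard : Nat.card ↥M = 2 := by rw [hM, Nat.card_zpowers, hzord]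
  have hPQ : IsPGroup 2 (↥(S : Subgroup G) ⧸ M) := hP2.to_quotient M
  haveI : Group.IsNilpotent (↥(S : Subgroup G) ⧸ M) := hPQ.isNilpotent
  haveI hEbar : (E.map (QuotientGroup.mk' M)).Normal :=
    Subgroup.Normal.map inferInstance _ (QuotientGroup.mk'_surjective M)
  have hne : E.map (QuotientGroup.mk' M) ≠ ⊥ := by
    intro h
    have hEM : E ≤ M := by
      intro x hx
      have : QuotientGroup.mk' M x ∈ E.map (QuotientGroup.mk' M) := Subgroup.mem_map_of_mem _ hx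
      rw [h, Subgroup.mem_bot] at this
      exact (QuotientGroup.eq_one_iff x).mp this
    have := Nat.le_of_dvd Nat.card_pos (Subgroup.card_dvd_of_le hEM)
    omega
  have hmeet2 := Cfsg.Agent.Lib.Helper2.normal_inf_center_ne_bot (E.map (QuotientGroup.mk' M)) hne
  obtain ⟨w, hw, hw1⟩ : ∃ w ∈ E.map (QuotientGroup.mk' M) ⊓
      Subgroup.center (↥(S : Subgroup G) ⧸ M), w ≠ 1 := by
    by_contra hcon
    push Not at hcon
    exact hmeet2 ((Subgroup.eq_bot_iff_forall _).mpr hcon)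
  obtain ⟨a, haE, rfl⟩ := hw.1
  have haM : a ∉ M := by
    intro h
    exact hw1 ((QuotientGroup.eq_one_iff a).mpr h)
  have haE' : a ∈ omegaOneIn (S : Subgroup G) A hA := by rw [← hE]; exact haE
  have ha2 : a * a = 1 := haE'.2
  have hconj : ∀ s : ↥(S : Subgroup G), s * a * s⁻¹ = a ∨ s * a * s⁻¹ = z * a := by
    intro s
    have hc := Subgroup.mem_center_iff.mp hw.2 (QuotientGroup.mk' M s)
    have h1 : QuotientGroup.mk' M (s * a * s⁻¹ * a⁻¹) = 1 := by
      rw [map_mul, map_mul, map_mul, hc, map_inv, map_inv]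
      group
    have h2 : s * a * s⁻¹ * a⁻¹ ∈ M := (QuotientGroup.eq_one_iff _).mp h1
    rcases hMmem _ h2 with h3 | h3
    · left
      calc s * a * s⁻¹ = (s * a * s⁻¹ * a⁻¹) * a := by group
        _ = a := by rw [h3, one_mul]
    · right
      calc s * a * s⁻¹ = (s * a * s⁻¹ * a⁻¹) * a := by group
        _ = z * a := by rw [h3]
  refine ⟨(z : G), (a : G), z.2, a.2, ?_, ?_, ?_, ?_, ?_, ?_, ?_, ?_⟩
  · have := congrArg Subtype.val hz2
    simpa using this
  · have := congrArg Subtype.val ha2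
    simpa using this
  · have := congrArg Subtype.val (hzc a)
    simpa using this.symm
  · intro h
    exact hz1 (Subtype.ext h)
  · intro h
    apply haM
    have : a = 1 := Subtype.ext h
    rw [this]
    exact M.one_mem
  · intro h
    apply haM
    have : z = a := Subtype.ext h
    rw [← this]
    exact hzM
  · intro s hs
    have h1 := hzc ⟨s, hs⟩
    have h2 : (⟨s, hs⟩ : ↥(S : Subgroup G)) * z * (⟨s, hs⟩ : ↥(S : Subgroup G))⁻¹ = z := by
      rw [h1]; group
    have := congrArg Subtype.val h2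
    simpa using this
  · intro s hs
    rcases hconj ⟨s, hs⟩ with h | h
    · left
      have := congrArg Subtype.val h
      simpa using this
    · right
      have := congrArg Subtype.val h
      simpa using this


/-- S3246. -/
theorem early_characteristic_two_type_criteria {G : Type*} [Group G] [Finite G]
    (S : Sylow 2 G) (A : Subgroup G) (hA : Cfsg.IsSCN (S : Subgroup G) A)
    (hA3 : ¬ Cfsg.PRankLE 2 2 ↥A)
    (h : (∀ M : Subgroup G, Cfsg.IsMaximalTwoLocal M →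
        Cfsg.IsPConstrained 2 ↥M ∧ Cfsg.oddCore ↥M = ⊥) ∨
      (∀ t : G, orderOf t = 2 → Cfsg.IsPConstrained 2 ↥(Subgroup.centralizer ({t} : Set G)) ∧
        Cfsg.oddCore ↥(Subgroup.centralizer ({t} : Set G)) = ⊥)) :
    (∀ X : Subgroup G, Odd (Nat.card ↥X) → (S : Subgroup G) ≤ Subgroup.normalizer (X : Set G) →
        X = ⊥) ∧
      (∀ T : Subgroup G, IsPGroup 2 ↥T → T ≠ ⊥ →
        Cfsg.IsPConstrained 2 ↥(Subgroup.normalizer (T : Set G))) := by
  haveI : Fact (Nat.Prime 2) := ⟨Nat.prime_two⟩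
  have hN := genFitting_twoLocal_eq_pCore h
  refine ⟨?_, fun T hT hT1 => isPConstrained_of_genFitting_eq_pCore 2 (hN T hT hT1)⟩
  intro X hXodd hSX
  obtain ⟨z, a, hzS, haS, hz2, ha2, hza, hz1, ha1, hzne, hzc, hac⟩ :=
    exists_four_of_scn S A hA hA3
  have hXcop : (Nat.card ↥X).Coprime 2 := (Nat.coprime_two_left.mpr hXodd).symm
  have key : ∀ v : G, v ≠ 1 → v * v = 1 →
      (∀ s ∈ (S : Subgroup G), s * v * s⁻¹ = v ∨ s * v * s⁻¹ = z * v) →
      X ⊓ Subgroup.centralizer ({v} : Set G) = ⊥ := by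
    intro v hv1 hv2 hv
    apply inf_centralizer_eq_bot_of_relIndex_dvd_two S X hXcop hSX v
      (relIndex_centralizer_dvd_two _ z v hz2 hzc hv)
    apply hN
    · have hord : orderOf v = 2 := by
        apply orderOf_eq_prime
        · rw [pow_two]; exact hv2
        · exact hv1
      apply IsPGroup.of_card (n := 1)
      rw [Nat.card_zpowers, hord, pow_one]
    · exact Subgroup.zpowers_ne_bot.mpr hv1
  obtain ⟨V, hV⟩ : ∃ V, V = Cfsg.Agent.Lib.Helper12.Klein.kf z a hz2 ha2 hza := ⟨_, rfl⟩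
  have hVK : IsKleinFour ↥V := by
    rw [hV]
    exact Cfsg.Agent.Lib.Helper12.Klein.isKleinFour_kf z a hz2 ha2 hza hz1 ha1 hzne
  have hVmem : ∀ v ∈ V, v = 1 ∨ v = z ∨ v = a ∨ v = z * a := by
    intro v hv
    rw [hV] at hv
    exact (Cfsg.Agent.Lib.Helper12.Klein.mem_kf z a hz2 ha2 hza v).mp hv
  have hza2 : z * a * (z * a) = 1 := by
    calc z * a * (z * a) = z * (a * z) * a := by group
      _ = z * (z * a) * a := by rw [hza]
      _ = (z * z) * (a * a) := by group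
      _ = 1 := by rw [hz2, ha2, mul_one]
  have hVE : Cfsg.IsElementaryAbelian 2 V := by
    refine ⟨⟨⟨fun x y => mul_comm_of_exponent_two IsKleinFour.exponent_two x y⟩⟩, ?_⟩
    intro v hv
    rcases hVmem v hv with rfl | rfl | rfl | rfl
    · exact one_pow 2
    · rw [pow_two]; exact hz2
    · rw [pow_two]; exact ha2
    · rw [pow_two]; exact hza2
  have hVS : V ≤ (S : Subgroup G) := by
    intro v hv
    rcases hVmem v hv with rfl | rfl | rfl | rfl
    · exact Subgroup.one_mem _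
    · exact hzS
    · exact haS
    · exact Subgroup.mul_mem _ hzS haS
  have hVcard : 2 ^ (1 + 1) ≤ Nat.card ↥V := by
    rw [IsKleinFour.card_four]
    norm_num
  have hX : X ≤ ⊥ := by
    apply le_of_forall_inf_centralizer_le (p := 2) 1 X hXcop V hVE (hVS.trans hSX) hVcard ⊥
    intro F hFV hFcard
    have hFne : F ≠ ⊥ := by
      intro h0
      rw [h0, Subgroup.card_bot] at hFcard
      norm_num at hFcard
    obtain ⟨⟨v, hvF⟩, hv1'⟩ := (Subgroup.ne_bot_iff_exists_ne_one.mp hFne)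
    have hv1 : v ≠ 1 := by
      intro h0
      apply hv1'
      exact Subtype.ext h0
    have hle : X ⊓ Subgroup.centralizer (F : Set G) ≤ X ⊓ Subgroup.centralizer ({v} : Set G) :=
      inf_le_inf_left _ (Subgroup.centralizer_le (Set.singleton_subset_iff.mpr hvF))
    refine hle.trans (le_of_eq ?_)
    rcases hVmem v (hFV hvF) with rfl | rfl | rfl | rfl
    · exact absurd rfl hv1
    · exact key _ hz1 hz2 (fun s hs => Or.inl (hzc s hs))
    · exact key _ ha1 ha2 hac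
    · apply key _ hv1 hza2
      intro s hs
      have e : s * (z * a) * s⁻¹ = (s * z * s⁻¹) * (s * a * s⁻¹) := by group
      rcases hac s hs with h1 | h1
      · left
        rw [e, hzc s hs, h1]
      · right
        rw [e, hzc s hs, h1]
  exact eq_bot_iff.mpr hX

end Cfsg.Agent.Lib.Helper20
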