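import Mathlib

/-!
Averaging lemma for a permutation group `H` that is 2-transitive on an invariant set `S`:
the average number of "common arrows inside `S`" of `h α h⁻¹` and `β`.
-/

namespace Cfsg.Agent.Lib.Helper20

open Equiv Finset

namespace CPA

variable {Ω : Type*} [Fintype Ω] [DecidableEq Ω]

/-- the elements of `H` as a finset -/
noncomputable def HS (H : Subgroup (Perm Ω)) : Finset (Perm Ω) := by
  classical exact univ.filter (· ∈ H)

lemma mem_HS {H : Subgroup (Perm Ω)} {h : Perm Ω} : h ∈ HS H ↔ h ∈ H := by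
  classical
  simp [HS]

lemma HS_card_pos (H : Subgroup (Perm Ω)) : 0 < (HS H).card :=
  Finset.card_pos.mpr ⟨1, mem_HS.mpr H.one_mem⟩

/-- number of `h ∈ H` with `h u = v` and `h u' = v'` -/
noncomputable def T2 (H : Subgroup (Perm Ω)) (u u' v v' : Ω) : ℕ :=
  ((HS H).filter fun h => h u = v ∧ h u' = v').card

/-- All fibres of `h ↦ (h u, h u')` over a transitive target have the same size. -/
theorem T2_mul_card (H : Subgroup (Perm Ω)) (Y : Finset (Ω × Ω)) (u u' : Ω)
    (ha : ∀ h ∈ H, (h u, h u') ∈ Y)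
    (hb : ∀ y ∈ Y, ∀ y' ∈ Y, ∃ k ∈ H, k y.1 = y'.1 ∧ k y.2 = y'.2)
    (y : Ω × Ω) (hy : y ∈ Y) :
    T2 H u u' y.1 y.2 * Y.card = (HS H).card := by
  classical
  have hfib : (HS H).card = ∑ z ∈ Y, ((HS H).filter fun h => (h u, h u') = z).card :=
    Finset.card_eq_sum_card_fiberwise (f := fun h : Perm Ω => (h u, h u'))
      (fun h hh => ha h (mem_HS.mp hh))
  have heq : ∀ z ∈ Y, ((HS H).filter fun h => (h u, h u') = z).card = T2 H u u' y.1 y.2 := by
    intro z hz
    obtain ⟨k, hk, hk1, hk2⟩ := hb z hz y hy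
    unfold T2
    refine Finset.card_bij (fun h _ => k * h) ?_ ?_ ?_
    · intro h hh
      rw [Finset.mem_filter] at hh ⊢
      refine ⟨mem_HS.mpr (H.mul_mem hk (mem_HS.mp hh.1)), ?_, ?_⟩
      · have := congrArg Prod.fst hh.2
        simp only at this
        simp [Perm.mul_apply, this, hk1]
      · have := congrArg Prod.snd hh.2
        simp only at this
        simp [Perm.mul_apply, this, hk2]
    · intro h1 _ h2 _ h12
      exact mul_left_cancel h12
    · intro h' hh'
      rw [Finset.mem_filter] at hh'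
      refine ⟨k⁻¹ * h', ?_, by simp⟩
      rw [Finset.mem_filter]
      refine ⟨mem_HS.mpr (H.mul_mem (H.inv_mem hk) (mem_HS.mp hh'.1)), ?_⟩
      have e1 : (k⁻¹ * h') u = z.1 := by
        rw [Perm.mul_apply, hh'.2.1, ← hk1]; simp
      have e2 : (k⁻¹ * h') u' = z.2 := by
        rw [Perm.mul_apply, hh'.2.2, ← hk2]; simp
      exact Prod.ext e1 e2
  rw [hfib, Finset.sum_congr rfl heq, Finset.sum_const, smul_eq_mul, mul_comm]

variable (H : Subgroup (Perm Ω)) (S : Finset Ω)

/-- the hypotheses: `H` preserves `S` and is 1- and 2-transitive on it -/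
structure TwoTrans : Prop where
  inv : ∀ h ∈ H, ∀ u ∈ S, h u ∈ S
  one : ∀ u ∈ S, ∀ v ∈ S, ∃ k ∈ H, k u = v
  two : ∀ u ∈ S, ∀ u' ∈ S, ∀ v ∈ S, ∀ v' ∈ S, u ≠ u' → v ≠ v' → ∃ k ∈ H, k u = v ∧ k u' = v'

variable {H S}

theorem T2_diag (hT : TwoTrans H S) {u v : Ω} (hu : u ∈ S) (hv : v ∈ S) :
    T2 H u u v v * S.card = (HS H).card := by
  classical
  have := T2_mul_card H S.diag u u
    (fun h hh => by simp [Finset.mem_diag, hT.inv h hh u hu])
    (fun y hy y' hy' => by
      rw [Finset.mem_diag] at hy hy'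
      obtain ⟨k, hk, hk1⟩ := hT.one y.1 hy.1 y'.1 hy'.1
      refine ⟨k, hk, hk1, ?_⟩
      rw [← hy.2, hk1, hy'.2])
    (v, v) (by simp [Finset.mem_diag, hv])
  rwa [Finset.diag_card] at this

theorem T2_offDiag (hT : TwoTrans H S) {u u' v v' : Ω} (hu : u ∈ S) (hu' : u' ∈ S)
    (hv : v ∈ S) (hv' : v' ∈ S) (huu : u ≠ u') (hvv : v ≠ v') :
    T2 H u u' v v' * (S.card * S.card - S.card) = (HS H).card := by
  classical
  have := T2_mul_card H S.offDiag u u'
    (fun h hh => by
      simp only [Finset.mem_offDiag]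
      exact ⟨hT.inv h hh u hu, hT.inv h hh u' hu', fun e => huu (h.injective e)⟩)
    (fun y hy y' hy' => by
      rw [Finset.mem_offDiag] at hy hy'
      exact hT.two y.1 hy.1 y.2 hy.2.1 y'.1 hy'.1 y'.2 hy'.2.1 hy.2.2 hy'.2.2)
    (v, v') (by simp [Finset.mem_offDiag, hv, hv', hvv])
  rwa [Finset.offDiag_card] at this

/-- fixed points inside `S` -/
noncomputable def dS (S : Finset Ω) (γ : Perm Ω) : ℕ := (S.filter fun u => γ u = u).card

/-- moved points of `S` whose image stays inside `S` -/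
noncomputable def oS (S : Finset Ω) (γ : Perm Ω) : ℕ :=
  (S.filter fun u => γ u ∈ S ∧ γ u ≠ u).card

/-- common arrows inside `S` of `h α h⁻¹` and `β` (indexed by the source of the `α`-arrow) -/
noncomputable def II (S : Finset Ω) (α β h : Perm Ω) : ℕ :=
  (S.filter fun u => α u ∈ S ∧ h (α u) = β (h u)).card

/-- number of `h` for which the arrow at `u` is common -/
noncomputable def RR (H : Subgroup (Perm Ω)) (S : Finset Ω) (α β : Perm Ω) (u : Ω) : ℕ :=
  ((HS H).filter fun h => α u ∈ S ∧ h (α u) = β (h u)).card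

theorem sum_II_eq (α β : Perm Ω) :
    ∑ h ∈ HS H, II S α β h = ∑ u ∈ S, RR H S α β u := by
  classical
  unfold II RR
  exact Finset.sum_card_bipartiteAbove_eq_sum_card_bipartiteBelow
    (fun (h : Perm Ω) (u : Ω) => α u ∈ S ∧ h (α u) = β (h u))

theorem RR_fixed (hT : TwoTrans H S) (α β : Perm Ω) {u : Ω} (hu : u ∈ S) (hαu : α u = u) :
    RR H S α β u * S.card = dS S β * (HS H).card := by
  classical
  unfold RR dS
  have hfib := Finset.card_eq_sum_card_fiberwise
    (s := (HS H).filter fun h => α u ∈ S ∧ h (α u) = β (h u))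
    (t := S.filter fun v => β v = v) (f := fun h : Perm Ω => h u)
    (by
      intro h hh
      replace hh := Finset.mem_coe.mp hh
      refine Finset.mem_coe.mpr ?_
      rw [Finset.mem_filter] at hh
      rw [Finset.mem_filter]
      refine ⟨hT.inv h (mem_HS.mp hh.1) u hu, ?_⟩
      have := hh.2.2
      rw [hαu] at this
      exact this.symm)
  rw [hfib, Finset.sum_mul]
  have : ∀ v ∈ S.filter (fun v => β v = v),
      (((HS H).filter fun h => α u ∈ S ∧ h (α u) = β (h u)).filter fun h => h u = v).card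
        * S.card = (HS H).card := by
    intro v hv
    rw [Finset.mem_filter] at hv
    rw [← T2_diag hT hu hv.1]
    congr 1
    unfold T2
    congr 1
    ext h
    simp only [Finset.mem_filter]
    constructor
    · rintro ⟨⟨hh, -, -⟩, e⟩
      exact ⟨hh, e, e⟩
    · rintro ⟨hh, e, -⟩
      refine ⟨⟨hh, by rw [hαu]; exact hu, ?_⟩, e⟩
      rw [hαu, e, hv.2]
  rw [Finset.sum_congr rfl this, Finset.sum_const, smul_eq_mul]

theorem RR_moved (hT : TwoTrans H S) (α β : Perm Ω) {u : Ω} (hu : u ∈ S) (hαu : α u ∈ S)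
    (hne : α u ≠ u) :
    RR H S α β u * (S.card * S.card - S.card) = oS S β * (HS H).card := by
  classical
  unfold RR oS
  have hfib := Finset.card_eq_sum_card_fiberwise
    (s := (HS H).filter fun h => α u ∈ S ∧ h (α u) = β (h u))
    (t := S.filter fun v => β v ∈ S ∧ β v ≠ v) (f := fun h : Perm Ω => h u)
    (by
      intro h hh
      replace hh := Finset.mem_coe.mp hh
      refine Finset.mem_coe.mpr ?_
      rw [Finset.mem_filter] at hh
      rw [Finset.mem_filter]
      refine ⟨hT.inv h (mem_HS.mp hh.1) u hu, ?_, ?_⟩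
      · rw [← hh.2.2]
        exact hT.inv h (mem_HS.mp hh.1) _ hαu
      · rw [← hh.2.2]
        intro e
        exact hne (h.injective e))
  rw [hfib, Finset.sum_mul]
  have : ∀ v ∈ S.filter (fun v => β v ∈ S ∧ β v ≠ v),
      (((HS H).filter fun h => α u ∈ S ∧ h (α u) = β (h u)).filter fun h => h u = v).card
        * (S.card * S.card - S.card) = (HS H).card := by
    intro v hv
    rw [Finset.mem_filter] at hv
    rw [← T2_offDiag hT hu hαu hv.1 hv.2.1 (Ne.symm hne) (Ne.symm hv.2.2)]
    congr 1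
    unfold T2
    congr 1
    ext h
    simp only [Finset.mem_filter]
    constructor
    · rintro ⟨⟨hh, -, e2⟩, e⟩
      exact ⟨hh, e, by rw [e2, e]⟩
    · rintro ⟨hh, e, e2⟩
      exact ⟨⟨hh, hαu, by rw [e2, e]⟩, e⟩
  rw [Finset.sum_congr rfl this, Finset.sum_const, smul_eq_mul]

theorem RR_out (α β : Perm Ω) {u : Ω} (hαu : α u ∉ S) : RR H S α β u = 0 := by
  classical
  unfold RR
  rw [Finset.card_eq_zero, Finset.filter_eq_empty_iff]
  intro h _ hh
  exact hαu hh.1

/-- The averaging formula. -/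
theorem avg (hT : TwoTrans H S) (α β : Perm Ω) :
    (∑ h ∈ HS H, II S α β h) * (S.card * (S.card * S.card - S.card)) =
      (HS H).card * (dS S α * dS S β * (S.card * S.card - S.card) + oS S α * oS S β * S.card) := by
  classical
  rw [sum_II_eq, Finset.sum_mul]
  have key : ∀ u ∈ S, RR H S α β u * (S.card * (S.card * S.card - S.card)) =
      (if α u = u then dS S β * (HS H).card * (S.card * S.card - S.card) else 0) +
      (if α u ∈ S ∧ α u ≠ u then oS S β * (HS H).card * S.card else 0) := by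
    intro u hu
    by_cases h1 : α u = u
    · have h2 : ¬ (α u ∈ S ∧ α u ≠ u) := fun h => h.2 h1
      rw [if_pos h1, if_neg h2, add_zero, ← RR_fixed hT α β hu h1]
      ring
    · by_cases h3 : α u ∈ S
      · rw [if_neg h1, if_pos ⟨h3, h1⟩, zero_add, ← RR_moved hT α β hu h3 h1]
        ring
      · have h2 : ¬ (α u ∈ S ∧ α u ≠ u) := fun h => h3 h.1
        rw [if_neg h1, if_neg h2, RR_out α β h3]
        simp
  rw [Finset.sum_congr rfl key, Finset.sum_add_distrib, ← Finset.sum_filter, ← Finset.sum_filter,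
    Finset.sum_const, Finset.sum_const, smul_eq_mul, smul_eq_mul]
  unfold dS oS
  ring

end CPA

end Cfsg.Agent.Lib.Helper20
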