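import Mathlib
import Cfsg.Agent.Lib.Helper20.ClassProdAvg

/-!
Fixed point counts are not constant on the product of two nontrivial `A_n`-classes (`n ≥ 5`).
-/

namespace Cfsg.Agent.Lib.Helper20

open Equiv Finset

namespace CPA

variable {Ω : Type*} [Fintype Ω] [DecidableEq Ω]

/-! ### multiple transitivity of the alternating group -/

theorem alt_trans {k : ℕ} (hk : k + 2 ≤ Fintype.card Ω) (x y : Fin k → Ω)
    (hx : Function.Injective x) (hy : Function.Injective y) :
    ∃ σ ∈ alternatingGroup Ω, ∀ i, σ (x i) = y i := by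
  have h1 := alternatingGroup.isMultiplyPretransitive Ω
  have h2 : MulAction.IsMultiplyPretransitive (alternatingGroup Ω) Ω k :=
    MulAction.isMultiplyPretransitive_of_le (n := Nat.card Ω - 2)
      (by rw [Nat.card_eq_fintype_card]; omega) (by rw [Nat.card_eq_fintype_card]; omega)
  obtain ⟨g, hg⟩ := MulAction.exists_smul_eq (alternatingGroup Ω)
    (⟨x, hx⟩ : Fin k ↪ Ω) (⟨y, hy⟩ : Fin k ↪ Ω)
  refine ⟨g.1, g.2, fun i => ?_⟩
  have := congrArg (fun e : Fin k ↪ Ω => e i) hg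
  exact this

theorem alt_trans1 (h : 3 ≤ Fintype.card Ω) (u v : Ω) : ∃ σ ∈ alternatingGroup Ω, σ u = v := by
  obtain ⟨σ, hσ, h1⟩ := alt_trans (k := 1) (by omega) ![u] ![v]
    (fun i j _ => Subsingleton.elim i j) (fun i j _ => Subsingleton.elim i j)
  exact ⟨σ, hσ, by simpa using h1 0⟩

theorem alt_trans2 (h : 4 ≤ Fintype.card Ω) {u u' v v' : Ω} (huu : u ≠ u') (hvv : v ≠ v') :
    ∃ σ ∈ alternatingGroup Ω, σ u = v ∧ σ u' = v' := by
  obtain ⟨σ, hσ, h1⟩ := alt_trans (k := 2) (by omega) ![u, u'] ![v, v']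
    (by intro i j hij; fin_cases i <;> fin_cases j <;> simp_all)
    (by intro i j hij; fin_cases i <;> fin_cases j <;> simp_all)
  exact ⟨σ, hσ, by simpa using h1 0, by simpa using h1 1⟩

theorem alt_trans3 (h : 5 ≤ Fintype.card Ω) {u1 u2 u3 v1 v2 v3 : Ω} (u12 : u1 ≠ u2)
    (u13 : u1 ≠ u3) (u23 : u2 ≠ u3) (v12 : v1 ≠ v2) (v13 : v1 ≠ v3) (v23 : v2 ≠ v3) :
    ∃ σ ∈ alternatingGroup Ω, σ u1 = v1 ∧ σ u2 = v2 ∧ σ u3 = v3 := by
  obtain ⟨σ, hσ, h1⟩ := alt_trans (k := 3) (by omega) ![u1, u2, u3] ![v1, v2, v3]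
    (by intro i j hij; fin_cases i <;> fin_cases j <;> simp_all)
    (by intro i j hij; fin_cases i <;> fin_cases j <;> simp_all)
  exact ⟨σ, hσ, by simpa using h1 0, by simpa using h1 1, by simpa using h1 2⟩

theorem alt_trans4 (h : 6 ≤ Fintype.card Ω) {u1 u2 u3 u4 v1 v2 v3 v4 : Ω} (u12 : u1 ≠ u2)
    (u13 : u1 ≠ u3) (u14 : u1 ≠ u4) (u23 : u2 ≠ u3) (u24 : u2 ≠ u4) (u34 : u3 ≠ u4)
    (v12 : v1 ≠ v2) (v13 : v1 ≠ v3) (v14 : v1 ≠ v4) (v23 : v2 ≠ v3) (v24 : v2 ≠ v4)
    (v34 : v3 ≠ v4) :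
    ∃ σ ∈ alternatingGroup Ω, σ u1 = v1 ∧ σ u2 = v2 ∧ σ u3 = v3 ∧ σ u4 = v4 := by
  obtain ⟨σ, hσ, h1⟩ := alt_trans (k := 4) (by omega) ![u1, u2, u3, u4] ![v1, v2, v3, v4]
    (by intro i j hij; fin_cases i <;> fin_cases j <;> simp_all)
    (by intro i j hij; fin_cases i <;> fin_cases j <;> simp_all)
  exact ⟨σ, hσ, by simpa using h1 0, by simpa using h1 1, by simpa using h1 2,
    by simpa using h1 3⟩

/-! ### fixed point counts -/

/-- number of fixed points -/
def fixc (π : Perm Ω) : ℕ := (univ.filter fun w => π w = w).card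

theorem natCard_fixedPoints (π : Perm Ω) : Nat.card (Function.fixedPoints ⇑π) = fixc π := by
  classical
  rw [Nat.card_eq_fintype_card, fixc, Fintype.card_subtype]
  congr 1

theorem fixc_conj (k b : Perm Ω) : fixc (k * b * k⁻¹) = fixc b := by
  unfold fixc
  symm
  refine Finset.card_bij (fun w _ => k w) ?_ ?_ ?_
  · intro w hw
    rw [Finset.mem_filter] at hw ⊢
    refine ⟨mem_univ _, ?_⟩
    simp [Perm.mul_apply, hw.2]
  · intro w1 _ w2 _ h
    exact k.injective h
  · intro w hw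
    rw [Finset.mem_filter] at hw
    refine ⟨k⁻¹ w, ?_, by simp⟩
    rw [Finset.mem_filter]
    refine ⟨mem_univ _, ?_⟩
    have := hw.2
    simp only [Perm.mul_apply] at this
    exact Perm.eq_inv_iff_eq.mpr this

theorem fixc_inv (a : Perm Ω) : fixc a⁻¹ = fixc a := by
  unfold fixc
  congr 1
  ext w
  simp only [Finset.mem_filter, mem_univ, true_and]
  rw [Perm.inv_eq_iff_eq]
  exact eq_comm

theorem fixc_add_two_le {π : Perm Ω} (hπ : π ≠ 1) : fixc π + 2 ≤ Fintype.card Ω := by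
  obtain ⟨x, hx⟩ : ∃ x, π x ≠ x := by
    by_contra hcon
    push Not at hcon
    exact hπ (Perm.ext hcon)
  have hx2 : π (π x) ≠ π x := fun e => hx (π.injective e)
  have hsub : ({x, π x} : Finset Ω) ⊆ univ.filter fun w => ¬ π w = w := by
    intro w hw
    rw [Finset.mem_insert, Finset.mem_singleton] at hw
    rw [Finset.mem_filter]
    refine ⟨mem_univ _, ?_⟩
    rcases hw with rfl | rfl
    · exact hx
    · exact hx2
  have h2 : 2 ≤ (univ.filter fun w => ¬ π w = w).card := by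
    have := Finset.card_le_card hsub
    rwa [Finset.card_pair (Ne.symm hx)] at this
  have := Finset.card_filter_add_card_filter_not (s := (univ : Finset Ω))
    (fun w => π w = w)
  rw [Finset.card_univ] at this
  unfold fixc
  omega

/-! ### the two instances of the averaging formula -/

theorem twoTrans_alt (h : 4 ≤ Fintype.card Ω) :
    TwoTrans (alternatingGroup Ω) (univ : Finset Ω) where
  inv := fun _ _ _ _ => mem_univ _
  one := fun u _ v _ => alt_trans1 (by omega) u v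
  two := fun u _ u' _ v _ v' _ huu hvv => alt_trans2 h huu hvv

/-- the stabilizer of `x` in the alternating group -/
def altStab (x : Ω) : Subgroup (Perm Ω) where
  carrier := {σ | σ ∈ alternatingGroup Ω ∧ σ x = x}
  mul_mem' := by
    rintro σ τ ⟨h1, h2⟩ ⟨h3, h4⟩
    exact ⟨mul_mem h1 h3, by rw [Perm.mul_apply, h4, h2]⟩
  one_mem' := ⟨one_mem _, rfl⟩
  inv_mem' := by
    rintro σ ⟨h1, h2⟩
    refine ⟨inv_mem h1, ?_⟩
    rw [Perm.inv_eq_iff_eq]
    exact h2.symm

theorem mem_altStab {x : Ω} {σ : Perm Ω} :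
    σ ∈ altStab x ↔ σ ∈ alternatingGroup Ω ∧ σ x = x := Iff.rfl

theorem twoTrans_altStab (h : 5 ≤ Fintype.card Ω) (x : Ω) :
    TwoTrans (altStab x) (univ.erase x) where
  inv := by
    intro σ hσ u hu
    rw [Finset.mem_erase] at hu ⊢
    refine ⟨fun e => hu.1 (σ.injective (e.trans hσ.2.symm)), mem_univ _⟩
  one := by
    intro u hu v hv
    rw [Finset.mem_erase] at hu hv
    obtain ⟨σ, hσ, h1, h2⟩ := alt_trans2 (by omega) (Ne.symm hu.1) (Ne.symm hv.1)
    exact ⟨σ, ⟨hσ, h1⟩, h2⟩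
  two := by
    intro u hu u' hu' v hv v' hv' huu hvv
    rw [Finset.mem_erase] at hu hv hu' hv'
    obtain ⟨σ, hσ, h1, h2, h3⟩ := alt_trans3 h (Ne.symm hu.1) (Ne.symm hu'.1) huu
      (Ne.symm hv.1) (Ne.symm hv'.1) hvv
    exact ⟨σ, ⟨hσ, h1⟩, h2, h3⟩

theorem II_univ (a b h : Perm Ω) : II univ a⁻¹ b h = fixc (a * (h⁻¹ * b * h)) := by
  unfold II fixc
  congr 1
  ext u
  rw [Finset.mem_filter, Finset.mem_filter]
  simp only [mem_univ, true_and, Perm.mul_apply]
  constructor
  · intro e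
    rw [← e]
    simp
  · intro e
    have : h⁻¹ (b (h u)) = a⁻¹ u := by
      rw [Perm.eq_inv_iff_eq]
      exact e
    rw [← this]
    simp

theorem II_erase {a b h : Perm Ω} {x : Ω} (hax : a x ≠ x) (hbx : b x = x) (hhx : h x = x) :
    II (univ.erase x) a⁻¹ b h = fixc (a * (h⁻¹ * b * h)) := by
  unfold II fixc
  congr 1
  ext u
  rw [Finset.mem_filter, Finset.mem_filter]
  simp only [Finset.mem_erase, mem_univ, and_true, true_and, Perm.mul_apply]
  have hax' : a⁻¹ x ≠ x := by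
    intro e
    rw [Perm.inv_eq_iff_eq] at e
    exact hax e.symm
  constructor
  · rintro ⟨-, -, e⟩
    rw [← e]
    simp
  · intro e
    have e2 : h⁻¹ (b (h u)) = a⁻¹ u := by
      rw [Perm.eq_inv_iff_eq]
      exact e
    have e3 : b (h u) = h (a⁻¹ u) := by
      rw [← e2]
      simp
    refine ⟨?_, ?_, e3.symm⟩
    · intro e5
      rw [e5, hhx, hbx] at e3
      have h7 : a⁻¹ x = x := h.injective (e3.symm.trans hhx.symm)
      exact hax' h7
    · intro e4
      rw [e4, hhx] at e3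
      have h5 : h u = x := b.injective (e3.trans hbx.symm)
      have h6 : u = x := h.injective (h5.trans hhx.symm)
      rw [h6] at e4
      exact hax' e4

theorem dS_univ (a : Perm Ω) : dS univ a⁻¹ = fixc a := by
  rw [← fixc_inv]
  rfl

theorem dS_univ' (b : Perm Ω) : dS univ b = fixc b := rfl

theorem oS_univ (b : Perm Ω) : oS univ b + fixc b = Fintype.card Ω := by
  have := Finset.card_filter_add_card_filter_not (s := (univ : Finset Ω))
    (fun w => b w = w)
  rw [Finset.card_univ] at this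
  unfold oS fixc
  rw [← this, add_comm]
  congr 2
  ext w
  simp

theorem oS_univ_inv (a : Perm Ω) : oS univ a⁻¹ + fixc a = Fintype.card Ω := by
  rw [← fixc_inv]
  exact oS_univ a⁻¹

theorem dS_erase_moved {a : Perm Ω} {x : Ω} (hax : a x ≠ x) :
    dS (univ.erase x) a⁻¹ = fixc a := by
  rw [← fixc_inv]
  unfold dS fixc
  congr 1
  ext w
  simp only [Finset.mem_filter, Finset.mem_erase, mem_univ, and_true, true_and]
  constructor
  · exact fun h => h.2
  · intro h
    refine ⟨?_, h⟩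
    rintro rfl
    rw [Perm.inv_eq_iff_eq] at h
    exact hax h.symm

theorem oS_erase_moved {a : Perm Ω} {x : Ω} (hax : a x ≠ x) :
    oS (univ.erase x) a⁻¹ + 2 + fixc a = Fintype.card Ω := by
  have h1 := oS_univ_inv a
  have hax2 : a (a x) ≠ a x := fun e => hax (a.injective e)
  have hsub : ({x, a x} : Finset Ω) ⊆ univ.filter fun u => a⁻¹ u ∈ univ ∧ a⁻¹ u ≠ u := by
    intro w hw
    rw [Finset.mem_insert, Finset.mem_singleton] at hw
    rw [Finset.mem_filter]
    refine ⟨mem_univ _, mem_univ _, ?_⟩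
    rcases hw with rfl | rfl
    · intro e
      rw [Perm.inv_eq_iff_eq] at e
      exact hax e.symm
    · intro e
      rw [Perm.inv_eq_iff_eq] at e
      exact hax2 e.symm
  have h2 : oS (univ.erase x) a⁻¹ =
      ((univ.filter fun u => a⁻¹ u ∈ univ ∧ a⁻¹ u ≠ u) \ {x, a x}).card := by
    unfold oS
    congr 1
    ext w
    simp only [Finset.mem_filter, Finset.mem_erase, mem_univ, and_true, true_and,
      Finset.mem_sdiff, Finset.mem_insert, Finset.mem_singleton, not_or]
    constructor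
    · rintro ⟨h3, h4, h5⟩
      refine ⟨h5, h3, ?_⟩
      intro e
      rw [e] at h4
      simp at h4
    · rintro ⟨h5, h3, h4⟩
      refine ⟨h3, ?_, h5⟩
      intro e
      rw [Perm.inv_eq_iff_eq] at e
      exact h4 e
  have h3 := Finset.card_sdiff_add_card_eq_card hsub
  rw [Finset.card_pair (Ne.symm hax)] at h3
  unfold oS at h1
  omega

theorem dS_erase_fixed {b : Perm Ω} {x : Ω} (hbx : b x = x) :
    dS (univ.erase x) b + 1 = fixc b := by
  unfold dS fixc
  have : (univ.erase x).filter (fun u => b u = u) = (univ.filter fun u => b u = u).erase x := by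
    ext w
    simp only [Finset.mem_filter, Finset.mem_erase, mem_univ, and_true, true_and]
  rw [this, Finset.card_erase_add_one]
  rw [Finset.mem_filter]
  exact ⟨mem_univ _, hbx⟩

theorem oS_erase_fixed {b : Perm Ω} {x : Ω} (hbx : b x = x) :
    oS (univ.erase x) b + fixc b = Fintype.card Ω := by
  rw [← oS_univ b]
  congr 1
  unfold oS
  congr 1
  ext w
  simp only [Finset.mem_filter, Finset.mem_erase, mem_univ, and_true, true_and]
  constructor
  · exact fun h => h.2.2
  · intro h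
    have hw : w ≠ x := by
      rintro rfl
      exact h hbx
    refine ⟨hw, fun e => hw (b.injective (e.trans hbx.symm)), h⟩

/-! ### consequences of constancy -/

theorem avg_global (h4 : 4 ≤ Fintype.card Ω) (a b : Perm Ω) (N : ℕ)
    (hconst : ∀ h ∈ alternatingGroup Ω, fixc (a * (h⁻¹ * b * h)) = N) :
    N * (Fintype.card Ω * (Fintype.card Ω * Fintype.card Ω - Fintype.card Ω)) =
      fixc a * fixc b * (Fintype.card Ω * Fintype.card Ω - Fintype.card Ω) +
        oS univ a⁻¹ * oS univ b * Fintype.card Ω := by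
  have h := avg (twoTrans_alt h4) a⁻¹ b
  have hsum : ∑ h ∈ HS (alternatingGroup Ω), II univ a⁻¹ b h =
      (HS (alternatingGroup Ω)).card * N := by
    rw [Finset.sum_congr rfl (fun h hh => by rw [II_univ, hconst h (mem_HS.mp hh)]),
      Finset.sum_const, smul_eq_mul]
  rw [hsum, mul_assoc, dS_univ, dS_univ', Finset.card_univ] at h
  exact Nat.eq_of_mul_eq_mul_left (HS_card_pos _) h

theorem avg_stab (h5 : 5 ≤ Fintype.card Ω) (a b : Perm Ω) (x : Ω) (hax : a x ≠ x)
    (hbx : b x = x) (N : ℕ)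
    (hconst : ∀ h ∈ alternatingGroup Ω, fixc (a * (h⁻¹ * b * h)) = N) :
    N * ((Fintype.card Ω - 1) *
        ((Fintype.card Ω - 1) * (Fintype.card Ω - 1) - (Fintype.card Ω - 1))) =
      fixc a * dS (univ.erase x) b *
          ((Fintype.card Ω - 1) * (Fintype.card Ω - 1) - (Fintype.card Ω - 1)) +
        oS (univ.erase x) a⁻¹ * oS (univ.erase x) b * (Fintype.card Ω - 1) := by
  have h := avg (twoTrans_altStab h5 x) a⁻¹ b
  have hsum : ∑ h ∈ HS (altStab x), II (univ.erase x) a⁻¹ b h =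
      (HS (altStab x)).card * N := by
    rw [Finset.sum_congr rfl (fun h hh => by
      rw [II_erase hax hbx (mem_HS.mp hh).2, hconst h (mem_HS.mp hh).1]),
      Finset.sum_const, smul_eq_mul]
  rw [hsum, mul_assoc, dS_erase_moved hax, Finset.card_erase_of_mem (mem_univ x),
    Finset.card_univ] at h
  exact Nat.eq_of_mul_eq_mul_left (HS_card_pos _) h

/-- both elements have a fixed point: impossible under constancy -/
theorem no_both_fixed (h5 : 5 ≤ Fintype.card Ω) (a b : Perm Ω) (ha : a ≠ 1) (hb : b ≠ 1)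
    (x : Ω) (hax : a x ≠ x) (hbx : b x = x) (hfa : 0 < fixc a) (N : ℕ)
    (hconst : ∀ h ∈ alternatingGroup Ω, fixc (a * (h⁻¹ * b * h)) = N) : False := by
  have hG := avg_global (by omega) a b N hconst
  have hS := avg_stab h5 a b x hax hbx N hconst
  have e1 := oS_univ_inv a
  have e2 := oS_univ b
  have e3 := oS_erase_moved hax
  have e4 := dS_erase_fixed hbx
  have e5 := oS_erase_fixed hbx
  have e6 := fixc_add_two_le hb
  obtain ⟨l, hl⟩ : ∃ l, Fintype.card Ω = l + 2 := ⟨Fintype.card Ω - 2, by omega⟩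
  rw [hl] at hG hS e1 e2 e3 e5 e6
  have s1 : (l + 2) * (l + 2) - (l + 2) = (l + 2) * (l + 1) := by
    apply Nat.sub_eq_of_eq_add
    ring
  have s2 : l + 2 - 1 = l + 1 := by omega
  have s3 : (l + 1) * (l + 1) - (l + 1) = (l + 1) * l := by
    apply Nat.sub_eq_of_eq_add
    ring
  rw [s1] at hG
  rw [s2, s3] at hS
  obtain ⟨f, hf⟩ : ∃ f, f = fixc a := ⟨_, rfl⟩
  obtain ⟨g, hg⟩ : ∃ g, g = fixc b := ⟨_, rfl⟩
  obtain ⟨oa, hoa⟩ : ∃ oa, oa = oS univ a⁻¹ := ⟨_, rfl⟩
  obtain ⟨ob, hob⟩ : ∃ ob, ob = oS univ b := ⟨_, rfl⟩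
  obtain ⟨oa', hoa'⟩ : ∃ oa', oa' = oS (univ.erase x) a⁻¹ := ⟨_, rfl⟩
  obtain ⟨ob', hob'⟩ : ∃ ob', ob' = oS (univ.erase x) b := ⟨_, rfl⟩
  obtain ⟨g', hg'⟩ : ∃ g', g' = dS (univ.erase x) b := ⟨_, rfl⟩
  rw [← hf, ← hg, ← hoa, ← hob] at hG
  rw [← hf, ← hg', ← hoa', ← hob'] at hS
  rw [← hf, ← hoa] at e1
  rw [← hg, ← hob] at e2
  rw [← hf, ← hoa'] at e3
  rw [← hg, ← hg'] at e4
  rw [← hg, ← hob'] at e5
  rw [← hg] at e6
  rw [← hf] at hfa
  have hoa2 : (oa : ℤ) = l + 2 - f := by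
    have : (oa : ℤ) + f = l + 2 := by exact_mod_cast e1
    linarith
  have hob2 : (ob : ℤ) = l + 2 - g := by
    have : (ob : ℤ) + g = l + 2 := by exact_mod_cast e2
    linarith
  have hoa3 : (oa' : ℤ) = l - f := by
    have : (oa' : ℤ) + 2 + f = l + 2 := by exact_mod_cast e3
    linarith
  have hob3 : (ob' : ℤ) = l + 2 - g := by
    have : (ob' : ℤ) + g = l + 2 := by exact_mod_cast e5
    linarith
  have hg2 : (g' : ℤ) = g - 1 := by
    have : (g' : ℤ) + 1 = g := by exact_mod_cast e4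
    linarith
  have hG' : (N : ℤ) * ((l + 2) * ((l + 2) * (l + 1))) =
      f * g * ((l + 2) * (l + 1)) + oa * ob * (l + 2) := by exact_mod_cast hG
  have hS' : (N : ℤ) * ((l + 1) * ((l + 1) * l)) =
      f * g' * ((l + 1) * l) + oa' * ob' * (l + 1) := by exact_mod_cast hS
  rw [hoa2, hob2] at hG'
  rw [hoa3, hob3, hg2] at hS'
  have hl2 : (0 : ℤ) < l + 2 := by positivity
  have hl1 : (0 : ℤ) < l + 1 := by positivity
  have hG'' : (N : ℤ) * ((l + 2) * (l + 1)) = f * g * (l + 1) + (l + 2 - f) * (l + 2 - g) := by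
    apply mul_left_cancel₀ (ne_of_gt hl2)
    linear_combination hG'
  have hS'' : (N : ℤ) * ((l + 1) * l) = f * (g - 1) * l + (l - f) * (l + 2 - g) := by
    apply mul_left_cancel₀ (ne_of_gt hl1)
    linear_combination hS'
  have key : (f : ℤ) * (l + 2 - g) * (l + 2) = 0 := by
    linear_combination (-(l : ℤ)) * hG'' + ((l : ℤ) + 2) * hS''
  have hgl : (0 : ℤ) < l + 2 - g := by
    have : (g : ℤ) + 2 ≤ l + 2 := by exact_mod_cast e6
    linarith
  have hf0 : (0 : ℤ) < f := by exact_mod_cast hfa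
  have : (0 : ℤ) < f * (l + 2 - g) * (l + 2) := by positivity
  linarith

theorem arith_fpf (n f g oa ob N : ℕ) (hn : 5 ≤ n) (e1 : oa + f = n) (e2 : ob + g = n)
    (hG : N * (n * (n * n - n)) = f * g * (n * n - n) + oa * ob * n) (hf : f = 0)
    (hg2 : g + 2 ≤ n) : g = 1 ∧ N = 1 := by
  subst hf
  obtain ⟨l, rfl⟩ : ∃ l, n = l + 2 := ⟨n - 2, by omega⟩
  have s1 : (l + 2) * (l + 2) - (l + 2) = (l + 2) * (l + 1) := by
    apply Nat.sub_eq_of_eq_add
    ring
  rw [s1] at hG
  have hoa : oa = l + 2 := by omega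
  subst hoa
  have h1 : (l + 2) * (l + 2) * (N * (l + 1)) = (l + 2) * (l + 2) * ob := by
    have : N * ((l + 2) * ((l + 2) * (l + 1))) = (l + 2) * (l + 2) * (N * (l + 1)) := by ring
    rw [← this, hG]
    ring
  have h2 : N * (l + 1) = ob := Nat.eq_of_mul_eq_mul_left (by positivity) h1
  have hob : ob ≤ l + 2 := by omega
  have hob2 : 2 ≤ ob := by omega
  have hN1 : 1 ≤ N := by
    rcases Nat.eq_zero_or_pos N with h | h
    · rw [h, zero_mul] at h2
      omega
    · exact h
  have hN2 : N < 2 := by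
    by_contra hcon
    push Not at hcon
    have : 2 * (l + 1) ≤ N * (l + 1) := Nat.mul_le_mul_right _ hcon
    omega
  have hN : N = 1 := by omega
  subst hN
  constructor
  · omega
  · rfl

/-! ### the residual case: one element fixed point free, the other with exactly one fixed point -/

theorem resid6 (h6 : 6 ≤ Fintype.card Ω) (α β : Perm Ω) (hα : ∀ x, α x ≠ x)
    (hβ : fixc β = 1) :
    ∃ σ ∈ alternatingGroup Ω, 2 ≤ (univ.filter fun w => α w = (σ * β * σ⁻¹) w).card := by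
  obtain ⟨x₀, hx₀⟩ := Finset.card_eq_one.mp hβ
  have hfix : ∀ w, β w = w ↔ w = x₀ := by
    intro w
    have : w ∈ (univ.filter fun w => β w = w) ↔ w ∈ ({x₀} : Finset Ω) := by rw [hx₀]
    simpa using this
  have hne : Nonempty Ω := by
    apply Fintype.card_pos_iff.mp
    omega
  obtain ⟨p⟩ := hne
  -- choose q
  have hc1 : ({p, α p, α⁻¹ p} : Finset Ω).card < (univ : Finset Ω).card := by
    have := Finset.card_le_three (a := p) (b := α p) (c := α⁻¹ p)
    rw [Finset.card_univ]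
    omega
  obtain ⟨q, -, hq⟩ := Finset.exists_mem_notMem_of_card_lt_card hc1
  simp only [Finset.mem_insert, Finset.mem_singleton, not_or] at hq
  obtain ⟨hq1, hq2, hq3⟩ := hq
  -- choose v
  have hc2 : ({x₀} : Finset Ω).card < (univ : Finset Ω).card := by
    rw [Finset.card_univ, Finset.card_singleton]
    omega
  obtain ⟨v, -, hv⟩ := Finset.exists_mem_notMem_of_card_lt_card hc2
  rw [Finset.mem_singleton] at hv
  have hc3 : ({v, β v, β⁻¹ v, x₀} : Finset Ω).card < (univ : Finset Ω).card := by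
    have := Finset.card_le_four (a := v) (b := β v) (c := β⁻¹ v) (d := x₀)
    rw [Finset.card_univ]
    omega
  obtain ⟨w, -, hw⟩ := Finset.exists_mem_notMem_of_card_lt_card hc3
  simp only [Finset.mem_insert, Finset.mem_singleton, not_or] at hw
  obtain ⟨hw1, hw2, hw3, hw4⟩ := hw
  have hβv : β v ≠ v := fun e => hv ((hfix v).mp e)
  have hβw : β w ≠ w := fun e => hw4 ((hfix w).mp e)
  obtain ⟨σ, hσ, e1, e2, e3, e4⟩ := alt_trans4 h6
    (u1 := v) (u2 := β v) (u3 := w) (u4 := β w) (v1 := p) (v2 := α p) (v3 := q) (v4 := α q)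
    (Ne.symm hβv) (Ne.symm hw1) (fun e => hw3 (by rw [e]; simp))
    (Ne.symm hw2) (fun e => hw1 (β.injective e).symm) (Ne.symm hβw)
    (Ne.symm (hα p)) (Ne.symm hq1) (fun e => hq3 (by rw [e]; simp))
    (Ne.symm hq2) (fun e => hq1 (α.injective e).symm) (Ne.symm (hα q))
  refine ⟨σ, hσ, ?_⟩
  have hsub : ({p, q} : Finset Ω) ⊆ univ.filter fun w => α w = (σ * β * σ⁻¹) w := by
    intro z hz
    rw [Finset.mem_insert, Finset.mem_singleton] at hz
    rw [Finset.mem_filter]
    refine ⟨mem_univ _, ?_⟩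
    have hv' : σ⁻¹ p = v := by rw [Perm.inv_eq_iff_eq]; exact e1.symm
    have hw' : σ⁻¹ q = w := by rw [Perm.inv_eq_iff_eq]; exact e3.symm
    rcases hz with hz | hz
    · rw [hz, Perm.mul_apply, Perm.mul_apply, hv', e2]
    · rw [hz, Perm.mul_apply, Perm.mul_apply, hw', e4]
  have := Finset.card_le_card hsub
  rwa [Finset.card_pair (Ne.symm hq1)] at this

set_option maxRecDepth 1000000 in
set_option maxHeartbeats 4000000 in
theorem resid5_aux : ∀ α : Equiv.Perm (Fin 5), (∀ x, α x ≠ x) → ∀ β : Equiv.Perm (Fin 5),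
    (Finset.univ.filter (fun x => β x = x)).card = 1 →
    ∃ σ : Equiv.Perm (Fin 5), Equiv.Perm.sign σ = 1 ∧
      2 ≤ (Finset.univ.filter (fun w => α w = (σ * β * σ⁻¹) w)).card := by
  decide

theorem resid5 (α β : Perm (Fin 5)) (hα : ∀ x, α x ≠ x) (hβ : fixc β = 1) :
    ∃ σ ∈ alternatingGroup (Fin 5), 2 ≤ (univ.filter fun w => α w = (σ * β * σ⁻¹) w).card := by
  obtain ⟨σ, h1, h2⟩ := resid5_aux α hα β hβ
  exact ⟨σ, Equiv.Perm.mem_alternatingGroup.mpr h1, h2⟩

theorem resid (n : ℕ) (hn : 5 ≤ n) (α β : Perm (Fin n)) (hα : ∀ x, α x ≠ x)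
    (hβ : fixc β = 1) :
    ∃ σ ∈ alternatingGroup (Fin n),
      2 ≤ (univ.filter fun w => α w = (σ * β * σ⁻¹) w).card := by
  rcases Nat.eq_or_lt_of_le hn with h | h
  · subst h
    exact resid5 α β hα hβ
  · exact resid6 (by rw [Fintype.card_fin]; omega) α β hα hβ

theorem fpf_of_fixc_zero {a : Perm Ω} (h : fixc a = 0) : ∀ x, a x ≠ x := by
  intro x hx
  unfold fixc at h
  rw [Finset.card_eq_zero, Finset.filter_eq_empty_iff] at h
  exact h (mem_univ x) hx

theorem class_product_not_const (n : ℕ) (hn : 5 ≤ n) (a b : Perm (Fin n)) (ha : a ≠ 1)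
    (hb : b ≠ 1) :
    ∃ g₁ h₁ g₂ h₂ : Perm (Fin n), g₁ ∈ alternatingGroup (Fin n) ∧
      h₁ ∈ alternatingGroup (Fin n) ∧ g₂ ∈ alternatingGroup (Fin n) ∧
      h₂ ∈ alternatingGroup (Fin n) ∧
      fixc (g₁ * a * g₁⁻¹ * (h₁ * b * h₁⁻¹)) ≠ fixc (g₂ * a * g₂⁻¹ * (h₂ * b * h₂⁻¹)) := by
  by_contra hcon
  push Not at hcon
  have hcard : Fintype.card (Fin n) = n := Fintype.card_fin n
  obtain ⟨N, hN⟩ : ∃ N, N = fixc (a * b) := ⟨_, rfl⟩
  have hc : ∀ g ∈ alternatingGroup (Fin n), ∀ h ∈ alternatingGroup (Fin n),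
      fixc (g * a * g⁻¹ * (h * b * h⁻¹)) = N := by
    intro g hg h hh
    have := hcon g h 1 1 hg hh (one_mem _) (one_mem _)
    rw [this, hN]
    simp
  have hconst : ∀ h ∈ alternatingGroup (Fin n), fixc (a * (h⁻¹ * b * h)) = N := by
    intro h hh
    have := hc 1 (one_mem _) h⁻¹ (inv_mem hh)
    simpa using this
  have hG := avg_global (by omega) a b N hconst
  have e1 := oS_univ_inv a
  have e2 := oS_univ b
  rw [hcard] at hG e1 e2
  by_cases hfa : 0 < fixc a
  · by_cases hfb : 0 < fixc b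
    · -- both have fixed points
      obtain ⟨x, hx⟩ : ∃ x, a x ≠ x := by
        by_contra hcon2
        push Not at hcon2
        exact ha (Perm.ext hcon2)
      obtain ⟨y, hy⟩ : ∃ y, b y = y := by
        unfold fixc at hfb
        obtain ⟨y, hy⟩ := Finset.card_pos.mp hfb
        exact ⟨y, (Finset.mem_filter.mp hy).2⟩
      obtain ⟨k, hk, hky⟩ := alt_trans1 (Ω := Fin n) (by omega) y x
      have hb'x : (k * b * k⁻¹) x = x := by
        have : k⁻¹ x = y := by rw [Perm.inv_eq_iff_eq]; exact hky.symm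
        rw [Perm.mul_apply, Perm.mul_apply, this, hy, hky]
      have hb' : k * b * k⁻¹ ≠ 1 := by
        intro e
        apply hb
        have : b = k⁻¹ * (k * b * k⁻¹) * k := by group
        rw [this, e]
        group
      refine no_both_fixed (by omega) a (k * b * k⁻¹) ha hb' x hx hb'x hfa N ?_
      intro h hh
      have := hc 1 (one_mem _) (h⁻¹ * k) (mul_mem (inv_mem hh) hk)
      have e : a * (h⁻¹ * (k * b * k⁻¹) * h) = 1 * a * 1⁻¹ * (h⁻¹ * k * b * (h⁻¹ * k)⁻¹) := by
        group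
      rw [e]
      exact this
    · -- b is fixed point free
      have hfb0 : fixc b = 0 := by omega
      have hG' : N * (n * (n * n - n)) = fixc b * fixc a * (n * n - n) +
          oS univ b * oS univ a⁻¹ * n := by
        rw [hG]
        ring
      obtain ⟨h1, h2⟩ := arith_fpf n (fixc b) (fixc a) (oS univ b) (oS univ a⁻¹) N hn e2 e1 hG'
        hfb0 (by have := fixc_add_two_le ha; rwa [hcard] at this)
      obtain ⟨σ, hσ, h3⟩ := resid n hn b a⁻¹ (fpf_of_fixc_zero hfb0) (by rw [fixc_inv]; exact h1)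
      have h4 := hc σ hσ 1 (one_mem _)
      have h5 : fixc (σ * a * σ⁻¹ * (1 * b * 1⁻¹)) =
          (univ.filter fun w => b w = (σ * a⁻¹ * σ⁻¹) w).card := by
        unfold fixc
        congr 1
        ext w
        rw [Finset.mem_filter, Finset.mem_filter]
        simp only [mem_univ, true_and, Perm.mul_apply, inv_one, Perm.one_apply]
        constructor
        · intro e
          have e1 : σ⁻¹ w = a (σ⁻¹ (b w)) := by rw [Perm.inv_eq_iff_eq]; exact e.symm
          rw [e1]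
          simp
        · intro e
          rw [e]
          simp
      omega
  · -- a is fixed point free
    have hfa0 : fixc a = 0 := by omega
    obtain ⟨h1, h2⟩ := arith_fpf n (fixc a) (fixc b) (oS univ a⁻¹) (oS univ b) N hn e1 e2 hG
      hfa0 (by have := fixc_add_two_le hb; rwa [hcard] at this)
    obtain ⟨σ, hσ, h3⟩ := resid n hn a⁻¹ b
      (fpf_of_fixc_zero (by rw [fixc_inv]; exact hfa0)) h1
    have h4 := hc 1 (one_mem _) σ hσ
    have h5 : fixc (1 * a * 1⁻¹ * (σ * b * σ⁻¹)) =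
        (univ.filter fun w => a⁻¹ w = (σ * b * σ⁻¹) w).card := by
      unfold fixc
      congr 1
      ext w
      rw [Finset.mem_filter, Finset.mem_filter]
      simp only [mem_univ, true_and, Perm.mul_apply, inv_one, Perm.one_apply]
      constructor
      · intro e
        rw [Perm.inv_eq_iff_eq]
        exact e.symm
      · intro e
        rw [← e]
        simp
    omega

end CPA

end Cfsg.Agent.Lib.Helper20
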