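import Mathlib

set_option linter.style.haveILetI false
set_option linter.unusedVariables false

namespace Cfsg.Agent.Lib.Helper20

theorem dc_transfer_aux {H A : Type*} [Group H] [CommGroup A] (P : Subgroup H) [P.FiniteIndex]
    (φ : ↥P →* A) (z : H) (hzc : ∀ g : H, g * z = z * g) (hz2 : z * z = 1) (hzP : z ∈ P)
    (hφ : φ ⟨z, hzP⟩ ≠ 1) (hodd : Odd P.index) : MonoidHom.transfer φ z ≠ 1 := by
  have key : ∀ (k : ℕ) (g₀ : H), g₀⁻¹ * z ^ k * g₀ ∈ P → g₀⁻¹ * z ^ k * g₀ = z ^ k := by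
    intro k g₀ _
    have hc : Commute g₀ (z ^ k) := (show Commute g₀ z from hzc g₀).pow_right k
    rw [mul_assoc, ← hc.eq, inv_mul_cancel_left]
  rw [MonoidHom.transfer_eq_pow φ z key]
  have hpow : z ^ P.index = z := by
    obtain ⟨k, hk⟩ := hodd
    rw [hk, pow_succ, pow_mul, pow_two, hz2, one_pow, one_mul]
  have : (⟨z ^ P.index, MonoidHom.transfer_eq_pow_aux z key⟩ : P) = ⟨z, hzP⟩ := Subtype.ext hpow
  rw [this]
  exact hφ

open Classical in
/-- the sign homomorphism of an index-two subgroup -/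
noncomputable def dcSignHom {P : Type*} [Group P] (D : Subgroup P) (h : D.index = 2) : P →* ℤˣ :=
  MonoidHom.mk' (fun x => if x ∈ D then 1 else -1) (by
    intro a b
    have := Subgroup.mul_mem_iff_of_index_two h (a := a) (b := b)
    by_cases ha : a ∈ D <;> by_cases hb : b ∈ D <;> simp [ha, hb, this])

theorem dcSignHom_apply_of_not_mem {P : Type*} [Group P] (D : Subgroup P) (h : D.index = 2)
    {x : P} (hx : x ∉ D) : dcSignHom D h x = -1 := by
  unfold dcSignHom
  simp [hx]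

theorem dc_complement_of_sylow {H : Type*} [Group H] [Finite H] (z : H)
    (hzc : ∀ g : H, g * z = z * g) (hz2 : z * z = 1) (P D : Subgroup H)
    (hidx : D.relIndex P = 2) (hzP : z ∈ P) (hzD : z ∉ D) (hodd : Odd P.index) :
    ∃ K : Subgroup H, K.index = 2 ∧ z ∉ K := by
  have hidx' : (D.subgroupOf P).index = 2 := hidx
  obtain ⟨T, hT⟩ : ∃ T, T = MonoidHom.transfer (dcSignHom (D.subgroupOf P) hidx') := ⟨_, rfl⟩
  have hTz : T z ≠ 1 := by
    rw [hT]
    apply dc_transfer_aux P _ z hzc hz2 hzP _ hodd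
    rw [dcSignHom_apply_of_not_mem]
    · decide
    · rw [Subgroup.mem_subgroupOf]; exact hzD
  refine ⟨T.ker, ?_, fun h => hTz (MonoidHom.mem_ker.mp h)⟩
  rw [Subgroup.index_ker]
  have h1 : Nat.card ↥T.range ∣ Nat.card ℤˣ := Subgroup.card_subgroup_dvd_card _
  have h2 : Nat.card ℤˣ = 2 := by
    rw [Nat.card_eq_fintype_card]; rfl
  rw [h2] at h1
  have h3 : Nat.card ↥T.range ≠ 1 := by
    intro h
    rw [Subgroup.card_eq_one] at h
    have : T z ∈ T.range := ⟨z, rfl⟩
    rw [h, Subgroup.mem_bot] at this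
    exact hTz this
  rcases (Nat.dvd_prime Nat.prime_two).mp h1 with h | h
  · exact absurd h h3
  · exact h

end Cfsg.Agent.Lib.Helper20
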