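import Cfsg.Agent.Lib.Helper20.DCoverMain
import Cfsg.Agent.Lib.Helper20.DCoverTransfer

set_option linter.style.haveILetI false
set_option linter.unusedVariables false

namespace Cfsg.Agent.Lib.Helper20

variable {n : ℕ}

open DcAlg

theorem dc_four_anticomm {R : Type*} [Ring R] (A B C D : R) (e1 : C * A = -(A * C))
    (e2 : D * A = -(A * D)) (e3 : C * B = -(B * C)) (e4 : D * B = -(B * D))
    (e5 : B * A = -(A * B)) (e6 : D * C = -(C * D)) (q0 : A * A = -1) (q2 : B * B = -1)
    (q4 : C * C = -1) (q6 : D * D = -1) : A * B * (C * D) * (A * B * (C * D)) = 1 := by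
  calc A * B * (C * D) * (A * B * (C * D))
      = A * B * C * (D * A) * B * C * D := by noncomm_ring
    _ = -(A * B * (C * A) * D * B * C * D) := by rw [e2]; noncomm_ring
    _ = A * (B * A) * C * D * B * C * D := by rw [e1]; noncomm_ring
    _ = -(A * A * B * C * (D * B) * C * D) := by rw [e5]; noncomm_ring
    _ = A * A * B * (C * B) * D * C * D := by rw [e4]; noncomm_ring
    _ = -(A * A * (B * B) * C * (D * C) * D) := by rw [e3]; noncomm_ring
    _ = (A * A) * (B * B) * (C * C) * (D * D) := by rw [e6]; noncomm_ring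
    _ = 1 := by rw [q0, q2, q4, q6]; noncomm_ring

theorem dcPi_dcTT {i j k l : Fin n} (hij : i ≠ j) (hkl : k ≠ l) :
    ((dcPi n (dcTT hij hkl) : alternatingGroup (Fin n)) : Equiv.Perm (Fin n)) =
      Equiv.swap i j * Equiv.swap k l := by
  rw [dcPi_apply]
  apply dcPiFun_eq
  intro m
  rw [dcTT_val]
  exact dcTT_rel hij hkl m

theorem dcPi_ker_eq : (dcPi n).ker = Subgroup.zpowers (dcZ n) := by
  ext x
  rw [MonoidHom.mem_ker, dcPi_ker]
  constructor
  · rintro (h | h)
    · rw [h]; exact one_mem _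
    · rw [h]; exact Subgroup.mem_zpowers _
  · intro h
    have h2 : orderOf (dcZ n) = 2 := orderOf_eq_prime (by rw [pow_two]; exact dcZ_sq) dcZ_ne_one
    rw [Subgroup.mem_zpowers_iff] at h
    obtain ⟨k, hk⟩ := h
    have hk2 : x = dcZ n ^ (k % 2) := by
      rw [← hk]
      have := zpow_mod_orderOf (dcZ n) k
      rw [h2] at this
      exact_mod_cast this.symm
    rcases Int.emod_two_eq_zero_or_one k with h | h
    · left; rw [hk2, h, zpow_zero]
    · right; rw [hk2, h, zpow_one]

theorem dc_center_eq (hn : 4 ≤ n) : Subgroup.center (dcGamma n) = (dcPi n).ker := by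
  apply le_antisymm
  · intro c hc
    rw [MonoidHom.mem_ker]
    have h1 : dcPi n c ∈ Subgroup.center (alternatingGroup (Fin n)) := by
      rw [Subgroup.mem_center_iff]
      intro a
      obtain ⟨g, rfl⟩ := dcPi_surjective a
      rw [← map_mul, ← map_mul, Subgroup.mem_center_iff.mp hc g]
    rw [alternatingGroup.center_eq_bot (by rw [Nat.card_fin]; exact hn)] at h1
    exact Subgroup.mem_bot.mp h1
  · intro c hc
    rw [MonoidHom.mem_ker, dcPi_ker] at hc
    rw [Subgroup.mem_center_iff]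
    intro g
    rcases hc with h | h
    · rw [h, mul_one, one_mul]
    · rw [h]; exact (dcZ_central g).symm

theorem dc_no_complement (hn : 4 ≤ n) (L : Subgroup (dcGamma n)) :
    ¬ (Subgroup.center (dcGamma n)).IsComplement' L := by
  intro hL
  have hzc : dcZ n ∈ Subgroup.center (dcGamma n) := by
    rw [dc_center_eq hn, MonoidHom.mem_ker, dcPi_ker]; right; rfl
  have hcard : Nat.card (Subgroup.center (dcGamma n)) = 2 := by
    rw [dc_center_eq hn, dcPi_ker_eq, Nat.card_zpowers]
    exact orderOf_eq_prime (by rw [pow_two]; exact dcZ_sq) dcZ_ne_one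
  have hidx : L.index = 2 := by rw [hL.index_eq_card, hcard]
  have hzL : dcZ n ∈ L := by
    by_contra hzL
    have h1 := dcSignHom_apply_of_not_mem L hidx hzL
    have h2 : dcZ n ∈ (dcSignHom L hidx).ker :=
      Abelianization.commutator_subset_ker _ (dcZ_mem_commutator hn)
    rw [MonoidHom.mem_ker, h1] at h2
    revert h2; decide
  have := Subgroup.disjoint_def.mp hL.disjoint hzc hzL
  exact dcZ_ne_one this

theorem dc_A8_example : ∃ (H : Type) (_ : Group H) (_ : Finite H),
    (Nat.card (Subgroup.center H) = 2 ∧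
      Nonempty (H ⧸ Subgroup.center H ≃* alternatingGroup (Fin 8)) ∧
      ∀ L : Subgroup H, ¬ (Subgroup.center H).IsComplement' L) ∧
    ∃ x y : H, x ≠ y ∧ orderOf x = 2 ∧ orderOf y = 2 := by
  have hn : 4 ≤ 8 := by norm_num
  refine ⟨dcGamma 8, inferInstance, inferInstance, ⟨?_, ?_, dc_no_complement hn⟩, ?_⟩
  · rw [dc_center_eq hn, dcPi_ker_eq, Nat.card_zpowers]
    exact orderOf_eq_prime (by rw [pow_two]; exact dcZ_sq) dcZ_ne_one
  · exact ⟨(QuotientGroup.quotientMulEquivOfEq (dc_center_eq hn)).trans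
      (QuotientGroup.quotientKerEquivOfSurjective (dcPi 8) dcPi_surjective)⟩
  · have h01 : (0 : Fin 8) ≠ 1 := by decide
    have h23 : (2 : Fin 8) ≠ 3 := by decide
    have h45 : (4 : Fin 8) ≠ 5 := by decide
    have h67 : (6 : Fin 8) ≠ 7 := by decide
    obtain ⟨a, ha⟩ : ∃ a, a = dcTT h01 h23 := ⟨_, rfl⟩
    obtain ⟨b, hb⟩ : ∃ b, b = dcTT h45 h67 := ⟨_, rfl⟩
    have hπy : ((dcPi 8 (a * b) : alternatingGroup (Fin 8)) : Equiv.Perm (Fin 8)) =
        (Equiv.swap 0 1 * Equiv.swap 2 3) * (Equiv.swap 4 5 * Equiv.swap 6 7) := by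
      rw [map_mul, Subgroup.coe_mul, ha, hb, dcPi_dcTT, dcPi_dcTT]
    have hπne : dcPi 8 (a * b) ≠ 1 := by
      intro h
      rw [h] at hπy
      revert hπy
      simp only [Subgroup.coe_one]
      decide
    have hy1 : a * b ≠ 1 := fun h => hπne (by rw [h, map_one])
    have hyz : a * b ≠ dcZ 8 := fun h => hπne ((dcPi_ker _).mpr (Or.inr h))
    have hy2 : (a * b) * (a * b) = 1 := by
      apply Subtype.ext
      apply Units.ext
      simp only [Subgroup.coe_mul, Units.val_mul, ha, hb, dcTT_val, Subgroup.coe_one, Units.val_one]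
      have e1 : dcT (4 : Fin 8) 5 * dcT 0 1 = -(dcT 0 1 * dcT 4 5) :=
        dcT_anti (by decide) (by decide) (by decide) (by decide)
      have e2 : dcT (6 : Fin 8) 7 * dcT 0 1 = -(dcT 0 1 * dcT 6 7) :=
        dcT_anti (by decide) (by decide) (by decide) (by decide)
      have e3 : dcT (4 : Fin 8) 5 * dcT 2 3 = -(dcT 2 3 * dcT 4 5) :=
        dcT_anti (by decide) (by decide) (by decide) (by decide)
      have e4 : dcT (6 : Fin 8) 7 * dcT 2 3 = -(dcT 2 3 * dcT 6 7) :=
        dcT_anti (by decide) (by decide) (by decide) (by decide)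
      have e5 : dcT (2 : Fin 8) 3 * dcT 0 1 = -(dcT 0 1 * dcT 2 3) :=
        dcT_anti (by decide) (by decide) (by decide) (by decide)
      have e6 : dcT (6 : Fin 8) 7 * dcT 4 5 = -(dcT 4 5 * dcT 6 7) :=
        dcT_anti (by decide) (by decide) (by decide) (by decide)
      have q0 := dcT_sq h01
      have q2 := dcT_sq h23
      have q4 := dcT_sq h45
      have q6 := dcT_sq h67
      have hfin := dc_four_anticomm (dcT (0 : Fin 8) 1) (dcT 2 3) (dcT 4 5) (dcT 6 7) e1 e2 e3 e4 e5 e6 q0 q2 q4 q6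
      exact hfin
    refine ⟨dcZ 8, a * b, fun h => hyz h.symm, ?_, ?_⟩
    · exact orderOf_eq_prime (by rw [pow_two]; exact dcZ_sq) dcZ_ne_one
    · exact orderOf_eq_prime (by rw [pow_two]; exact hy2) hy1

end Cfsg.Agent.Lib.Helper20
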