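import Mathlib

set_option linter.style.haveILetI false
set_option linter.unusedVariables false

namespace Cfsg.Agent.Lib.Helper20

/-- index group of the Clifford basis -/
abbrev DcIdx (n : ℕ) := Fin n → ZMod 2

variable {n : ℕ}

/-- the sign form -/
def dcB (s t : DcIdx n) : ZMod 2 := ∑ i, ∑ j, if j < i then s i * t j else 0

/-- weight -/
def dcW (s : DcIdx n) : ZMod 2 := ∑ i, s i

/-- sign character -/
def dcK (a : ZMod 2) : ZMod 3 := if a = 0 then 1 else -1

theorem dcK_add (a b : ZMod 2) : dcK (a + b) = dcK a * dcK b := by revert a b; decide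
theorem dcK_zero : dcK 0 = 1 := by decide
theorem dcK_one : dcK 1 = -1 := by decide
theorem dcK_inj {a b : ZMod 2} : dcK a = dcK b → a = b := by revert a b; decide
theorem dcK_mul_self (a : ZMod 2) : dcK a * dcK a = 1 := by revert a; decide

theorem dcB_add_left (s s' t : DcIdx n) : dcB (s + s') t = dcB s t + dcB s' t := by
  unfold dcB
  rw [← Finset.sum_add_distrib]
  refine Finset.sum_congr rfl fun i _ => ?_
  rw [← Finset.sum_add_distrib]
  refine Finset.sum_congr rfl fun j _ => ?_
  split_ifs
  · simp [add_mul]
  · simp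

theorem dcB_add_right (s t t' : DcIdx n) : dcB s (t + t') = dcB s t + dcB s t' := by
  unfold dcB
  rw [← Finset.sum_add_distrib]
  refine Finset.sum_congr rfl fun i _ => ?_
  rw [← Finset.sum_add_distrib]
  refine Finset.sum_congr rfl fun j _ => ?_
  split_ifs
  · simp [mul_add]
  · simp

theorem dcB_zero_left (t : DcIdx n) : dcB 0 t = 0 := by
  unfold dcB; simp

theorem dcB_zero_right (s : DcIdx n) : dcB s 0 = 0 := by
  unfold dcB; simp

theorem dcW_add (s t : DcIdx n) : dcW (s + t) = dcW s + dcW t := by
  unfold dcW; simp [Finset.sum_add_distrib]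

theorem dcW_zero : dcW (0 : DcIdx n) = 0 := by
  unfold dcW; simp

theorem dcIdx_add_self (s : DcIdx n) : s + s = 0 := by
  funext i
  have : ∀ a : ZMod 2, a + a = 0 := by decide
  exact this (s i)

theorem dcIdx_neg (s : DcIdx n) : -s = s := by
  rw [neg_eq_iff_add_eq_zero]; exact dcIdx_add_self s

theorem dcIdx_sub (s t : DcIdx n) : s - t = s + t := by
  rw [sub_eq_add_neg, dcIdx_neg]

/-- the algebra -/
def DcAlg (n : ℕ) : Type := DcIdx n → ZMod 3

namespace DcAlg

instance : AddCommGroup (DcAlg n) := inferInstanceAs (AddCommGroup (DcIdx n → ZMod 3))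
instance : Finite (DcAlg n) := inferInstanceAs (Finite (DcIdx n → ZMod 3))

@[ext] theorem ext {x y : DcAlg n} (h : ∀ s, x s = y s) : x = y := funext h

theorem add_apply (x y : DcAlg n) (s : DcIdx n) : (x + y) s = x s + y s := rfl
theorem neg_apply (x : DcAlg n) (s : DcIdx n) : (-x) s = - x s := rfl
theorem sub_apply (x y : DcAlg n) (s : DcIdx n) : (x - y) s = x s - y s := rfl
theorem zero_apply (s : DcIdx n) : (0 : DcAlg n) s = 0 := rfl

instance : Mul (DcAlg n) :=
  ⟨fun x y u => ∑ s, x s * y (u - s) * dcK (dcB s (u - s))⟩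
instance : One (DcAlg n) := ⟨fun s => if s = 0 then 1 else 0⟩

theorem mul_apply (x y : DcAlg n) (u : DcIdx n) :
    (x * y) u = ∑ s, x s * y (u - s) * dcK (dcB s (u - s)) := rfl
theorem one_apply (s : DcIdx n) : (1 : DcAlg n) s = if s = 0 then 1 else 0 := rfl

theorem mul_assoc' (x y z : DcAlg n) : x * y * z = x * (y * z) := by
  ext w
  have hL : (x * y * z) w = ∑ s, ∑ t, x s * y t * z (w - s - t) *
      dcK (dcB s t + dcB s (w - s - t) + dcB t (w - s - t)) := by
    rw [mul_apply]
    simp only [mul_apply, Finset.sum_mul]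
    rw [Finset.sum_comm]
    refine Finset.sum_congr rfl fun s _ => ?_
    refine Eq.trans (Fintype.sum_equiv (Equiv.addLeft s) _ _ (fun t => rfl)).symm ?_
    refine Finset.sum_congr rfl fun t _ => ?_
    simp only [Equiv.coe_addLeft, add_sub_cancel_left, sub_add_eq_sub_sub, dcB_add_left, dcK_add]
    ring
  have hR : (x * (y * z)) w = ∑ s, ∑ t, x s * y t * z (w - s - t) *
      dcK (dcB s t + dcB s (w - s - t) + dcB t (w - s - t)) := by
    rw [mul_apply]
    simp only [mul_apply, Finset.mul_sum, Finset.sum_mul]
    refine Finset.sum_congr rfl fun s _ => ?_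
    refine Finset.sum_congr rfl fun t _ => ?_
    have h1 : w - s = t + (w - s - t) := by abel
    have h2 : dcB s (w - s) = dcB s t + dcB s (w - s - t) := by
      rw [← dcB_add_right, ← h1]
    rw [h2]
    simp only [dcK_add]
    ring
  rw [hL, hR]

theorem one_mul' (x : DcAlg n) : 1 * x = x := by
  ext u
  rw [mul_apply, Finset.sum_eq_single 0]
  · simp [one_apply, dcB_zero_left, dcK_zero]
  · intro s _ hs
    simp [one_apply, hs]
  · intro h; exact absurd (Finset.mem_univ _) h

theorem mul_one' (x : DcAlg n) : x * 1 = x := by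
  ext u
  rw [mul_apply, Finset.sum_eq_single u]
  · simp [one_apply, dcB_zero_right, dcK_zero]
  · intro s _ hs
    have : u - s ≠ 0 := fun h => hs (sub_eq_zero.mp h).symm
    simp [one_apply, this]
  · intro h; exact absurd (Finset.mem_univ _) h

instance : Ring (DcAlg n) :=
  { (inferInstance : AddCommGroup (DcAlg n)) with
    mul := (· * ·)
    one := 1
    left_distrib := by
      intro x y z; ext u
      simp only [mul_apply, add_apply, mul_add, add_mul, Finset.sum_add_distrib]
    right_distrib := by
      intro x y z; ext u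
      simp only [mul_apply, add_apply, mul_add, add_mul, Finset.sum_add_distrib]
    zero_mul := by
      intro x; ext u
      simp only [mul_apply, zero_apply, zero_mul, Finset.sum_const_zero]
    mul_zero := by
      intro x; ext u
      simp only [mul_apply, zero_apply, zero_mul, mul_zero, Finset.sum_const_zero]
    mul_assoc := mul_assoc'
    one_mul := one_mul'
    mul_one := mul_one' }

/-- basis element -/
def basis (s : DcIdx n) : DcAlg n := fun u => if u = s then 1 else 0

theorem basis_apply (s u : DcIdx n) : basis s u = if u = s then 1 else 0 := rfl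

theorem basis_mul_apply (s : DcIdx n) (x : DcAlg n) (u : DcIdx n) :
    (basis s * x) u = x (u - s) * dcK (dcB s (u - s)) := by
  rw [mul_apply, Finset.sum_eq_single s]
  · simp [basis_apply]
  · intro t _ ht
    simp [basis_apply, ht]
  · intro h; exact absurd (Finset.mem_univ _) h

theorem mul_basis_apply (s : DcIdx n) (x : DcAlg n) (u : DcIdx n) :
    (x * basis s) u = x (u - s) * dcK (dcB (u - s) s) := by
  rw [mul_apply, Finset.sum_eq_single (u - s)]
  · simp [basis_apply]
  · intro t _ ht
    have : u - t ≠ s := fun h => ht (by rw [← h]; abel)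
    simp [basis_apply, this]
  · intro h; exact absurd (Finset.mem_univ _) h

theorem neg_one_apply (s : DcIdx n) : (-1 : DcAlg n) s = if s = 0 then -1 else 0 := by
  rw [neg_apply, one_apply]; split_ifs <;> simp

theorem one_ne_neg_one : (1 : DcAlg n) ≠ -1 := by
  intro h
  have := congrFun h 0
  rw [neg_one_apply, one_apply] at this
  simp at this
  revert this; decide

end DcAlg

end Cfsg.Agent.Lib.Helper20
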