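import Mathlib

set_option linter.style.haveILetI false
set_option linter.unusedVariables false

namespace Cfsg.Agent.Lib.Helper20

theorem dc_invol_cycleType {n : ℕ} (hn : n ≤ 7) (τ : Equiv.Perm (Fin n)) (hτ : orderOf τ = 2)
    (hs : Equiv.Perm.sign τ = 1) : τ.cycleType = Multiset.replicate 2 2 := by
  obtain ⟨k, hk⟩ := Equiv.Perm.cycleType_prime_order (σ := τ) (by rw [hτ]; exact Nat.prime_two)
  rw [hτ] at hk
  have h1 := Equiv.Perm.sum_cycleType_le τ
  rw [hk, Multiset.sum_replicate, Fintype.card_fin, smul_eq_mul] at h1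
  have h2 := Equiv.Perm.sign_of_cycleType τ
  rw [hk, Multiset.sum_replicate, Multiset.card_replicate, hs, smul_eq_mul] at h2
  have hk2 : k ≤ 2 := by omega
  interval_cases k
  · exfalso; revert h2; decide
  · exact hk
  · exfalso; revert h2; decide

theorem dc_swap_comm {α : Type*} [DecidableEq α] (τ : Equiv.Perm α) (hτ : τ * τ = 1) (x : α) :
    Equiv.swap x (τ x) * τ = τ * Equiv.swap x (τ x) := by
  have hττ : ∀ p, τ (τ p) = p := fun p => by
    have := congrArg (fun f : Equiv.Perm α => f p) hτ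
    simpa using this
  ext p
  simp only [Equiv.Perm.mul_apply]
  by_cases h1 : p = x
  · subst h1
    rw [Equiv.swap_apply_right, Equiv.swap_apply_left, hττ]
  · by_cases h2 : p = τ x
    · subst h2
      rw [hττ, Equiv.swap_apply_left, Equiv.swap_apply_right]
    · have h3 : τ p ≠ x := fun h => h2 (by rw [← h, hττ])
      have h4 : τ p ≠ τ x := fun h => h1 (τ.injective h)
      rw [Equiv.swap_apply_of_ne_of_ne h3 h4, Equiv.swap_apply_of_ne_of_ne h1 h2]

theorem dc_invol_conj {n : ℕ} (hn : n ≤ 7) (τ1 τ2 : alternatingGroup (Fin n))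
    (h1 : orderOf τ1 = 2) (h2 : orderOf τ2 = 2) :
    ∃ g : alternatingGroup (Fin n), g * τ1 * g⁻¹ = τ2 := by
  have h1' : orderOf (τ1 : Equiv.Perm (Fin n)) = 2 := by rw [Subgroup.orderOf_coe]; exact h1
  have h2' : orderOf (τ2 : Equiv.Perm (Fin n)) = 2 := by rw [Subgroup.orderOf_coe]; exact h2
  have c1 := dc_invol_cycleType hn _ h1' (Equiv.Perm.mem_alternatingGroup.mp τ1.2)
  have c2 := dc_invol_cycleType hn _ h2' (Equiv.Perm.mem_alternatingGroup.mp τ2.2)
  have hconj : IsConj (τ1 : Equiv.Perm (Fin n)) (τ2 : Equiv.Perm (Fin n)) := by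
    rw [Equiv.Perm.isConj_iff_cycleType_eq, c1, c2]
  rw [isConj_iff] at hconj
  obtain ⟨σ, hσ⟩ := hconj
  by_cases hsg : Equiv.Perm.sign σ = 1
  · refine ⟨⟨σ, Equiv.Perm.mem_alternatingGroup.mpr hsg⟩, ?_⟩
    apply Subtype.ext
    simpa using hσ
  · have hsg' : Equiv.Perm.sign σ = -1 := (Int.units_eq_one_or _).resolve_left hsg
    have hne : (τ2 : Equiv.Perm (Fin n)) ≠ 1 := by
      intro h
      rw [h, orderOf_one] at h2'
      omega
    obtain ⟨x, hx⟩ : ∃ x, (τ2 : Equiv.Perm (Fin n)) x ≠ x := by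
      by_contra hcon
      push Not at hcon
      exact hne (Equiv.ext hcon)
    have hτ2 : (τ2 : Equiv.Perm (Fin n)) * (τ2 : Equiv.Perm (Fin n)) = 1 := by
      rw [← pow_two, ← h2', pow_orderOf_eq_one]
    have hcomm := dc_swap_comm _ hτ2 x
    obtain ⟨s, hs⟩ : ∃ s, s = Equiv.swap x ((τ2 : Equiv.Perm (Fin n)) x) := ⟨_, rfl⟩
    rw [← hs] at hcomm
    have hssign : Equiv.Perm.sign s = -1 := by rw [hs]; exact Equiv.Perm.sign_swap hx.symm
    refine ⟨⟨s * σ, Equiv.Perm.mem_alternatingGroup.mpr (by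
      rw [Equiv.Perm.sign_mul, hssign, hsg']; decide)⟩, ?_⟩
    apply Subtype.ext
    simp only [Subgroup.coe_mul, Subgroup.coe_inv, mul_inv_rev]
    calc s * σ * ↑τ1 * (σ⁻¹ * s⁻¹) = s * (σ * ↑τ1 * σ⁻¹) * s⁻¹ := by group
      _ = s * ↑τ2 * s⁻¹ := by rw [hσ]
      _ = ↑τ2 := by rw [hcomm, mul_inv_cancel_right]

/-- all lifts of involutions are involutions once one non-central involution exists -/
theorem dc_lifts_invol {n : ℕ} (hn : n ≤ 7) {H : Type*} [Group H]
    (π : H →* alternatingGroup (Fin n)) (hπ : Function.Surjective π) (z : H)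
    (hz2 : z * z = 1) (hker : ∀ h, π h = 1 ↔ h = 1 ∨ h = z) (hzc : ∀ g : H, g * z = z * g)
    (t : H) (ht2 : t * t = 1) (ht1 : t ≠ 1) (htz : t ≠ z) (h : H) (hh : orderOf (π h) = 2) :
    h * h = 1 := by
  have hπt : orderOf (π t) = 2 := by
    apply orderOf_eq_prime
    · rw [pow_two, ← map_mul, ht2, map_one]
    · intro h1
      rcases (hker t).mp h1 with h | h
      · exact ht1 h
      · exact htz h
  obtain ⟨g, hg⟩ := dc_invol_conj hn _ _ hπt hh
  obtain ⟨g', rfl⟩ := hπ g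
  have h1 : π (h⁻¹ * (g' * t * g'⁻¹)) = 1 := by
    rw [map_mul, map_inv, map_mul, map_mul, map_inv, hg, inv_mul_cancel]
  have hy2 : (g' * t * g'⁻¹) * (g' * t * g'⁻¹) = 1 := by
    calc (g' * t * g'⁻¹) * (g' * t * g'⁻¹) = g' * (t * t) * g'⁻¹ := by group
      _ = 1 := by rw [ht2, mul_one, mul_inv_cancel]
  rcases (hker _).mp h1 with h2 | h2
  · have : h = g' * t * g'⁻¹ := by
      rw [inv_mul_eq_one] at h2; exact h2
    rw [this]; exact hy2
  · have : g' * t * g'⁻¹ = h * z := by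
      rw [inv_mul_eq_iff_eq_mul] at h2; exact h2
    have h3 : h = (g' * t * g'⁻¹) * z := by
      rw [this, mul_assoc, hz2, mul_one]
    rw [h3]
    obtain ⟨y, hy⟩ : ∃ y, y = g' * t * g'⁻¹ := ⟨_, rfl⟩
    rw [← hy] at hy2 ⊢
    calc y * z * (y * z) = y * (z * y) * z := by group
      _ = y * (y * z) * z := by rw [← hzc y]
      _ = (y * y) * (z * z) := by group
      _ = 1 := by rw [hy2, hz2, one_mul]

end Cfsg.Agent.Lib.Helper20
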