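import Cfsg.Agent.Lib.Helper20.DCoverAlg

set_option linter.style.haveILetI false
set_option linter.unusedVariables false
set_option linter.unusedSimpArgs false

namespace Cfsg.Agent.Lib.Helper20

variable {n : ℕ}

namespace DcAlg

/-- the sign elements ±1 -/
def sgn (a : ZMod 2) : DcAlg n := if a = 0 then 1 else -1

theorem sgn_zero : (sgn 0 : DcAlg n) = 1 := by simp [sgn]
theorem sgn_one : (sgn 1 : DcAlg n) = -1 := by
  have : (1 : ZMod 2) ≠ 0 := by decide
  simp [sgn, this]
theorem sgn_cases (a : ZMod 2) : (sgn a : DcAlg n) = 1 ∨ (sgn a : DcAlg n) = -1 := by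
  unfold sgn; split_ifs <;> simp
theorem sgn_add (a b : ZMod 2) : (sgn (a + b) : DcAlg n) = sgn a * sgn b := by
  have h : ∀ a b : ZMod 2, (a = 0 ∧ b = 0 ∧ a + b = 0) ∨ (a = 0 ∧ b ≠ 0 ∧ a + b ≠ 0) ∨
      (a ≠ 0 ∧ b = 0 ∧ a + b ≠ 0) ∨ (a ≠ 0 ∧ b ≠ 0 ∧ a + b = 0) := by decide
  rcases h a b with ⟨h1, h2, h3⟩ | ⟨h1, h2, h3⟩ | ⟨h1, h2, h3⟩ | ⟨h1, h2, h3⟩ <;>
    simp [sgn, h1, h2, h3]
theorem sgn_comm (a : ZMod 2) (x : DcAlg n) : sgn a * x = x * sgn a := by
  rcases sgn_cases (n := n) a with h | h <;> rw [h] <;> simp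
theorem sgn_mul_apply (a : ZMod 2) (x : DcAlg n) (u : DcIdx n) :
    (sgn a * x : DcAlg n) u = dcK a * x u := by
  unfold sgn dcK
  split_ifs
  · simp
  · simp [neg_apply]

theorem basis_zero : (basis 0 : DcAlg n) = 1 := rfl

theorem basis_mul_basis (s t : DcIdx n) :
    basis s * basis t = sgn (dcB s t) * basis (s + t) := by
  ext u
  rw [basis_mul_apply, sgn_mul_apply, basis_apply, basis_apply]
  by_cases h : u = s + t
  · have h1 : u - s = t := by rw [h]; abel
    simp [h1, h, mul_comm]
  · have h1 : u - s ≠ t := fun h' => h (by rw [← h']; abel)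
    simp [h1, h]

theorem basis_injective : Function.Injective (basis : DcIdx n → DcAlg n) := by
  intro s t h
  have := congrFun h s
  rw [basis_apply, basis_apply] at this
  by_contra hne
  simp [hne] at this

/-- parity predicate -/
def Par (ε : ZMod 2) (x : DcAlg n) : Prop := ∀ s, x s ≠ 0 → dcW s = ε

theorem Par.mul {ε δ : ZMod 2} {x y : DcAlg n} (hx : Par ε x) (hy : Par δ y) :
    Par (ε + δ) (x * y) := by
  intro u hu
  rw [mul_apply] at hu
  obtain ⟨s, _, hs⟩ := Finset.exists_ne_zero_of_sum_ne_zero hu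
  have h1 : x s ≠ 0 := fun h => hs (by rw [h]; simp)
  have h2 : y (u - s) ≠ 0 := fun h => hs (by rw [h]; simp)
  have : u = s + (u - s) := by abel
  rw [this, dcW_add, hx s h1, hy _ h2]

theorem Par.neg {ε : ZMod 2} {x : DcAlg n} (hx : Par ε x) : Par ε (-x) := by
  intro s hs
  apply hx s
  intro h; apply hs; rw [neg_apply, h, neg_zero]

theorem Par.add {ε : ZMod 2} {x y : DcAlg n} (hx : Par ε x) (hy : Par ε y) :
    Par ε (x + y) := by
  intro s hs
  by_cases h : x s = 0
  · apply hy s
    intro h'; apply hs; rw [add_apply, h, h', add_zero]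
  · exact hx s h

theorem Par.sub {ε : ZMod 2} {x y : DcAlg n} (hx : Par ε x) (hy : Par ε y) :
    Par ε (x - y) := by
  rw [sub_eq_add_neg]; exact hx.add hy.neg

theorem Par.one : Par 0 (1 : DcAlg n) := by
  intro s hs
  rw [one_apply] at hs
  by_cases h : s = 0
  · rw [h, dcW_zero]
  · simp [h] at hs

theorem Par.basis (s : DcIdx n) : Par (dcW s) (basis s) := by
  intro u hu
  rw [basis_apply] at hu
  by_cases h : u = s
  · rw [h]
  · simp [h] at hu

theorem Par.pow {x : DcAlg n} (hx : Par 0 x) (k : ℕ) : Par 0 (x ^ k) := by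
  induction k with
  | zero => rw [pow_zero]; exact Par.one
  | succ k ih => rw [pow_succ]; have := ih.mul hx; rwa [add_zero] at this

theorem three_eq_zero : (1 + 1 + 1 : DcAlg n) = 0 := by
  ext u
  simp only [add_apply, one_apply, zero_apply]
  split_ifs
  · decide
  · simp

theorem two_eq_neg_one : (1 + 1 : DcAlg n) = -1 := by
  rw [eq_neg_iff_add_eq_zero]; exact three_eq_zero

end DcAlg

open DcAlg

/-- generators -/
def dcE (i : Fin n) : DcAlg n := DcAlg.basis (Pi.single i 1)

theorem dcB_single_single (i j : Fin n) :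
    dcB (Pi.single i 1 : DcIdx n) (Pi.single j 1) = if j < i then 1 else 0 := by
  unfold dcB
  rw [Finset.sum_eq_single i]
  · rw [Finset.sum_eq_single j]
    · simp
    · intro b _ hb
      simp [Pi.single_apply, hb]
    · intro h; exact absurd (Finset.mem_univ _) h
  · intro a _ ha
    apply Finset.sum_eq_zero
    intro b _
    simp [Pi.single_apply, ha]
  · intro h; exact absurd (Finset.mem_univ _) h

theorem dcE_sq (i : Fin n) : dcE i * dcE i = 1 := by
  unfold dcE
  rw [basis_mul_basis, dcB_single_single, dcIdx_add_self, basis_zero]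
  simp [sgn_zero]

theorem dcE_anti {i j : Fin n} (h : i ≠ j) : dcE i * dcE j = -(dcE j * dcE i) := by
  unfold dcE
  rw [basis_mul_basis, basis_mul_basis, dcB_single_single, dcB_single_single,
    add_comm (Pi.single j 1 : DcIdx n)]
  rcases lt_or_gt_of_ne h with h1 | h1
  · have h2 : ¬ j < i := not_lt.mpr h1.le
    simp [h1, h2, sgn_zero, sgn_one]
  · have h2 : ¬ i < j := not_lt.mpr h1.le
    simp [h1, h2, sgn_zero, sgn_one]

theorem dcE_injective : Function.Injective (dcE : Fin n → DcAlg n) := by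
  intro i j h
  have h1 := basis_injective h
  have h2 := congrFun h1 i
  rw [Pi.single_eq_same, Pi.single_apply] at h2
  by_contra hne
  rw [if_neg hne] at h2
  revert h2; decide

theorem dcW_single (i : Fin n) : dcW (Pi.single i 1 : DcIdx n) = 1 := by
  unfold dcW
  rw [Finset.sum_eq_single i]
  · simp
  · intro b _ hb; simp [Pi.single_apply, hb]
  · intro h; exact absurd (Finset.mem_univ _) h

theorem dcE_par (i : Fin n) : Par 1 (dcE i) := by
  have := Par.basis (Pi.single i 1 : DcIdx n)
  rwa [dcW_single] at this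

end Cfsg.Agent.Lib.Helper20
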