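import Cfsg.Agent.Lib.Helper20.DCoverLift

set_option linter.style.haveILetI false
set_option linter.unusedVariables false
set_option linter.unusedSimpArgs false

namespace Cfsg.Agent.Lib.Helper20

variable {n : ℕ}

open DcAlg

/-- the double cover as a subgroup of the unit group -/
def dcGamma (n : ℕ) : Subgroup (DcAlg n)ˣ where
  carrier := {x | Par 0 (x : DcAlg n) ∧ ∃ σ : Equiv.Perm (Fin n),
    σ ∈ alternatingGroup (Fin n) ∧ ∀ i, (x : DcAlg n) * dcE i = dcE (σ i) * (x : DcAlg n)}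
  mul_mem' := by
    rintro x y ⟨hx, σ, hσ, hxσ⟩ ⟨hy, τ, hτ, hyτ⟩
    refine ⟨by simpa using hx.mul hy, σ * τ, mul_mem hσ hτ, ?_⟩
    intro i
    rw [Units.val_mul, mul_assoc, hyτ, ← mul_assoc, hxσ, mul_assoc, Equiv.Perm.mul_apply]
  one_mem' := by
    refine ⟨by simpa using Par.one, 1, one_mem _, ?_⟩
    intro i; simp
  inv_mem' := by
    rintro x ⟨hx, σ, hσ, hxσ⟩
    refine ⟨?_, σ⁻¹, inv_mem hσ, ?_⟩
    · obtain ⟨k, hk⟩ : ∃ k : ℕ, x⁻¹ = x ^ k := by
        have hpos := orderOf_pos x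
        refine ⟨orderOf x - 1, inv_eq_of_mul_eq_one_right ?_⟩
        rw [← pow_succ', Nat.sub_add_cancel hpos, pow_orderOf_eq_one]
      rw [hk, Units.val_pow_eq_pow_val]
      exact hx.pow k
    · intro i
      have h := hxσ (σ⁻¹ i)
      have hσi : σ (σ⁻¹ i) = i := by simp
      rw [hσi] at h
      have : ((x⁻¹ : (DcAlg n)ˣ) : DcAlg n) * (dcE i * (x : DcAlg n)) * ((x⁻¹ : (DcAlg n)ˣ) : DcAlg n) =
          ((x⁻¹ : (DcAlg n)ˣ) : DcAlg n) * ((x : DcAlg n) * dcE (σ⁻¹ i)) *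
            ((x⁻¹ : (DcAlg n)ˣ) : DcAlg n) := by rw [h]
      rw [← mul_assoc, ← mul_assoc, mul_assoc _ _ ((x⁻¹ : (DcAlg n)ˣ) : DcAlg n), Units.mul_inv,
        mul_one, Units.inv_mul, one_mul] at this
      exact this

theorem dcGamma_unique {x : (DcAlg n)ˣ} {σ τ : Equiv.Perm (Fin n)}
    (hσ : ∀ i, (x : DcAlg n) * dcE i = dcE (σ i) * (x : DcAlg n))
    (hτ : ∀ i, (x : DcAlg n) * dcE i = dcE (τ i) * (x : DcAlg n)) : σ = τ := by
  ext i
  have h := (hσ i).symm.trans (hτ i)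
  have h2 : dcE (σ i) = dcE (τ i) := by
    have := congrArg (· * ((x⁻¹ : (DcAlg n)ˣ) : DcAlg n)) h
    simpa [mul_assoc] using this
  rw [dcE_injective h2]

/-- the covering map (as a function) -/
noncomputable def dcPiFun (x : dcGamma n) : alternatingGroup (Fin n) :=
  ⟨Classical.choose x.2.2, (Classical.choose_spec x.2.2).1⟩

theorem dcPiFun_spec (x : dcGamma n) (i : Fin n) :
    ((x : (DcAlg n)ˣ) : DcAlg n) * dcE i =
      dcE ((dcPiFun x : Equiv.Perm (Fin n)) i) * ((x : (DcAlg n)ˣ) : DcAlg n) :=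
  (Classical.choose_spec x.2.2).2 i

theorem dcPiFun_eq (x : dcGamma n) (σ : Equiv.Perm (Fin n))
    (hσ : ∀ i, ((x : (DcAlg n)ˣ) : DcAlg n) * dcE i = dcE (σ i) * ((x : (DcAlg n)ˣ) : DcAlg n)) :
    (dcPiFun x : Equiv.Perm (Fin n)) = σ :=
  dcGamma_unique (dcPiFun_spec x) hσ

/-- the covering map -/
noncomputable def dcPi (n : ℕ) : dcGamma n →* alternatingGroup (Fin n) :=
  MonoidHom.mk' dcPiFun (by
    intro x y
    apply Subtype.ext
    rw [Subgroup.coe_mul]
    apply dcPiFun_eq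
    intro i
    rw [Subgroup.coe_mul, Units.val_mul, mul_assoc, dcPiFun_spec y, ← mul_assoc, dcPiFun_spec x,
      mul_assoc, Equiv.Perm.mul_apply])

theorem dcPi_apply (x : dcGamma n) : dcPi n x = dcPiFun x := rfl

theorem dcPi_surjective : Function.Surjective (dcPi n) := by
  intro σ
  obtain ⟨x, ε, h1, h2, h3⟩ := dc_lift (σ : Equiv.Perm (Fin n))
  have hs : Equiv.Perm.sign (σ : Equiv.Perm (Fin n)) = 1 := Equiv.Perm.mem_alternatingGroup.mp σ.2
  have hε : ε = 0 := by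
    by_contra hne
    rw [hs, if_neg hne] at h1
    revert h1; decide
  subst hε
  have h3' : ∀ k, (x : DcAlg n) * dcE k = dcE ((σ : Equiv.Perm (Fin n)) k) * (x : DcAlg n) := by
    intro k; rw [h3 k, sgn_zero, one_mul]
  refine ⟨⟨x, h2, σ, σ.2, h3'⟩, ?_⟩
  apply Subtype.ext
  rw [dcPi_apply]
  exact dcPiFun_eq _ _ h3'

/-- the central involution -/
def dcZ (n : ℕ) : dcGamma n :=
  ⟨-1, by
    refine ⟨by simpa using (Par.one (n := n)).neg, 1, one_mem _, ?_⟩
    intro i; simp⟩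

theorem dcZ_val : (((dcZ n : dcGamma n) : (DcAlg n)ˣ) : DcAlg n) = -1 := by
  simp [dcZ]

theorem dcZ_ne_one : dcZ n ≠ 1 := by
  intro h
  have h1 := congrArg (fun x : dcGamma n => ((x : (DcAlg n)ˣ) : DcAlg n)) h
  simp only [dcZ_val] at h1
  exact one_ne_neg_one (by simpa using h1.symm)

theorem dcZ_sq : dcZ n * dcZ n = 1 := by
  apply Subtype.ext
  apply Units.ext
  simp [dcZ]

theorem dcZ_central (x : dcGamma n) : dcZ n * x = x * dcZ n := by
  apply Subtype.ext
  apply Units.ext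
  simp [dcZ]

theorem dcPi_ker (x : dcGamma n) : dcPi n x = 1 ↔ x = 1 ∨ x = dcZ n := by
  constructor
  · intro h
    have h1 : ∀ i, dcE i * ((x : (DcAlg n)ˣ) : DcAlg n) = ((x : (DcAlg n)ˣ) : DcAlg n) * dcE i := by
      intro i
      have := dcPiFun_spec x i
      rw [← dcPi_apply, h] at this
      simpa using this.symm
    have h2 : ((x : (DcAlg n)ˣ) : DcAlg n) ≠ 0 := by
      intro h0
      have := (x : (DcAlg n)ˣ).mul_inv
      rw [h0, zero_mul] at this
      have h3 := congrFun this 0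
      rw [zero_apply, one_apply] at h3
      simp at h3
    rcases dc_central_even_eq x.2.1 h1 h2 with h3 | h3
    · left
      apply Subtype.ext; apply Units.ext; simpa using h3
    · right
      apply Subtype.ext; apply Units.ext; rw [dcZ_val]; exact h3
  · rintro (h | h)
    · rw [h, map_one]
    · rw [h]
      apply Subtype.ext
      rw [dcPi_apply]
      apply dcPiFun_eq
      intro i
      rw [dcZ_val]; simp

end Cfsg.Agent.Lib.Helper20
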