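import Cfsg.Agent.Lib.Helper20.DCoverAlg
import Cfsg.Agent.Lib.Helper20.DCoverGen

set_option linter.style.haveILetI false
set_option linter.unusedVariables false
set_option linter.unusedSimpArgs false

namespace Cfsg.Agent.Lib.Helper20

variable {n : ℕ}

open DcAlg

theorem dcB_single_left (i : Fin n) (s : DcIdx n) :
    dcB (Pi.single i 1 : DcIdx n) s = ∑ b, if b < i then s b else 0 := by
  unfold dcB
  rw [Finset.sum_eq_single i]
  · simp
  · intro a _ ha
    apply Finset.sum_eq_zero
    intro b _
    simp [Pi.single_apply, ha]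
  · intro h; exact absurd (Finset.mem_univ _) h

theorem dcB_single_right (i : Fin n) (s : DcIdx n) :
    dcB s (Pi.single i 1 : DcIdx n) = ∑ a, if i < a then s a else 0 := by
  unfold dcB
  refine Finset.sum_congr rfl fun a _ => ?_
  rw [Finset.sum_eq_single i]
  · simp
  · intro b _ hb
    simp [Pi.single_apply, hb]
  · intro h; exact absurd (Finset.mem_univ _) h

theorem dcB_single_symm (i : Fin n) (s : DcIdx n) :
    dcB (Pi.single i 1 : DcIdx n) s + dcB s (Pi.single i 1 : DcIdx n) + s i = dcW s := by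
  rw [dcB_single_left, dcB_single_right]
  have h3 : s i = ∑ b, if b = i then s b else 0 := by
    rw [Finset.sum_ite_eq' Finset.univ i s]; simp
  rw [h3, ← Finset.sum_add_distrib, ← Finset.sum_add_distrib]
  unfold dcW
  refine Finset.sum_congr rfl fun b _ => ?_
  rcases lt_trichotomy b i with h | h | h
  · have h1 : ¬ i < b := not_lt.mpr h.le
    have h2 : b ≠ i := ne_of_lt h
    simp [h, h1, h2]
  · subst h
    simp
  · have h1 : ¬ b < i := not_lt.mpr h.le
    have h2 : b ≠ i := ne_of_gt h
    simp [h, h1, h2]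

/-- the key kernel lemma -/
theorem dc_central_even {x : DcAlg n} (hpar : Par 0 x)
    (hc : ∀ i, dcE i * x = x * dcE i) (s : DcIdx n) (hs : s ≠ 0) : x s = 0 := by
  by_contra hx
  apply hs
  funext i
  have h1 := congrFun (hc i) (s + Pi.single i 1)
  unfold dcE at h1
  rw [basis_mul_apply, mul_basis_apply] at h1
  have h2 : s + Pi.single i 1 - Pi.single i 1 = s := by abel
  rw [h2] at h1
  have h3 : dcK (dcB (Pi.single i 1) s) = dcK (dcB s (Pi.single i 1)) :=
    mul_left_cancel₀ hx h1
  have h4 := dcK_inj h3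
  have h5 := dcB_single_symm i s
  rw [hpar s hx, h4] at h5
  have : ∀ a b : ZMod 2, a + a + b = 0 → b = 0 := by decide
  exact this _ _ h5

theorem dc_central_even_eq {x : DcAlg n} (hpar : Par 0 x)
    (hc : ∀ i, dcE i * x = x * dcE i) (hx : x ≠ 0) : x = 1 ∨ x = -1 := by
  have h0 : x 0 ≠ 0 := by
    intro h0
    apply hx
    ext s
    by_cases hs : s = 0
    · rw [hs, h0]; rfl
    · rw [dc_central_even hpar hc s hs]; rfl
  have h1 : ∀ a : ZMod 3, a ≠ 0 → a = 1 ∨ a = -1 := by decide
  rcases h1 _ h0 with h | h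
  · left
    ext s
    rw [one_apply]
    by_cases hs : s = 0
    · rw [hs, h]; simp
    · rw [dc_central_even hpar hc s hs]; simp [hs]
  · right
    ext s
    rw [neg_one_apply]
    by_cases hs : s = 0
    · rw [hs, h]; simp
    · rw [dc_central_even hpar hc s hs]; simp [hs]

end Cfsg.Agent.Lib.Helper20
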