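import Cfsg.Agent.Lib.Helper20.DCoverKer

set_option linter.style.haveILetI false
set_option linter.unusedVariables false
set_option linter.unusedSimpArgs false

namespace Cfsg.Agent.Lib.Helper20

variable {n : ℕ}

open DcAlg

/-- the vector `e_i - e_j` -/
def dcT (i j : Fin n) : DcAlg n := dcE i - dcE j

theorem dcT_sq {i j : Fin n} (h : i ≠ j) : dcT i j * dcT i j = -1 := by
  unfold dcT
  have h1 := dcE_anti h
  have h2 := dcE_sq i
  have h3 := dcE_sq j
  have : (dcE i - dcE j) * (dcE i - dcE j) =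
      dcE i * dcE i - dcE i * dcE j - dcE j * dcE i + dcE j * dcE j := by noncomm_ring
  rw [this, h1, h2, h3, ← two_eq_neg_one]
  noncomm_ring

theorem dcT_par (i j : Fin n) : Par 1 (dcT i j) := (dcE_par i).sub (dcE_par j)

/-- conjugation by `e_i - e_j` -/
theorem dcT_mul_dcE {i j : Fin n} (h : i ≠ j) (k : Fin n) :
    dcT i j * dcE k = -(dcE (Equiv.swap i j k) * dcT i j) := by
  unfold dcT
  by_cases hki : k = i
  · subst hki
    rw [Equiv.swap_apply_left]
    have h1 := dcE_sq k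
    have h3 := dcE_sq j
    have e1 : (dcE k - dcE j) * dcE k = dcE k * dcE k - dcE j * dcE k := by noncomm_ring
    have e2 : -(dcE j * (dcE k - dcE j)) = dcE j * dcE j - dcE j * dcE k := by noncomm_ring
    rw [e1, e2, h1, h3]
  · by_cases hkj : k = j
    · subst hkj
      rw [Equiv.swap_apply_right]
      have h1 := dcE_sq k
      have h3 := dcE_sq i
      have e1 : (dcE i - dcE k) * dcE k = dcE i * dcE k - dcE k * dcE k := by noncomm_ring
      have e2 : -(dcE i * (dcE i - dcE k)) = dcE i * dcE k - dcE i * dcE i := by noncomm_ring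
      rw [e1, e2, h1, h3]
    · rw [Equiv.swap_apply_of_ne_of_ne hki hkj]
      have h1 := dcE_anti (Ne.symm hki)
      have h2 := dcE_anti (Ne.symm hkj)
      have e1 : (dcE i - dcE j) * dcE k = dcE i * dcE k - dcE j * dcE k := by noncomm_ring
      have e2 : -(dcE k * (dcE i - dcE j)) = -(dcE k * dcE i) - -(dcE k * dcE j) := by
        noncomm_ring
      rw [e1, e2, h1, h2]

/-- the unit `e_i - e_j` -/
def dcTU {i j : Fin n} (h : i ≠ j) : (DcAlg n)ˣ :=
  ⟨dcT i j, -dcT i j, by rw [mul_neg, dcT_sq h, neg_neg], by rw [neg_mul, dcT_sq h, neg_neg]⟩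

theorem dcTU_val {i j : Fin n} (h : i ≠ j) : ((dcTU h : (DcAlg n)ˣ) : DcAlg n) = dcT i j := rfl

/-- disjoint `t`'s anticommute -/
theorem dcT_anti {i j k l : Fin n} (hik : i ≠ k) (hil : i ≠ l) (hjk : j ≠ k) (hjl : j ≠ l) :
    dcT k l * dcT i j = -(dcT i j * dcT k l) := by
  unfold dcT
  have h1 := dcE_anti hik
  have h2 := dcE_anti hil
  have h3 := dcE_anti hjk
  have h4 := dcE_anti hjl
  have e1 : (dcE k - dcE l) * (dcE i - dcE j) =
      dcE k * dcE i - dcE k * dcE j - dcE l * dcE i + dcE l * dcE j := by noncomm_ring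
  have e2 : -((dcE i - dcE j) * (dcE k - dcE l)) =
      -(dcE i * dcE k) + dcE i * dcE l + dcE j * dcE k - dcE j * dcE l := by noncomm_ring
  rw [e1, e2, h1, h2, h3, h4]
  noncomm_ring

/-- every permutation lifts -/
theorem dc_lift (σ : Equiv.Perm (Fin n)) :
    ∃ (x : (DcAlg n)ˣ) (ε : ZMod 2), Equiv.Perm.sign σ = (if ε = 0 then 1 else -1) ∧
      Par ε (x : DcAlg n) ∧ ∀ k, (x : DcAlg n) * dcE k = sgn ε * (dcE (σ k) * (x : DcAlg n)) := by
  induction σ using Equiv.Perm.swap_induction_on with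
  | one =>
    refine ⟨1, 0, by simp, by simpa using Par.one, ?_⟩
    intro k
    simp [sgn_zero]
  | swap_mul f i j hij ih =>
    obtain ⟨x, ε, h1, h2, h3⟩ := ih
    refine ⟨dcTU hij * x, ε + 1, ?_, ?_, ?_⟩
    · rw [Equiv.Perm.sign_mul, Equiv.Perm.sign_swap hij, h1]
      have : ∀ ε : ZMod 2, (ε = 0 ∧ ε + 1 ≠ 0) ∨ (ε ≠ 0 ∧ ε + 1 = 0) := by decide
      rcases this ε with ⟨ha, hb⟩ | ⟨ha, hb⟩ <;> simp [ha, hb]
    · rw [Units.val_mul, dcTU_val, add_comm]
      exact (dcT_par i j).mul h2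
    · intro k
      rw [Units.val_mul, dcTU_val, mul_assoc, h3 k, ← mul_assoc (dcT i j), ← sgn_comm,
        mul_assoc (sgn ε), ← mul_assoc (dcT i j), dcT_mul_dcE hij, sgn_add, sgn_one,
        Equiv.Perm.mul_apply]
      noncomm_ring

end Cfsg.Agent.Lib.Helper20
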