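import Cfsg.Agent.Lib.Helper20.DCoverGrp

set_option linter.style.haveILetI false
set_option linter.unusedVariables false
set_option linter.unusedSimpArgs false

namespace Cfsg.Agent.Lib.Helper20

variable {n : ℕ}

open DcAlg
open scoped commutatorElement

theorem dcTT_rel {i j k l : Fin n} (hij : i ≠ j) (hkl : k ≠ l) (m : Fin n) :
    dcT i j * dcT k l * dcE m = dcE ((Equiv.swap i j * Equiv.swap k l) m) * (dcT i j * dcT k l) := by
  rw [mul_assoc, dcT_mul_dcE hkl, mul_neg, ← mul_assoc, dcT_mul_dcE hij, Equiv.Perm.mul_apply]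
  noncomm_ring

/-- lifts of double transpositions -/
def dcTT {i j k l : Fin n} (hij : i ≠ j) (hkl : k ≠ l) : dcGamma n :=
  ⟨dcTU hij * dcTU hkl, by
    refine ⟨?_, Equiv.swap i j * Equiv.swap k l, ?_, ?_⟩
    · have := (dcT_par i j).mul (dcT_par k l)
      have h11 : (1 : ZMod 2) + 1 = 0 := by decide
      rw [h11] at this
      simpa [dcTU_val] using this
    · rw [Equiv.Perm.mem_alternatingGroup, Equiv.Perm.sign_mul, Equiv.Perm.sign_swap hij,
        Equiv.Perm.sign_swap hkl]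
      decide
    · intro m
      rw [Units.val_mul, dcTU_val, dcTU_val]
      exact dcTT_rel hij hkl m⟩

theorem dcTT_val {i j k l : Fin n} (hij : i ≠ j) (hkl : k ≠ l) :
    (((dcTT hij hkl : dcGamma n) : (DcAlg n)ˣ) : DcAlg n) = dcT i j * dcT k l := rfl

theorem dc_conj_T {x : DcAlg n} {σ : Equiv.Perm (Fin n)}
    (h : ∀ m, x * dcE m = dcE (σ m) * x) (i j : Fin n) :
    x * dcT i j = dcT (σ i) (σ j) * x := by
  unfold dcT
  rw [mul_sub, h, h]
  exact (sub_mul _ _ _).symm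

theorem dc_comm_rel {i0 i1 i2 i3 : Fin n} (h01 : i0 ≠ i1) (h02 : i0 ≠ i2) (h03 : i0 ≠ i3)
    (h12 : i1 ≠ i2) (h13 : i1 ≠ i3) (h23 : i2 ≠ i3) :
    (dcT i0 i2 * dcT i1 i3) * (dcT i0 i1 * dcT i2 i3) =
      -((dcT i0 i1 * dcT i2 i3) * (dcT i0 i2 * dcT i1 i3)) := by
  have hB : ∀ m, dcT i0 i2 * dcT i1 i3 * dcE m =
      dcE ((Equiv.swap i0 i2 * Equiv.swap i1 i3) m) * (dcT i0 i2 * dcT i1 i3) :=
    dcTT_rel h02 h13
  have s0 : (Equiv.swap i0 i2 * Equiv.swap i1 i3) i0 = i2 := by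
    rw [Equiv.Perm.mul_apply, Equiv.swap_apply_of_ne_of_ne h01 h03, Equiv.swap_apply_left]
  have s1 : (Equiv.swap i0 i2 * Equiv.swap i1 i3) i1 = i3 := by
    rw [Equiv.Perm.mul_apply, Equiv.swap_apply_left,
      Equiv.swap_apply_of_ne_of_ne h03.symm h23.symm]
  have s2 : (Equiv.swap i0 i2 * Equiv.swap i1 i3) i2 = i0 := by
    rw [Equiv.Perm.mul_apply, Equiv.swap_apply_of_ne_of_ne h12.symm h23, Equiv.swap_apply_right]
  have s3 : (Equiv.swap i0 i2 * Equiv.swap i1 i3) i3 = i1 := by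
    rw [Equiv.Perm.mul_apply, Equiv.swap_apply_right,
      Equiv.swap_apply_of_ne_of_ne h01.symm h12]
  have hB01 : dcT i0 i2 * dcT i1 i3 * dcT i0 i1 = dcT i2 i3 * (dcT i0 i2 * dcT i1 i3) := by
    have := dc_conj_T hB i0 i1
    rwa [s0, s1] at this
  have hB23 : dcT i0 i2 * dcT i1 i3 * dcT i2 i3 = dcT i0 i1 * (dcT i0 i2 * dcT i1 i3) := by
    have := dc_conj_T hB i2 i3
    rwa [s2, s3] at this
  have hanti : dcT i2 i3 * dcT i0 i1 = -(dcT i0 i1 * dcT i2 i3) :=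
    dcT_anti h02 h03 h12 h13
  calc (dcT i0 i2 * dcT i1 i3) * (dcT i0 i1 * dcT i2 i3)
      = (dcT i0 i2 * dcT i1 i3 * dcT i0 i1) * dcT i2 i3 := by rw [mul_assoc, mul_assoc, mul_assoc]
    _ = dcT i2 i3 * (dcT i0 i2 * dcT i1 i3 * dcT i2 i3) := by rw [hB01, mul_assoc]
    _ = dcT i2 i3 * dcT i0 i1 * (dcT i0 i2 * dcT i1 i3) := by rw [hB23, mul_assoc]
    _ = -((dcT i0 i1 * dcT i2 i3) * (dcT i0 i2 * dcT i1 i3)) := by rw [hanti, neg_mul]

theorem dcZ_mem_commutator (hn : 4 ≤ n) : dcZ n ∈ commutator (dcGamma n) := by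
  obtain ⟨i0, i1, i2, i3, h01, h02, h03, h12, h13, h23⟩ : ∃ i0 i1 i2 i3 : Fin n,
      i0 ≠ i1 ∧ i0 ≠ i2 ∧ i0 ≠ i3 ∧ i1 ≠ i2 ∧ i1 ≠ i3 ∧ i2 ≠ i3 := by
    refine ⟨⟨0, by omega⟩, ⟨1, by omega⟩, ⟨2, by omega⟩, ⟨3, by omega⟩, ?_, ?_, ?_, ?_, ?_, ?_⟩ <;>
      simp [Fin.ext_iff]
  obtain ⟨a, ha⟩ : ∃ a, a = dcTT h01 h23 := ⟨_, rfl⟩
  obtain ⟨b, hb⟩ : ∃ b, b = dcTT h02 h13 := ⟨_, rfl⟩
  have hrel : b * a = dcZ n * (a * b) := by
    apply Subtype.ext
    apply Units.ext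
    rw [Subgroup.coe_mul, Units.val_mul, Subgroup.coe_mul, Units.val_mul, Subgroup.coe_mul,
      Units.val_mul, dcZ_val, ha, hb, dcTT_val, dcTT_val, dc_comm_rel h01 h02 h03 h12 h13 h23]
    noncomm_ring
  have hcomm : ⁅a, b⁆ = dcZ n := by
    rw [commutatorElement_def]
    have h1 : a * b * a⁻¹ * b⁻¹ = (a * b) * (b * a)⁻¹ := by group
    rw [h1, hrel, mul_inv_rev, mul_inv_cancel_left]
    exact inv_eq_of_mul_eq_one_right dcZ_sq
  rw [← hcomm]
  exact Subgroup.commutator_mem_commutator (Subgroup.mem_top a) (Subgroup.mem_top b)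

theorem dc_double_cover (hn : 4 ≤ n) : ∃ (Γ : Type) (_ : Group Γ) (_ : Finite Γ) (z : Γ)
    (hz : z ∈ Subgroup.center Γ), orderOf z = 2 ∧ z ∈ commutator Γ ∧
    ∃ _ : (Subgroup.zpowers z).Normal,
      Nonempty (Γ ⧸ Subgroup.zpowers z ≃* alternatingGroup (Fin n)) := by
  have hker : (dcPi n).ker = Subgroup.zpowers (dcZ n) := by
    ext x
    rw [MonoidHom.mem_ker, dcPi_ker]
    constructor
    · rintro (h | h)
      · rw [h]; exact one_mem _
      · rw [h]; exact Subgroup.mem_zpowers _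
    · intro h
      have h2 : orderOf (dcZ n) = 2 := orderOf_eq_prime (by rw [pow_two]; exact dcZ_sq) dcZ_ne_one
      rw [Subgroup.mem_zpowers_iff] at h
      obtain ⟨k, hk⟩ := h
      have hk2 : x = dcZ n ^ (k % 2) := by
        rw [← hk]
        have := zpow_mod_orderOf (dcZ n) k
        rw [h2] at this
        exact_mod_cast this.symm
      rcases Int.emod_two_eq_zero_or_one k with h | h
      · left; rw [hk2, h, zpow_zero]
      · right; rw [hk2, h, zpow_one]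
  have hN : (Subgroup.zpowers (dcZ n)).Normal := hker ▸ (inferInstance : (dcPi n).ker.Normal)
  refine ⟨dcGamma n, inferInstance, inferInstance, dcZ n, ?_, ?_, dcZ_mem_commutator hn, hN, ⟨?_⟩⟩
  · rw [Subgroup.mem_center_iff]
    intro g
    exact (dcZ_central g).symm
  · exact orderOf_eq_prime (by rw [pow_two]; exact dcZ_sq) dcZ_ne_one
  · exact (QuotientGroup.quotientMulEquivOfEq hker.symm).trans
      (QuotientGroup.quotientKerEquivOfSurjective (dcPi n) dcPi_surjective)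

end Cfsg.Agent.Lib.Helper20
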