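import Cfsg.Agent.Lib.Helper20.DCoverTransfer
import Cfsg.Agent.Lib.Helper24.DihIso

set_option linter.style.haveILetI false
set_option linter.unusedVariables false

namespace Cfsg.Agent.Lib.Helper20

theorem dc_card_closure_pair {G : Type*} [Group G] [Finite G] {x y : G} (hx : orderOf x = 2)
    (hy : orderOf y = 2) : Nat.card ↥(Subgroup.closure ({x, y} : Set G)) = 2 * orderOf (x * y) := by
  obtain ⟨e⟩ := Cfsg.Agent.Lib.Helper24.closure_pair_equiv_dihedral hx hy
  rw [Nat.card_congr e.toEquiv, DihedralGroup.nat_card]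

theorem dc_split_of_dihedral_sylow {H A : Type*} [Group H] [Finite H] [Group A] [Finite A]
    (π : H →* A) (hπ : Function.Surjective π) (z : H) (hz1 : z ≠ 1) (hz2 : z * z = 1)
    (hker : ∀ h, π h = 1 ↔ h = 1 ∨ h = z) (hzc : ∀ g : H, g * z = z * g)
    (hC : ∀ h : H, orderOf (π h) = 2 → h * h = 1)
    (s1 s2 : A) (hs1 : orderOf s1 = 2) (hs2 : orderOf s2 = 2) (hmeven : Even (orderOf (s1 * s2)))
    (hodd : Odd (Subgroup.closure ({s1, s2} : Set A)).index) :
    ∃ K : Subgroup H, K.index = 2 ∧ z ∉ K := by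
  obtain ⟨u, hu⟩ := hπ s1
  obtain ⟨v, hv⟩ := hπ s2
  have hne1 : ∀ {s : A} {h : H}, orderOf s = 2 → π h = s → h ≠ 1 := by
    intro s h hs hh h1
    rw [h1, map_one] at hh
    rw [← hh, orderOf_one] at hs
    omega
  have hu2 : orderOf u = 2 :=
    orderOf_eq_prime (by rw [pow_two]; exact hC u (by rw [hu]; exact hs1)) (hne1 hs1 hu)
  have hv2 : orderOf v = 2 :=
    orderOf_eq_prime (by rw [pow_two]; exact hC v (by rw [hv]; exact hs2)) (hne1 hs2 hv)
  obtain ⟨m, hm⟩ : ∃ m, m = orderOf (s1 * s2) := ⟨_, rfl⟩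
  have hmpos : 0 < m := hm ▸ orderOf_pos _
  obtain ⟨k, hk⟩ := hmeven
  rw [← hm] at hk
  have hkpos : 0 < k := by omega
  have hpuv : π (u * v) = s1 * s2 := by rw [map_mul, hu, hv]
  have huvm : orderOf (u * v) = m := by
    apply Nat.dvd_antisymm
    · apply orderOf_dvd_of_pow_eq_one
      have h1 : orderOf (π ((u * v) ^ k)) = 2 := by
        rw [map_pow, hpuv, orderOf_pow_of_dvd hkpos.ne' ⟨2, by rw [← hm]; omega⟩, ← hm, hk,
          ← two_mul, Nat.mul_div_cancel _ hkpos]
      have h2 := hC _ h1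
      rw [hk, ← two_mul, mul_comm, pow_mul, pow_two]
      exact h2
    · rw [hm, ← hpuv]
      exact orderOf_map_dvd π (u * v)
  obtain ⟨D, hD⟩ : ∃ D, D = Subgroup.closure ({u, v} : Set H) := ⟨_, rfl⟩
  obtain ⟨S, hS⟩ : ∃ S, S = Subgroup.closure ({s1, s2} : Set A) := ⟨_, rfl⟩
  have hDcard : Nat.card ↥D = 2 * m := by rw [hD, dc_card_closure_pair hu2 hv2, huvm]
  have hScard : Nat.card ↥S = 2 * m := by rw [hS, dc_card_closure_pair hs1 hs2, ← hm]
  have hmap : D.map π = S := by
    rw [hD, hS, MonoidHom.map_closure, Set.image_pair, hu, hv]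
  have hzD : z ∉ D := by
    intro hzD
    have hf : ∀ d : ↥D, π (d : H) ∈ S := fun d => hmap ▸ Subgroup.mem_map_of_mem π d.2
    have hsurj : Function.Surjective (fun d : ↥D => (⟨π (d : H), hf d⟩ : ↥S)) := by
      rintro ⟨s, hs⟩
      rw [← hmap] at hs
      obtain ⟨d, hd, rfl⟩ := hs
      exact ⟨⟨d, hd⟩, rfl⟩
    have hbij := (Nat.bijective_iff_surjective_and_card _).mpr ⟨hsurj, by rw [hDcard, hScard]⟩
    have := hbij.1 (a₁ := ⟨z, hzD⟩) (a₂ := ⟨1, one_mem _⟩) (by
      apply Subtype.ext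
      change π z = π 1
      rw [map_one, hker]; right; rfl)
    exact hz1 (congrArg Subtype.val this)
  obtain ⟨P, hP⟩ : ∃ P, P = S.comap π := ⟨_, rfl⟩
  have hDP : D ≤ P := by
    rw [hP, ← hmap]; exact Subgroup.le_comap_map π D
  have hzP : z ∈ P := by
    rw [hP, Subgroup.mem_comap, (hker z).mpr (Or.inr rfl)]; exact one_mem _
  have hPidx : P.index = S.index := by rw [hP, Subgroup.index_comap_of_surjective S hπ]
  have hkercard : Nat.card ↥π.ker = 2 := by
    rw [Nat.card_eq_two_iff]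
    refine ⟨⟨1, one_mem _⟩, ⟨z, (hker z).mpr (Or.inr rfl)⟩, ?_, ?_⟩
    · intro h; exact hz1 (congrArg Subtype.val h).symm
    · ext ⟨x, hx⟩
      simp only [Set.mem_insert_iff, Set.mem_singleton_iff, Set.mem_univ, iff_true]
      rcases (hker x).mp hx with h | h
      · left; exact Subtype.ext h
      · right; exact Subtype.ext h
  have hHcard : Nat.card H = 2 * Nat.card A := by
    rw [← Subgroup.card_mul_index π.ker, hkercard, Subgroup.index_ker,
      MonoidHom.range_eq_top.mpr hπ, Subgroup.card_top]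
  have hPcard : Nat.card ↥P = 2 * (2 * m) := by
    have h1 := Subgroup.card_mul_index P
    have h2 := Subgroup.card_mul_index S
    rw [hPidx, hHcard, ← h2, hScard] at h1
    have hidxpos : 0 < S.index := Nat.pos_of_ne_zero (Subgroup.index_ne_zero_of_finite)
    have : Nat.card ↥P * S.index = (2 * (2 * m)) * S.index := by rw [h1]; ring
    exact Nat.eq_of_mul_eq_mul_right hidxpos this
  have hrel : D.relIndex P = 2 := by
    have h1 := Subgroup.relIndex_mul_relIndex ⊥ D P bot_le hDP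
    rw [Subgroup.relIndex_bot_left, Subgroup.relIndex_bot_left, hDcard, hPcard] at h1
    have : 0 < 2 * m := by omega
    exact Nat.eq_of_mul_eq_mul_left this (h1.trans (by ring))
  exact dc_complement_of_sylow z hzc hz2 P D hrel hzP hzD (by rw [hPidx, hS]; exact hodd)

end Cfsg.Agent.Lib.Helper20
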