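import Cfsg.Agent.Lib.Helper20.DCoverConj
import Cfsg.Agent.Lib.Helper20.DCoverSplit

set_option linter.style.haveILetI false
set_option linter.unusedVariables false

namespace Cfsg.Agent.Lib.Helper20

theorem dc_sylow_pair_aux {n : ℕ} [Nontrivial (Fin n)] (s1 s2 : alternatingGroup (Fin n))
    (h1 : orderOf s1 = 2) (h2 : orderOf s2 = 2) (m : ℕ) (hm : orderOf (s1 * s2) = m)
    (hmeven : Even m) (hmpos : 0 < m) (j : ℕ) (hj : n.factorial = 4 * m * (2 * j + 1)) :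
    orderOf s1 = 2 ∧ orderOf s2 = 2 ∧ Even (orderOf (s1 * s2)) ∧
      Odd (Subgroup.closure ({s1, s2} : Set (alternatingGroup (Fin n)))).index := by
  refine ⟨h1, h2, hm ▸ hmeven, ?_⟩
  have hc := dc_card_closure_pair h1 h2
  rw [hm] at hc
  have h3 := Subgroup.card_mul_index (Subgroup.closure ({s1, s2} : Set (alternatingGroup (Fin n))))
  have h4 := two_mul_nat_card_alternatingGroup (α := Fin n)
  rw [Nat.card_perm, Nat.card_fin, hj] at h4
  rw [hc] at h3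
  have h5 : 4 * m * (Subgroup.closure ({s1, s2} : Set (alternatingGroup (Fin n)))).index =
      4 * m * (2 * j + 1) := by
    rw [← h4, ← h3]; ring
  have h6 : 0 < 4 * m := by omega
  have := Nat.eq_of_mul_eq_mul_left h6 h5
  rw [this]
  exact ⟨j, rfl⟩

theorem dc_orderOf_two {n : ℕ} (s : alternatingGroup (Fin n))
    (h1 : (s : Equiv.Perm (Fin n)) * s = 1) (h2 : (s : Equiv.Perm (Fin n)) ≠ 1) :
    orderOf s = 2 := by
  apply orderOf_eq_prime
  · apply Subtype.ext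
    rw [pow_two]
    exact h1
  · intro h; exact h2 (congrArg Subtype.val h)

theorem dc_orderOf_four {n : ℕ} (s : alternatingGroup (Fin n))
    (h1 : ((s : Equiv.Perm (Fin n)) * s) * ((s : Equiv.Perm (Fin n)) * s) = 1)
    (h2 : (s : Equiv.Perm (Fin n)) * s ≠ 1) : orderOf s = 4 := by
  apply orderOf_eq_prime_pow (p := 2) (n := 1)
  · intro h
    apply h2
    have := congrArg Subtype.val h
    simpa [pow_two] using this
  · apply Subtype.ext
    have : s ^ 2 ^ (1 + 1) = (s * s) * (s * s) := by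
      rw [show (2 : ℕ) ^ (1 + 1) = 2 * 2 from rfl, pow_mul, pow_two, pow_two]
    rw [this]
    exact h1

theorem dc_sylow_pair (n : ℕ) (h4 : 4 ≤ n) (h7 : n ≤ 7) :
    ∃ s1 s2 : alternatingGroup (Fin n), orderOf s1 = 2 ∧ orderOf s2 = 2 ∧
      Even (orderOf (s1 * s2)) ∧
      Odd (Subgroup.closure ({s1, s2} : Set (alternatingGroup (Fin n)))).index := by
  interval_cases n
  · -- n = 4
    have m1 : Equiv.swap (0 : Fin 4) 1 * Equiv.swap 2 3 ∈ alternatingGroup (Fin 4) := by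
      rw [Equiv.Perm.mem_alternatingGroup, Equiv.Perm.sign_mul,
        Equiv.Perm.sign_swap (by decide), Equiv.Perm.sign_swap (by decide)]; decide
    have m2 : Equiv.swap (0 : Fin 4) 2 * Equiv.swap 1 3 ∈ alternatingGroup (Fin 4) := by
      rw [Equiv.Perm.mem_alternatingGroup, Equiv.Perm.sign_mul,
        Equiv.Perm.sign_swap (by decide), Equiv.Perm.sign_swap (by decide)]; decide
    refine ⟨⟨_, m1⟩, ⟨_, m2⟩,
      dc_sylow_pair_aux _ _ ?_ ?_ 2 ?_ (by decide) (by decide) 1 (by decide)⟩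
    · exact dc_orderOf_two _ (show (Equiv.swap (0 : Fin 4) 1 * Equiv.swap 2 3) * (Equiv.swap (0 : Fin 4) 1 * Equiv.swap 2 3) = 1 by decide)
        (show (Equiv.swap (0 : Fin 4) 1 * Equiv.swap 2 3) ≠ 1 by decide)
    · exact dc_orderOf_two _ (show (Equiv.swap (0 : Fin 4) 2 * Equiv.swap 1 3) * (Equiv.swap (0 : Fin 4) 2 * Equiv.swap 1 3) = 1 by decide)
        (show (Equiv.swap (0 : Fin 4) 2 * Equiv.swap 1 3) ≠ 1 by decide)
    · exact dc_orderOf_two _ (show ((Equiv.swap (0 : Fin 4) 1 * Equiv.swap 2 3) * (Equiv.swap (0 : Fin 4) 2 * Equiv.swap 1 3)) * ((Equiv.swap (0 : Fin 4) 1 * Equiv.swap 2 3) * (Equiv.swap (0 : Fin 4) 2 * Equiv.swap 1 3)) = 1 by decide)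
        (show ((Equiv.swap (0 : Fin 4) 1 * Equiv.swap 2 3) * (Equiv.swap (0 : Fin 4) 2 * Equiv.swap 1 3)) ≠ 1 by decide)
  · -- n = 5
    have m1 : Equiv.swap (0 : Fin 5) 1 * Equiv.swap 2 3 ∈ alternatingGroup (Fin 5) := by
      rw [Equiv.Perm.mem_alternatingGroup, Equiv.Perm.sign_mul,
        Equiv.Perm.sign_swap (by decide), Equiv.Perm.sign_swap (by decide)]; decide
    have m2 : Equiv.swap (0 : Fin 5) 2 * Equiv.swap 1 3 ∈ alternatingGroup (Fin 5) := by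
      rw [Equiv.Perm.mem_alternatingGroup, Equiv.Perm.sign_mul,
        Equiv.Perm.sign_swap (by decide), Equiv.Perm.sign_swap (by decide)]; decide
    refine ⟨⟨_, m1⟩, ⟨_, m2⟩,
      dc_sylow_pair_aux _ _ ?_ ?_ 2 ?_ (by decide) (by decide) 7 (by decide)⟩
    · exact dc_orderOf_two _ (show (Equiv.swap (0 : Fin 5) 1 * Equiv.swap 2 3) * (Equiv.swap (0 : Fin 5) 1 * Equiv.swap 2 3) = 1 by decide)
        (show (Equiv.swap (0 : Fin 5) 1 * Equiv.swap 2 3) ≠ 1 by decide)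
    · exact dc_orderOf_two _ (show (Equiv.swap (0 : Fin 5) 2 * Equiv.swap 1 3) * (Equiv.swap (0 : Fin 5) 2 * Equiv.swap 1 3) = 1 by decide)
        (show (Equiv.swap (0 : Fin 5) 2 * Equiv.swap 1 3) ≠ 1 by decide)
    · exact dc_orderOf_two _ (show ((Equiv.swap (0 : Fin 5) 1 * Equiv.swap 2 3) * (Equiv.swap (0 : Fin 5) 2 * Equiv.swap 1 3)) * ((Equiv.swap (0 : Fin 5) 1 * Equiv.swap 2 3) * (Equiv.swap (0 : Fin 5) 2 * Equiv.swap 1 3)) = 1 by decide)
        (show ((Equiv.swap (0 : Fin 5) 1 * Equiv.swap 2 3) * (Equiv.swap (0 : Fin 5) 2 * Equiv.swap 1 3)) ≠ 1 by decide)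
  · -- n = 6
    have m1 : Equiv.swap (0 : Fin 6) 1 * Equiv.swap 4 5 ∈ alternatingGroup (Fin 6) := by
      rw [Equiv.Perm.mem_alternatingGroup, Equiv.Perm.sign_mul,
        Equiv.Perm.sign_swap (by decide), Equiv.Perm.sign_swap (by decide)]; decide
    have m2 : Equiv.swap (0 : Fin 6) 2 * Equiv.swap 1 3 ∈ alternatingGroup (Fin 6) := by
      rw [Equiv.Perm.mem_alternatingGroup, Equiv.Perm.sign_mul,
        Equiv.Perm.sign_swap (by decide), Equiv.Perm.sign_swap (by decide)]; decide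
    refine ⟨⟨_, m1⟩, ⟨_, m2⟩,
      dc_sylow_pair_aux _ _ ?_ ?_ 4 ?_ (by decide) (by decide) 22 (by decide)⟩
    · exact dc_orderOf_two _ (show (Equiv.swap (0 : Fin 6) 1 * Equiv.swap 4 5) * (Equiv.swap (0 : Fin 6) 1 * Equiv.swap 4 5) = 1 by decide)
        (show (Equiv.swap (0 : Fin 6) 1 * Equiv.swap 4 5) ≠ 1 by decide)
    · exact dc_orderOf_two _ (show (Equiv.swap (0 : Fin 6) 2 * Equiv.swap 1 3) * (Equiv.swap (0 : Fin 6) 2 * Equiv.swap 1 3) = 1 by decide)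
        (show (Equiv.swap (0 : Fin 6) 2 * Equiv.swap 1 3) ≠ 1 by decide)
    · exact dc_orderOf_four _ (show (((Equiv.swap (0 : Fin 6) 1 * Equiv.swap 4 5) * (Equiv.swap (0 : Fin 6) 2 * Equiv.swap 1 3)) * ((Equiv.swap (0 : Fin 6) 1 * Equiv.swap 4 5) * (Equiv.swap (0 : Fin 6) 2 * Equiv.swap 1 3))) * (((Equiv.swap (0 : Fin 6) 1 * Equiv.swap 4 5) * (Equiv.swap (0 : Fin 6) 2 * Equiv.swap 1 3)) * ((Equiv.swap (0 : Fin 6) 1 * Equiv.swap 4 5) * (Equiv.swap (0 : Fin 6) 2 * Equiv.swap 1 3))) = 1 by decide)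
        (show ((Equiv.swap (0 : Fin 6) 1 * Equiv.swap 4 5) * (Equiv.swap (0 : Fin 6) 2 * Equiv.swap 1 3)) * ((Equiv.swap (0 : Fin 6) 1 * Equiv.swap 4 5) * (Equiv.swap (0 : Fin 6) 2 * Equiv.swap 1 3)) ≠ 1 by decide)
  · -- n = 7
    have m1 : Equiv.swap (0 : Fin 7) 1 * Equiv.swap 4 5 ∈ alternatingGroup (Fin 7) := by
      rw [Equiv.Perm.mem_alternatingGroup, Equiv.Perm.sign_mul,
        Equiv.Perm.sign_swap (by decide), Equiv.Perm.sign_swap (by decide)]; decide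
    have m2 : Equiv.swap (0 : Fin 7) 2 * Equiv.swap 1 3 ∈ alternatingGroup (Fin 7) := by
      rw [Equiv.Perm.mem_alternatingGroup, Equiv.Perm.sign_mul,
        Equiv.Perm.sign_swap (by decide), Equiv.Perm.sign_swap (by decide)]; decide
    refine ⟨⟨_, m1⟩, ⟨_, m2⟩,
      dc_sylow_pair_aux _ _ ?_ ?_ 4 ?_ (by decide) (by decide) 157 (by decide)⟩
    · exact dc_orderOf_two _ (show (Equiv.swap (0 : Fin 7) 1 * Equiv.swap 4 5) * (Equiv.swap (0 : Fin 7) 1 * Equiv.swap 4 5) = 1 by decide)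
        (show (Equiv.swap (0 : Fin 7) 1 * Equiv.swap 4 5) ≠ 1 by decide)
    · exact dc_orderOf_two _ (show (Equiv.swap (0 : Fin 7) 2 * Equiv.swap 1 3) * (Equiv.swap (0 : Fin 7) 2 * Equiv.swap 1 3) = 1 by decide)
        (show (Equiv.swap (0 : Fin 7) 2 * Equiv.swap 1 3) ≠ 1 by decide)
    · exact dc_orderOf_four _ (show (((Equiv.swap (0 : Fin 7) 1 * Equiv.swap 4 5) * (Equiv.swap (0 : Fin 7) 2 * Equiv.swap 1 3)) * ((Equiv.swap (0 : Fin 7) 1 * Equiv.swap 4 5) * (Equiv.swap (0 : Fin 7) 2 * Equiv.swap 1 3))) * (((Equiv.swap (0 : Fin 7) 1 * Equiv.swap 4 5) * (Equiv.swap (0 : Fin 7) 2 * Equiv.swap 1 3)) * ((Equiv.swap (0 : Fin 7) 1 * Equiv.swap 4 5) * (Equiv.swap (0 : Fin 7) 2 * Equiv.swap 1 3))) = 1 by decide)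
        (show ((Equiv.swap (0 : Fin 7) 1 * Equiv.swap 4 5) * (Equiv.swap (0 : Fin 7) 2 * Equiv.swap 1 3)) * ((Equiv.swap (0 : Fin 7) 1 * Equiv.swap 4 5) * (Equiv.swap (0 : Fin 7) 2 * Equiv.swap 1 3)) ≠ 1 by decide)

end Cfsg.Agent.Lib.Helper20
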