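import Cfsg.Agent.Lib.Helper20.DCoverSylow

set_option linter.style.haveILetI false
set_option linter.unusedVariables false

namespace Cfsg.Agent.Lib.Helper20

theorem dc_alt_card_odd (n : ℕ) (hn : n ≤ 3) : ¬ 2 ∣ Nat.card (alternatingGroup (Fin n)) := by
  rw [Nat.card_eq_fintype_card]
  interval_cases n <;> decide

theorem dc_unique_involution (n : ℕ) (H : Type*) [Group H] [Finite H] (hn : n ≤ 7)
    (hcard : Nat.card (Subgroup.center H) = 2)
    (e : H ⧸ Subgroup.center H ≃* alternatingGroup (Fin n))
    (hnc : ∀ L : Subgroup H, ¬ (Subgroup.center H).IsComplement' L) (x y : H)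
    (hx : orderOf x = 2) (hy : orderOf y = 2) : x = y := by
  obtain ⟨z0, hz0, huniq⟩ := (Nat.card_eq_two_iff' (1 : Subgroup.center H)).mp hcard
  obtain ⟨z, hz⟩ : ∃ z : H, z = (z0 : H) := ⟨_, rfl⟩
  have hz1 : z ≠ 1 := by
    intro h; apply hz0; apply Subtype.ext; rw [← hz]; exact h
  have hzc : ∀ g : H, g * z = z * g := by
    intro g; rw [hz]; exact Subgroup.mem_center_iff.mp z0.2 g
  have hcen : ∀ h : H, h ∈ Subgroup.center H ↔ h = 1 ∨ h = z := by
    intro h
    constructor
    · intro hh
      by_cases h1 : h = 1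
      · left; exact h1
      · right
        have := huniq ⟨h, hh⟩ (fun h' => h1 (congrArg Subtype.val h'))
        rw [hz, ← this]
    · rintro (h1 | h1)
      · rw [h1]; exact one_mem _
      · rw [h1, hz]; exact z0.2
  have hz2 : z * z = 1 := by
    have h1 : z * z ∈ Subgroup.center H := by
      rw [hz]; exact mul_mem z0.2 z0.2
    rcases (hcen _).mp h1 with h | h
    · exact h
    · exfalso; apply hz1
      have : z * z = z * 1 := by rw [mul_one]; exact h
      exact mul_left_cancel this
  obtain ⟨π, hπdef⟩ : ∃ π : H →* alternatingGroup (Fin n),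
      π = e.toMonoidHom.comp (QuotientGroup.mk' (Subgroup.center H)) := ⟨_, rfl⟩
  have hπ : Function.Surjective π := by
    rw [hπdef]
    exact e.surjective.comp (QuotientGroup.mk'_surjective _)
  have hker : ∀ h, π h = 1 ↔ h = 1 ∨ h = z := by
    intro h
    rw [← hcen, hπdef]
    simp only [MonoidHom.coe_comp, Function.comp_apply, QuotientGroup.mk'_apply]
    change e (h : H ⧸ Subgroup.center H) = 1 ↔ _
    rw [MulEquiv.map_eq_one_iff, QuotientGroup.eq_one_iff]
  have key : ∀ t : H, orderOf t = 2 → t = z := by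
    intro t ht
    by_contra htz
    have ht2 : t * t = 1 := by rw [← pow_two, ← ht, pow_orderOf_eq_one]
    have ht1 : t ≠ 1 := by
      intro h; rw [h, orderOf_one] at ht; omega
    have hC := dc_lifts_invol hn π hπ z hz2 hker hzc t ht2 ht1 htz
    have hπt : orderOf (π t) = 2 := by
      apply orderOf_eq_prime
      · rw [pow_two, ← map_mul, ht2, map_one]
      · intro h1
        rcases (hker t).mp h1 with h | h
        · exact ht1 h
        · exact htz h
    have h4 : 4 ≤ n := by
      by_contra h
      push Not at h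
      apply dc_alt_card_odd n (by omega)
      rw [← hπt]
      exact orderOf_dvd_natCard _
    obtain ⟨s1, s2, hs1, hs2, hev, hodd⟩ := dc_sylow_pair n h4 hn
    obtain ⟨K, hK2, hzK⟩ :=
      dc_split_of_dihedral_sylow π hπ z hz1 hz2 hker hzc hC s1 s2 hs1 hs2 hev hodd
    apply hnc K
    apply Subgroup.isComplement'_of_card_mul_and_disjoint
    · rw [hcard, ← Subgroup.card_mul_index K, hK2, mul_comm]
    · rw [Subgroup.disjoint_def]
      intro g hg hgK
      rcases (hcen g).mp hg with h | h
      · exact h
      · exact absurd (h ▸ hgK) hzK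
  rw [key x hx, key y hy]

end Cfsg.Agent.Lib.Helper20
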