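import Cfsg.Agent.Lib.Helper20.Layer
import Cfsg.Agent.Lib.Helper20.Fitting
import Mathlib.Tactic.Group

set_option autoImplicit false

namespace Cfsg.Agent.Lib.Helper20

open Cfsg

/-- S1921: the diagonal of `L L^a` is "maximal modulo the centre". -/
theorem diagonal_sup_zpowers_eq {H : Type*} [Group H] [Finite H] (a : H)
    (L : Subgroup H) (hL : IsComponent L)
    (hLa : L.map (MulAut.conj a).toMonoidHom ≠ L) (x : H)
    (hxM : x ∈ L ⊔ L.map (MulAut.conj a).toMonoidHom)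
    (hxJ : x ∉ Subgroup.closure {y : H | ∃ l ∈ L, y = l * (a * l * a⁻¹)} ⊔
      ((L ⊔ L.map (MulAut.conj a).toMonoidHom) ⊓
        Subgroup.centralizer ((L ⊔ L.map (MulAut.conj a).toMonoidHom : Subgroup H) : Set H))) :
    Subgroup.closure {y : H | ∃ l ∈ L, y = l * (a * l * a⁻¹)} ⊔ Subgroup.zpowers x =
      L ⊔ L.map (MulAut.conj a).toMonoidHom := by
  have hL' : IsComponent (L.map (MulAut.conj a).toMonoidHom) :=
    isComponent_map_mulEquiv (MulAut.conj a) L hL
  have hcomm : ⁅L, L.map (MulAut.conj a).toMonoidHom⁆ = ⊥ :=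
    components_commute L _ hL hL' (Ne.symm hLa)
  have hmem : ∀ g : H, g ∈ L.map (MulAut.conj a).toMonoidHom ↔ ∃ l ∈ L, a * l * a⁻¹ = g := by
    intro g
    rw [Subgroup.mem_map]
    rfl
  have hc : ∀ u ∈ L, ∀ v ∈ L, u * (a * v * a⁻¹) = (a * v * a⁻¹) * u := by
    intro u hu v hv
    exact commutes_of_commutator_eq_bot hcomm hu ((hmem _).mpr ⟨v, hv, rfl⟩)
  have hJmem : ∀ l ∈ L, l * (a * l * a⁻¹) ∈
      Subgroup.closure {y : H | ∃ l ∈ L, y = l * (a * l * a⁻¹)} :=
    fun l hl => Subgroup.subset_closure ⟨l, hl, rfl⟩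
  have hJM : Subgroup.closure {y : H | ∃ l ∈ L, y = l * (a * l * a⁻¹)} ≤
      L ⊔ L.map (MulAut.conj a).toMonoidHom := by
    rw [Subgroup.closure_le]
    rintro y ⟨l, hl, rfl⟩
    exact Subgroup.mul_mem _ (Subgroup.mem_sup_left hl)
      (Subgroup.mem_sup_right ((hmem _).mpr ⟨l, hl, rfl⟩))
  apply le_antisymm
  · exact sup_le hJM ((Subgroup.zpowers_le).mpr hxM)
  · -- decompose x
    have hnorm : L ≤ Subgroup.normalizer
        ((L.map (MulAut.conj a).toMonoidHom : Subgroup H) : Set H) := by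
      refine le_trans ?_ (Subgroup.centralizer_le_normalizer _)
      rwa [← Subgroup.commutator_eq_bot_iff_le_centralizer]
    have hxM' : x ∈ ((L ⊔ L.map (MulAut.conj a).toMonoidHom : Subgroup H) : Set H) := hxM
    rw [Subgroup.coe_mul_of_left_le_normalizer_right _ _ hnorm] at hxM'
    obtain ⟨l₁, hl₁, l₂', hl₂', hx⟩ := Set.mem_mul.mp hxM'
    obtain ⟨l₂, hl₂, rfl⟩ := (hmem _).mp hl₂'
    have hxK : x ∈ Subgroup.closure {y : H | ∃ l ∈ L, y = l * (a * l * a⁻¹)} ⊔
        Subgroup.zpowers x := Subgroup.mem_sup_right (Subgroup.mem_zpowers x)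
    have hJK : Subgroup.closure {y : H | ∃ l ∈ L, y = l * (a * l * a⁻¹)} ≤
        Subgroup.closure {y : H | ∃ l ∈ L, y = l * (a * l * a⁻¹)} ⊔ Subgroup.zpowers x :=
      le_sup_left
    -- l = l₁ l₂⁻¹ ∈ K
    have hlK : l₁ * l₂⁻¹ ∈ Subgroup.closure {y : H | ∃ l ∈ L, y = l * (a * l * a⁻¹)} ⊔
        Subgroup.zpowers x := by
      have : l₁ * l₂⁻¹ = x * (l₂ * (a * l₂ * a⁻¹))⁻¹ := by
        rw [← hx]; group
      rw [this]
      exact Subgroup.mul_mem _ hxK (Subgroup.inv_mem _ (hJK (hJmem l₂ hl₂)))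
    have hlL : l₁ * l₂⁻¹ ∈ L := L.mul_mem hl₁ (L.inv_mem hl₂)
    -- l is not central in L
    have hlnc : ¬ ∀ y ∈ L, y * (l₁ * l₂⁻¹) = (l₁ * l₂⁻¹) * y := by
      intro hcen
      apply hxJ
      have hlcen : l₁ * l₂⁻¹ ∈ (L ⊔ L.map (MulAut.conj a).toMonoidHom) ⊓
          Subgroup.centralizer ((L ⊔ L.map (MulAut.conj a).toMonoidHom : Subgroup H) : Set H) := by
        refine Subgroup.mem_inf.mpr ⟨Subgroup.mem_sup_left hlL, ?_⟩
        have : L ⊔ L.map (MulAut.conj a).toMonoidHom ≤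
            Subgroup.centralizer ({l₁ * l₂⁻¹} : Set H) := by
          apply sup_le
          · intro y hy
            rw [Subgroup.mem_centralizer_iff]
            intro w hw
            rw [Set.mem_singleton_iff] at hw
            subst hw
            exact (hcen y hy).symm
          · intro y hy
            rw [Subgroup.mem_centralizer_iff]
            intro w hw
            rw [Set.mem_singleton_iff] at hw
            subst hw
            obtain ⟨v, hv, rfl⟩ := (hmem _).mp hy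
            exact hc _ hlL v hv
        rw [Subgroup.mem_centralizer_iff]
        intro m hm
        have h3 := this hm
        rw [Subgroup.mem_centralizer_iff] at h3
        exact (h3 _ rfl).symm
      have : x = (l₂ * (a * l₂ * a⁻¹)) * (l₁ * l₂⁻¹) := by
        rw [← hx]
        have h4 := hc (l₁ * l₂⁻¹) hlL l₂ hl₂
        have h5 := hcen l₂ hl₂
        calc l₁ * (a * l₂ * a⁻¹) = (l₁ * l₂⁻¹) * l₂ * (a * l₂ * a⁻¹) := by group
          _ = l₂ * (l₁ * l₂⁻¹) * (a * l₂ * a⁻¹) := by rw [h5]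
          _ = l₂ * ((l₁ * l₂⁻¹) * (a * l₂ * a⁻¹)) := by group
          _ = l₂ * ((a * l₂ * a⁻¹) * (l₁ * l₂⁻¹)) := by rw [h4]
          _ = _ := by group
      rw [this]
      exact Subgroup.mul_mem _ (Subgroup.mem_sup_left (hJmem l₂ hl₂)) (Subgroup.mem_sup_right hlcen)
    -- K ∩ L is normal in L
    have hN : (((Subgroup.closure {y : H | ∃ l ∈ L, y = l * (a * l * a⁻¹)} ⊔
        Subgroup.zpowers x) ⊓ L).subgroupOf L).Normal := by
      constructor
      rintro ⟨n, hnL⟩ hn ⟨y, hy⟩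
      rw [Subgroup.mem_subgroupOf] at hn ⊢
      obtain ⟨hnK, -⟩ := Subgroup.mem_inf.mp hn
      refine Subgroup.mem_inf.mpr ⟨?_, L.mul_mem (L.mul_mem hy hnL) (L.inv_mem hy)⟩
      have h6 := hc n hnL y hy
      have : y * n * y⁻¹ = (y * (a * y * a⁻¹)) * n * (y * (a * y * a⁻¹))⁻¹ := by
        calc y * n * y⁻¹ = y * (n * (a * y * a⁻¹)) * (a * y * a⁻¹)⁻¹ * y⁻¹ := by group
          _ = y * ((a * y * a⁻¹) * n) * (a * y * a⁻¹)⁻¹ * y⁻¹ := by rw [h6]
          _ = _ := by group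
      show y * n * y⁻¹ ∈ _
      rw [this]
      exact Subgroup.mul_mem _ (Subgroup.mul_mem _ (hJK (hJmem y hy)) hnK)
        (Subgroup.inv_mem _ (hJK (hJmem y hy)))
    have hLK : L ≤ Subgroup.closure {y : H | ∃ l ∈ L, y = l * (a * l * a⁻¹)} ⊔
        Subgroup.zpowers x := by
      rcases quasisimple_normal_top_or_le_center hL.2 _ hN with h | h
      · rw [Subgroup.subgroupOf_eq_top] at h
        exact h.trans inf_le_left
      · exfalso
        apply hlnc
        intro y hy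
        have h7 : (⟨l₁ * l₂⁻¹, hlL⟩ : ↥L) ∈ Subgroup.center ↥L :=
          h (show (⟨l₁ * l₂⁻¹, hlL⟩ : ↥L) ∈ _ from Subgroup.mem_inf.mpr ⟨hlK, hlL⟩)
        have h8 := Subgroup.mem_center_iff.mp h7 ⟨y, hy⟩
        exact congrArg Subtype.val h8
    apply sup_le hLK
    intro y' hy'
    obtain ⟨y, hy, rfl⟩ := (hmem _).mp hy'
    have : a * y * a⁻¹ = y⁻¹ * (y * (a * y * a⁻¹)) := by group
    rw [this]
    exact Subgroup.mul_mem _ (Subgroup.inv_mem _ (hLK hy)) (hJK (hJmem y hy))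

end Cfsg.Agent.Lib.Helper20
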