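import Mathlib
import Cfsg.Agent.Lib.Helper20.Layer

set_option autoImplicit false

namespace Cfsg.Agent.Lib.Helper20

open scoped commutatorElement


theorem commute_commutatorElement {G : Type*} [Group G] {z a b : G} (hza : Commute z a)
    (hzb : Commute z b) : Commute z ⁅a, b⁆ := by
  rw [commutatorElement_def]
  exact ((hza.mul_right hzb).mul_right hza.inv_right).mul_right hzb.inv_right

theorem diag_commutatorElement_mul_left_of_commute {G : Type*} [Group G] {z a c : G}
    (hza : Commute z a) (hzc : Commute z c) : ⁅z * a, c⁆ = ⁅a, c⁆ := by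
  have h1 : ⁅z, c⁆ = 1 := commutatorElement_eq_one_iff_commute.mpr hzc
  have h2 := commute_commutatorElement hza hzc
  rw [commutatorElement_mul_left_eq_conj_mul, h1, mul_one, h2.eq, mul_inv_cancel_right]

theorem diag_commutatorElement_mul_right_of_commute {G : Type*} [Group G] {z a b : G}
    (hza : Commute z a) (hzb : Commute z b) : ⁅a, z * b⁆ = ⁅a, b⁆ := by
  have h1 : ⁅a, z⁆ = 1 := commutatorElement_eq_one_iff_commute.mpr hza.symm
  have h2 := commute_commutatorElement hza hzb
  rw [commutatorElement_mul_right_eq_mul_conj, h1, one_mul, h2.eq, mul_inv_cancel_right]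

/-- S1314: the diagonal homomorphism `l ↦ l (x l x⁻¹)`. -/
theorem diag_hom_involution {G : Type*} [Group G] (x : G) (hx : orderOf x = 2)
    (L : Subgroup G) (hperf : ⁅L, L⁆ = L)
    (hcomm : ⁅L, L.map (MulAut.conj x).toMonoidHom⁆ = ⊥) :
    ∃ π : ↥L →* G, (∀ l : ↥L, π l = (l : G) * (x * (l : G) * x⁻¹)) ∧
      π.ker ≤ Subgroup.center ↥L ∧ π.range ≤ Subgroup.centralizer ({x} : Set G) ∧
      ⁅(L ⊔ L.map (MulAut.conj x).toMonoidHom) ⊓ Subgroup.centralizer ({x} : Set G),
        (L ⊔ L.map (MulAut.conj x).toMonoidHom) ⊓ Subgroup.centralizer ({x} : Set G)⁆ =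
        π.range := by
  have hxx : x * x = 1 := by
    have := pow_orderOf_eq_one x
    rwa [hx, pow_two] at this
  have hxi : x⁻¹ = x := inv_eq_of_mul_eq_one_right hxx
  have hmem : ∀ g : G, g ∈ L.map (MulAut.conj x).toMonoidHom ↔ ∃ l ∈ L, x * l * x⁻¹ = g := by
    intro g
    rw [Subgroup.mem_map]
    rfl
  have hc : ∀ a ∈ L, ∀ b ∈ L, a * (x * b * x⁻¹) = (x * b * x⁻¹) * a := by
    intro a ha b hb
    exact commutes_of_commutator_eq_bot hcomm ha ((hmem _).mpr ⟨b, hb, rfl⟩)
  have hmul : ∀ a b : ↥L, ((a * b : ↥L) : G) * (x * ((a * b : ↥L) : G) * x⁻¹) =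
      ((a : G) * (x * (a : G) * x⁻¹)) * ((b : G) * (x * (b : G) * x⁻¹)) := by
    rintro ⟨a, ha⟩ ⟨b, hb⟩
    have h := hc b hb a ha
    show a * b * (x * (a * b) * x⁻¹) = a * (x * a * x⁻¹) * (b * (x * b * x⁻¹))
    calc a * b * (x * (a * b) * x⁻¹) = a * (b * (x * a * x⁻¹)) * (x * b * x⁻¹) := by group
      _ = a * ((x * a * x⁻¹) * b) * (x * b * x⁻¹) := by rw [h]
      _ = _ := by group
  obtain ⟨π, hπ⟩ : ∃ π : ↥L →* G, ∀ l : ↥L, π l = (l : G) * (x * (l : G) * x⁻¹) :=
    ⟨MonoidHom.mk' (fun l : ↥L => (l : G) * (x * (l : G) * x⁻¹)) hmul, fun l => rfl⟩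
  have hrangeC : π.range ≤ Subgroup.centralizer ({x} : Set G) := by
    rintro g ⟨⟨l, hl⟩, rfl⟩
    rw [Subgroup.mem_centralizer_iff]
    intro z hz
    rw [Set.mem_singleton_iff] at hz
    subst hz
    rw [hπ]
    show z * (l * (z * l * z⁻¹)) = l * (z * l * z⁻¹) * z
    have h := hc l hl l hl
    calc z * (l * (z * l * z⁻¹)) = (z * l * z⁻¹) * (z * z) * l * z⁻¹ := by group
      _ = (z * l * z⁻¹) * l * z⁻¹ := by rw [hxx, mul_one]
      _ = l * (z * l * z⁻¹) * z⁻¹ := by rw [← h]
      _ = _ := by rw [hxi]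
  have hrangeM : π.range ≤ L ⊔ L.map (MulAut.conj x).toMonoidHom := by
    rintro g ⟨⟨l, hl⟩, rfl⟩
    rw [hπ]
    exact Subgroup.mul_mem _ (Subgroup.mem_sup_left hl)
      (Subgroup.mem_sup_right ((hmem _).mpr ⟨l, hl, rfl⟩))
  refine ⟨π, hπ, ?_, hrangeC, ?_⟩
  · -- kernel central
    rintro ⟨l, hl⟩ hker
    rw [MonoidHom.mem_ker, hπ] at hker
    change l * (x * l * x⁻¹) = 1 at hker
    rw [Subgroup.mem_center_iff]
    rintro ⟨a, ha⟩
    apply Subtype.ext
    show a * l = l * a
    have h1 : l = x * l⁻¹ * x⁻¹ := by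
      have : l = (x * l * x⁻¹)⁻¹ := eq_inv_of_mul_eq_one_left hker
      calc l = (x * l * x⁻¹)⁻¹ := this
        _ = x * l⁻¹ * x⁻¹ := by group
    have h2 := hc a ha l⁻¹ (L.inv_mem hl)
    rw [← h1] at h2
    exact h2
  · apply le_antisymm
    · rw [Subgroup.commutator_le]
      -- decomposition
      have hdec : ∀ c ∈ (L ⊔ L.map (MulAut.conj x).toMonoidHom) ⊓
          Subgroup.centralizer ({x} : Set G), ∃ z : G, ∃ b : ↥L,
            (∀ m ∈ L ⊔ L.map (MulAut.conj x).toMonoidHom, Commute z m) ∧ c = z * π b := by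
        intro c hc0
        obtain ⟨hcM, hcC⟩ := Subgroup.mem_inf.mp hc0
        have hnorm : L ≤ Subgroup.normalizer
            ((L.map (MulAut.conj x).toMonoidHom : Subgroup G) : Set G) := by
          refine le_trans ?_ (Subgroup.centralizer_le_normalizer _)
          rwa [← Subgroup.commutator_eq_bot_iff_le_centralizer]
        have hcM' : c ∈ ((L ⊔ L.map (MulAut.conj x).toMonoidHom : Subgroup G) : Set G) := hcM
        rw [Subgroup.coe_mul_of_left_le_normalizer_right _ _ hnorm] at hcM'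
        obtain ⟨a, ha, b', hb', rfl⟩ := Set.mem_mul.mp hcM'
        obtain ⟨b, hb, rfl⟩ := (hmem _).mp hb'
        rw [Subgroup.mem_centralizer_iff] at hcC
        have hcx := hcC x rfl
        -- x * (a * (x b x⁻¹)) = a * (x b x⁻¹) * x
        have hkey : x * (a * b⁻¹) * x⁻¹ = b⁻¹ * a := by
          have e1 : (x * a * x⁻¹) * b = a * (x * b * x⁻¹) := by
            calc (x * a * x⁻¹) * b = x * a * x * b := by rw [hxi]
              _ = x * a * x * b * (x * x)⁻¹ := by rw [hxx]; group
              _ = x * (a * (x * b * x⁻¹)) * x⁻¹ := by group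
              _ = a * (x * b * x⁻¹) * x * x⁻¹ := by rw [hcx]
              _ = a * (x * b * x⁻¹) := by group
          have e2 := hc b hb a ha
          -- b * (x a x⁻¹) = a * (x b x⁻¹)
          rw [← e2] at e1
          -- x a b⁻¹ x⁻¹ = (x a x⁻¹)(x b x⁻¹)⁻¹
          calc x * (a * b⁻¹) * x⁻¹ = (x * a * x⁻¹) * (x * b * x⁻¹)⁻¹ := by group
            _ = b⁻¹ * (b * (x * a * x⁻¹)) * (x * b * x⁻¹)⁻¹ := by group
            _ = b⁻¹ * (a * (x * b * x⁻¹)) * (x * b * x⁻¹)⁻¹ := by rw [e1]
            _ = _ := by group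
        have hzL : a * b⁻¹ ∈ L := L.mul_mem ha (L.inv_mem hb)
        have hzL' : a * b⁻¹ ∈ L.map (MulAut.conj x).toMonoidHom := by
          refine (hmem _).mpr ⟨b⁻¹ * a, L.mul_mem (L.inv_mem hb) ha, ?_⟩
          rw [← hkey]
          calc x * (x * (a * b⁻¹) * x⁻¹) * x⁻¹ = (x * x) * (a * b⁻¹) * (x * x)⁻¹ := by group
            _ = _ := by rw [hxx]; group
        refine ⟨a * b⁻¹, ⟨b, hb⟩, ?_, ?_⟩
        · intro m hm
          have : L ⊔ L.map (MulAut.conj x).toMonoidHom ≤
              Subgroup.centralizer ({a * b⁻¹} : Set G) := by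
            apply sup_le
            · intro l hl
              rw [Subgroup.mem_centralizer_iff]
              intro w hw
              rw [Set.mem_singleton_iff] at hw
              subst hw
              obtain ⟨l', hl', hl'e⟩ := (hmem _).mp hzL'
              rw [← hl'e]
              exact (hc l hl l' hl').symm
            · intro l hl
              rw [Subgroup.mem_centralizer_iff]
              intro w hw
              rw [Set.mem_singleton_iff] at hw
              subst hw
              obtain ⟨l', hl', rfl⟩ := (hmem _).mp hl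
              exact hc _ hzL l' hl'
          have h3 := this hm
          rw [Subgroup.mem_centralizer_iff] at h3
          exact h3 _ rfl
        · rw [hπ]
          show a * (x * b * x⁻¹) = a * b⁻¹ * (b * (x * b * x⁻¹))
          group
      intro c₁ hc₁ c₂ hc₂
      obtain ⟨z₁, b₁, hz₁, rfl⟩ := hdec c₁ hc₁
      obtain ⟨z₂, b₂, hz₂, rfl⟩ := hdec c₂ hc₂
      have hp₁ : π b₁ ∈ L ⊔ L.map (MulAut.conj x).toMonoidHom := hrangeM ⟨b₁, rfl⟩
      have hp₂ : π b₂ ∈ L ⊔ L.map (MulAut.conj x).toMonoidHom := hrangeM ⟨b₂, rfl⟩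
      have hz₂M : z₂ ∈ L ⊔ L.map (MulAut.conj x).toMonoidHom := by
        have := hc₂.1
        have h4 : z₂ = z₂ * π b₂ * (π b₂)⁻¹ := by group
        rw [h4]
        exact Subgroup.mul_mem _ this (Subgroup.inv_mem _ hp₂)
      rw [diag_commutatorElement_mul_left_of_commute (hz₁ _ hp₁)
        ((hz₁ _ hz₂M).mul_right (hz₁ _ hp₂)),
        diag_commutatorElement_mul_right_of_commute (hz₂ _ hp₁) (hz₂ _ hp₂),
        ← map_commutatorElement]
      exact ⟨_, rfl⟩
    · have hperf' : _root_.commutator ↥L = ⊤ := by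
        apply Subgroup.map_injective L.subtype_injective
        rw [Subgroup.map_subtype_commutator, hperf, ← MonoidHom.range_eq_map,
          Subgroup.range_subtype]
      have h5 : π.range = ⁅π.range, π.range⁆ := by
        conv_lhs => rw [MonoidHom.range_eq_map, ← hperf', commutator_def, Subgroup.map_commutator,
          ← MonoidHom.range_eq_map]
      rw [h5]
      exact Subgroup.commutator_mono (le_inf hrangeM hrangeC) (le_inf hrangeM hrangeC)

end Cfsg.Agent.Lib.Helper20
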