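import Cfsg.Agent.Lib.Helper20.Fitting

/-!
`E(X) = C_{E(X)}(U) [E(X), U]` for any subgroup `U` (helper20).
-/

set_option autoImplicit false

namespace Cfsg.Agent.Lib.Helper20

open scoped commutatorElement

variable {X : Type*} [Group X] [Finite X]

/-- `[E(X), U]` is subnormal in `X`. -/
theorem commutator_layer_isSubnormal (U : Subgroup X) : (⁅Cfsg.layer X, U⁆).IsSubnormal := by
  have hle : ⁅Cfsg.layer X, U⁆ ≤ Cfsg.layer X := Subgroup.commutator_le_left _ _
  refine Subgroup.IsSubnormal.step _ (Cfsg.layer X) hle (layer_normal.isSubnormal) ?_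
  have hn : Cfsg.layer X ≤ Subgroup.normalizer ((⁅Cfsg.layer X, U⁆ : Subgroup X) : Set X) :=
    Subgroup.normalizer_commutator_ge_left _ _
  exact (Subgroup.normal_subgroupOf_iff_le_normalizer hle).mpr hn

/-- A component of `X` either lies in `[E(X), U]` or is centralized by `U`. -/
theorem component_le_commutator_or_le_centralizer (U K : Subgroup X) (hK : Cfsg.IsComponent K) :
    K ≤ ⁅Cfsg.layer X, U⁆ ∨ K ≤ Subgroup.centralizer (U : Set X) := by
  rcases component_le_or_commutes K _ hK (commutator_layer_isSubnormal U) with h | h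
  · exact Or.inl h
  · right
    have hKE : K ≤ Cfsg.layer X := component_le_layer K hK
    have h1 : ⁅⁅K, U⁆, K⁆ = ⊥ := by
      rw [Subgroup.commutator_comm]
      exact le_bot_iff.mp (h ▸ Subgroup.commutator_mono le_rfl (Subgroup.commutator_mono hKE le_rfl))
    have h2 : ⁅⁅U, K⁆, K⁆ = ⊥ := by rw [Subgroup.commutator_comm U K]; exact h1
    have h3 : ⁅⁅K, K⁆, U⁆ = ⊥ := Subgroup.commutator_commutator_eq_bot_of_rotate h1 h2
    have hperf : ⁅K, K⁆ = K := isComponent_perfect hK
    rw [hperf] at h3
    exact Subgroup.commutator_eq_bot_iff_le_centralizer.mp h3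

theorem layer_eq_centralizer_sup_commutator (U : Subgroup X) :
    Cfsg.layer X = (Cfsg.layer X ⊓ Subgroup.centralizer (U : Set X)) ⊔ ⁅Cfsg.layer X, U⁆ := by
  have hle : ⁅Cfsg.layer X, U⁆ ≤ Cfsg.layer X := Subgroup.commutator_le_left _ _
  apply le_antisymm
  · unfold Cfsg.layer
    refine sSup_le ?_
    intro K hK
    rcases component_le_commutator_or_le_centralizer U K hK with h | h
    · exact le_trans h le_sup_right
    · exact le_trans (le_inf (component_le_layer K hK) h) le_sup_left
  · exact sup_le inf_le_left hle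

end Cfsg.Agent.Lib.Helper20
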