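import Cfsg.Agent.Lib.Helper20.FstarSub
import Cfsg.Agent.Lib.Helper20.LayerComm
import Cfsg.Agent.Lib.Helper13.Coprime
import Cfsg.Agent.Lib.Helper16.Subnormal
import Cfsg.Agent.Lib.Helper16.ThompsonAxB

/-!
Commutators `[F*(H), Y]` for a `p`-subgroup `Y` when `O_p(H) = 1` (helper20).
-/

set_option autoImplicit false

namespace Cfsg.Agent.Lib.Helper20

open scoped commutatorElement
open Cfsg

/-- If `X = [X,Y] (X ∩ C(Y))` then `[X,Y,Y] = [X,Y]`. -/
theorem commutator_stable_of_le_sup {G : Type*} [Group G] (X Y : Subgroup G)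
    (hYX : Y ≤ Subgroup.normalizer (X : Set G))
    (h : X ≤ ⁅X, Y⁆ ⊔ (X ⊓ Subgroup.centralizer (Y : Set G))) :
    ⁅⁅X, Y⁆, Y⁆ = ⁅X, Y⁆ := by
  have hDX : ⁅X, Y⁆ ≤ X := Subgroup.le_normalizer_iff_commutator_le_left.mp hYX
  apply le_antisymm (Subgroup.commutator_mono hDX le_rfl)
  have hXn : X ≤ Subgroup.normalizer ((⁅⁅X, Y⁆, Y⁆ : Subgroup G) : Set G) := by
    refine h.trans (sup_le ?_ ?_)
    · exact Subgroup.normalizer_commutator_ge_left _ _
    · intro c hc
      have hc1 : c ∈ Subgroup.normalizer ((⁅X, Y⁆ : Subgroup G) : Set G) :=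
        Subgroup.normalizer_commutator_ge_left X Y hc.1
      have hc2 : c ∈ Subgroup.normalizer ((Y : Subgroup G) : Set G) := by
        have := Subgroup.mem_centralizer_iff.mp hc.2
        rw [Subgroup.mem_normalizer_iff]
        intro y
        constructor
        · intro hy
          have h1 := this y hy
          have : c * y * c⁻¹ = y := by rw [← h1]; group
          rw [this]; exact hy
        · intro hy
          have h1 := this _ hy
          have h2 : c * y * c⁻¹ = y := by
            have : c * y * c⁻¹ * c = c * (c * y * c⁻¹) := h1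
            have h3 : c * y = c * (c * y * c⁻¹) := by rw [← this]; group
            exact (mul_left_cancel h3).symm
          rw [← h2]; exact hy
      exact Cfsg.Agent.Lib.Helper16.inf_normalizer_le_normalizer_commutator _ _ ⟨hc1, hc2⟩
  -- the subgroup of x ∈ X with [x, Y] ⊆ D'
  let T : Subgroup G :=
    { carrier := {x | x ∈ X ∧ ∀ y ∈ Y, ⁅x, y⁆ ∈ ⁅⁅X, Y⁆, Y⁆}
      one_mem' := ⟨X.one_mem, fun y _ => by
        rw [commutatorElement_one_left]; exact Subgroup.one_mem _⟩
      mul_mem' := by
        rintro a b ⟨ha, ha'⟩ ⟨hb, hb'⟩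
        refine ⟨X.mul_mem ha hb, fun y hy => ?_⟩
        rw [commutatorElement_mul_left_eq_conj_mul]
        refine Subgroup.mul_mem _ ?_ (ha' y hy)
        exact (Subgroup.mem_normalizer_iff.mp (hXn ha) _).mp (hb' y hy)
      inv_mem' := by
        rintro a ⟨ha, ha'⟩
        refine ⟨X.inv_mem ha, fun y hy => ?_⟩
        rw [commutatorElement_inv_left]
        have h1 : ⁅y, a⁆ ∈ ⁅⁅X, Y⁆, Y⁆ := by
          rw [← commutatorElement_inv]; exact Subgroup.inv_mem _ (ha' y hy)
        have h2 := (Subgroup.mem_normalizer_iff.mp (hXn (X.inv_mem ha)) _).mp h1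
        simpa using h2 }
  have hT1 : ⁅X, Y⁆ ≤ T := fun d hd => ⟨hDX hd, fun y hy => Subgroup.commutator_mem_commutator hd hy⟩
  have hT2 : X ⊓ Subgroup.centralizer (Y : Set G) ≤ T := by
    intro c hc
    refine ⟨hc.1, fun y hy => ?_⟩
    have := Subgroup.mem_centralizer_iff.mp hc.2 y hy
    have h1 : ⁅c, y⁆ = 1 := by
      rw [commutatorElement_eq_one_iff_mul_comm]; exact this.symm
    rw [h1]; exact Subgroup.one_mem _
  have hXT : X ≤ T := h.trans (sup_le hT1 hT2)
  rw [Subgroup.commutator_le]
  intro x hx y hy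
  exact (hXT hx).2 y hy


/-- `F*(X) ∩ S = F*(S)` for `S` subnormal in `X`. -/
theorem genFitting_inf_subnormal {A : Type*} [Group A] [Finite A] (B : Subgroup A)
    (hBsn : B.IsSubnormal) :
    generalizedFittingSubgroup A ⊓ B = (generalizedFittingSubgroup ↥B).map B.subtype := by
  apply le_antisymm
  · have hFn : (generalizedFittingSubgroup A).Normal := inferInstance
    have hSsn : (generalizedFittingSubgroup A ⊓ B).IsSubnormal :=
      (Subgroup.Normal.isSubnormal hFn).inf hBsn
    have h1 := fitting_sup_layer_subnormal_eq_top (generalizedFittingSubgroup A ⊓ B) inf_le_left hSsn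
    have h2 : generalizedFittingSubgroup A ⊓ B =
        (fittingSubgroup ↥(generalizedFittingSubgroup A ⊓ B) ⊔
          layer ↥(generalizedFittingSubgroup A ⊓ B)).map
            (generalizedFittingSubgroup A ⊓ B).subtype := by
      rw [h1, ← MonoidHom.range_eq_map, Subgroup.range_subtype]
    rw [h2, Subgroup.map_sup]
    apply sup_le
    · rw [fitting_subnormal_eq _ hSsn]
      have h3 : fittingSubgroup A ⊓ (generalizedFittingSubgroup A ⊓ B) ≤ fittingSubgroup A ⊓ B :=
        inf_le_inf_left _ inf_le_right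
      refine h3.trans ?_
      rw [← fitting_subnormal_eq B hBsn]
      exact Subgroup.map_mono le_sup_right
    · rw [Subgroup.map_le_iff_le_comap]
      apply sSup_le
      intro K hK
      rw [← Subgroup.map_le_iff_le_comap]
      have hK' := (isComponent_map_subtype_iff _ hSsn K).mp hK
      have hKB : K.map (generalizedFittingSubgroup A ⊓ B).subtype ≤ B :=
        (Subgroup.map_subtype_le _).trans inf_le_right
      exact (component_le_map_layer_of_le hK' hKB).trans (Subgroup.map_mono le_sup_left)
  · apply le_inf _ (Subgroup.map_subtype_le _)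
    unfold generalizedFittingSubgroup
    rw [Subgroup.map_sup]
    apply sup_le_sup
    · exact map_layer_subnormal_le B hBsn
    · rw [fitting_subnormal_eq B hBsn]
      exact inf_le_left

/-- A subgroup `D` with `[D, Y] = D` lies in every subnormal subgroup containing `Y`. -/
theorem le_of_commutator_eq_of_isSubnormal {G : Type*} [Group G] {K : Subgroup G}
    (hK : K.IsSubnormal) (D Y : Subgroup G) (hYK : Y ≤ K) (hD : ⁅D, Y⁆ = D) : D ≤ K := by
  induction hK with
  | top => exact le_top
  | step A B hAB hB hN ih =>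
    have hDB := ih (hYK.trans hAB)
    rw [← hD]
    refine (Subgroup.commutator_mono hDB hYK).trans ?_
    rw [Subgroup.normal_subgroupOf_iff_le_normalizer hAB] at hN
    exact Subgroup.le_normalizer_iff_commutator_le_right.mp hN

/-- If `O_p(H) = 1` then `F(H)` is a `p'`-group. -/
theorem fitting_coprime_of_pCore_eq_bot {H : Type*} [Group H] [Finite H] (p : ℕ)
    [hp : Fact p.Prime] (hO : pCore p H = ⊥) : (Nat.card ↥(fittingSubgroup H)).Coprime p := by
  have hn : Group.IsNilpotent ↥(fittingSubgroup H) := fittingSubgroup_isNilpotent'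
  have hFn : (fittingSubgroup H).Normal := fittingSubgroup_normal'
  have P : Sylow p ↥(fittingSubgroup H) := Classical.arbitrary _
  have hPn : (P : Subgroup ↥(fittingSubgroup H)).Normal := inferInstance
  have hPc : (P : Subgroup ↥(fittingSubgroup H)).Characteristic := P.characteristic_of_normal hPn
  have h1 : (P : Subgroup ↥(fittingSubgroup H)).map (fittingSubgroup H).subtype ≤ pCore p H := by
    apply le_pCore'
    · exact ConjAct.normal_of_characteristic_of_normal
    · exact P.isPGroup'.map _
  rw [hO, le_bot_iff, Subgroup.map_eq_bot_iff_of_injective _ (Subgroup.subtype_injective _)] at h1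
  have h2 : ¬ p ∣ (P : Subgroup ↥(fittingSubgroup H)).index := P.not_dvd_index
  rw [h1, Subgroup.index_bot] at h2
  exact (Nat.Coprime.symm ((Nat.Prime.coprime_iff_not_dvd hp.out).mpr h2))

section
variable {H : Type*} [Group H] [Finite H] {p : ℕ} [hp : Fact p.Prime]

theorem genFitting_le_commutator_sup_centralizer (hO : pCore p H = ⊥) (Y : Subgroup H)
    (hY : IsPGroup p ↥Y) :
    generalizedFittingSubgroup H ≤ ⁅generalizedFittingSubgroup H, Y⁆ ⊔
      (generalizedFittingSubgroup H ⊓ Subgroup.centralizer (Y : Set H)) := by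
  have hFn : (fittingSubgroup H).Normal := fittingSubgroup_normal'
  have hEle : layer H ≤ generalizedFittingSubgroup H := by
    unfold generalizedFittingSubgroup; exact le_sup_left
  have hFle : fittingSubgroup H ≤ generalizedFittingSubgroup H := by
    unfold generalizedFittingSubgroup; exact le_sup_right
  have hE : layer H ≤ ⁅generalizedFittingSubgroup H, Y⁆ ⊔
      (generalizedFittingSubgroup H ⊓ Subgroup.centralizer (Y : Set H)) := by
    have h1 := layer_eq_centralizer_sup_commutator (X := H) Y
    calc layer H = (layer H ⊓ Subgroup.centralizer (Y : Set H)) ⊔ ⁅layer H, Y⁆ := h1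
      _ ≤ _ := sup_le (le_sup_of_le_right (inf_le_inf_right _ hEle))
          (le_sup_of_le_left (Subgroup.commutator_mono hEle le_rfl))
  have hF : fittingSubgroup H ≤ ⁅generalizedFittingSubgroup H, Y⁆ ⊔
      (generalizedFittingSubgroup H ⊓ Subgroup.centralizer (Y : Set H)) := by
    have hcop : (Nat.card ↥Y).Coprime (Nat.card ↥(fittingSubgroup H)) := by
      obtain ⟨k, hk⟩ := IsPGroup.iff_card.mp hY
      rw [hk]
      exact Nat.Coprime.pow_left k (fitting_coprime_of_pCore_eq_bot p hO).symm
    have hYN : Y ≤ Subgroup.normalizer ((fittingSubgroup H : Subgroup H) : Set H) := by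
      rw [Subgroup.normalizer_eq_top]; exact le_top
    have h1 := Cfsg.Agent.Lib.Helper13.coprime_commutator_sup_centralizer Y (fittingSubgroup H) hYN
      hcop (Or.inr fittingSubgroup_isSolvable)
    calc fittingSubgroup H = ⁅fittingSubgroup H, Y⁆ ⊔
          (fittingSubgroup H ⊓ Subgroup.centralizer (Y : Set H)) := h1.symm
      _ ≤ _ := sup_le_sup (Subgroup.commutator_mono hFle le_rfl) (inf_le_inf_right _ hFle)
  unfold generalizedFittingSubgroup at *
  exact sup_le hE hF

theorem genFitting_commutator_stable (hO : pCore p H = ⊥) (Y : Subgroup H)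
    (hY : IsPGroup p ↥Y) :
    ⁅⁅generalizedFittingSubgroup H, Y⁆, Y⁆ = ⁅generalizedFittingSubgroup H, Y⁆ := by
  apply commutator_stable_of_le_sup
  · rw [Subgroup.normalizer_eq_top]; exact le_top
  · exact genFitting_le_commutator_sup_centralizer hO Y hY

/-- A `p`-subgroup centralizing `F*(H)` is trivial when `O_p(H) = 1`. -/
theorem eq_bot_of_commutator_genFitting_eq_bot (hO : pCore p H = ⊥) (Y : Subgroup H)
    (hY : IsPGroup p ↥Y) (h : ⁅generalizedFittingSubgroup H, Y⁆ = ⊥) : Y = ⊥ := by
  have h1 : Y ≤ Subgroup.centralizer (generalizedFittingSubgroup H : Set H) := by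
    rw [Subgroup.commutator_comm] at h
    exact Subgroup.commutator_eq_bot_iff_le_centralizer.mp h
  have h2 : Y ≤ generalizedFittingSubgroup H := h1.trans centralizer_genFitting_le
  -- Z = F* ⊓ C(F*)
  have hZn : (generalizedFittingSubgroup H ⊓
      Subgroup.centralizer (generalizedFittingSubgroup H : Set H)).Normal := inferInstance
  have hYZ : Y ≤ generalizedFittingSubgroup H ⊓
      Subgroup.centralizer (generalizedFittingSubgroup H : Set H) := le_inf h2 h1
  have hsn : Y.IsSubnormal := by
    refine Subgroup.IsSubnormal.step _ _ hYZ hZn.isSubnormal ?_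
    rw [Subgroup.normal_subgroupOf_iff_le_normalizer hYZ]
    refine inf_le_right.trans ?_
    refine le_trans ?_ (Subgroup.centralizer_le_normalizer (Y : Set H))
    exact Subgroup.centralizer_le h2
  have := Cfsg.Agent.Lib.Helper16.le_pCore_of_isSubnormal_of_isPGroup p hsn hY
  rw [hO] at this
  exact le_bot_iff.mp this

theorem genFitting_commutator_main (hO : pCore p H = ⊥) (Y : Subgroup H) (hY : IsPGroup p ↥Y) :
    (∀ K : Subgroup H, K.IsSubnormal → Y ≤ K →
      ⁅generalizedFittingSubgroup H, Y⁆ = ⁅(generalizedFittingSubgroup ↥K).map K.subtype, Y⁆ ∧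
      ⁅(generalizedFittingSubgroup ↥K).map K.subtype, Y⁆ =
        ⁅⁅(generalizedFittingSubgroup ↥K).map K.subtype, Y⁆, Y⁆) ∧
    (∀ Y₀ : Subgroup H, Y₀ ≤ Y → ⁅⁅generalizedFittingSubgroup H, Y⁆, Y₀⁆ = ⊥ → Y₀ = ⊥) := by
  have hst := genFitting_commutator_stable hO Y hY
  constructor
  · intro K hK hYK
    have hDK : ⁅generalizedFittingSubgroup H, Y⁆ ≤ K :=
      le_of_commutator_eq_of_isSubnormal hK _ Y hYK hst
    have hDF : ⁅generalizedFittingSubgroup H, Y⁆ ≤ generalizedFittingSubgroup H :=
      Subgroup.commutator_le_left _ _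
    have hDFK : ⁅generalizedFittingSubgroup H, Y⁆ ≤
        (generalizedFittingSubgroup ↥K).map K.subtype := by
      rw [← genFitting_inf_subnormal K hK]; exact le_inf hDF hDK
    have hFK : (generalizedFittingSubgroup ↥K).map K.subtype ≤ generalizedFittingSubgroup H := by
      rw [← genFitting_inf_subnormal K hK]; exact inf_le_left
    have heq : ⁅generalizedFittingSubgroup H, Y⁆ =
        ⁅(generalizedFittingSubgroup ↥K).map K.subtype, Y⁆ := by
      apply le_antisymm
      · calc ⁅generalizedFittingSubgroup H, Y⁆ = ⁅⁅generalizedFittingSubgroup H, Y⁆, Y⁆ := hst.symm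
          _ ≤ _ := Subgroup.commutator_mono hDFK le_rfl
      · exact Subgroup.commutator_mono hFK le_rfl
    refine ⟨heq, ?_⟩
    rw [← heq, hst]
  · intro Y₀ hY₀ h
    have hY₀p : IsPGroup p ↥Y₀ := hY.to_le hY₀
    apply eq_bot_of_commutator_genFitting_eq_bot hO Y₀ hY₀p
    rw [← genFitting_commutator_stable hO Y₀ hY₀p, ← le_bot_iff, ← h]
    exact Subgroup.commutator_mono (Subgroup.commutator_mono le_rfl hY₀) le_rfl

end

end Cfsg.Agent.Lib.Helper20
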