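import Mathlib.GroupTheory.Abelianization.Defs
import Mathlib.GroupTheory.Frattini
import Mathlib.GroupTheory.Subgroup.Centralizer
import Mathlib.GroupTheory.Commutator.Basic
import Mathlib.GroupTheory.OrderOfElement
import Mathlib.Tactic.Group
import Cfsg.Agent.Lib.Helper20.Quasisimple

/-!
The norm map for an acting group on the abelianization, and `Z(G) ∩ G' ≤ Φ(G)` (helper20).
-/

set_option autoImplicit false

namespace Cfsg.Agent.Lib.Helper20

open scoped commutatorElement

/-- `Z(G) ∩ G' ≤ Φ(G)`. -/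
theorem center_inf_commutator_le_frattini (G : Type*) [Group G] :
    Subgroup.center G ⊓ commutator G ≤ frattini G := by
  unfold frattini Order.radical
  intro z hz
  rw [Subgroup.mem_iInf]
  intro M
  rw [Subgroup.mem_iInf]
  intro hM
  by_contra hzM
  have hlt : M < M ⊔ Subgroup.zpowers z := by
    refine lt_of_le_of_ne le_sup_left ?_
    intro h
    apply hzM
    rw [h]
    exact Subgroup.mem_sup_right (Subgroup.mem_zpowers z)
  have htop : M ⊔ Subgroup.zpowers z = ⊤ := hM.2 _ hlt
  have hzc : Subgroup.zpowers z ≤ Subgroup.center G := by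
    rw [Subgroup.zpowers_le]; exact hz.1
  have hzn : (Subgroup.zpowers z).Normal := by
    refine ⟨fun x hx g => ?_⟩
    have := Subgroup.mem_center_iff.mp (hzc hx) g
    have h2 : g * x * g⁻¹ = x := by rw [this]; group
    rw [h2]; exact hx
  have hcomm : commutator G ≤ M := by
    rw [commutator_def, Subgroup.commutator_le]
    intro a _ b _
    have ha : a ∈ M ⊔ Subgroup.zpowers z := by rw [htop]; trivial
    have hb : b ∈ M ⊔ Subgroup.zpowers z := by rw [htop]; trivial
    obtain ⟨m1, hm1, z1, hz1, rfl⟩ := Subgroup.mem_sup_of_normal_right.mp ha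
    obtain ⟨m2, hm2, z2, hz2, rfl⟩ := Subgroup.mem_sup_of_normal_right.mp hb
    rw [commutatorElement_mul_center m1 m2 z1 z2 (hzc hz1) (hzc hz2)]
    exact Subgroup.commutator_mem_commutator hm1 hm2 |> fun h =>
      (Subgroup.commutator_le_self M) h
  exact hzM (hcomm hz.2)

/-- Norm map: if `[R, B] = R` then every element of `C_R(B)` has its `|B|`-th power in `R'`. -/
theorem pow_card_mem_commutator_of_mem_centralizer {G : Type*} [Group G] (R B : Subgroup G)
    [Finite ↥B] (hBN : B ≤ Subgroup.normalizer (R : Set G)) (hRB : ⁅R, B⁆ = R) (r : G)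
    (hr : r ∈ R) (hrB : r ∈ Subgroup.centralizer (B : Set G)) :
    r ^ Nat.card ↥B ∈ ⁅R, R⁆ := by
  classical
  have := Fintype.ofFinite ↥B
  let φ := R.normalizerMonoidHom
  let c : ↥B → (↥R →* Abelianization ↥R) := fun b =>
    (Abelianization.of).comp (φ (Subgroup.inclusion hBN b)).toMonoidHom
  let θ : ↥R →* Abelianization ↥R := ∏ b : ↥B, c b
  have hθ : ∀ x : ↥R, θ x = ∏ b : ↥B, Abelianization.of (φ (Subgroup.inclusion hBN b) x) := by
    intro x
    show (∏ b : ↥B, c b) x = _
    rw [MonoidHom.finset_prod_apply]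
    rfl
  -- invariance
  have hinv : ∀ (b0 : ↥B) (x : ↥R), θ (φ (Subgroup.inclusion hBN b0) x) = θ x := by
    intro b0 x
    rw [hθ, hθ]
    refine Fintype.prod_equiv (Equiv.mulRight b0) _ _ ?_
    intro b
    have : φ (Subgroup.inclusion hBN (b * b0)) = φ (Subgroup.inclusion hBN b) *
        φ (Subgroup.inclusion hBN b0) := by
      rw [← map_mul, ← map_mul]
    show Abelianization.of (φ (Subgroup.inclusion hBN b) (φ (Subgroup.inclusion hBN b0) x)) =
      Abelianization.of (φ (Subgroup.inclusion hBN (b * b0)) x)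
    rw [this]
    rfl
  -- θ is trivial on R = [R,B]
  have hker : R ≤ θ.ker.map R.subtype := by
    have hker' : ⁅R, B⁆ ≤ θ.ker.map R.subtype := by
      rw [Subgroup.commutator_le]
      intro s hs b0 hb0
      let s' : ↥R := ⟨s, hs⟩
      refine ⟨s' * φ (Subgroup.inclusion hBN ⟨b0, hb0⟩) s'⁻¹, ?_, ?_⟩
      · show s' * φ (Subgroup.inclusion hBN ⟨b0, hb0⟩) s'⁻¹ ∈ θ.ker
        rw [MonoidHom.mem_ker, map_mul, hinv, map_inv, mul_inv_cancel]
      · show s * (b0 * s⁻¹ * b0⁻¹) = ⁅s, b0⁆
        rw [commutatorElement_def]; group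
    exact hRB.symm.le.trans hker'
  obtain ⟨r', hr', hr'r⟩ := hker hr
  have hfix : ∀ b : ↥B, φ (Subgroup.inclusion hBN b) r' = r' := by
    intro b
    apply Subtype.ext
    show (b : G) * (r' : G) * (b : G)⁻¹ = (r' : G)
    have hr'r' : (r' : G) = r := hr'r
    rw [hr'r']
    have := Subgroup.mem_centralizer_iff.mp hrB b.1 b.2
    rw [this]; group
  have h1 : θ r' = Abelianization.of r' ^ Nat.card ↥B := by
    rw [hθ]
    simp only [hfix]
    rw [Finset.prod_const, Finset.card_univ, Nat.card_eq_fintype_card]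
  have h2 : θ r' = 1 := MonoidHom.mem_ker.mp hr'
  have h3 : r' ^ Nat.card ↥B ∈ commutator ↥R := by
    rw [← Abelianization.ker_of, MonoidHom.mem_ker, map_pow, ← h1, h2]
  rw [← Subgroup.map_subtype_commutator]
  refine ⟨r' ^ Nat.card ↥B, h3, ?_⟩
  have hr'r' : (r' : G) = r := hr'r
  simp [hr'r']

/-- Coprime version: `C_R(B) ≤ R'` when `[R,B] = R` and `r` has order prime to `|B|`. -/
theorem mem_commutator_of_mem_centralizer_of_coprime {G : Type*} [Group G] (R B : Subgroup G)
    [Finite ↥B] (hBN : B ≤ Subgroup.normalizer (R : Set G)) (hRB : ⁅R, B⁆ = R) (r : G)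
    (hr : r ∈ R) (hrB : r ∈ Subgroup.centralizer (B : Set G))
    (hcop : (Nat.card ↥B).Coprime (orderOf r)) : r ∈ ⁅R, R⁆ := by
  have h1 := pow_card_mem_commutator_of_mem_centralizer R B hBN hRB r hr hrB
  obtain ⟨m, hm⟩ := exists_pow_eq_self_of_coprime hcop
  rw [← hm]
  exact Subgroup.pow_mem _ h1 m

end Cfsg.Agent.Lib.Helper20
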