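import Cfsg.Agent.Lib.Helper20.FstarComm
import Cfsg.Agent.Lib.Helper20.NormMap
import Cfsg.Agent.Lib.Helper20.StabChain
import Cfsg.Agent.Lib.Helper16.WeaklyClosed
import Cfsg.Agent.Lib.Helper17.SylowConj

/-!
The structure of `L = [F*(H), Q]` for a `p`-subgroup `Q` when `O_p(H) = 1` (helper20).
-/

set_option autoImplicit false

namespace Cfsg.Agent.Lib.Helper20

open scoped commutatorElement
open Cfsg

section normalizer
variable {G : Type*} [Group G]

theorem mem_normalizer_sup' {A B : Subgroup G} {g : G}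
    (hA : g ∈ Subgroup.normalizer (A : Set G)) (hB : g ∈ Subgroup.normalizer (B : Set G)) :
    g ∈ Subgroup.normalizer ((A ⊔ B : Subgroup G) : Set G) := by
  rw [← Cfsg.Agent.Lib.Helper16.map_conj_eq_self_iff] at hA hB ⊢
  rw [Subgroup.map_sup, hA, hB]

theorem mem_normalizer_inf' {A B : Subgroup G} {g : G}
    (hA : g ∈ Subgroup.normalizer (A : Set G)) (hB : g ∈ Subgroup.normalizer (B : Set G)) :
    g ∈ Subgroup.normalizer ((A ⊓ B : Subgroup G) : Set G) := by
  rw [← Cfsg.Agent.Lib.Helper16.map_conj_eq_self_iff] at hA hB ⊢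
  rw [Subgroup.map_inf_eq _ _ _ (MulAut.conj g).injective, hA, hB]

theorem le_normalizer_sup' {A B K : Subgroup G}
    (hA : K ≤ Subgroup.normalizer (A : Set G)) (hB : K ≤ Subgroup.normalizer (B : Set G)) :
    K ≤ Subgroup.normalizer ((A ⊔ B : Subgroup G) : Set G) :=
  fun _ hg => mem_normalizer_sup' (hA hg) (hB hg)

theorem le_normalizer_inf' {A B K : Subgroup G}
    (hA : K ≤ Subgroup.normalizer (A : Set G)) (hB : K ≤ Subgroup.normalizer (B : Set G)) :
    K ≤ Subgroup.normalizer ((A ⊓ B : Subgroup G) : Set G) :=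
  fun _ hg => mem_normalizer_inf' (hA hg) (hB hg)

theorem le_centralizer_sup' {A B K : Subgroup G}
    (hA : K ≤ Subgroup.centralizer (A : Set G)) (hB : K ≤ Subgroup.centralizer (B : Set G)) :
    K ≤ Subgroup.centralizer ((A ⊔ B : Subgroup G) : Set G) := by
  rw [Subgroup.le_centralizer_iff]
  exact sup_le (Subgroup.le_centralizer_iff.mp hA) (Subgroup.le_centralizer_iff.mp hB)

/-- If `F` is normalized by `Fs` and centralized by `Q` then `F` centralizes `[Fs, Q]`. -/
theorem le_centralizer_commutator_of_normal_of_centralized (Fs Q F : Subgroup G)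
    (hF2 : Fs ≤ Subgroup.normalizer (F : Set G)) (hF3 : Q ≤ Subgroup.centralizer (F : Set G)) :
    F ≤ Subgroup.centralizer ((⁅Fs, Q⁆ : Subgroup G) : Set G) := by
  have hQF : ⁅Q, F⁆ = ⊥ := Subgroup.commutator_eq_bot_iff_le_centralizer.mpr hF3
  have h1 : ⁅⁅Q, F⁆, Fs⁆ = ⊥ := by rw [hQF, Subgroup.commutator_bot_left]
  have h2 : ⁅⁅F, Fs⁆, Q⁆ = ⊥ := by
    have h3 : ⁅F, Fs⁆ ≤ F := Subgroup.le_normalizer_iff_commutator_le_left.mp hF2
    rw [← le_bot_iff, ← hQF, Subgroup.commutator_comm Q F]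
    exact Subgroup.commutator_mono h3 le_rfl
  have h3 := Subgroup.commutator_commutator_eq_bot_of_rotate h1 h2
  rw [Subgroup.commutator_comm] at h3
  exact Subgroup.commutator_eq_bot_iff_le_centralizer.mp h3

end normalizer

section
variable {H : Type*} [Group H] [Finite H] {p : ℕ} [hp : Fact p.Prime]

/-- Part 1: `F = C_{F*}(LQ)`. -/
theorem largest_centralized_eq (hO : pCore p H = ⊥) (Q : Subgroup H) (hQ : IsPGroup p ↥Q)
    (F : Subgroup H) (hF1 : F ≤ generalizedFittingSubgroup H)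
    (hF2 : generalizedFittingSubgroup H ≤ Subgroup.normalizer (F : Set H))
    (hF3 : Q ≤ Subgroup.centralizer (F : Set H))
    (hF4 : ∀ N : Subgroup H, N ≤ generalizedFittingSubgroup H →
      generalizedFittingSubgroup H ≤ Subgroup.normalizer (N : Set H) →
      Q ≤ Subgroup.centralizer (N : Set H) → N ≤ F) :
    F = generalizedFittingSubgroup H ⊓
      Subgroup.centralizer ((⁅generalizedFittingSubgroup H, Q⁆ ⊔ Q : Subgroup H) : Set H) := by
  have hFL := le_centralizer_commutator_of_normal_of_centralized _ Q F hF2 hF3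
  apply le_antisymm
  · refine le_inf hF1 ?_
    exact le_centralizer_sup' hFL (Subgroup.le_centralizer_iff.mp hF3)
  · apply hF4 _ inf_le_left
    · -- F* ≤ N(C0)
      refine (genFitting_le_commutator_sup_centralizer hO Q hQ).trans (sup_le ?_ ?_)
      · -- L centralizes C0
        refine le_trans ?_ (Subgroup.centralizer_le_normalizer _)
        rw [Subgroup.le_centralizer_iff]
        exact inf_le_right.trans (Subgroup.centralizer_le (by
          exact_mod_cast (le_sup_left : ⁅generalizedFittingSubgroup H, Q⁆ ≤ _)))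
      · intro c hc
        apply mem_normalizer_inf'
        · rw [Subgroup.normalizer_eq_top]; trivial
        · apply normalizer_le_normalizer_centralizer_sc
          apply mem_normalizer_sup'
          · exact Subgroup.normalizer_commutator_ge_left _ _ hc.1
          · exact Subgroup.centralizer_le_normalizer _ hc.2
    · rw [Subgroup.le_centralizer_iff]
      exact inf_le_right.trans (Subgroup.centralizer_le (by
        exact_mod_cast (le_sup_right : Q ≤ ⁅generalizedFittingSubgroup H, Q⁆ ⊔ Q)))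

/-- `L ∩ F` lies in `F(H)`, a `p'`-group. -/
theorem commutator_inf_largest_le_fitting (Q F : Subgroup H)
    (hF1 : F ≤ generalizedFittingSubgroup H)
    (hF2 : generalizedFittingSubgroup H ≤ Subgroup.normalizer (F : Set H))
    (hF3 : Q ≤ Subgroup.centralizer (F : Set H)) :
    ⁅generalizedFittingSubgroup H, Q⁆ ⊓ F ≤ fittingSubgroup H := by
  have hFL := le_centralizer_commutator_of_normal_of_centralized _ Q F hF2 hF3
  have hle : ⁅generalizedFittingSubgroup H, Q⁆ ⊓ F ≤ generalizedFittingSubgroup H :=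
    inf_le_right.trans hF1
  have hsn : (⁅generalizedFittingSubgroup H, Q⁆ ⊓ F).IsSubnormal := by
    refine Subgroup.IsSubnormal.step _ _ hle
      (Subgroup.Normal.isSubnormal (inferInstance : (generalizedFittingSubgroup H).Normal)) ?_
    rw [Subgroup.normal_subgroupOf_iff_le_normalizer hle]
    exact le_normalizer_inf' (Subgroup.normalizer_commutator_ge_left _ _) hF2
  have hcomm : IsMulCommutative ↥(⁅generalizedFittingSubgroup H, Q⁆ ⊓ F) := by
    refine ⟨⟨fun a b => ?_⟩⟩
    have := Subgroup.mem_centralizer_iff.mp (hFL a.2.2) b.1 b.2.1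
    apply Subtype.ext
    exact this.symm
  have hnil : Group.IsNilpotent ↥(⁅generalizedFittingSubgroup H, Q⁆ ⊓ F) := by
    open scoped IsMulCommutative in infer_instance
  exact subnormal_nilpotent_le_fitting _ hsn hnil

/-- Elements of `L ∩ F` have order prime to `p`. -/
theorem orderOf_coprime_of_mem_commutator_inf_largest (hO : pCore p H = ⊥) (Q F : Subgroup H)
    (hF1 : F ≤ generalizedFittingSubgroup H)
    (hF2 : generalizedFittingSubgroup H ≤ Subgroup.normalizer (F : Set H))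
    (hF3 : Q ≤ Subgroup.centralizer (F : Set H)) (z : H)
    (hz : z ∈ ⁅generalizedFittingSubgroup H, Q⁆ ⊓ F) : (orderOf z).Coprime p := by
  have h1 := commutator_inf_largest_le_fitting Q F hF1 hF2 hF3 hz
  have h2 : orderOf z ∣ Nat.card ↥(fittingSubgroup H) := Subgroup.orderOf_dvd_natCard _ h1
  exact Nat.Coprime.coprime_dvd_left h2 (fitting_coprime_of_pCore_eq_bot p hO)

/-- `L ∩ F ≤ L'`. -/
theorem commutator_inf_largest_le_derived (hO : pCore p H = ⊥) (Q : Subgroup H)
    (hQ : IsPGroup p ↥Q) (F : Subgroup H) (hF1 : F ≤ generalizedFittingSubgroup H)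
    (hF2 : generalizedFittingSubgroup H ≤ Subgroup.normalizer (F : Set H))
    (hF3 : Q ≤ Subgroup.centralizer (F : Set H)) :
    ⁅generalizedFittingSubgroup H, Q⁆ ⊓ F ≤
      ⁅⁅generalizedFittingSubgroup H, Q⁆, ⁅generalizedFittingSubgroup H, Q⁆⁆ := by
  intro z hz
  have hcop := orderOf_coprime_of_mem_commutator_inf_largest hO Q F hF1 hF2 hF3 z hz
  apply mem_commutator_of_mem_centralizer_of_coprime _ Q
    (Subgroup.normalizer_commutator_ge_right _ _) (genFitting_commutator_stable hO Q hQ) z hz.1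
  · exact Subgroup.le_centralizer_iff.mp hF3 hz.2
  · obtain ⟨k, hk⟩ := IsPGroup.iff_card.mp hQ
    rw [hk]
    exact Nat.Coprime.pow_left k hcop.symm

/-- Part 3: `L ∩ F ≤ Φ(L)`. -/
theorem commutator_inf_largest_le_frattini (hO : pCore p H = ⊥) (Q : Subgroup H)
    (hQ : IsPGroup p ↥Q) (F : Subgroup H) (hF1 : F ≤ generalizedFittingSubgroup H)
    (hF2 : generalizedFittingSubgroup H ≤ Subgroup.normalizer (F : Set H))
    (hF3 : Q ≤ Subgroup.centralizer (F : Set H)) :
    ⁅generalizedFittingSubgroup H, Q⁆ ⊓ F ≤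
      (frattini ↥(⁅generalizedFittingSubgroup H, Q⁆)).map
        (⁅generalizedFittingSubgroup H, Q⁆).subtype := by
  have hFL := le_centralizer_commutator_of_normal_of_centralized _ Q F hF2 hF3
  intro z hz
  have hzd := commutator_inf_largest_le_derived hO Q hQ F hF1 hF2 hF3 hz
  rw [← Subgroup.map_subtype_commutator] at hzd
  obtain ⟨y, hy, hyz⟩ := hzd
  refine ⟨y, ?_, hyz⟩
  apply center_inf_commutator_le_frattini
  refine ⟨?_, hy⟩
  show y ∈ Subgroup.center ↥(⁅generalizedFittingSubgroup H, Q⁆)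
  rw [Subgroup.mem_center_iff]
  intro g
  have hyz' : (y : H) = z := hyz
  have := Subgroup.mem_centralizer_iff.mp (hFL hz.2) g.1 g.2
  apply Subtype.ext
  show (g : H) * (y : H) = (y : H) * (g : H)
  rw [hyz']; exact this

/-- Part 4. -/
theorem commutator_eq_bot_of_le_largest (hO : pCore p H = ⊥) (Q : Subgroup H)
    (hQ : IsPGroup p ↥Q) (F : Subgroup H) (hF1 : F ≤ generalizedFittingSubgroup H)
    (hF2 : generalizedFittingSubgroup H ≤ Subgroup.normalizer (F : Set H))
    (hF3 : Q ≤ Subgroup.centralizer (F : Set H)) (B : Subgroup H) (hB : IsPGroup p ↥B)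
    (hBQ : B ≤ Subgroup.normalizer (Q : Set H))
    (hLB : ⁅⁅generalizedFittingSubgroup H, Q⁆, B⁆ ≤ F) :
    ⁅⁅generalizedFittingSubgroup H, Q⁆, B⁆ = ⊥ := by
  have hFL := le_centralizer_commutator_of_normal_of_centralized _ Q F hF2 hF3
  have hBL : B ≤ Subgroup.normalizer ((⁅generalizedFittingSubgroup H, Q⁆ : Subgroup H) : Set H) := by
    intro b hb
    apply Cfsg.Agent.Lib.Helper16.inf_normalizer_le_normalizer_commutator
    refine ⟨?_, hBQ hb⟩
    rw [Subgroup.normalizer_eq_top]; trivial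
  have hLBL : ⁅⁅generalizedFittingSubgroup H, Q⁆, B⁆ ≤ ⁅generalizedFittingSubgroup H, Q⁆ :=
    Subgroup.le_normalizer_iff_commutator_le_left.mp hBL
  have h1 : ⁅⁅⁅generalizedFittingSubgroup H, Q⁆, B⁆, ⁅generalizedFittingSubgroup H, Q⁆⁆ = ⊥ :=
    Subgroup.commutator_eq_bot_iff_le_centralizer.mpr (hLB.trans hFL)
  have h2 : ⁅⁅B, ⁅generalizedFittingSubgroup H, Q⁆⁆, ⁅generalizedFittingSubgroup H, Q⁆⁆ = ⊥ := by
    rw [Subgroup.commutator_comm B]; exact h1
  have h3 : ⁅⁅⁅generalizedFittingSubgroup H, Q⁆, ⁅generalizedFittingSubgroup H, Q⁆⁆, B⁆ = ⊥ :=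
    Subgroup.commutator_commutator_eq_bot_of_rotate h1 h2
  have hBc : B ≤ Subgroup.centralizer
      ((⁅⁅generalizedFittingSubgroup H, Q⁆, ⁅generalizedFittingSubgroup H, Q⁆⁆ : Subgroup H) :
        Set H) := by
    rw [Subgroup.commutator_comm] at h3
    exact Subgroup.commutator_eq_bot_iff_le_centralizer.mp h3
  rw [eq_bot_iff, Subgroup.commutator_le]
  intro l hl b hb
  have hz : ⁅l, b⁆ ∈ ⁅generalizedFittingSubgroup H, Q⁆ ⊓ F :=
    ⟨hLBL (Subgroup.commutator_mem_commutator hl hb), hLB (Subgroup.commutator_mem_commutator hl hb)⟩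
  have hzd := commutator_inf_largest_le_derived hO Q hQ F hF1 hF2 hF3 hz
  have hcomm : Commute ⁅l, b⁆ b := (Subgroup.mem_centralizer_iff.mp (hBc hb) _ hzd)
  have key : ∀ n : ℕ, ⁅l, b ^ n⁆ = ⁅l, b⁆ ^ n := by
    intro n
    have h4 : l * b * l⁻¹ = ⁅l, b⁆ * b := by rw [commutatorElement_def]; group
    have h5 : l * b ^ n * l⁻¹ = ⁅l, b⁆ ^ n * b ^ n := by
      rw [← conj_pow, h4, hcomm.mul_pow]
    rw [commutatorElement_def, h5]; group
  obtain ⟨k, hk⟩ := hB ⟨b, hb⟩
  have hk' : b ^ p ^ k = 1 := by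
    have := congrArg Subtype.val hk
    simpa using this
  have h6 : ⁅l, b⁆ ^ p ^ k = 1 := by
    rw [← key, hk', commutatorElement_one_right]
  have hcop := orderOf_coprime_of_mem_commutator_inf_largest hO Q F hF1 hF2 hF3 _ hz
  have h7 : orderOf ⁅l, b⁆ ∣ p ^ k := orderOf_dvd_of_pow_eq_one h6
  have h8 : orderOf ⁅l, b⁆ = 1 :=
    Nat.eq_one_of_dvd_coprimes (Nat.Coprime.pow_right k hcop) dvd_rfl h7
  exact Subgroup.mem_bot.mpr (orderOf_eq_one_iff.mp h8)


/-- Every component lies in `F ⊔ L`. -/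
theorem layer_le_largest_sup_commutator (Q F : Subgroup H)
    (hF4 : ∀ N : Subgroup H, N ≤ generalizedFittingSubgroup H →
      generalizedFittingSubgroup H ≤ Subgroup.normalizer (N : Set H) →
      Q ≤ Subgroup.centralizer (N : Set H) → N ≤ F) :
    layer H ≤ F ⊔ ⁅generalizedFittingSubgroup H, Q⁆ := by
  have hEle : layer H ≤ generalizedFittingSubgroup H := by
    unfold generalizedFittingSubgroup; exact le_sup_left
  apply sSup_le
  intro K hK
  rcases component_le_commutator_or_le_centralizer Q K hK with h | h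
  · exact (h.trans (Subgroup.commutator_mono hEle le_rfl)).trans le_sup_right
  · refine le_trans ?_ le_sup_left
    apply hF4 K ((component_le_layer K hK).trans hEle)
    · unfold generalizedFittingSubgroup
      apply sup_le
      · apply sSup_le
        intro K' hK'
        by_cases hKK : K' = K
        · rw [hKK]; exact Subgroup.le_normalizer
        · have hc := components_commute K' K hK' hK hKK
          exact (Subgroup.commutator_eq_bot_iff_le_centralizer.mp hc).trans
            (Subgroup.centralizer_le_normalizer _)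
      · have h1 : K ≤ Subgroup.centralizer (fittingSubgroup H : Set H) :=
          (component_le_layer K hK).trans layer_le_centralizer_fitting
        exact (Subgroup.le_centralizer_iff.mp h1).trans (Subgroup.centralizer_le_normalizer _)
    · exact Subgroup.le_centralizer_iff.mp h

/-- Key step: a `Q`-invariant `p`-subgroup of `C_H(FL)` is trivial. -/
theorem invariant_pSubgroup_centralizer_eq_bot (hO : pCore p H = ⊥) (Q : Subgroup H)
    (hQ : IsPGroup p ↥Q) (F : Subgroup H)
    (hF4 : ∀ N : Subgroup H, N ≤ generalizedFittingSubgroup H →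
      generalizedFittingSubgroup H ≤ Subgroup.normalizer (N : Set H) →
      Q ≤ Subgroup.centralizer (N : Set H) → N ≤ F)
    (B : Subgroup H) (hB : IsPGroup p ↥B)
    (hBC : B ≤ Subgroup.centralizer ((F ⊔ ⁅generalizedFittingSubgroup H, Q⁆ : Subgroup H) : Set H))
    (hQB : Q ≤ Subgroup.normalizer (B : Set H)) : B = ⊥ := by
  have hFn : (fittingSubgroup H).Normal := fittingSubgroup_normal'
  have hEle : layer H ≤ generalizedFittingSubgroup H := by
    unfold generalizedFittingSubgroup; exact le_sup_left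
  have hNle : fittingSubgroup H ≤ generalizedFittingSubgroup H := by
    unfold generalizedFittingSubgroup; exact le_sup_right
  have hBF : B ≤ Subgroup.centralizer (F : Set H) :=
    hBC.trans (Subgroup.centralizer_le (by exact_mod_cast (le_sup_left : F ≤ F ⊔ _)))
  have hBL : B ≤ Subgroup.centralizer ((⁅generalizedFittingSubgroup H, Q⁆ : Subgroup H) : Set H) :=
    hBC.trans (Subgroup.centralizer_le (by
      exact_mod_cast (le_sup_right : ⁅generalizedFittingSubgroup H, Q⁆ ≤ F ⊔ _)))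
  have hBE : B ≤ Subgroup.centralizer (layer H : Set H) :=
    hBC.trans (Subgroup.centralizer_le (by
      exact_mod_cast layer_le_largest_sup_commutator Q F hF4))
  -- coprimality
  have hcopN : (Nat.card ↥(fittingSubgroup H)).Coprime p := fitting_coprime_of_pCore_eq_bot p hO
  have hcopB : ∀ M : Subgroup H, M ≤ fittingSubgroup H →
      (Nat.card ↥B).Coprime (Nat.card ↥M) := by
    intro M hM
    obtain ⟨k, hk⟩ := IsPGroup.iff_card.mp hB
    rw [hk]
    exact Nat.Coprime.pow_left k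
      (Nat.Coprime.coprime_dvd_left (Subgroup.card_dvd_of_le hM) hcopN).symm
  have hcopQ : ∀ M : Subgroup H, M ≤ fittingSubgroup H →
      (Nat.card ↥Q).Coprime (Nat.card ↥M) := by
    intro M hM
    obtain ⟨k, hk⟩ := IsPGroup.iff_card.mp hQ
    rw [hk]
    exact Nat.Coprime.pow_left k
      (Nat.Coprime.coprime_dvd_left (Subgroup.card_dvd_of_le hM) hcopN).symm
  have hBsolv : Group.IsSolvable ↥B := by
    have := hB.isNilpotent
    infer_instance
  have hQsolv : Group.IsSolvable ↥Q := by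
    have := hQ.isNilpotent
    infer_instance
  have hBN : B ≤ Subgroup.normalizer ((fittingSubgroup H : Subgroup H) : Set H) := by
    rw [Subgroup.normalizer_eq_top]; exact le_top
  have hQN : Q ≤ Subgroup.normalizer ((fittingSubgroup H : Subgroup H) : Set H) := by
    rw [Subgroup.normalizer_eq_top]; exact le_top
  -- N1 = [N, B]
  have hN1le : ⁅fittingSubgroup H, B⁆ ≤ fittingSubgroup H :=
    Subgroup.le_normalizer_iff_commutator_le_left.mp hBN
  have hstab : ⁅⁅fittingSubgroup H, B⁆, B⁆ = ⁅fittingSubgroup H, B⁆ :=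
    Cfsg.Agent.Lib.Helper13.coprime_commutator_stable B (fittingSubgroup H) hBN
      (hcopB _ le_rfl) (Or.inl hBsolv)
  have hQN1 : Q ≤ Subgroup.normalizer ((⁅fittingSubgroup H, B⁆ : Subgroup H) : Set H) := by
    intro q hq
    exact Cfsg.Agent.Lib.Helper16.inf_normalizer_le_normalizer_commutator _ _ ⟨hQN hq, hQB hq⟩
  -- R2 = [N1, Q]
  have hR2le : ⁅⁅fittingSubgroup H, B⁆, Q⁆ ≤ ⁅fittingSubgroup H, B⁆ :=
    Subgroup.le_normalizer_iff_commutator_le_left.mp hQN1
  have hR2L : ⁅⁅fittingSubgroup H, B⁆, Q⁆ ≤ ⁅generalizedFittingSubgroup H, Q⁆ :=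
    Subgroup.commutator_mono (hN1le.trans hNle) le_rfl
  have hR2B : ⁅⁅⁅fittingSubgroup H, B⁆, Q⁆, B⁆ = ⊥ := by
    rw [Subgroup.commutator_comm]
    apply Subgroup.commutator_eq_bot_iff_le_centralizer.mpr
    exact hBL.trans (Subgroup.centralizer_le (by exact_mod_cast hR2L))
  -- (α) [N1, R2] = 1
  have hα : ⁅⁅fittingSubgroup H, B⁆, ⁅⁅fittingSubgroup H, B⁆, Q⁆⁆ = ⊥ := by
    have h1 : ⁅⁅⁅fittingSubgroup H, B⁆, ⁅⁅fittingSubgroup H, B⁆, Q⁆⁆, B⁆ = ⊥ := by
      have h2 : ⁅⁅fittingSubgroup H, B⁆, ⁅⁅fittingSubgroup H, B⁆, Q⁆⁆ ≤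
          ⁅⁅fittingSubgroup H, B⁆, Q⁆ :=
        Subgroup.le_normalizer_iff_commutator_le_right.mp
          (Subgroup.normalizer_commutator_ge_left _ _)
      rw [← le_bot_iff, ← hR2B]
      exact Subgroup.commutator_mono h2 le_rfl
    have h2 : ⁅⁅⁅⁅fittingSubgroup H, B⁆, Q⁆, B⁆, ⁅fittingSubgroup H, B⁆⁆ = ⊥ := by
      rw [hR2B, Subgroup.commutator_bot_left]
    have h3 := Subgroup.commutator_commutator_eq_bot_of_rotate h1 h2
    rwa [Subgroup.commutator_comm B, hstab] at h3
  -- (β) Q centralizes N1'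
  have hβ : ⁅⁅⁅fittingSubgroup H, B⁆, ⁅fittingSubgroup H, B⁆⁆, Q⁆ = ⊥ := by
    have h1 : ⁅⁅⁅fittingSubgroup H, B⁆, Q⁆, ⁅fittingSubgroup H, B⁆⁆ = ⊥ := by
      rw [Subgroup.commutator_comm]; exact hα
    have h2 : ⁅⁅Q, ⁅fittingSubgroup H, B⁆⁆, ⁅fittingSubgroup H, B⁆⁆ = ⊥ := by
      rw [Subgroup.commutator_comm Q]; exact h1
    exact Subgroup.commutator_commutator_eq_bot_of_rotate h1 h2
  -- (γ) R2 ≤ N1'
  have hγ : ⁅⁅fittingSubgroup H, B⁆, Q⁆ ≤
      ⁅⁅fittingSubgroup H, B⁆, ⁅fittingSubgroup H, B⁆⁆ := by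
    intro r hr
    apply mem_commutator_of_mem_centralizer_of_coprime _ B
      (Subgroup.normalizer_commutator_ge_right _ _) hstab r (hR2le hr)
    · have h1 : B ≤ Subgroup.centralizer
          ((⁅⁅fittingSubgroup H, B⁆, Q⁆ : Subgroup H) : Set H) := by
        rw [Subgroup.commutator_comm] at hR2B
        exact Subgroup.commutator_eq_bot_iff_le_centralizer.mp hR2B
      exact Subgroup.le_centralizer_iff.mp h1 hr
    · have h1 : orderOf r ∣ Nat.card ↥(fittingSubgroup H) :=
        Subgroup.orderOf_dvd_natCard _ (hN1le (hR2le hr))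
      exact Nat.Coprime.coprime_dvd_right h1 (hcopB _ le_rfl)
  -- (δ) R2 = 1
  have hδ : ⁅⁅fittingSubgroup H, B⁆, Q⁆ = ⊥ := by
    have h1 : ⁅⁅⁅fittingSubgroup H, B⁆, Q⁆, Q⁆ = ⁅⁅fittingSubgroup H, B⁆, Q⁆ :=
      Cfsg.Agent.Lib.Helper13.coprime_commutator_stable Q _ hQN1 (hcopQ _ hN1le) (Or.inl hQsolv)
    rw [← le_bot_iff, ← h1, ← hβ]
    exact Subgroup.commutator_mono hγ le_rfl
  -- (ε) N1 ≤ F
  have hε : ⁅fittingSubgroup H, B⁆ ≤ F := by
    apply hF4 _ (hN1le.trans hNle)
    · unfold generalizedFittingSubgroup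
      apply sup_le
      · have h1 : layer H ≤ Subgroup.centralizer ((⁅fittingSubgroup H, B⁆ : Subgroup H) : Set H) :=
          layer_le_centralizer_fitting.trans (Subgroup.centralizer_le (by exact_mod_cast hN1le))
        exact h1.trans (Subgroup.centralizer_le_normalizer _)
      · exact Subgroup.normalizer_commutator_ge_left _ _
    · rw [Subgroup.commutator_comm] at hδ
      exact Subgroup.commutator_eq_bot_iff_le_centralizer.mp hδ
  -- (ζ) N1 = 1
  have hζ : ⁅fittingSubgroup H, B⁆ = ⊥ := by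
    rw [← hstab, Subgroup.commutator_comm]
    apply Subgroup.commutator_eq_bot_iff_le_centralizer.mpr
    exact hBF.trans (Subgroup.centralizer_le (by exact_mod_cast hε))
  have hBNc : B ≤ Subgroup.centralizer (fittingSubgroup H : Set H) := by
    rw [Subgroup.commutator_comm] at hζ
    exact Subgroup.commutator_eq_bot_iff_le_centralizer.mp hζ
  apply eq_bot_of_commutator_genFitting_eq_bot hO B hB
  rw [Subgroup.commutator_comm]
  apply Subgroup.commutator_eq_bot_iff_le_centralizer.mpr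
  unfold generalizedFittingSubgroup
  exact le_centralizer_sup' hBE hBNc

/-- Part 5: `C_H(FL)` is a `p'`-group. -/
theorem card_centralizer_largest_sup_commutator_coprime (hO : pCore p H = ⊥) (Q : Subgroup H)
    (hQ : IsPGroup p ↥Q) (F : Subgroup H)
    (hF3 : Q ≤ Subgroup.centralizer (F : Set H))
    (hF4 : ∀ N : Subgroup H, N ≤ generalizedFittingSubgroup H →
      generalizedFittingSubgroup H ≤ Subgroup.normalizer (N : Set H) →
      Q ≤ Subgroup.centralizer (N : Set H) → N ≤ F) :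
    (Nat.card ↥(Subgroup.centralizer
      ((F ⊔ ⁅generalizedFittingSubgroup H, Q⁆ : Subgroup H) : Set H))).Coprime p := by
  set C := Subgroup.centralizer ((F ⊔ ⁅generalizedFittingSubgroup H, Q⁆ : Subgroup H) : Set H)
    with hC
  have hQC : Q ≤ Subgroup.normalizer (C : Set H) := by
    intro q hq
    apply normalizer_le_normalizer_centralizer_sc
    apply mem_normalizer_sup'
    · exact Subgroup.centralizer_le_normalizer _ (hF3 hq)
    · exact Subgroup.normalizer_commutator_ge_right _ _ hq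
  have hCG : C ≤ C ⊔ Q := le_sup_left
  have hQG : Q ≤ C ⊔ Q := le_sup_right
  have hGN : C ⊔ Q ≤ Subgroup.normalizer (C : Set H) := sup_le Subgroup.le_normalizer hQC
  have hKn : (C.subgroupOf (C ⊔ Q)).Normal := Subgroup.normal_subgroupOf_of_le_normalizer hGN
  have hQ'p : IsPGroup p ↥(Q.subgroupOf (C ⊔ Q)) := hQ.comap_subtype
  obtain ⟨P', hQP'⟩ := hQ'p.exists_le_sylow
  -- B0
  have hB0 : ((P' : Subgroup ↥(C ⊔ Q)) ⊓ C.subgroupOf (C ⊔ Q)).map (C ⊔ Q).subtype = ⊥ := by
    apply invariant_pSubgroup_centralizer_eq_bot hO Q hQ F hF4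
    · exact (P'.isPGroup'.to_le inf_le_left).map _
    · rintro _ ⟨y, hy, rfl⟩
      exact hy.2
    · intro q hq
      have key : ∀ q ∈ Q, ∀ x ∈ ((P' : Subgroup ↥(C ⊔ Q)) ⊓ C.subgroupOf (C ⊔ Q)).map
          (C ⊔ Q).subtype, q * x * q⁻¹ ∈ ((P' : Subgroup ↥(C ⊔ Q)) ⊓ C.subgroupOf (C ⊔ Q)).map
            (C ⊔ Q).subtype := by
        rintro q hq _ ⟨y, hy, rfl⟩
        have hq' : (⟨q, hQG hq⟩ : ↥(C ⊔ Q)) ∈ (P' : Subgroup ↥(C ⊔ Q)) :=
          hQP' (by rw [Subgroup.mem_subgroupOf]; exact hq)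
        refine ⟨⟨q, hQG hq⟩ * y * ⟨q, hQG hq⟩⁻¹, ⟨?_, ?_⟩, rfl⟩
        · exact Subgroup.mul_mem _ (Subgroup.mul_mem _ hq' hy.1) (Subgroup.inv_mem _ hq')
        · exact hKn.conj_mem y hy.2 _
      rw [Subgroup.mem_normalizer_iff]
      intro x
      constructor
      · exact key q hq x
      · intro hx
        have := key q⁻¹ (Q.inv_mem hq) _ hx
        have h2 : q⁻¹ * (q * x * q⁻¹) * q⁻¹⁻¹ = x := by group
        rwa [h2] at this
  rw [Subgroup.map_eq_bot_iff_of_injective _ (Subgroup.subtype_injective _)] at hB0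
  have hrel := Cfsg.Agent.Lib.Helper17.not_dvd_relIndex_of_sylow_of_normal P' (C.subgroupOf (C ⊔ Q))
  rw [← Subgroup.inf_relIndex_right, hB0, Subgroup.relIndex_bot_left] at hrel
  have hcard : Nat.card ↥(C.subgroupOf (C ⊔ Q)) = Nat.card ↥C :=
    Nat.card_congr (Subgroup.subgroupOfEquivOfLe hCG).toEquiv
  rw [hcard] at hrel
  exact Nat.Coprime.symm ((Nat.Prime.coprime_iff_not_dvd hp.out).mpr hrel)

end

end Cfsg.Agent.Lib.Helper20
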