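import Cfsg.Agent.Lib.Helper20.FstarComm2

/-!
`L = [L,Y] C_L(Y)` for `L ≤ F*(H)` subnormal in `H`, `O_p(H) = 1`, `Y` a `p`-group normalizing
`H` and `L` (helper20).
-/

set_option autoImplicit false

namespace Cfsg.Agent.Lib.Helper20

open scoped commutatorElement
open Cfsg

/-- Elements normalizing `P` normalize the image of any characteristic subgroup of `P`. -/
theorem normalizer_le_normalizer_map_of_characteristic {G : Type*} [Group G] (P : Subgroup G)
    (K : Subgroup ↥P) (hK : K.Characteristic) :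
    Subgroup.normalizer (P : Set G) ≤
      Subgroup.normalizer ((K.map P.subtype : Subgroup G) : Set G) := by
  have key : ∀ h ∈ Subgroup.normalizer (P : Set G), ∀ g ∈ K.map P.subtype,
      h * g * h⁻¹ ∈ K.map P.subtype := by
    rintro h hh _ ⟨x, hx, rfl⟩
    have := (Subgroup.characteristic_iff_map_eq.mp hK) (P.normalizerMonoidHom ⟨h, hh⟩)
    have hmem : (P.normalizerMonoidHom ⟨h, hh⟩) x ∈ K := by
      rw [← this]
      exact ⟨x, hx, rfl⟩
    exact ⟨_, hmem, rfl⟩
  intro h hh
  rw [Subgroup.mem_normalizer_iff]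
  intro g
  constructor
  · exact key h hh g
  · intro hg
    have := key h⁻¹ (Subgroup.inv_mem _ hh) _ hg
    simpa [mul_assoc] using this

theorem subnormal_le_commutator_sup_centralizer {G : Type*} [Group G] [Finite G] {p : ℕ}
    [hp : Fact p.Prime] (H : Subgroup G) (hO : pCore p ↥H = ⊥) (Y : Subgroup G)
    (hY : IsPGroup p ↥Y) (hYH : Y ≤ Subgroup.normalizer (H : Set G)) (L : Subgroup G)
    (hLF : L ≤ (generalizedFittingSubgroup ↥H).map H.subtype)
    (hLsn : (L.subgroupOf H).IsSubnormal) (hYL : Y ≤ Subgroup.normalizer (L : Set G)) :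
    L ≤ ⁅L, Y⁆ ⊔ (L ⊓ Subgroup.centralizer (Y : Set G)) := by
  have hLH : L ≤ H := hLF.trans (Subgroup.map_subtype_le _)
  have hDL : ⁅L, Y⁆ ≤ L := Subgroup.le_normalizer_iff_commutator_le_left.mp hYL
  have hLD : L ≤ Subgroup.normalizer ((⁅L, Y⁆ : Subgroup G) : Set G) :=
    Subgroup.normalizer_commutator_ge_left _ _
  have hLHF : L.subgroupOf H ≤ generalizedFittingSubgroup ↥H := by
    intro x hx
    obtain ⟨y, hy, hyx⟩ := hLF hx
    have : y = x := Subtype.ext hyx
    rwa [← this]
  have htop := fitting_sup_layer_subnormal_eq_top (L.subgroupOf H) hLHF hLsn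
  have hfit := fitting_subnormal_eq (L.subgroupOf H) hLsn
  -- the map to G
  set φ : ↥(L.subgroupOf H) →* G := H.subtype.comp (L.subgroupOf H).subtype with hφ
  have hφL : ∀ x : ↥(L.subgroupOf H), φ x ∈ L := fun x => x.2
  have hLtop : L = (⊤ : Subgroup ↥(L.subgroupOf H)).map φ := by
    rw [hφ, ← Subgroup.map_map, ← MonoidHom.range_eq_map, Subgroup.range_subtype,
      Subgroup.map_subgroupOf_eq_of_le hLH]
  have hLle : L ≤ (fittingSubgroup ↥(L.subgroupOf H)).map φ ⊔
      (layer ↥(L.subgroupOf H)).map φ := by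
    rw [← Subgroup.map_sup, htop, ← hLtop]
  refine hLle.trans (sup_le ?_ ?_)
  · -- the Fitting part
    have hF0 : (fittingSubgroup ↥(L.subgroupOf H)).map φ ≤
        (fittingSubgroup ↥H).map H.subtype ⊓ L := by
      rw [hφ, ← Subgroup.map_map, hfit]
      refine (Subgroup.map_inf_le _ _ _).trans ?_
      rw [Subgroup.map_subgroupOf_eq_of_le hLH]
    have hYN : Y ≤ Subgroup.normalizer
        (((fittingSubgroup ↥H).map H.subtype ⊓ L : Subgroup G) : Set G) :=
      le_normalizer_inf' (hYH.trans (normalizer_le_normalizer_map_of_characteristic H _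
        fittingSubgroup_characteristic)) hYL
    have hcop : (Nat.card ↥Y).Coprime
        (Nat.card ↥((fittingSubgroup ↥H).map H.subtype ⊓ L : Subgroup G)) := by
      obtain ⟨k, hk⟩ := IsPGroup.iff_card.mp hY
      rw [hk]
      apply Nat.Coprime.pow_left
      have h1 : Nat.card ↥((fittingSubgroup ↥H).map H.subtype ⊓ L : Subgroup G) ∣
          Nat.card ↥((fittingSubgroup ↥H).map H.subtype) := Subgroup.card_dvd_of_le inf_le_left
      rw [Subgroup.card_map_of_injective (Subgroup.subtype_injective _)] at h1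
      exact (Nat.Coprime.coprime_dvd_left h1 (fitting_coprime_of_pCore_eq_bot p hO)).symm
    have hYsolv : Group.IsSolvable ↥Y := by
      have := hY.isNilpotent
      infer_instance
    have h1 := Cfsg.Agent.Lib.Helper13.coprime_commutator_sup_centralizer Y _ hYN hcop
      (Or.inl hYsolv)
    refine hF0.trans ?_
    rw [← h1]
    exact sup_le_sup (Subgroup.commutator_mono inf_le_right le_rfl) (inf_le_inf_right _ inf_le_right)
  · -- the layer part
    rw [Subgroup.map_le_iff_le_comap]
    apply sSup_le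
    intro K' hK'
    rw [← Subgroup.map_le_iff_le_comap]
    -- the normal subgroup D'' of ↥(L.subgroupOf H)
    have hDn : ((⁅L, Y⁆ : Subgroup G).comap φ).Normal := by
      refine ⟨fun x hx g => ?_⟩
      rw [Subgroup.mem_comap] at hx ⊢
      rw [map_mul, map_mul, map_inv]
      exact (Subgroup.mem_normalizer_iff.mp (hLD (hφL g)) _).mp hx
    rcases component_le_or_commutes K' _ hK' hDn.isSubnormal with h | h
    · exact (Subgroup.map_le_iff_le_comap.mpr h).trans le_sup_left
    · refine le_trans ?_ le_sup_right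
      have hKL : K'.map φ ≤ L := by
        rintro _ ⟨x, _, rfl⟩
        exact hφL x
      refine le_inf hKL ?_
      have hmapD : ((⁅L, Y⁆ : Subgroup G).comap φ).map φ = ⁅L, Y⁆ := by
        rw [Subgroup.map_comap_eq, MonoidHom.range_eq_map, ← hLtop]
        exact inf_eq_right.mpr hDL
      have h1 : ⁅K'.map φ, ⁅L, Y⁆⁆ = ⊥ := by
        rw [← hmapD, ← Subgroup.map_commutator, h, Subgroup.map_bot]
      have h2 : ⁅⁅K'.map φ, Y⁆, K'.map φ⁆ = ⊥ := by
        rw [Subgroup.commutator_comm, ← le_bot_iff, ← h1]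
        exact Subgroup.commutator_mono le_rfl (Subgroup.commutator_mono hKL le_rfl)
      have h3 : ⁅⁅Y, K'.map φ⁆, K'.map φ⁆ = ⊥ := by rw [Subgroup.commutator_comm Y]; exact h2
      have h4 : ⁅⁅K'.map φ, K'.map φ⁆, Y⁆ = ⊥ :=
        Subgroup.commutator_commutator_eq_bot_of_rotate h2 h3
      have hperf : ⁅K'.map φ, K'.map φ⁆ = K'.map φ := by
        rw [← Subgroup.map_commutator, isComponent_perfect hK']
      rw [hperf] at h4
      exact Subgroup.commutator_eq_bot_iff_le_centralizer.mp h4

theorem subnormal_commutator_main {G : Type*} [Group G] [Finite G] {p : ℕ}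
    [hp : Fact p.Prime] (H : Subgroup G) (hO : pCore p ↥H = ⊥) (Y : Subgroup G)
    (hY : IsPGroup p ↥Y) (hYH : Y ≤ Subgroup.normalizer (H : Set G)) (L : Subgroup G)
    (hLF : L ≤ (generalizedFittingSubgroup ↥H).map H.subtype)
    (hLsn : (L.subgroupOf H).IsSubnormal) (hYL : Y ≤ Subgroup.normalizer (L : Set G)) :
    ⁅L, Y⁆ ⊔ (L ⊓ Subgroup.centralizer (Y : Set G)) = L ∧ ⁅L, Y⁆ = ⁅⁅L, Y⁆, Y⁆ := by
  have h := subnormal_le_commutator_sup_centralizer H hO Y hY hYH L hLF hLsn hYL
  have hDL : ⁅L, Y⁆ ≤ L := Subgroup.le_normalizer_iff_commutator_le_left.mp hYL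
  exact ⟨le_antisymm (sup_le hDL inf_le_left) h, (commutator_stable_of_le_sup L Y hYL h).symm⟩

end Cfsg.Agent.Lib.Helper20
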