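import Mathlib
import Cfsg.Agent.Lib.Helper13.Zipper

/-!
A generalization of Wielandt's zipper lemma (helper20): if `A < G` has normal closure `G`, then
either `G` is generated by the proper subgroups `H ≥ A` with `A^H = H`, or `A` lies in a unique
maximal subgroup.  The proof is by a maximal-intersection / weak-closure argument.
-/

set_option autoImplicit false
open Cfsg
open scoped Pointwise

namespace Cfsg.Agent.Lib.Helper20

open Cfsg.Agent.Lib.Helper13 (mem_cj cj_mul cj_one card_cj cj_le_cj relSubn_of_le relSubn_trans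
  relSubn_cj relSubn_sup cj_eq_self_iff_mem_normalizer cj_le_normalizer_cj card_lt_of_lt)

section Basic

variable {G : Type*} [Group G]

/-- relative subnormality -/
def RelSn (S H : Subgroup G) : Prop := (S.subgroupOf H).IsSubnormal

theorem cj_inv_cj (g : G) (H : Subgroup G) : MulAut.conj g⁻¹ • (MulAut.conj g • H) = H := by
  rw [← cj_mul, inv_mul_cancel, cj_one]

theorem cj_cj_inv (g : G) (H : Subgroup G) : MulAut.conj g • (MulAut.conj g⁻¹ • H) = H := by
  rw [← cj_mul, mul_inv_cancel, cj_one]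

theorem cj_le_iff (g : G) (H K : Subgroup G) :
    MulAut.conj g • H ≤ K ↔ H ≤ MulAut.conj g⁻¹ • K := by
  constructor
  · intro h
    have := cj_le_cj (g := g⁻¹) h
    rwa [cj_inv_cj] at this
  · intro h
    have := cj_le_cj (g := g) h
    rwa [cj_cj_inv] at this

theorem cj_top (g : G) : MulAut.conj g • (⊤ : Subgroup G) = ⊤ := by
  rw [eq_top_iff]
  have h := cj_le_cj (g := g) (le_top : MulAut.conj g⁻¹ • (⊤ : Subgroup G) ≤ ⊤)
  rwa [cj_cj_inv] at h

theorem cj_ne_top {g : G} {H : Subgroup G} (h : H ≠ ⊤) : MulAut.conj g • H ≠ ⊤ := by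
  intro h1
  apply h
  rw [← cj_inv_cj g H, h1, cj_top]

theorem cj_injective (g : G) {H K : Subgroup G} (h : MulAut.conj g • H = MulAut.conj g • K) :
    H = K := by
  rw [← cj_inv_cj g H, h, cj_inv_cj]

theorem isCoatom_cj {g : G} {M : Subgroup G} (hM : IsCoatom M) :
    IsCoatom (MulAut.conj g • M) := by
  refine ⟨cj_ne_top hM.1, ?_⟩
  intro B hB
  have h1 : M < MulAut.conj g⁻¹ • B := by
    refine lt_of_le_of_ne ((cj_le_iff g M B).mp hB.le) ?_
    intro h
    apply hB.ne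
    rw [h, cj_cj_inv]
  have h2 := hM.2 _ h1
  rw [← cj_cj_inv g B, h2, cj_top]

theorem cj_self_of_mem {g : G} {H : Subgroup G} (h : g ∈ H) : MulAut.conj g • H = H :=
  Subgroup.conj_smul_eq_self_of_mem h

theorem cj_eq_of_le [Finite G] {g : G} {H : Subgroup G} (h : MulAut.conj g • H ≤ H) :
    MulAut.conj g • H = H := by
  apply Subgroup.eq_of_le_of_card_ge h
  rw [card_cj]

theorem cj_sSup_le {g : G} {S : Set (Subgroup G)} {R : Subgroup G}
    (h : ∀ C ∈ S, MulAut.conj g • C ≤ R) : MulAut.conj g • sSup S ≤ R := by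
  rw [cj_le_iff]
  apply sSup_le
  intro C hC
  rw [← cj_le_iff]
  exact h C hC

theorem relSn_cj {S H : Subgroup G} (g : G) (h : RelSn S H) :
    RelSn (MulAut.conj g • S) (MulAut.conj g • H) := relSubn_cj g h

theorem relSn_cj_iff {S H : Subgroup G} (g : G) :
    RelSn (MulAut.conj g • S) (MulAut.conj g • H) ↔ RelSn S H := by
  constructor
  · intro h
    have := relSn_cj g⁻¹ h
    rwa [cj_inv_cj, cj_inv_cj] at this
  · exact relSn_cj g

theorem relSn_of_le {S L H : Subgroup G} (hLH : L ≤ H) (h : RelSn S H) : RelSn S L :=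
  relSubn_of_le hLH h

theorem relSn_trans {S K H : Subgroup G} (hSK : S ≤ K) (hKH : K ≤ H) (h1 : RelSn S K)
    (h2 : RelSn K H) : RelSn S H := relSubn_trans hSK hKH h1 h2

theorem relSn_self (H : Subgroup G) : RelSn H H := by
  unfold RelSn
  rw [Subgroup.subgroupOf_self]
  exact Subgroup.IsSubnormal.top

theorem relSn_sup [Finite G] {A B H : Subgroup G} (hA : A ≤ H) (hB : B ≤ H) (h1 : RelSn A H)
    (h2 : RelSn B H) : RelSn (A ⊔ B) H := relSubn_sup hA hB h1 h2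

theorem relSn_sSup [Finite G] {S : Set (Subgroup G)} {H : Subgroup G}
    (h : ∀ C ∈ S, C ≤ H ∧ RelSn C H) : RelSn (sSup S) H ∧ sSup S ≤ H := by
  have hfin : S.Finite := Set.toFinite S
  induction S, hfin using Set.Finite.induction_on with
  | empty =>
    rw [sSup_empty]
    refine ⟨?_, bot_le⟩
    unfold RelSn
    rw [Subgroup.bot_subgroupOf]
    exact Subgroup.IsSubnormal.bot
  | insert _ _ ih =>
    rename_i a s _ _
    rw [sSup_insert]
    have h1 := h a (Set.mem_insert a s)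
    have h2 := ih (fun C hC => h C (Set.mem_insert_of_mem a hC))
    exact ⟨relSn_sup h1.1 h2.2 h1.2 h2.1, sup_le h1.1 h2.2⟩

/-- A subnormal subgroup inside a proper subgroup `D` has a conjugate by an element outside `D`
which still lies in `D`. -/
theorem exists_conj_le_of_isSubnormal (S : Subgroup G) (hS : S.IsSubnormal) :
    ∀ D : Subgroup G, S ≤ D → D ≠ ⊤ → ∃ x : G, x ∉ D ∧ MulAut.conj x • S ≤ D := by
  induction hS with
  | top => intro D hSD hD; exact absurd (top_le_iff.mp hSD) hD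
  | step S K hSK hK hN ih =>
    intro D hSD hD
    by_cases hKD : K ≤ D
    · obtain ⟨x, hx, hxK⟩ := ih D hKD hD
      exact ⟨x, hx, (cj_le_cj hSK).trans hxK⟩
    · obtain ⟨x, hxK, hxD⟩ := SetLike.not_le_iff_exists.mp hKD
      refine ⟨x, hxD, ?_⟩
      have h1 : K ≤ Subgroup.normalizer (S : Set G) :=
        (Subgroup.normal_subgroupOf_iff_le_normalizer hSK).mp hN
      rw [cj_eq_self_iff_mem_normalizer.mpr (h1 hxK)]
      exact hSD

theorem exists_conj_le_of_relSn {R D X : Subgroup G} (hRD : R ≤ D) (hDX : D ≤ X) (hne : D ≠ X)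
    (h : RelSn R X) : ∃ x ∈ X, x ∉ D ∧ MulAut.conj x • R ≤ D := by
  have h1 : R.subgroupOf X ≤ D.subgroupOf X := fun x hx => hRD hx
  have h2 : D.subgroupOf X ≠ ⊤ := by
    intro h3
    rw [Subgroup.subgroupOf_eq_top] at h3
    exact hne (le_antisymm hDX h3)
  obtain ⟨x, hx, hxR⟩ := exists_conj_le_of_isSubnormal _ h _ h1 h2
  refine ⟨(x : G), x.2, fun hxD => hx hxD, ?_⟩
  intro r hr
  rw [mem_cj] at hr
  have hrX : r ∈ X := by
    have : r = (x : G) * ((x : G)⁻¹ * r * x) * (x : G)⁻¹ := by group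
    rw [this]
    exact X.mul_mem (X.mul_mem x.2 (hDX (hRD hr))) (X.inv_mem x.2)
  have h3 : (⟨r, hrX⟩ : X) ∈ MulAut.conj x • R.subgroupOf X := by
    rw [mem_cj]
    exact hr
  exact hxR h3

theorem normalClosure_ne_top_of_isSubnormal {S : Subgroup G} (hS : S.IsSubnormal) (hne : S ≠ ⊤) :
    Subgroup.normalClosure (S : Set G) ≠ ⊤ := by
  rcases hS.lt_normal with h | ⟨K, hK, hSK, hKt⟩
  · exact absurd h hne
  · intro h
    have : Subgroup.normalClosure (S : Set G) ≤ K := Subgroup.normalClosure_le_normal hSK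
    rw [h, top_le_iff] at this
    exact hKt.ne this

theorem le_of_relSn_of_normalClosure {T H : Subgroup G} (h : RelSn T H)
    (hnc : Subgroup.normalClosure ((T.subgroupOf H : Subgroup ↥H) : Set ↥H) = ⊤) : H ≤ T := by
  by_contra hcon
  apply normalClosure_ne_top_of_isSubnormal h _ hnc
  intro h1
  rw [Subgroup.subgroupOf_eq_top] at h1
  exact hcon h1

theorem normalClosure_subgroupOf_trans {A T H : Subgroup G} (hAT : A ≤ T) (hTH : T ≤ H)
    (h1 : Subgroup.normalClosure ((A.subgroupOf T : Subgroup ↥T) : Set ↥T) = ⊤)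
    (h2 : Subgroup.normalClosure ((T.subgroupOf H : Subgroup ↥H) : Set ↥H) = ⊤) :
    Subgroup.normalClosure ((A.subgroupOf H : Subgroup ↥H) : Set ↥H) = ⊤ := by
  obtain ⟨N, hN⟩ : ∃ N, N = Subgroup.normalClosure ((A.subgroupOf H : Subgroup ↥H) : Set ↥H) :=
    ⟨_, rfl⟩
  rw [← hN]
  have hNn : N.Normal := hN ▸ Subgroup.normalClosure_normal
  have hsub : ((A.subgroupOf H : Subgroup ↥H) : Set ↥H) ⊆ N := hN ▸ Subgroup.subset_normalClosure
  have h3 : Subgroup.normalClosure ((A.subgroupOf T : Subgroup ↥T) : Set ↥T)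
      ≤ N.comap (Subgroup.inclusion hTH) := by
    apply Subgroup.normalClosure_le_normal
    intro a ha
    rw [SetLike.mem_coe, Subgroup.mem_comap]
    apply hsub
    exact ha
  rw [h1, top_le_iff] at h3
  have h4 : T.subgroupOf H ≤ N := by
    intro h hh
    have : (⟨(h : G), hh⟩ : T) ∈ N.comap (Subgroup.inclusion hTH) := by rw [h3]; trivial
    rw [Subgroup.mem_comap] at this
    exact this
  have h5 : Subgroup.normalClosure ((T.subgroupOf H : Subgroup ↥H) : Set ↥H) ≤ N :=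
    Subgroup.normalClosure_le_normal h4
  rw [h2, top_le_iff] at h5
  exact h5

/-- existence of a subnormal closure -/
theorem exists_subnormal_closure [Finite G] {A U : Subgroup G} (hAU : A ≤ U) :
    ∃ T : Subgroup G, A ≤ T ∧ T ≤ U ∧ RelSn T U ∧
      Subgroup.normalClosure ((A.subgroupOf T : Subgroup ↥T) : Set ↥T) = ⊤ := by
  obtain ⟨T, hT, hmin⟩ := (wellFounded_lt (α := Subgroup G)).has_min
    {T : Subgroup G | A ≤ T ∧ T ≤ U ∧ RelSn T U} ⟨U, hAU, le_rfl, relSn_self U⟩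
  obtain ⟨hAT, hTU, hTsn⟩ := hT
  refine ⟨T, hAT, hTU, hTsn, ?_⟩
  obtain ⟨N, hN⟩ : ∃ N, N = Subgroup.normalClosure ((A.subgroupOf T : Subgroup ↥T) : Set ↥T) :=
    ⟨_, rfl⟩
  rw [← hN]
  have hNn : N.Normal := hN ▸ Subgroup.normalClosure_normal
  have hsub : ((A.subgroupOf T : Subgroup ↥T) : Set ↥T) ⊆ N := hN ▸ Subgroup.subset_normalClosure
  have h1 : N.map T.subtype ≤ T := Subgroup.map_subtype_le N
  have h2 : A ≤ N.map T.subtype := by
    intro a ha
    exact ⟨⟨a, hAT ha⟩, hsub ha, rfl⟩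
  have h3 : (N.map T.subtype).subgroupOf T = N :=
    Subgroup.comap_map_eq_self_of_injective T.subtype_injective N
  have h4 : RelSn (N.map T.subtype) T := by
    unfold RelSn
    rw [h3]
    exact hNn.isSubnormal
  have h5 : RelSn (N.map T.subtype) U := relSn_trans h1 hTU h4 hTsn
  have h6 : ¬ N.map T.subtype < T := hmin _ ⟨h2, h1.trans hTU, h5⟩
  have h7 : N.map T.subtype = T := by
    rcases eq_or_lt_of_le h1 with h | h
    · exact h
    · exact absurd h h6
  rw [← h3, h7, Subgroup.subgroupOf_self]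

end Basic

section Main

variable {G : Type*} [Group G]

/-- the family of proper subgroups `H ≥ A` with `A^H = H` -/
def genZipSet (A : Subgroup G) : Set (Subgroup G) :=
  {H : Subgroup G | A ≤ H ∧ H ≠ ⊤ ∧
    Subgroup.normalClosure ((A.subgroupOf H : Subgroup ↥H) : Set ↥H) = ⊤}

/-- the conclusion of the generalized zipper lemma -/
def GZ (A : Subgroup G) : Prop :=
  sSup (genZipSet A) = ⊤ ∨ ∃! M : Subgroup G, IsCoatom M ∧ A ≤ M

/-- the induction hypothesis -/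
def GZih (n : ℕ) : Prop :=
  ∀ B : Subgroup G, n < Nat.card B → Subgroup.normalClosure (B : Set G) = ⊤ → B ≠ ⊤ → GZ B

/-- `M` is the (unique) maximal subgroup containing `A` in which `A` is not subnormal. -/
structure BadPair (n : ℕ) (A M : Subgroup G) : Prop where
  ih : GZih (G := G) n
  card : Nat.card A = n
  nc : Subgroup.normalClosure (A : Set G) = ⊤
  coatom : IsCoatom M
  le : A ≤ M
  notsn : ¬ RelSn A M
  good : ∀ U : Subgroup G, A ≤ U → U ≠ ⊤ → ¬ U ≤ M → RelSn A U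

theorem normalClosure_cj {g : G} {A : Subgroup G}
    (h : Subgroup.normalClosure (A : Set G) = ⊤) :
    Subgroup.normalClosure ((MulAut.conj g • A : Subgroup G) : Set G) = ⊤ := by
  rw [eq_top_iff, ← h]
  apply Subgroup.normalClosure_le_normal
  intro a ha
  have h1 : g * a * g⁻¹ ∈ MulAut.conj g • A := by
    rw [mem_cj]
    have : g⁻¹ * (g * a * g⁻¹) * g = a := by group
    rw [this]; exact ha
  have h2 := Subgroup.subset_normalClosure (s := ((MulAut.conj g • A : Subgroup G) : Set G)) h1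
  have h3 := (Subgroup.normalClosure_normal
    (s := ((MulAut.conj g • A : Subgroup G) : Set G))).conj_mem _ h2 g⁻¹
  have : g⁻¹ * (g * a * g⁻¹) * g⁻¹⁻¹ = a := by group
  rw [this] at h3
  exact h3

theorem BadPair.cj {n : ℕ} {A M : Subgroup G} (hb : BadPair n A M) (g : G) :
    BadPair n (MulAut.conj g • A) (MulAut.conj g • M) where
  ih := hb.ih
  card := by rw [card_cj]; exact hb.card
  nc := normalClosure_cj hb.nc
  coatom := isCoatom_cj hb.coatom
  le := cj_le_cj hb.le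
  notsn := fun h => hb.notsn ((relSn_cj_iff g).mp h)
  good := by
    intro U hAU hU hUM
    have h1 : A ≤ MulAut.conj g⁻¹ • U := (cj_le_iff g A U).mp hAU
    have h2 : MulAut.conj g⁻¹ • U ≠ ⊤ := cj_ne_top hU
    have h3 : ¬ MulAut.conj g⁻¹ • U ≤ M := by
      intro h
      apply hUM
      have := cj_le_cj (g := g) h
      rwa [cj_cj_inv] at this
    have h4 := relSn_cj g (hb.good _ h1 h2 h3)
    rwa [cj_cj_inv] at h4

variable [Finite G]

theorem BadPair.cj_ne {n : ℕ} {A M : Subgroup G} (hb : BadPair n A M) {g : G} (hg : g ∉ M) :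
    MulAut.conj g • M ≠ M := by
  intro h
  have h1 : g ∈ Subgroup.normalizer (M : Set G) := cj_eq_self_iff_mem_normalizer.mp h
  have h2 : M < Subgroup.normalizer (M : Set G) := by
    refine lt_of_le_of_ne Subgroup.le_normalizer ?_
    intro h3
    rw [← h3] at h1
    exact hg h1
  have h3 := hb.coatom.2 _ h2
  have h4 : M.Normal := Subgroup.normalizer_eq_top_iff.mp h3
  have h5 : Subgroup.normalClosure (A : Set G) ≤ M := Subgroup.normalClosure_le_normal hb.le
  rw [hb.nc, top_le_iff] at h5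
  exact hb.coatom.1 h5

theorem BadPair.good_cj {n : ℕ} {A M : Subgroup G} (hb : BadPair n A M) (g : G)
    {U : Subgroup G} (hAU : MulAut.conj g • A ≤ U) (hU : U ≠ ⊤)
    (hUM : ¬ U ≤ MulAut.conj g • M) : RelSn (MulAut.conj g • A) U :=
  (hb.cj g).good U hAU hU hUM

theorem BadPair.not_le_cj {n : ℕ} {A M : Subgroup G} (hb : BadPair n A M) {g : G} (hg : g ∉ M) :
    ¬ M ≤ MulAut.conj g • M := by
  intro h
  apply hb.cj_ne hg
  symm
  apply Subgroup.eq_of_le_of_card_ge h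
  rw [card_cj]

theorem BadPair.relSn_cj_of_not_mem {n : ℕ} {A M : Subgroup G} (hb : BadPair n A M) {g : G}
    (hg : g ∉ M) (hle : MulAut.conj g • A ≤ M) : RelSn (MulAut.conj g • A) M :=
  hb.good_cj g hle hb.coatom.1 (hb.not_le_cj hg)

theorem BadPair.normalizer_le {n : ℕ} {A M : Subgroup G} (hb : BadPair n A M) :
    Subgroup.normalizer (A : Set G) ≤ M := by
  intro x hx
  by_contra hxM
  have h1 : MulAut.conj x • A = A := cj_eq_self_iff_mem_normalizer.mpr hx
  have h2 := hb.relSn_cj_of_not_mem hxM (by rw [h1]; exact hb.le)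
  rw [h1] at h2
  exact hb.notsn h2

theorem lt_sup_cj_of_ne {A : Subgroup G} {g : G} (h : MulAut.conj g • A ≠ A) :
    A < A ⊔ MulAut.conj g • A := by
  refine lt_of_le_of_ne le_sup_left ?_
  intro h1
  apply h
  exact cj_eq_of_le (le_sup_right.trans h1.symm.le)

/-- the key use of the induction hypothesis -/
theorem BadPair.exists_not_le {n : ℕ} {A M : Subgroup G} (hb : BadPair n A M) {B : Subgroup G}
    (hAB : A < B) (hBM : B ≤ M) (hnu : ¬ ∃! K : Subgroup G, IsCoatom K ∧ B ≤ K) :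
    ∃ H : Subgroup G, B ≤ H ∧ H ≠ ⊤ ∧ ¬ H ≤ M ∧
      Subgroup.normalClosure ((B.subgroupOf H : Subgroup ↥H) : Set ↥H) = ⊤ := by
  have h1 : n < Nat.card B := by rw [← hb.card]; exact card_lt_of_lt hAB
  have h2 : Subgroup.normalClosure (B : Set G) = ⊤ := by
    rw [eq_top_iff, ← hb.nc]
    exact Subgroup.normalClosure_mono (by exact_mod_cast hAB.le)
  have h3 : B ≠ ⊤ := by
    intro h
    rw [h, top_le_iff] at hBM
    exact hb.coatom.1 hBM
  rcases hb.ih B h1 h2 h3 with h | h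
  · by_contra hcon
    push Not at hcon
    have : sSup (genZipSet B) ≤ M := by
      apply sSup_le
      intro H hH
      by_contra hHM
      exact hcon H hH.1 hH.2.1 hHM hH.2.2
    rw [h, top_le_iff] at this
    exact hb.coatom.1 this
  · exact absurd h hnu

theorem BadPair.uniq_sup_cj {n : ℕ} {A M : Subgroup G} (hb : BadPair n A M) {m : G} (hm : m ∈ M)
    (hne : MulAut.conj m • A ≠ A) {K : Subgroup G} (hK : IsCoatom K)
    (hle : A ⊔ MulAut.conj m • A ≤ K) : K = M := by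
  by_contra hKM
  have hmA : MulAut.conj m • A ≤ M := by
    have := cj_le_cj (g := m) hb.le
    rwa [cj_self_of_mem hm] at this
  have hBM : A ⊔ MulAut.conj m • A ≤ M := sup_le hb.le hmA
  have hnu : ¬ ∃! K : Subgroup G, IsCoatom K ∧ A ⊔ MulAut.conj m • A ≤ K := by
    rintro ⟨M₀, -, hu⟩
    exact hKM ((hu K ⟨hK, hle⟩).trans (hu M ⟨hb.coatom, hBM⟩).symm)
  obtain ⟨H, hBH, hH, hHM, hnc⟩ := hb.exists_not_le (lt_sup_cj_of_ne hne) hBM hnu
  have h1 : RelSn A H := hb.good H (le_sup_left.trans hBH) hH hHM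
  have h2 : RelSn (MulAut.conj m • A) H := by
    apply hb.good_cj m (le_sup_right.trans hBH) hH
    rwa [cj_self_of_mem hm]
  have h3 := relSn_sup (le_sup_left.trans hBH) (le_sup_right.trans hBH) h1 h2
  exact hHM ((le_of_relSn_of_normalClosure h3 hnc).trans hBM)

theorem BadPair.cj_eq_of_le_coatom {n : ℕ} {A M : Subgroup G} (hb : BadPair n A M)
    {K : Subgroup G} (hK : IsCoatom K) (hKM : K ≠ M) (hAK : A ≤ K) {m : G} (hm : m ∈ M)
    (hmK : MulAut.conj m • A ≤ K) : MulAut.conj m • A = A := by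
  by_contra hne
  exact hKM (hb.uniq_sup_cj hm hne hK (sup_le hAK hmK))

/-- Step 3: conjugates of `A` in `M ⊓ K` are normalized by `A`. -/
theorem BadPair.le_normalizer_cj {n : ℕ} {A M : Subgroup G} (hb : BadPair n A M)
    {K : Subgroup G} (hK : IsCoatom K) (hKM : K ≠ M) (hAK : A ≤ K) {g : G}
    (hne : MulAut.conj g • A ≠ A) (hgK : MulAut.conj g • A ≤ K) (hgM : MulAut.conj g • A ≤ M) :
    g ∉ M ∧ A ≤ Subgroup.normalizer ((MulAut.conj g • A : Subgroup G) : Set G) := by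
  have hg : g ∉ M := fun hg => hne (hb.cj_eq_of_le_coatom hK hKM hAK hg hgK)
  refine ⟨hg, ?_⟩
  have hBM : A ⊔ MulAut.conj g • A ≤ M := sup_le hb.le hgM
  have hBK : A ⊔ MulAut.conj g • A ≤ K := sup_le hAK hgK
  have hnu : ¬ ∃! K : Subgroup G, IsCoatom K ∧ A ⊔ MulAut.conj g • A ≤ K := by
    rintro ⟨M₀, -, hu⟩
    exact hKM ((hu K ⟨hK, hBK⟩).trans (hu M ⟨hb.coatom, hBM⟩).symm)
  obtain ⟨H, hBH, hH, hHM, hnc⟩ := hb.exists_not_le (lt_sup_cj_of_ne hne) hBM hnu
  have h1 : RelSn A H := hb.good H (le_sup_left.trans hBH) hH hHM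
  have hHg : H ≤ MulAut.conj g • M := by
    by_contra hcon
    have h2 : RelSn (MulAut.conj g • A) H := hb.good_cj g (le_sup_right.trans hBH) hH hcon
    have h3 := relSn_sup (le_sup_left.trans hBH) (le_sup_right.trans hBH) h1 h2
    exact hHM ((le_of_relSn_of_normalClosure h3 hnc).trans hBM)
  have hAg : A ≤ MulAut.conj g • M := (le_sup_left.trans hBH).trans hHg
  -- the second maximal subgroup `g⁻¹ M g`
  have hK2 : IsCoatom (MulAut.conj g⁻¹ • M) := isCoatom_cj hb.coatom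
  have hg' : g⁻¹ ∉ M := fun h => hg (by simpa using M.inv_mem h)
  have hK2M : MulAut.conj g⁻¹ • M ≠ M := hb.cj_ne hg'
  have hAK2 : A ≤ MulAut.conj g⁻¹ • M := (cj_le_iff g A M).mp hgM
  intro a ha
  rw [← cj_eq_self_iff_mem_normalizer]
  have hm : g⁻¹ * a * g ∈ M := mem_cj.mp (hAg ha)
  have hm2 : g⁻¹ * a * g ∈ MulAut.conj g⁻¹ • M := by
    rw [mem_cj]
    have : g⁻¹⁻¹ * (g⁻¹ * a * g) * g⁻¹ = a := by group
    rw [this]
    exact hb.le ha
  have h5 : MulAut.conj (g⁻¹ * a * g) • A ≤ MulAut.conj g⁻¹ • M := by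
    have := cj_le_cj (g := g⁻¹ * a * g) hAK2
    rwa [cj_self_of_mem hm2] at this
  have h6 := hb.cj_eq_of_le_coatom hK2 hK2M hAK2 hm h5
  have h7 : a * g = g * (g⁻¹ * a * g) := by group
  rw [← cj_mul, h7, cj_mul, h6]

/-- the conjugates of `A` contained in `D` -/
def cjIn (A D : Subgroup G) : Set (Subgroup G) :=
  {C : Subgroup G | (∃ g : G, C = MulAut.conj g • A) ∧ C ≤ D}

omit [Finite G] in
theorem cjIn_cj (g : G) (A D : Subgroup G) : cjIn (MulAut.conj g • A) D = cjIn A D := by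
  ext C
  constructor
  · rintro ⟨⟨h, rfl⟩, hD⟩
    exact ⟨⟨h * g, (cj_mul h g A).symm⟩, hD⟩
  · rintro ⟨⟨h, rfl⟩, hD⟩
    refine ⟨⟨h * g⁻¹, ?_⟩, hD⟩
    rw [cj_mul, cj_inv_cj]

omit [Finite G] in
theorem normalizer_cj_le (g : G) (A M : Subgroup G) (h : Subgroup.normalizer (A : Set G) ≤ M) :
    Subgroup.normalizer ((MulAut.conj g • A : Subgroup G) : Set G) ≤ MulAut.conj g • M := by
  have h1 := cj_le_normalizer_cj (g := g⁻¹) (P := MulAut.conj g • A)
    (H := Subgroup.normalizer ((MulAut.conj g • A : Subgroup G) : Set G)) le_rfl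
  rw [cj_inv_cj] at h1
  have h2 := (cj_le_iff g⁻¹ _ _).mp (h1.trans h)
  rwa [inv_inv] at h2

omit [Finite G] in
theorem le_coatom_eq {K M : Subgroup G} (hK : IsCoatom K) (hM : IsCoatom M) (h : K ≤ M) :
    K = M := by
  rcases eq_or_lt_of_le h with h | h
  · exact h
  · exact absurd (hK.2 M h) hM.1

/-- the `M`-side lemma: some element of `M` outside `D` normalizes the join of all conjugates of
`A` inside `D`. -/
theorem BadPair.exists_normalizing {n : ℕ} {A M : Subgroup G} (hb : BadPair n A M)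
    {D K : Subgroup G} (hK : IsCoatom K) (hKM : K ≠ M) (hAD : A ≤ D) (hDM : D ≤ M) (hDK : D ≤ K)
    (hDne : D ≠ M) (hex : ∃ g : G, MulAut.conj g • A ≤ D ∧ MulAut.conj g • A ≠ A) :
    ∃ m ∈ M, m ∉ D ∧ MulAut.conj m • sSup (cjIn A D) = sSup (cjIn A D) := by
  have hAK : A ≤ K := hAD.trans hDK
  obtain ⟨S₁, hS₁⟩ : ∃ S₁ : Set (Subgroup G), S₁ = {C | C ∈ cjIn A D ∧ C ≠ A} := ⟨_, rfl⟩
  have hmemS : ∀ C, C ∈ S₁ ↔ (C ∈ cjIn A D ∧ C ≠ A) := by
    intro C; rw [hS₁]; rfl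
  have hS₁D : ∀ C ∈ S₁, C ≤ D := fun C hC => ((hmemS C).mp hC).1.2
  have ha : ∀ C ∈ S₁, ∃ g : G, C = MulAut.conj g • A ∧ g ∉ M ∧
      A ≤ Subgroup.normalizer (C : Set G) ∧ RelSn C M := by
    intro C hC
    obtain ⟨⟨⟨g, rfl⟩, hCD⟩, hne⟩ := (hmemS C).mp hC
    obtain ⟨hg, hN⟩ := hb.le_normalizer_cj hK hKM hAK hne (hCD.trans hDK) (hCD.trans hDM)
    exact ⟨g, rfl, hg, hN, hb.relSn_cj_of_not_mem hg (hCD.trans hDM)⟩
  obtain ⟨R₁, hR₁⟩ : ∃ R₁, R₁ = sSup S₁ := ⟨_, rfl⟩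
  have hleR₁ : ∀ C ∈ S₁, C ≤ R₁ := fun C hC => hR₁ ▸ le_sSup hC
  have hb1 : RelSn R₁ M ∧ R₁ ≤ M := by
    rw [hR₁]
    apply relSn_sSup
    intro C hC
    obtain ⟨g, -, -, -, hsn⟩ := ha C hC
    exact ⟨(hS₁D C hC).trans hDM, hsn⟩
  have hR₁D : R₁ ≤ D := by
    rw [hR₁]
    exact sSup_le hS₁D
  obtain ⟨m, hmM, hmD, hmR⟩ := exists_conj_le_of_relSn hR₁D hDM hDne hb1.1
  have hm'M : m⁻¹ ∈ M := M.inv_mem hmM
  have hperm : ∀ C ∈ S₁, MulAut.conj m • C ∈ S₁ := by
    intro C hC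
    obtain ⟨⟨⟨g, hg⟩, hCD⟩, hne⟩ := (hmemS C).mp hC
    rw [hmemS]
    refine ⟨⟨⟨m * g, ?_⟩, (cj_le_cj (hleR₁ C hC)).trans hmR⟩, ?_⟩
    · rw [hg, cj_mul]
    · intro h
      apply hne
      have h1 : C = MulAut.conj m⁻¹ • A := by rw [← h, cj_inv_cj]
      rw [h1]
      apply hb.cj_eq_of_le_coatom hK hKM hAK hm'M
      rw [← h1]
      exact hCD.trans hDK
  have hR₁m : MulAut.conj m • R₁ = R₁ := by
    apply cj_eq_of_le
    rw [hR₁]
    apply cj_sSup_le
    intro C hC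
    exact le_sSup (hperm C hC)
  have hR₁m' : MulAut.conj m⁻¹ • R₁ = R₁ := by
    conv_lhs => rw [← hR₁m]
    rw [cj_inv_cj]
  have hperm' : ∀ C ∈ S₁, MulAut.conj m⁻¹ • C ∈ S₁ := by
    intro C hC
    obtain ⟨⟨⟨g, hg⟩, hCD⟩, hne⟩ := (hmemS C).mp hC
    rw [hmemS]
    refine ⟨⟨⟨m⁻¹ * g, ?_⟩, ?_⟩, ?_⟩
    · rw [hg, cj_mul]
    · have := cj_le_cj (g := m⁻¹) (hleR₁ C hC)
      rw [hR₁m'] at this
      exact this.trans hR₁D
    · intro h
      apply hne
      have h1 : C = MulAut.conj m • A := by rw [← h, cj_cj_inv]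
      rw [h1]
      apply hb.cj_eq_of_le_coatom hK hKM hAK hmM
      rw [← h1]
      exact hCD.trans hDK
  have hmA : MulAut.conj m • A = A := by
    by_contra hne
    obtain ⟨g₀, hg₀D, hg₀ne⟩ := hex
    have hC : MulAut.conj g₀ • A ∈ S₁ := by
      rw [hmemS]
      exact ⟨⟨⟨g₀, rfl⟩, hg₀D⟩, hg₀ne⟩
    obtain ⟨C, hCdef⟩ : ∃ C, C = MulAut.conj g₀ • A := ⟨_, rfl⟩
    rw [← hCdef] at hC
    have hC' := hperm' C hC
    obtain ⟨g', -, -, hN', -⟩ := ha _ hC'
    obtain ⟨g, hCg, hg, hN, -⟩ := ha C hC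
    have h1 : MulAut.conj m • A ≤ Subgroup.normalizer (C : Set G) := by
      have := cj_le_normalizer_cj (g := m) hN'
      rwa [cj_cj_inv] at this
    have h2 : Subgroup.normalizer (C : Set G) ≤ MulAut.conj g • M := by
      rw [hCg]
      exact normalizer_cj_le g A M hb.normalizer_le
    have h3 := hb.uniq_sup_cj hmM hne (isCoatom_cj hb.coatom) (sup_le (hN.trans h2) (h1.trans h2))
    exact hb.cj_ne hg h3
  refine ⟨m, hmM, hmD, cj_eq_of_le (cj_sSup_le ?_)⟩
  intro C hC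
  by_cases hCA : C = A
  · rw [hCA, hmA]
    exact le_sSup ⟨⟨1, (cj_one A).symm⟩, hAD⟩
  · have h1 : C ∈ S₁ := (hmemS C).mpr ⟨hC, hCA⟩
    exact le_sSup ((hmemS _).mp (hperm C h1)).1

/-- the maximal intersection argument -/
theorem BadPair.false_of_coatom {n : ℕ} {A M : Subgroup G} (hb : BadPair n A M)
    {K₁ : Subgroup G} (hK₁ : IsCoatom K₁) (hK₁M : K₁ ≠ M) (hAK₁ : A ≤ K₁) : False := by
  obtain ⟨𝓤, h𝓤⟩ : ∃ 𝓤 : Set (Subgroup G), 𝓤 = {U | A ≤ U ∧ U ≠ ⊤ ∧ ¬ U ≤ M} := ⟨_, rfl⟩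
  have hmemU : ∀ U, U ∈ 𝓤 ↔ (A ≤ U ∧ U ≠ ⊤ ∧ ¬ U ≤ M) := by
    intro U; rw [h𝓤]; rfl
  have hK₁U : K₁ ∈ 𝓤 := by
    rw [hmemU]
    exact ⟨hAK₁, hK₁.1, fun h => hK₁M (le_coatom_eq hK₁ hb.coatom h)⟩
  obtain ⟨U₀, hU₀, hmax⟩ := Set.exists_max_image 𝓤 (fun U => Nat.card ↥(U ⊓ M))
    (Set.toFinite _) ⟨K₁, hK₁U⟩
  rw [hmemU] at hU₀
  obtain ⟨K, hK, hU₀K⟩ := (eq_top_or_exists_le_coatom U₀).resolve_left hU₀.2.1
  have hKnM : ¬ K ≤ M := fun h => hU₀.2.2 (hU₀K.trans h)
  have hKM : K ≠ M := fun h => hKnM h.le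
  have hAK : A ≤ K := hU₀.1.trans hU₀K
  have hmaxK : ∀ U ∈ 𝓤, Nat.card ↥(U ⊓ M) ≤ Nat.card ↥(K ⊓ M) := by
    intro U hU
    exact (hmax U hU).trans (Subgroup.card_le_of_le (inf_le_inf_right M hU₀K))
  obtain ⟨D, hD⟩ : ∃ D, D = K ⊓ M := ⟨_, rfl⟩
  have hDK : D ≤ K := hD ▸ inf_le_left
  have hDM : D ≤ M := hD ▸ inf_le_right
  have hAD : A ≤ D := hD ▸ le_inf hAK hb.le
  have hDneK : D ≠ K := by
    intro h
    apply hKnM
    rw [← h]
    exact hDM
  have hDneM : D ≠ M := by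
    intro h
    apply hKM
    symm
    apply le_coatom_eq hb.coatom hK
    rw [← h]
    exact hDK
  have hmemD : ∀ z, z ∈ K → z ∉ D → z ∉ M := by
    intro z hzK hzD hzM
    apply hzD
    rw [hD]
    exact ⟨hzK, hzM⟩
  have hsnK : RelSn A K := hb.good K hAK hK.1 hKnM
  obtain ⟨x, hxK, hxD, hxA⟩ := exists_conj_le_of_relSn hAD hDK hDneK hsnK
  have hxM : x ∉ M := hmemD x hxK hxD
  have hxne : MulAut.conj x • A ≠ A :=
    fun h => hxM (hb.normalizer_le (cj_eq_self_iff_mem_normalizer.mp h))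
  obtain ⟨m, hmM, hmD, hmR⟩ := hb.exists_normalizing hK hKM hAD hDM hDK hDneM ⟨x, hxA, hxne⟩
  have hRD : sSup (cjIn A D) ≤ D := sSup_le (fun C hC => hC.2)
  have hy : ∃ y ∈ K, y ∉ D ∧ MulAut.conj y • sSup (cjIn A D) = sSup (cjIn A D) := by
    by_cases hall : ∀ C ∈ cjIn A D, RelSn C K
    · have h1 := relSn_sSup (S := cjIn A D) (H := K) (fun C hC => ⟨hC.2.trans hDK, hall C hC⟩)
      obtain ⟨y, hyK, hyD, hyR⟩ := exists_conj_le_of_relSn hRD hDK hDneK h1.1
      refine ⟨y, hyK, hyD, cj_eq_of_le (cj_sSup_le ?_)⟩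
      intro C hC
      apply le_sSup
      refine ⟨?_, (cj_le_cj (le_sSup hC)).trans hyR⟩
      obtain ⟨g, hg⟩ := hC.1
      exact ⟨y * g, by rw [hg, cj_mul]⟩
    · push Not at hall
      obtain ⟨C, hC, hCsn⟩ := hall
      obtain ⟨⟨g, rfl⟩, hCD⟩ := hC
      have h1 : K ≤ MulAut.conj g • M := by
        by_contra hcon
        exact hCsn (hb.good_cj g (hCD.trans hDK) hK.1 hcon)
      have h2 : K = MulAut.conj g • M := le_coatom_eq hK (isCoatom_cj hb.coatom) h1
      have hb' : BadPair n (MulAut.conj g • A) K := h2 ▸ hb.cj g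
      have hne : MulAut.conj g • A ≠ A := by
        intro h
        rw [h] at hCsn
        exact hCsn hsnK
      obtain ⟨y, hyK, hyD, hyR⟩ := hb'.exists_normalizing hb.coatom hKM.symm hCD hDK hDM hDneK
        ⟨g⁻¹, by rw [cj_inv_cj]; exact hAD, by rw [cj_inv_cj]; exact hne.symm⟩
      rw [cjIn_cj] at hyR
      exact ⟨y, hyK, hyD, hyR⟩
  obtain ⟨y, hyK, hyD, hyR⟩ := hy
  have hyM : y ∉ M := hmemD y hyK hyD
  obtain ⟨R, hR⟩ : ∃ R, R = sSup (cjIn A D) := ⟨_, rfl⟩
  rw [← hR] at hmR hyR hRD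
  have hAR : A ≤ R := hR ▸ le_sSup ⟨⟨1, (cj_one A).symm⟩, hAD⟩
  have hDN : D ≤ Subgroup.normalizer (R : Set G) := by
    intro d hd
    rw [← cj_eq_self_iff_mem_normalizer]
    apply cj_eq_of_le
    rw [hR]
    apply cj_sSup_le
    intro C hC
    apply le_sSup
    refine ⟨?_, ?_⟩
    · obtain ⟨g, hg⟩ := hC.1
      exact ⟨d * g, by rw [hg, cj_mul]⟩
    · have := cj_le_cj (g := d) hC.2
      rwa [cj_self_of_mem hd] at this
  have hmN : m ∈ Subgroup.normalizer (R : Set G) := cj_eq_self_iff_mem_normalizer.mp hmR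
  have hyN : y ∈ Subgroup.normalizer (R : Set G) := cj_eq_self_iff_mem_normalizer.mp hyR
  have hNU : Subgroup.normalizer (R : Set G) ∈ 𝓤 := by
    rw [hmemU]
    refine ⟨hAD.trans hDN, ?_, fun h => hyM (h hyN)⟩
    intro h
    have h4 : R.Normal := Subgroup.normalizer_eq_top_iff.mp h
    have h5 : Subgroup.normalClosure (A : Set G) ≤ R := Subgroup.normalClosure_le_normal hAR
    rw [hb.nc, top_le_iff] at h5
    rw [h5, top_le_iff] at hRD
    rw [hRD, top_le_iff] at hDM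
    exact hb.coatom.1 hDM
  have h6 := hmaxK _ hNU
  have h7 : D < Subgroup.normalizer (R : Set G) ⊓ M := by
    refine lt_of_le_of_ne (le_inf hDN hDM) ?_
    intro h
    apply hmD
    rw [h]
    exact ⟨hmN, hmM⟩
  have h8 := card_lt_of_lt h7
  rw [hD] at h8
  omega

end Main

section Final

universe u

theorem genZipper_step {G : Type u} [Group G] [Finite G] (n : ℕ) (ih : GZih (G := G) n)
    (A : Subgroup G) (hcard : Nat.card A = n)
    (hnc : Subgroup.normalClosure (A : Set G) = ⊤) (hne : A ≠ ⊤) : GZ A := by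
  by_contra hcon
  unfold GZ at hcon
  push Not at hcon
  obtain ⟨hY, hnu⟩ := hcon
  obtain ⟨M₁, hM₁, hAM₁⟩ := (eq_top_or_exists_le_coatom A).resolve_left hne
  have hnu' : ¬ ∃! M : Subgroup G, IsCoatom M ∧ A ≤ M := hnu
  obtain ⟨M₂, hM₂, hAM₂, hM₂ne⟩ : ∃ M₂, IsCoatom M₂ ∧ A ≤ M₂ ∧ M₂ ≠ M₁ := by
    by_contra hcon
    push Not at hcon
    exact hnu' ⟨M₁, ⟨hM₁, hAM₁⟩, fun K hK => hcon K hK.1 hK.2⟩
  -- Step A
  have hT : ∀ T : Subgroup G, A ≤ T → T ≠ A → T ≠ ⊤ →
      Subgroup.normalClosure ((A.subgroupOf T : Subgroup ↥T) : Set ↥T) = ⊤ →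
      ∃ M : Subgroup G, IsCoatom M ∧ T ≤ M ∧ ∀ K : Subgroup G, IsCoatom K → T ≤ K → K = M := by
    intro T hAT hTA hTtop hTnc
    have h1 : n < Nat.card T := by
      rw [← hcard]
      exact card_lt_of_lt (lt_of_le_of_ne hAT hTA.symm)
    have h2 : Subgroup.normalClosure (T : Set G) = ⊤ := by
      rw [eq_top_iff, ← hnc]
      exact Subgroup.normalClosure_mono (by exact_mod_cast hAT)
    rcases ih T h1 h2 hTtop with h | ⟨M, ⟨hM, hTM⟩, hu⟩
    · exfalso
      apply hY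
      rw [eq_top_iff, ← h]
      apply sSup_le_sSup
      intro H hH
      exact ⟨hAT.trans hH.1, hH.2.1, normalClosure_subgroupOf_trans hAT hH.1 hTnc hH.2.2⟩
    · exact ⟨M, hM, hTM, fun K hK hTK => hu K ⟨hK, hTK⟩⟩
  by_cases hex : ∃ T : Subgroup G, A ≤ T ∧ T ≠ A ∧ T ≠ ⊤ ∧
      Subgroup.normalClosure ((A.subgroupOf T : Subgroup ↥T) : Set ↥T) = ⊤
  · obtain ⟨T₀, hAT₀, hT₀A, hT₀top, hT₀nc⟩ := hex
    obtain ⟨M, hM, hT₀M, huM⟩ := hT T₀ hAT₀ hT₀A hT₀top hT₀nc
    have hYM : sSup (genZipSet A) ≤ M := by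
      obtain ⟨M', hM', hYM'⟩ := (eq_top_or_exists_le_coatom _).resolve_left hY
      have h1 : T₀ ≤ sSup (genZipSet A) := le_sSup ⟨hAT₀, hT₀top, hT₀nc⟩
      have h2 := huM M' hM' (h1.trans hYM')
      rwa [h2] at hYM'
    have hb : BadPair n A M := by
      refine ⟨ih, hcard, hnc, hM, hAT₀.trans hT₀M, ?_, ?_⟩
      · intro h
        have h1 : RelSn A T₀ := relSn_of_le hT₀M h
        exact hT₀A (le_antisymm (le_of_relSn_of_normalClosure h1 hT₀nc) hAT₀)
      · intro U hAU hU hUM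
        obtain ⟨T, hAT, hTU, hTsn, hTnc⟩ := exists_subnormal_closure hAU
        by_cases hTA : T = A
        · rwa [hTA] at hTsn
        · exfalso
          have hTtop : T ≠ ⊤ := by
            intro h
            rw [h, top_le_iff] at hTU
            exact hU hTU
          obtain ⟨MT, hMT, hTMT, huMT⟩ := hT T hAT hTA hTtop hTnc
          have h1 : T ≤ M := (le_sSup ⟨hAT, hTtop, hTnc⟩ : T ≤ sSup (genZipSet A)).trans hYM
          have h2 : M = MT := huMT M hM h1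
          obtain ⟨M'', hM'', hUM''⟩ := (eq_top_or_exists_le_coatom U).resolve_left hU
          have h3 : M'' = MT := huMT M'' hM'' (hTU.trans hUM'')
          apply hUM
          rw [h2, ← h3]
          exact hUM''
    by_cases h1 : M₁ = M
    · exact hb.false_of_coatom hM₂ (h1 ▸ hM₂ne) hAM₂
    · exact hb.false_of_coatom hM₁ h1 hAM₁
  · push Not at hex
    have hprop : ∀ H : Subgroup G, A ≤ H → H ≠ ⊤ → (A.subgroupOf H).IsSubnormal := by
      intro U hAU hU
      obtain ⟨T, hAT, hTU, hTsn, hTnc⟩ := exists_subnormal_closure hAU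
      by_cases hTA : T = A
      · rw [hTA] at hTsn
        exact hTsn
      · exfalso
        have hTtop : T ≠ ⊤ := by
          intro h
          rw [h, top_le_iff] at hTU
          exact hU hTU
        exact hex T hAT hTA hTtop hTnc
    have hns : ¬ A.IsSubnormal := fun h => normalClosure_ne_top_of_isSubnormal h hne hnc
    exact hM₂ne (Cfsg.Agent.Lib.Helper13.zipper A hprop hns M₂ M₁ hM₂ hM₁ hAM₂ hAM₁)

theorem genZipper_aux {G : Type u} [Group G] [Finite G] (k : ℕ) :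
    ∀ A : Subgroup G, Nat.card G - Nat.card A = k →
      Subgroup.normalClosure (A : Set G) = ⊤ → A ≠ ⊤ → GZ A := by
  induction k using Nat.strong_induction_on with
  | _ k ih =>
  intro A hk hnc hne
  apply genZipper_step (Nat.card A) _ A rfl hnc hne
  intro B hB hBnc hBne
  have h1 : Nat.card B ≤ Nat.card G := Subgroup.card_le_card_group B
  exact ih (Nat.card G - Nat.card B) (by omega) B rfl hBnc hBne

/-- **Generalized zipper lemma.** -/
theorem genZipper {G : Type u} [Group G] [Finite G] (A : Subgroup G)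
    (hA : Subgroup.normalClosure (A : Set G) = ⊤) (hAG : A ≠ ⊤) :
    sSup {H : Subgroup G | A ≤ H ∧ H ≠ ⊤ ∧
      Subgroup.normalClosure ((A.subgroupOf H : Subgroup ↥H) : Set ↥H) = ⊤} = ⊤ ∨
      ∃! M : Subgroup G, IsCoatom M ∧ A ≤ M :=
  genZipper_aux _ A rfl hA hAG

end Final

end Cfsg.Agent.Lib.Helper20
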