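import Cfsg.Agent.Lib.Helper20.PLocal
import Cfsg.Agent.Lib.Helper20.DerivedLimit

/-!
First steps of `L_{p'}`-balance (helper20): the preimage of `E(N / O_{p'}(N))`, `N = N_G(P)`,
centralizes `O_p(G)`.
-/

set_option autoImplicit false

namespace Cfsg.Agent.Lib.Helper20

section General

variable {K : Type*} [Group K] [Finite K] (p : ℕ) [hp : Fact p.Prime]

/-- The preimage `X` of `E(K / O_{p'}(K))` in `K`. -/
def layerPreimage (p : ℕ) (K : Type*) [Group K] : Subgroup K :=
  (Cfsg.layer (K ⧸ pPrimeCore p K)).comap (QuotientGroup.mk' (pPrimeCore p K))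

theorem layerPreimage_map :
    (layerPreimage p K).map (QuotientGroup.mk' (pPrimeCore p K)) =
      Cfsg.layer (K ⧸ pPrimeCore p K) :=
  Subgroup.map_comap_eq_self_of_surjective (QuotientGroup.mk'_surjective _) _

theorem pPrimeCore_le_layerPreimage : pPrimeCore p K ≤ layerPreimage p K := by
  intro x hx
  unfold layerPreimage
  rw [Subgroup.mem_comap]
  have : QuotientGroup.mk' (pPrimeCore p K) x = 1 := by
    rw [← MonoidHom.mem_ker, QuotientGroup.ker_mk']; exact hx
  rw [this]; exact one_mem _

/-- `X` centralizes every normal `p`-subgroup of `K`. -/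
theorem commutator_layerPreimage_eq_bot (R : Subgroup K) [hRn : R.Normal] (hR : IsPGroup p R) :
    ⁅layerPreimage p K, R⁆ = ⊥ := by
  have h1 : (⁅layerPreimage p K, R⁆).map (QuotientGroup.mk' (pPrimeCore p K)) = ⊥ := by
    rw [Subgroup.map_commutator, layerPreimage_map, eq_bot_iff]
    have hRm : R.map (QuotientGroup.mk' (pPrimeCore p K)) ≤ fittingSubgroup (K ⧸ pPrimeCore p K) :=
      (le_pCore' (Subgroup.Normal.map hRn _ (QuotientGroup.mk'_surjective _)) (hR.map _)).trans
        (pCore_le_fitting' p)
    calc ⁅Cfsg.layer (K ⧸ pPrimeCore p K), R.map (QuotientGroup.mk' (pPrimeCore p K))⁆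
        ≤ ⁅Cfsg.layer (K ⧸ pPrimeCore p K), fittingSubgroup (K ⧸ pPrimeCore p K)⁆ :=
          Subgroup.commutator_mono le_rfl hRm
      _ = ⊥ := Subgroup.commutator_eq_bot_iff_le_centralizer.mpr layer_le_centralizer_fitting
  have h2 : ⁅layerPreimage p K, R⁆ ≤ pPrimeCore p K := (map_mk'_eq_bot_iff _ _).mp h1
  have h3 : ⁅layerPreimage p K, R⁆ ≤ R := Subgroup.commutator_le_right _ _
  have hdisj : pPrimeCore p K ⊓ R = ⊥ := by
    apply disjoint_iff.mp
    apply Subgroup.disjoint_of_coprime_natCard
    obtain ⟨k, hk⟩ := IsPGroup.iff_card.mp hR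
    rw [hk]
    exact Nat.Coprime.pow_right k (pPrimeCore_coprime' p)
  rw [eq_bot_iff, ← hdisj]
  exact le_inf h2 h3

/-- `X = [X, X] O_{p'}(K)`. -/
theorem layerPreimage_le_commutator_sup :
    layerPreimage p K ≤ ⁅layerPreimage p K, layerPreimage p K⁆ ⊔ pPrimeCore p K := by
  have h1 : (⁅layerPreimage p K, layerPreimage p K⁆).map (QuotientGroup.mk' (pPrimeCore p K)) =
      (layerPreimage p K).map (QuotientGroup.mk' (pPrimeCore p K)) := by
    rw [Subgroup.map_commutator, layerPreimage_map, layer_perfect]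
  intro x hx
  have hx' : QuotientGroup.mk' (pPrimeCore p K) x ∈
      (⁅layerPreimage p K, layerPreimage p K⁆).map (QuotientGroup.mk' (pPrimeCore p K)) := by
    rw [h1]; exact Subgroup.mem_map_of_mem _ hx
  obtain ⟨y, hy, hyx⟩ := Subgroup.mem_map.mp hx'
  have h2 : y⁻¹ * x ∈ pPrimeCore p K := by
    rw [← QuotientGroup.ker_mk' (pPrimeCore p K), MonoidHom.mem_ker, map_mul, map_inv, hyx]
    exact inv_mul_cancel _
  have : x = y * (y⁻¹ * x) := by group
  rw [this]
  exact mul_mem (Subgroup.mem_sup_left hy) (Subgroup.mem_sup_right h2)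

/-- A normal subgroup `Z` of `K` containing all `p'`-elements of `X` contains `X`. -/
theorem layerPreimage_le_of_pPrime_elements (Z : Subgroup K) [hZ : Z.Normal]
    (h : ∀ a ∈ layerPreimage p K, (orderOf a).Coprime p → a ∈ Z) : layerPreimage p K ≤ Z := by
  set X := layerPreimage p K with hX
  set ρ := QuotientGroup.mk' Z with hρ
  -- the image of X in K/Z is a p-group
  have hpg : IsPGroup p ↥(X.map ρ) := by
    rintro ⟨xb, hxb⟩
    obtain ⟨x, hx, rfl⟩ := Subgroup.mem_map.mp hxb
    obtain ⟨e, m, hm, hem⟩ := Nat.exists_eq_pow_mul_and_not_dvd (orderOf_pos x).ne' p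
      hp.out.ne_one
    refine ⟨e, ?_⟩
    apply Subtype.ext
    show (ρ x) ^ (p ^ e) = 1
    rw [← map_pow, ← MonoidHom.mem_ker, hρ, QuotientGroup.ker_mk']
    apply h _ (pow_mem hx _)
    have h1 : orderOf (x ^ (p ^ e)) = m := by
      rw [orderOf_pow' x (pow_ne_zero e hp.out.ne_zero), hem,
        Nat.gcd_eq_right (dvd_mul_right _ _),
        Nat.mul_div_cancel_left _ (pow_pos hp.out.pos e)]
    rw [h1]
    exact ((Nat.Prime.coprime_iff_not_dvd hp.out).mpr hm).symm
  -- the image of O_{p'}(K) is trivial
  have hO : pPrimeCore p K ≤ Z := by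
    intro a ha
    apply h a (pPrimeCore_le_layerPreimage p ha)
    have h1 : orderOf a ∣ Nat.card (pPrimeCore p K) := by
      have := orderOf_dvd_natCard (⟨a, ha⟩ : pPrimeCore p K)
      rwa [Subgroup.orderOf_mk] at this
    exact Nat.Coprime.coprime_dvd_left h1 (pPrimeCore_coprime' p)
  -- the image is perfect
  have hperf : ⁅X.map ρ, X.map ρ⁆ = X.map ρ := by
    apply le_antisymm (Subgroup.commutator_le_self _)
    rw [← Subgroup.map_commutator]
    have h1 := Subgroup.map_mono (f := ρ) (layerPreimage_le_commutator_sup (K := K) p)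
    rw [Subgroup.map_sup] at h1
    have h2 : (pPrimeCore p K).map ρ = ⊥ := (map_mk'_eq_bot_iff _ _).mpr hO
    rw [h2, sup_bot_eq] at h1
    exact h1
  have hbot : X.map ρ = ⊥ := by
    by_contra hne
    exact commutator_ne_of_isPGroup p (X.map ρ) (X.map ρ) hpg hpg Subgroup.le_normalizer hne hperf
  exact (map_mk'_eq_bot_iff _ _).mp hbot

end General

section Normalizer

variable {G : Type*} [Group G] [Finite G] (p : ℕ) [hp : Fact p.Prime]

/-- The preimage in `N = N_G(P)` of `E(N / O_{p'}(N))` centralizes `O_p(G)`. -/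
theorem layerPreimage_normalizer_le_centralizer_pCore (P : Subgroup G) (hP : IsPGroup p P) :
    (layerPreimage p ↥(Subgroup.normalizer (P : Set G))).map
      (Subgroup.normalizer (P : Set G)).subtype ≤
        Subgroup.centralizer ((pCore p G : Subgroup G) : Set G) := by
  have hQn : (pCore p G).Normal := pCore_normal' p
  have hPn : (P.subgroupOf (Subgroup.normalizer (P : Set G))).Normal :=
    Subgroup.normal_in_normalizer
  have hcomm1 := commutator_layerPreimage_eq_bot p
    (P.subgroupOf (Subgroup.normalizer (P : Set G))) hP.comap_subtype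
  have hcomm2 := commutator_layerPreimage_eq_bot p
    ((pCore p G).subgroupOf (Subgroup.normalizer (P : Set G))) (pCore_isPGroup' p).comap_subtype
  rw [Subgroup.map_le_iff_le_comap]
  have hZn : ((Subgroup.centralizer ((pCore p G : Subgroup G) : Set G)).comap
      (Subgroup.normalizer (P : Set G)).subtype).Normal := inferInstance
  apply layerPreimage_le_of_pPrime_elements p
  intro a ha hord
  rw [Subgroup.mem_comap]
  show (a : G) ∈ Subgroup.centralizer ((pCore p G : Subgroup G) : Set G)
  have hnorm : Subgroup.normalizer ((pCore p G : Subgroup G) : Set G) = ⊤ :=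
    Subgroup.normalizer_eq_top _
  have key : ⁅pCore p G, Subgroup.zpowers (a : G)⁆ = ⊥ := by
    apply thompson_AxB p (pCore p G) (Subgroup.zpowers (a : G)) P (pCore_isPGroup' p) hP
    · rw [Nat.card_zpowers, Subgroup.orderOf_coe]; exact hord
    · rw [Subgroup.commutator_eq_bot_iff_le_centralizer, Subgroup.zpowers_le,
        Subgroup.mem_centralizer_iff]
      intro x hx
      have hxN : x ∈ Subgroup.normalizer (P : Set G) := Subgroup.le_normalizer hx
      have := commutes_of_commutator_eq_bot hcomm1 ha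
        (show (⟨x, hxN⟩ : ↥(Subgroup.normalizer (P : Set G))) ∈
          P.subgroupOf (Subgroup.normalizer (P : Set G)) from hx)
      exact (congrArg Subtype.val this).symm
    · rw [hnorm]; exact le_top
    · rw [hnorm]; exact le_top
    · intro x hx
      rw [Subgroup.zpowers_eq_closure, Subgroup.centralizer_closure, Subgroup.mem_centralizer_iff]
      intro y hy
      rw [Set.mem_singleton_iff] at hy
      subst hy
      have hxN : x ∈ Subgroup.normalizer (P : Set G) :=
        Subgroup.centralizer_le_normalizer _ hx.2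
      have := commutes_of_commutator_eq_bot hcomm2 ha
        (show (⟨x, hxN⟩ : ↥(Subgroup.normalizer (P : Set G))) ∈
          (pCore p G).subgroupOf (Subgroup.normalizer (P : Set G)) from hx.1)
      exact congrArg Subtype.val this
  rw [Subgroup.commutator_comm] at key
  exact (Subgroup.commutator_eq_bot_iff_le_centralizer.mp key) (Subgroup.mem_zpowers _)

end Normalizer

end Cfsg.Agent.Lib.Helper20
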