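import Cfsg.Agent.Lib.Helper20.LBalance9

/-!
`L_{p'}`-balance type lemmas, part 10 (helper20): local balance of the components of the
`C_G(x)/O(C_G(x))` implies balance.
-/

set_option autoImplicit false

namespace Cfsg.Agent.Lib.Helper20

open scoped commutatorElement
open Cfsg

section locbal

variable {G : Type*} [Group G]

/-- Abstract form: in a group with `O(G) = 1` all of whose components are locally balanced modulo
their centres, `O(C_G(x)) = 1` for involutions `x` (stated for any odd-order `D ≤ C_G(x)` normalized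
by `C_G(x)`). -/
theorem eq_bot_of_locallyBalanced [Finite G] (hO : pPrimeCore 2 G = ⊥) (x : G)
    (hx : orderOf x = 2) (D : Subgroup G) (hDcard : (Nat.card D).Coprime 2)
    (hDC : D ≤ Subgroup.centralizer ({x} : Set G))
    (hCD : Subgroup.centralizer ({x} : Set G) ≤ Subgroup.normalizer (D : Set G))
    (hloc : ∀ L : Subgroup G, IsComponent L → IsLocallyBalanced (↥L ⧸ Subgroup.center ↥L)) :
    D = ⊥ := by
  haveI : Fact (Nat.Prime 2) := ⟨Nat.prime_two⟩
  by_contra hD1
  obtain ⟨L, hL, hxL, hDL, hxL', hDL'⟩ :=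
    exists_component_normalized_not_centralized 2 hO x hx D hDcard hDC hCD D le_rfl hD1
  have hxx : x ∈ Subgroup.centralizer ({x} : Set G) := by
    rw [Subgroup.mem_centralizer_iff]
    intro y hy
    rw [Set.mem_singleton_iff] at hy
    rw [hy]
  obtain ⟨B, hB⟩ : ∃ B : Subgroup G, B = D ⊔ Subgroup.zpowers x := ⟨_, rfl⟩
  have hBN : B ≤ Subgroup.normalizer (L : Set G) := by
    rw [hB]; exact sup_le hDL (by rw [Subgroup.zpowers_le]; exact hxL)
  have hBC : B ≤ Subgroup.centralizer ({x} : Set G) := by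
    rw [hB]; exact sup_le hDC (by rw [Subgroup.zpowers_le]; exact hxx)
  have hDB : D ≤ B := by rw [hB]; exact le_sup_left
  have hxB : x ∈ B := by rw [hB]; exact le_sup_right (α := Subgroup G) (Subgroup.mem_zpowers x)
  obtain ⟨H, hH⟩ : ∃ H : Subgroup G, H = L ⊔ B := ⟨_, rfl⟩
  have hLH : L ≤ H := by rw [hH]; exact le_sup_left
  have hBH : B ≤ H := by rw [hH]; exact le_sup_right
  have hDH : D ≤ H := hDB.trans hBH
  have hxH : x ∈ H := hBH hxB
  have hHN : H ≤ Subgroup.normalizer (L : Set G) := by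
    rw [hH]; exact sup_le Subgroup.le_normalizer hBN
  obtain ⟨ψ, hψ⟩ : ∃ ψ : ↥H →* MulAut (↥L ⧸ Subgroup.center ↥L), ψ = actCenterQuot L H hHN :=
    ⟨_, rfl⟩
  have hπsurj : Function.Surjective ψ.rangeRestrict := ψ.rangeRestrict_surjective
  haveI : Finite ↥ψ.range := Finite.of_surjective _ hπsurj
  have hπker : ∀ g : ↥H, ψ.rangeRestrict g = 1 ↔ (g : G) ∈ Subgroup.centralizer (L : Set G) := by
    intro g
    rw [← actCenterQuot_eq_one_iff L H hL hHN g, ← hψ]
    constructor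
    · intro h1
      have := congrArg Subtype.val h1
      rwa [MonoidHom.coe_rangeRestrict] at this
    · intro h1
      apply Subtype.ext
      rw [MonoidHom.coe_rangeRestrict]; exact h1
  obtain ⟨xH, hxH'⟩ : ∃ xH : ↥H, xH = ⟨x, hxH⟩ := ⟨_, rfl⟩
  have ha : orderOf (ψ.rangeRestrict xH) = 2 := by
    have h1 : (ψ.rangeRestrict xH) ^ 2 = 1 := by
      have h2 : xH ^ 2 = 1 := by
        apply Subtype.ext
        rw [hxH', Subgroup.coe_pow, Subgroup.coe_one]
        show x ^ 2 = 1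
        rw [← hx]; exact pow_orderOf_eq_one x
      rw [← map_pow, h2, map_one]
    have h2 : ψ.rangeRestrict xH ≠ 1 := by
      rw [Ne, hπker, hxH']; exact hxL'
    exact orderOf_eq_prime h1 h2
  have hrange : (MulAut.conj : (↥L ⧸ Subgroup.center ↥L) →*
      MulAut (↥L ⧸ Subgroup.center ↥L)).range ≤ ψ.range := by
    rw [hψ]; exact conj_range_le_actCenterQuot_range L H hLH hHN
  have hcore := hloc L hL ψ.range hrange (ψ.rangeRestrict xH) ha
  have hchain := map_le_centralizerPPrimeCore_of_chain 2 hO x hx D hDcard hDC hCD L hL B hxB hBN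
    hBC H hH ψ.rangeRestrict hπsurj hπker xH (by rw [hxH'])
  rw [hcore, inf_eq_left.mpr hDH] at hchain
  have hfin := le_centralizer_of_map_le_normal_coprime 2 hO L hL D hDL H hLH hDH ψ.rangeRestrict
    hπker ⊥ inferInstance (by rw [Subgroup.card_bot]; exact Nat.coprime_one_left _) hchain
  exact hDL' hfin

theorem centralizerPPrimeCore_inf_le_of_locallyBalanced [Finite G]
    (h : ∀ x : G, orderOf x = 2 → ∀ K : Subgroup (↥(Subgroup.centralizer ({x} : Set G)) ⧸
      Cfsg.oddCore ↥(Subgroup.centralizer ({x} : Set G))), Cfsg.IsComponent K →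
      Cfsg.IsLocallyBalanced (↥K ⧸ Subgroup.center ↥K))
    (x y : G) (hx : orderOf x = 2) (hy : orderOf y = 2) (hxy : x * y = y * x) :
    centralizerPPrimeCore 2 x ⊓ Subgroup.centralizer {y} ≤ centralizerPPrimeCore 2 y := by
  haveI : Fact (Nat.Prime 2) := ⟨Nat.prime_two⟩
  obtain ⟨hFcard, hFC, hFN⟩ := centralizerPPrimeCore_facts 2 x
  obtain ⟨Cy, hCy⟩ : ∃ Cy : Subgroup G, Cy = Subgroup.centralizer ({y} : Set G) := ⟨_, rfl⟩
  have hloc := h y hy
  show centralizerPPrimeCore 2 x ⊓ Subgroup.centralizer {y} ≤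
    (pPrimeCore 2 ↥(Subgroup.centralizer ({y} : Set G))).map
      (Subgroup.centralizer ({y} : Set G)).subtype
  rw [← hCy] at hloc ⊢
  unfold Cfsg.oddCore at hloc
  have hxCy : x ∈ Cy := by
    rw [hCy, Subgroup.mem_centralizer_iff]
    intro z hz
    rw [Set.mem_singleton_iff] at hz
    rw [hz]; exact hxy.symm
  obtain ⟨xt, hxt⟩ : ∃ xt : ↥Cy, xt = ⟨x, hxCy⟩ := ⟨_, rfl⟩
  have hxto : orderOf xt = 2 := by rw [hxt, Subgroup.orderOf_mk]; exact hx
  have hOycard : (Nat.card (pPrimeCore 2 ↥Cy)).Coprime 2 := pPrimeCore_coprime' 2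
  have hOy : ¬ 2 ∣ Nat.card (pPrimeCore 2 ↥Cy) := by
    intro hdvd
    have := hOycard
    rw [Nat.Coprime, Nat.gcd_eq_right hdvd] at this
    exact absurd this (by norm_num)
  have hObar : pPrimeCore 2 (↥Cy ⧸ pPrimeCore 2 ↥Cy) = ⊥ := pPrimeCore_quotient_eq_bot 2
  obtain ⟨xb, hxb⟩ : ∃ xb : ↥Cy ⧸ pPrimeCore 2 ↥Cy,
    xb = QuotientGroup.mk' (pPrimeCore 2 ↥Cy) xt := ⟨_, rfl⟩
  have hxbo : orderOf xb = 2 := by
    have h1 : xb ^ 2 = 1 := by
      rw [hxb, ← map_pow, ← hxto, pow_orderOf_eq_one, map_one]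
    have h2 : xb ≠ 1 := by
      rw [hxb, Ne, ← MonoidHom.mem_ker, QuotientGroup.ker_mk']
      intro hmem
      have := orderOf_coprime_of_mem hOycard hmem
      rw [hxto] at this
      exact absurd this (by norm_num)
    exact orderOf_eq_prime h1 h2
  obtain ⟨E, hE⟩ : ∃ E : Subgroup G, E = centralizerPPrimeCore 2 x ⊓ Cy := ⟨_, rfl⟩
  rw [← hE]
  have hECy : E ≤ Cy := by rw [hE]; exact inf_le_right
  have hEF : E ≤ centralizerPPrimeCore 2 x := by rw [hE]; exact inf_le_left
  have hEcard : (Nat.card E).Coprime 2 :=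
    Nat.Coprime.coprime_dvd_left (Subgroup.card_dvd_of_le hEF) hFcard
  obtain ⟨Db, hDb⟩ : ∃ Db : Subgroup (↥Cy ⧸ pPrimeCore 2 ↥Cy),
    Db = (E.subgroupOf Cy).map (QuotientGroup.mk' (pPrimeCore 2 ↥Cy)) := ⟨_, rfl⟩
  have hDbcard : (Nat.card Db).Coprime 2 := by
    rw [hDb]
    refine Nat.Coprime.coprime_dvd_left (Subgroup.card_map_dvd _ _) ?_
    rw [Nat.card_congr (Subgroup.subgroupOfEquivOfLe hECy).toEquiv]; exact hEcard
  have hDbC : Db ≤ Subgroup.centralizer ({xb} : Set _) := by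
    rw [hDb]
    rintro _ ⟨d, hd, rfl⟩
    rw [Subgroup.mem_centralizer_iff]
    intro z hz
    rw [Set.mem_singleton_iff] at hz
    rw [hz, hxb, ← map_mul, ← map_mul]
    congr 1
    apply Subtype.ext
    rw [Subgroup.coe_mul, Subgroup.coe_mul, hxt]
    exact Subgroup.mem_centralizer_iff.mp (hFC (hEF (Subgroup.mem_subgroupOf.mp hd))) x rfl
  have hCDb : Subgroup.centralizer ({xb} : Set _) ≤ Subgroup.normalizer (Db : Set _) := by
    have e1 : Subgroup.centralizer ({xb} : Set (↥Cy ⧸ pPrimeCore 2 ↥Cy)) =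
        (Subgroup.centralizer ({xt} : Set ↥Cy)).map (QuotientGroup.mk' (pPrimeCore 2 ↥Cy)) := by
      rw [← centralizer_zpowers_eq_centralizer_singleton xb,
        ← centralizer_zpowers_eq_centralizer_singleton xt, hxb, ← MonoidHom.map_zpowers]
      exact centralizer_map_mk'_of_coprime 2 (pPrimeCore 2 ↥Cy) hOy (Subgroup.zpowers xt)
        (isPGroup_zpowers_of_orderOf_eq xt hxto)
    rw [e1, hDb]
    refine (Subgroup.map_mono ?_).trans (Subgroup.le_normalizer_map _)
    intro c hc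
    rw [mem_normalizer_subgroupOf_iff hECy c, hE]
    apply Subgroup.inf_normalizer_le_normalizer_inf
    refine ⟨hFN ?_, Subgroup.le_normalizer c.2⟩
    rw [Subgroup.mem_centralizer_iff]
    intro z hz
    rw [Set.mem_singleton_iff] at hz
    rw [hz]
    have := Subgroup.mem_centralizer_iff.mp hc xt rfl
    rw [hxt] at this
    exact congrArg Subtype.val this
  have hbot := eq_bot_of_locallyBalanced hObar xb hxbo Db hDbcard hDbC hCDb hloc
  intro g hg
  have h1 : QuotientGroup.mk' (pPrimeCore 2 ↥Cy) ⟨g, hECy hg⟩ ∈ Db := by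
    rw [hDb]; exact ⟨⟨g, hECy hg⟩, Subgroup.mem_subgroupOf.mpr hg, rfl⟩
  rw [hbot, Subgroup.mem_bot, ← MonoidHom.mem_ker, QuotientGroup.ker_mk'] at h1
  exact ⟨⟨g, hECy hg⟩, h1, rfl⟩

theorem isBalanced_of_locallyBalanced [Finite G]
    (h : ∀ x : G, orderOf x = 2 → ∀ K : Subgroup (↥(Subgroup.centralizer ({x} : Set G)) ⧸
      Cfsg.oddCore ↥(Subgroup.centralizer ({x} : Set G))), Cfsg.IsComponent K →
      Cfsg.IsLocallyBalanced (↥K ⧸ Subgroup.center ↥K)) : IsBalanced G := by
  intro x y hx hy hxy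
  apply le_antisymm
  · exact le_inf (centralizerPPrimeCore_inf_le_of_locallyBalanced h x y hx hy hxy)
      (inf_le_left.trans (centralizerPPrimeCore_facts 2 x).2.1)
  · exact le_inf (centralizerPPrimeCore_inf_le_of_locallyBalanced h y x hy hx hxy.symm)
      (inf_le_left.trans (centralizerPPrimeCore_facts 2 y).2.1)

end locbal

end Cfsg.Agent.Lib.Helper20
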