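import Cfsg.Agent.Lib.Helper20.LBalance10

/-!
`L_{p'}`-balance type lemmas, part 11 (helper20): local `k`-balance of the components of the
`C_G(x)/O_{p'}(C_G(x))` implies `k`-balance.
-/

set_option autoImplicit false

namespace Cfsg.Agent.Lib.Helper20

open scoped commutatorElement
open Cfsg

section aux

variable {G : Type*} [Group G]

theorem card_map_of_injOn {N : Type*} [Group N] (f : G →* N) (H : Subgroup G)
    (hinj : ∀ h ∈ H, f h = 1 → h = 1) : Nat.card (H.map f) = Nat.card H := by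
  symm
  apply Nat.card_eq_of_bijective (f.subgroupMap H)
  refine ⟨?_, f.subgroupMap_surjective H⟩
  rw [injective_iff_map_eq_one]
  intro a ha
  apply Subtype.ext
  apply hinj a a.2
  exact congrArg Subtype.val ha

theorem isElementaryAbelian_map {N : Type*} [Group N] {p : ℕ} (f : G →* N) {A : Subgroup G}
    (hA : IsElementaryAbelian p A) : IsElementaryAbelian p (A.map f) := by
  refine ⟨⟨⟨?_⟩⟩, ?_⟩
  · rintro ⟨_, a, ha, rfl⟩ ⟨_, b, hb, rfl⟩
    apply Subtype.ext
    show f a * f b = f b * f a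
    rw [← map_mul, ← map_mul]
    congr 1
    exact congrArg Subtype.val (hA.1.is_comm.comm ⟨a, ha⟩ ⟨b, hb⟩)
  · rintro _ ⟨a, ha, rfl⟩
    rw [← map_pow, hA.2 a ha, map_one]

theorem isElementaryAbelian_subgroupOf {p : ℕ} {A : Subgroup G} (H : Subgroup G)
    (hA : IsElementaryAbelian p A) : IsElementaryAbelian p (A.subgroupOf H) := by
  refine ⟨⟨⟨?_⟩⟩, ?_⟩
  · rintro ⟨a, ha⟩ ⟨b, hb⟩
    apply Subtype.ext
    apply Subtype.ext
    have h := congrArg Subtype.val (hA.1.is_comm.comm ⟨(a : G), Subgroup.mem_subgroupOf.mp ha⟩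
      ⟨(b : G), Subgroup.mem_subgroupOf.mp hb⟩)
    show (a : G) * (b : G) = (b : G) * (a : G)
    exact h
  · intro a ha
    apply Subtype.ext
    rw [Subgroup.coe_pow, Subgroup.coe_one]
    exact hA.2 _ (Subgroup.mem_subgroupOf.mp ha)

theorem commute_of_isElementaryAbelian {p : ℕ} {A : Subgroup G} (hA : IsElementaryAbelian p A)
    {a b : G} (ha : a ∈ A) (hb : b ∈ A) : a * b = b * a :=
  congrArg Subtype.val (hA.1.is_comm.comm ⟨a, ha⟩ ⟨b, hb⟩)

end aux

section kbal

variable {G : Type*} [Group G]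

/-- Abstract form of the local-to-global principle for `k`-balance. -/
theorem eq_bot_of_locallyKBalanced [Finite G] (p k : ℕ) [hp : Fact p.Prime] (hk : 1 ≤ k)
    (hO : pPrimeCore p G = ⊥) (A : Subgroup G) (hA : IsElementaryAbelian p A)
    (hAcard : Nat.card A = p ^ k) (D : Subgroup G)
    (fam : ∀ a ∈ A, a ≠ 1 → ∃ Da : Subgroup G, (Nat.card Da).Coprime p ∧
      Da ≤ Subgroup.centralizer ({a} : Set G) ∧
      Subgroup.centralizer ({a} : Set G) ≤ Subgroup.normalizer (Da : Set G) ∧ D ≤ Da)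
    (hloc : ∀ L : Subgroup G, IsComponent L →
      IsLocallyKBalanced p k (↥L ⧸ Subgroup.center ↥L)) : D = ⊥ := by
  by_contra hD1
  have hord : ∀ a ∈ A, a ≠ 1 → orderOf a = p := fun a ha ha1 =>
    orderOf_eq_prime (hA.2 a ha) ha1
  -- a nonidentity element of `A`
  have hA1 : A ≠ ⊥ := by
    rw [← Subgroup.one_lt_card_iff_ne_bot, hAcard]
    exact Nat.one_lt_pow (by omega) hp.out.one_lt
  obtain ⟨a₀, ha₀1⟩ := (Subgroup.ne_bot_iff_exists_ne_one).mp hA1
  have ha₀A : (a₀ : G) ∈ A := a₀.2
  have ha₀1' : (a₀ : G) ≠ 1 := fun h => ha₀1 (Subtype.ext h)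
  obtain ⟨D₀, hD₀card, hD₀C, hCD₀, hDD₀⟩ := fam a₀ ha₀A ha₀1'
  obtain ⟨L, hL, -, hDL, -, hDL'⟩ :=
    exists_component_normalized_not_centralized p hO a₀ (hord a₀ ha₀A ha₀1') D₀ hD₀card hD₀C hCD₀
      D hDD₀ hD1
  -- every nonidentity element of `A` normalizes and does not centralize `L`
  have hAL : ∀ a ∈ A, a ≠ 1 → a ∈ Subgroup.normalizer (L : Set G) ∧
      a ∉ Subgroup.centralizer (L : Set G) := by
    intro a ha ha1
    obtain ⟨Da, hDacard, hDaC, hCDa, hDDa⟩ := fam a ha ha1
    have hcomm : ⁅L, Subgroup.zpowers a⁆ = L := by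
      by_contra hne
      have h1 := commutator_eq_bot_of_centralizer_le p hO a (hord a ha ha1) Da hDacard hDaC hCDa
        L hL hne
      apply hDL'
      rw [Subgroup.commutator_comm, Subgroup.commutator_eq_bot_iff_le_centralizer] at h1
      exact hDDa.trans h1
    constructor
    · have h1 : Subgroup.zpowers a ≤
          Subgroup.normalizer ((⁅L, Subgroup.zpowers a⁆ : Subgroup G) : Set G) := by
        rw [Subgroup.commutator_comm]; exact le_normalizer_commutator_left _ _
      rw [hcomm] at h1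
      exact h1 (Subgroup.mem_zpowers a)
    · intro hxc
      have h1 : ⁅L, Subgroup.zpowers a⁆ = ⊥ := by
        rw [Subgroup.commutator_comm, Subgroup.commutator_eq_bot_iff_le_centralizer,
          Subgroup.zpowers_le]
        exact hxc
      rw [hcomm] at h1
      have := isQuasisimple_nontrivial hL.2
      rw [h1] at this
      exact not_nontrivial _ this
  have hAN : A ≤ Subgroup.normalizer (L : Set G) := by
    intro a ha
    by_cases ha1 : a = 1
    · rw [ha1]; exact Subgroup.one_mem _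
    · exact (hAL a ha ha1).1
  obtain ⟨B, hB⟩ : ∃ B : Subgroup G, B = D ⊔ A := ⟨_, rfl⟩
  have hBN : B ≤ Subgroup.normalizer (L : Set G) := by rw [hB]; exact sup_le hDL hAN
  have hDB : D ≤ B := by rw [hB]; exact le_sup_left
  have hAB : A ≤ B := by rw [hB]; exact le_sup_right
  obtain ⟨H, hH⟩ : ∃ H : Subgroup G, H = L ⊔ B := ⟨_, rfl⟩
  have hLH : L ≤ H := by rw [hH]; exact le_sup_left
  have hBH : B ≤ H := by rw [hH]; exact le_sup_right
  have hDH : D ≤ H := hDB.trans hBH
  have hAH : A ≤ H := hAB.trans hBH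
  have hHN : H ≤ Subgroup.normalizer (L : Set G) := by
    rw [hH]; exact sup_le Subgroup.le_normalizer hBN
  obtain ⟨ψ, hψ⟩ : ∃ ψ : ↥H →* MulAut (↥L ⧸ Subgroup.center ↥L), ψ = actCenterQuot L H hHN :=
    ⟨_, rfl⟩
  have hπsurj : Function.Surjective ψ.rangeRestrict := ψ.rangeRestrict_surjective
  haveI : Finite ↥ψ.range := Finite.of_surjective _ hπsurj
  have hπker : ∀ g : ↥H, ψ.rangeRestrict g = 1 ↔ (g : G) ∈ Subgroup.centralizer (L : Set G) := by
    intro g
    rw [← actCenterQuot_eq_one_iff L H hL hHN g, ← hψ]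
    constructor
    · intro h1
      have := congrArg Subtype.val h1
      rwa [MonoidHom.coe_rangeRestrict] at this
    · intro h1
      apply Subtype.ext
      rw [MonoidHom.coe_rangeRestrict]; exact h1
  have hrange : (MulAut.conj : (↥L ⧸ Subgroup.center ↥L) →*
      MulAut (↥L ⧸ Subgroup.center ↥L)).range ≤ ψ.range := by
    rw [hψ]; exact conj_range_le_actCenterQuot_range L H hLH hHN
  -- the image of `A`
  obtain ⟨As, hAs⟩ : ∃ As : Subgroup ↥ψ.range, As = (A.subgroupOf H).map ψ.rangeRestrict :=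
    ⟨_, rfl⟩
  have hAsel : IsElementaryAbelian p As := by
    rw [hAs]; exact isElementaryAbelian_map _ (isElementaryAbelian_subgroupOf H hA)
  have hAscard : Nat.card As = p ^ k := by
    rw [hAs, card_map_of_injOn, Nat.card_congr (Subgroup.subgroupOfEquivOfLe hAH).toEquiv, hAcard]
    intro a ha h1
    by_contra hne
    have ha' : (a : G) ∈ A := Subgroup.mem_subgroupOf.mp ha
    have hne' : (a : G) ≠ 1 := fun h => hne (Subtype.ext h)
    exact (hAL a ha' hne').2 ((hπker a).mp h1)
  have hdelta := hloc L hL ψ.range hrange As hAsel hAscard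
  have hDs : (D.subgroupOf H).map ψ.rangeRestrict ≤ signalizerDelta p As := by
    unfold signalizerDelta
    apply le_iInf
    rintro ⟨as, hasA, has1⟩
    rw [hAs] at hasA
    obtain ⟨aH, haH, rfl⟩ := hasA
    have ha' : (aH : G) ∈ A := Subgroup.mem_subgroupOf.mp haH
    have hne' : (aH : G) ≠ 1 := by
      intro h
      apply has1
      have : aH = 1 := Subtype.ext h
      rw [this, map_one]
    obtain ⟨Da, hDacard, hDaC, hCDa, hDDa⟩ := fam (aH : G) ha' hne'
    have hBCa : B ≤ Subgroup.centralizer ({(aH : G)} : Set G) := by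
      rw [hB]
      refine sup_le (hDDa.trans hDaC) ?_
      intro a ha
      rw [Subgroup.mem_centralizer_iff]
      intro y hy
      rw [Set.mem_singleton_iff] at hy
      rw [hy]
      exact commute_of_isElementaryAbelian hA ha' ha
    have hchain := map_le_centralizerPPrimeCore_of_chain p hO (aH : G) (hord _ ha' hne') Da
      hDacard hDaC hCDa L hL B (hAB ha') hBN hBCa H hH ψ.rangeRestrict hπsurj hπker aH rfl
    refine le_trans (Subgroup.map_mono ?_) hchain
    intro d hd
    rw [Subgroup.mem_subgroupOf] at hd ⊢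
    exact ⟨hDDa hd, d.2⟩
  rw [hdelta] at hDs
  have hfin := le_centralizer_of_map_le_normal_coprime p hO L hL D hDL H hLH hDH ψ.rangeRestrict
    hπker ⊥ inferInstance (by rw [Subgroup.card_bot]; exact Nat.coprime_one_left _) hDs
  exact hDL' hfin

end kbal

end Cfsg.Agent.Lib.Helper20
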