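import Cfsg.Agent.Lib.Helper20.LBalance11

/-!
`L_{p'}`-balance type lemmas, part 12 (helper20): assembly of the local-to-global principle for
`k`-balance.
-/

set_option autoImplicit false

namespace Cfsg.Agent.Lib.Helper20

open scoped commutatorElement
open Cfsg

section kbal2

variable {G : Type*} [Group G]

/-- In `C̄ = C/O_{p'}(C)`: for `x ∈ C` of order `p`, the image of `O_{p'}(C_G(x)) ∩ C` is a
`p'`-subgroup of `C_{C̄}(x̄)` normalized by `C_{C̄}(x̄)`. -/
theorem image_centralizerPPrimeCore_facts [Finite G] (p : ℕ) [hp : Fact p.Prime] (Cy : Subgroup G)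
    (x : G) (hx : orderOf x = p) (hxCy : x ∈ Cy) :
    (Nat.card (((centralizerPPrimeCore p x ⊓ Cy).subgroupOf Cy).map
      (QuotientGroup.mk' (pPrimeCore p ↥Cy)))).Coprime p ∧
    ((centralizerPPrimeCore p x ⊓ Cy).subgroupOf Cy).map (QuotientGroup.mk' (pPrimeCore p ↥Cy)) ≤
      Subgroup.centralizer ({QuotientGroup.mk' (pPrimeCore p ↥Cy) ⟨x, hxCy⟩} : Set _) ∧
    Subgroup.centralizer ({QuotientGroup.mk' (pPrimeCore p ↥Cy) ⟨x, hxCy⟩} : Set _) ≤
      Subgroup.normalizer ((((centralizerPPrimeCore p x ⊓ Cy).subgroupOf Cy).map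
        (QuotientGroup.mk' (pPrimeCore p ↥Cy)) : Subgroup _) : Set _) := by
  obtain ⟨hFcard, hFC, hFN⟩ := centralizerPPrimeCore_facts p x
  obtain ⟨xt, hxt⟩ : ∃ xt : ↥Cy, xt = ⟨x, hxCy⟩ := ⟨_, rfl⟩
  rw [← hxt]
  have hxto : orderOf xt = p := by rw [hxt, Subgroup.orderOf_mk]; exact hx
  have hOycard : (Nat.card (pPrimeCore p ↥Cy)).Coprime p := pPrimeCore_coprime' p
  have hOy : ¬ p ∣ Nat.card (pPrimeCore p ↥Cy) := by
    intro hdvd
    have := hOycard
    rw [Nat.Coprime, Nat.gcd_eq_right hdvd] at this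
    exact hp.out.one_lt.ne' this
  obtain ⟨E, hE⟩ : ∃ E : Subgroup G, E = centralizerPPrimeCore p x ⊓ Cy := ⟨_, rfl⟩
  rw [← hE]
  have hECy : E ≤ Cy := by rw [hE]; exact inf_le_right
  have hEF : E ≤ centralizerPPrimeCore p x := by rw [hE]; exact inf_le_left
  have hEcard : (Nat.card E).Coprime p :=
    Nat.Coprime.coprime_dvd_left (Subgroup.card_dvd_of_le hEF) hFcard
  refine ⟨?_, ?_, ?_⟩
  · refine Nat.Coprime.coprime_dvd_left (Subgroup.card_map_dvd _ _) ?_
    rw [Nat.card_congr (Subgroup.subgroupOfEquivOfLe hECy).toEquiv]; exact hEcard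
  · rintro _ ⟨d, hd, rfl⟩
    rw [Subgroup.mem_centralizer_iff]
    intro z hz
    rw [Set.mem_singleton_iff] at hz
    rw [hz, ← map_mul, ← map_mul]
    congr 1
    apply Subtype.ext
    rw [Subgroup.coe_mul, Subgroup.coe_mul, hxt]
    exact Subgroup.mem_centralizer_iff.mp (hFC (hEF (Subgroup.mem_subgroupOf.mp hd))) x rfl
  · have e1 : Subgroup.centralizer ({QuotientGroup.mk' (pPrimeCore p ↥Cy) xt} :
          Set (↥Cy ⧸ pPrimeCore p ↥Cy)) =
        (Subgroup.centralizer ({xt} : Set ↥Cy)).map (QuotientGroup.mk' (pPrimeCore p ↥Cy)) := by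
      rw [← centralizer_zpowers_eq_centralizer_singleton (QuotientGroup.mk' (pPrimeCore p ↥Cy) xt),
        ← centralizer_zpowers_eq_centralizer_singleton xt, ← MonoidHom.map_zpowers]
      exact centralizer_map_mk'_of_coprime p (pPrimeCore p ↥Cy) hOy (Subgroup.zpowers xt)
        (isPGroup_zpowers_of_orderOf_eq xt hxto)
    rw [e1]
    refine (Subgroup.map_mono ?_).trans (Subgroup.le_normalizer_map _)
    intro c hc
    rw [mem_normalizer_subgroupOf_iff hECy c, hE]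
    apply Subgroup.inf_normalizer_le_normalizer_inf
    refine ⟨hFN ?_, Subgroup.le_normalizer c.2⟩
    rw [Subgroup.mem_centralizer_iff]
    intro z hz
    rw [Set.mem_singleton_iff] at hz
    rw [hz]
    have := Subgroup.mem_centralizer_iff.mp hc xt rfl
    rw [hxt] at this
    exact congrArg Subtype.val this

theorem isKBalanced_of_locallyKBalanced [Finite G] (p k : ℕ) [hp : Fact p.Prime] (hk : 1 ≤ k)
    (h : ∀ x : G, orderOf x = p → ∀ K : Subgroup (↥(Subgroup.centralizer ({x} : Set G)) ⧸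
      Cfsg.pPrimeCore p ↥(Subgroup.centralizer ({x} : Set G))), Cfsg.IsComponent K →
      Cfsg.IsLocallyKBalanced p k (↥K ⧸ Subgroup.center ↥K)) : IsKBalanced p k G := by
  intro A hA hAcard b hb hAb
  obtain ⟨Cb, hCb⟩ : ∃ Cb : Subgroup G, Cb = Subgroup.centralizer ({b} : Set G) := ⟨_, rfl⟩
  have hloc := h b hb
  show signalizerDelta p A ⊓ Subgroup.centralizer {b} ≤
    (pPrimeCore p ↥(Subgroup.centralizer ({b} : Set G))).map
      (Subgroup.centralizer ({b} : Set G)).subtype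
  rw [← hCb] at hloc ⊢
  have hACb : A ≤ Cb := by
    intro a ha
    rw [hCb, Subgroup.mem_centralizer_iff]
    intro z hz
    rw [Set.mem_singleton_iff] at hz
    rw [hz]; exact (hAb a ha).symm
  have hOcard : (Nat.card (pPrimeCore p ↥Cb)).Coprime p := pPrimeCore_coprime' p
  have hObar : pPrimeCore p (↥Cb ⧸ pPrimeCore p ↥Cb) = ⊥ := pPrimeCore_quotient_eq_bot p
  obtain ⟨E, hE⟩ : ∃ E : Subgroup G, E = signalizerDelta p A ⊓ Cb := ⟨_, rfl⟩
  rw [← hE]
  have hECb : E ≤ Cb := by rw [hE]; exact inf_le_right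
  obtain ⟨Db, hDb⟩ : ∃ Db : Subgroup (↥Cb ⧸ pPrimeCore p ↥Cb),
    Db = (E.subgroupOf Cb).map (QuotientGroup.mk' (pPrimeCore p ↥Cb)) := ⟨_, rfl⟩
  obtain ⟨Ab, hAb'⟩ : ∃ Ab : Subgroup (↥Cb ⧸ pPrimeCore p ↥Cb),
    Ab = (A.subgroupOf Cb).map (QuotientGroup.mk' (pPrimeCore p ↥Cb)) := ⟨_, rfl⟩
  have hAbel : IsElementaryAbelian p Ab := by
    rw [hAb']; exact isElementaryAbelian_map _ (isElementaryAbelian_subgroupOf Cb hA)
  have hinj : ∀ a ∈ A.subgroupOf Cb, QuotientGroup.mk' (pPrimeCore p ↥Cb) a = 1 → a = 1 := by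
    intro a ha h1
    rw [← MonoidHom.mem_ker, QuotientGroup.ker_mk'] at h1
    have hc := orderOf_coprime_of_mem hOcard h1
    have hpow : a ^ p = 1 := by
      apply Subtype.ext
      rw [Subgroup.coe_pow, Subgroup.coe_one]
      exact hA.2 _ (Subgroup.mem_subgroupOf.mp ha)
    have hd := orderOf_dvd_of_pow_eq_one hpow
    exact orderOf_eq_one_iff.mp (Nat.Coprime.eq_one_of_dvd hc hd)
  have hAbcard : Nat.card Ab = p ^ k := by
    rw [hAb', card_map_of_injOn _ _ hinj,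
      Nat.card_congr (Subgroup.subgroupOfEquivOfLe hACb).toEquiv, hAcard]
  have fam : ∀ a ∈ Ab, a ≠ 1 → ∃ Da : Subgroup (↥Cb ⧸ pPrimeCore p ↥Cb),
      (Nat.card Da).Coprime p ∧ Da ≤ Subgroup.centralizer ({a} : Set _) ∧
      Subgroup.centralizer ({a} : Set _) ≤ Subgroup.normalizer (Da : Set _) ∧ Db ≤ Da := by
    intro a' ha' hne
    rw [hAb'] at ha'
    obtain ⟨at', hat, rfl⟩ := ha'
    have haA : (at' : G) ∈ A := Subgroup.mem_subgroupOf.mp hat
    have hne' : (at' : G) ≠ 1 := by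
      intro h1
      apply hne
      have : at' = 1 := Subtype.ext h1
      rw [this, map_one]
    have hord : orderOf (at' : G) = p := orderOf_eq_prime (hA.2 _ haA) hne'
    obtain ⟨h1, h2, h3⟩ := image_centralizerPPrimeCore_facts p Cb (at' : G) hord at'.2
    refine ⟨_, h1, h2, h3, ?_⟩
    rw [hDb]
    apply Subgroup.map_mono
    intro d hd
    rw [Subgroup.mem_subgroupOf] at hd ⊢
    rw [hE] at hd
    refine ⟨?_, hd.2⟩
    have hle : signalizerDelta p A ≤ centralizerPPrimeCore p (at' : G) := by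
      unfold signalizerDelta
      exact iInf_le (fun a : {a : G // a ∈ A ∧ a ≠ 1} => centralizerPPrimeCore p (a : G))
        ⟨(at' : G), haA, hne'⟩
    exact hle hd.1
  have hbot := eq_bot_of_locallyKBalanced p k hk hObar Ab hAbel hAbcard Db fam hloc
  intro g hg
  have h1 : QuotientGroup.mk' (pPrimeCore p ↥Cb) ⟨g, hECb hg⟩ ∈ Db := by
    rw [hDb]; exact ⟨⟨g, hECb hg⟩, Subgroup.mem_subgroupOf.mpr hg, rfl⟩
  rw [hbot, Subgroup.mem_bot, ← MonoidHom.mem_ker, QuotientGroup.ker_mk'] at h1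
  exact ⟨⟨g, hECb hg⟩, h1, rfl⟩

end kbal2

end Cfsg.Agent.Lib.Helper20
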