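import Cfsg.Agent.Lib.Helper20.LBalance12

/-!
`L_{p'}`-balance type lemmas, part 13 (helper20): the local-to-global principle for `k`-balance
with the components themselves (rather than their central quotients) locally `k`-balanced, and
balance with respect to a fixed elementary abelian subgroup.
-/

set_option autoImplicit false

universe u

namespace Cfsg.Agent.Lib.Helper20

open scoped commutatorElement
open Cfsg

section conjker

variable {G : Type*} [Group G]

theorem conjAutOfLeNormalizer_eq_one_iff (L H : Subgroup G)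
    (hHN : H ≤ Subgroup.normalizer (L : Set G)) (h : ↥H) :
    conjAutOfLeNormalizer L H hHN h = 1 ↔ (h : G) ∈ Subgroup.centralizer (L : Set G) := by
  constructor
  · intro hh
    rw [Subgroup.mem_centralizer_iff]
    intro l hl
    have h1 : conjAutOfLeNormalizer L H hHN h ⟨l, hl⟩ = ⟨l, hl⟩ := by
      rw [hh, MulAut.one_apply]
    have h2 := congrArg Subtype.val h1
    rw [conjAutOfLeNormalizer_apply] at h2
    have h3 : (h : G) * l * (h : G)⁻¹ = l := h2
    exact (mul_inv_eq_iff_eq_mul.mp h3).symm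
  · intro hh
    ext l
    rw [MulAut.one_apply, conjAutOfLeNormalizer_apply]
    have := Subgroup.mem_centralizer_iff.mp hh (l : G) l.2
    rw [← this, mul_inv_cancel_right]

theorem conj_range_le_conjAutOfLeNormalizer_range (L H : Subgroup G) (hLH : L ≤ H)
    (hHN : H ≤ Subgroup.normalizer (L : Set G)) :
    (MulAut.conj : ↥L →* MulAut ↥L).range ≤ (conjAutOfLeNormalizer L H hHN).range := by
  rintro _ ⟨l, rfl⟩
  refine ⟨⟨(l : G), hLH l.2⟩, ?_⟩
  ext l'
  rw [conjAutOfLeNormalizer_apply, MulAut.conj_apply]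
  rfl

end conjker

section kbalgen

variable {G : Type u} [Group G]

/-- Abstract form of the local-to-global principle for `k`-balance, generic in the way the
automizer of a component is realized. -/
theorem eq_bot_of_locallyKBalanced_gen [Finite G] (p k : ℕ) [hp : Fact p.Prime] (hk : 1 ≤ k)
    (hO : pPrimeCore p G = ⊥) (A : Subgroup G) (hA : IsElementaryAbelian p A)
    (hAcard : Nat.card A = p ^ k) (D : Subgroup G)
    (fam : ∀ a ∈ A, a ≠ 1 → ∃ Da : Subgroup G, (Nat.card Da).Coprime p ∧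
      Da ≤ Subgroup.centralizer ({a} : Set G) ∧
      Subgroup.centralizer ({a} : Set G) ≤ Subgroup.normalizer (Da : Set G) ∧ D ≤ Da)
    (hloc : ∀ L : Subgroup G, IsComponent L → ∀ H : Subgroup G, L ≤ H →
      H ≤ Subgroup.normalizer (L : Set G) → ∃ (Q : Type u) (_ : Group Q) (π : ↥H →* Q),
        Function.Surjective π ∧
        (∀ g : ↥H, π g = 1 ↔ (g : G) ∈ Subgroup.centralizer (L : Set G)) ∧
        ∀ As : Subgroup Q, IsElementaryAbelian p As → Nat.card As = p ^ k →
          signalizerDelta p As = ⊥) : D = ⊥ := by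
  by_contra hD1
  have hord : ∀ a ∈ A, a ≠ 1 → orderOf a = p := fun a ha ha1 =>
    orderOf_eq_prime (hA.2 a ha) ha1
  have hA1 : A ≠ ⊥ := by
    rw [← Subgroup.one_lt_card_iff_ne_bot, hAcard]
    exact Nat.one_lt_pow (by omega) hp.out.one_lt
  obtain ⟨a₀, ha₀1⟩ := (Subgroup.ne_bot_iff_exists_ne_one).mp hA1
  have ha₀A : (a₀ : G) ∈ A := a₀.2
  have ha₀1' : (a₀ : G) ≠ 1 := fun h => ha₀1 (Subtype.ext h)
  obtain ⟨D₀, hD₀card, hD₀C, hCD₀, hDD₀⟩ := fam a₀ ha₀A ha₀1'
  obtain ⟨L, hL, -, hDL, -, hDL'⟩ :=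
    exists_component_normalized_not_centralized p hO a₀ (hord a₀ ha₀A ha₀1') D₀ hD₀card hD₀C hCD₀
      D hDD₀ hD1
  have hAL : ∀ a ∈ A, a ≠ 1 → a ∈ Subgroup.normalizer (L : Set G) ∧
      a ∉ Subgroup.centralizer (L : Set G) := by
    intro a ha ha1
    obtain ⟨Da, hDacard, hDaC, hCDa, hDDa⟩ := fam a ha ha1
    have hcomm : ⁅L, Subgroup.zpowers a⁆ = L := by
      by_contra hne
      have h1 := commutator_eq_bot_of_centralizer_le p hO a (hord a ha ha1) Da hDacard hDaC hCDa
        L hL hne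
      apply hDL'
      rw [Subgroup.commutator_comm, Subgroup.commutator_eq_bot_iff_le_centralizer] at h1
      exact hDDa.trans h1
    constructor
    · have h1 : Subgroup.zpowers a ≤
          Subgroup.normalizer ((⁅L, Subgroup.zpowers a⁆ : Subgroup G) : Set G) := by
        rw [Subgroup.commutator_comm]; exact le_normalizer_commutator_left _ _
      rw [hcomm] at h1
      exact h1 (Subgroup.mem_zpowers a)
    · intro hxc
      have h1 : ⁅L, Subgroup.zpowers a⁆ = ⊥ := by
        rw [Subgroup.commutator_comm, Subgroup.commutator_eq_bot_iff_le_centralizer,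
          Subgroup.zpowers_le]
        exact hxc
      rw [hcomm] at h1
      have := isQuasisimple_nontrivial hL.2
      rw [h1] at this
      exact not_nontrivial _ this
  have hAN : A ≤ Subgroup.normalizer (L : Set G) := by
    intro a ha
    by_cases ha1 : a = 1
    · rw [ha1]; exact Subgroup.one_mem _
    · exact (hAL a ha ha1).1
  obtain ⟨B, hB⟩ : ∃ B : Subgroup G, B = D ⊔ A := ⟨_, rfl⟩
  have hBN : B ≤ Subgroup.normalizer (L : Set G) := by rw [hB]; exact sup_le hDL hAN
  have hDB : D ≤ B := by rw [hB]; exact le_sup_left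
  have hAB : A ≤ B := by rw [hB]; exact le_sup_right
  obtain ⟨H, hH⟩ : ∃ H : Subgroup G, H = L ⊔ B := ⟨_, rfl⟩
  have hLH : L ≤ H := by rw [hH]; exact le_sup_left
  have hBH : B ≤ H := by rw [hH]; exact le_sup_right
  have hDH : D ≤ H := hDB.trans hBH
  have hAH : A ≤ H := hAB.trans hBH
  have hHN : H ≤ Subgroup.normalizer (L : Set G) := by
    rw [hH]; exact sup_le Subgroup.le_normalizer hBN
  obtain ⟨Q, instQ, π, hπsurj, hπker, hdeltaQ⟩ := hloc L hL H hLH hHN
  have : Finite Q := Finite.of_surjective _ hπsurj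
  obtain ⟨As, hAs⟩ : ∃ As : Subgroup Q, As = (A.subgroupOf H).map π := ⟨_, rfl⟩
  have hAsel : IsElementaryAbelian p As := by
    rw [hAs]; exact isElementaryAbelian_map _ (isElementaryAbelian_subgroupOf H hA)
  have hAscard : Nat.card As = p ^ k := by
    rw [hAs, card_map_of_injOn, Nat.card_congr (Subgroup.subgroupOfEquivOfLe hAH).toEquiv, hAcard]
    intro a ha h1
    by_contra hne
    have ha' : (a : G) ∈ A := Subgroup.mem_subgroupOf.mp ha
    have hne' : (a : G) ≠ 1 := fun h => hne (Subtype.ext h)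
    exact (hAL a ha' hne').2 ((hπker a).mp h1)
  have hdelta := hdeltaQ As hAsel hAscard
  have hDs : (D.subgroupOf H).map π ≤ signalizerDelta p As := by
    unfold signalizerDelta
    apply le_iInf
    rintro ⟨as, hasA, has1⟩
    rw [hAs] at hasA
    obtain ⟨aH, haH, rfl⟩ := hasA
    have ha' : (aH : G) ∈ A := Subgroup.mem_subgroupOf.mp haH
    have hne' : (aH : G) ≠ 1 := by
      intro h
      apply has1
      have : aH = 1 := Subtype.ext h
      rw [this, map_one]
    obtain ⟨Da, hDacard, hDaC, hCDa, hDDa⟩ := fam (aH : G) ha' hne'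
    have hBCa : B ≤ Subgroup.centralizer ({(aH : G)} : Set G) := by
      rw [hB]
      refine sup_le (hDDa.trans hDaC) ?_
      intro a ha
      rw [Subgroup.mem_centralizer_iff]
      intro y hy
      rw [Set.mem_singleton_iff] at hy
      rw [hy]
      exact commute_of_isElementaryAbelian hA ha' ha
    have hchain := map_le_centralizerPPrimeCore_of_chain p hO (aH : G) (hord _ ha' hne') Da
      hDacard hDaC hCDa L hL B (hAB ha') hBN hBCa H hH π hπsurj hπker aH rfl
    refine le_trans (Subgroup.map_mono ?_) hchain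
    intro d hd
    rw [Subgroup.mem_subgroupOf] at hd ⊢
    exact ⟨hDDa hd, d.2⟩
  rw [hdelta] at hDs
  have hfin := le_centralizer_of_map_le_normal_coprime p hO L hL D hDL H hLH hDH π
    hπker ⊥ inferInstance (by rw [Subgroup.card_bot]; exact Nat.coprime_one_left _) hDs
  exact hDL' hfin

/-- The local-to-global principle when the components themselves are locally `k`-balanced. -/
theorem eq_bot_of_locallyKBalanced' [Finite G] (p k : ℕ) [hp : Fact p.Prime] (hk : 1 ≤ k)
    (hO : pPrimeCore p G = ⊥) (A : Subgroup G) (hA : IsElementaryAbelian p A)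
    (hAcard : Nat.card A = p ^ k) (D : Subgroup G)
    (fam : ∀ a ∈ A, a ≠ 1 → ∃ Da : Subgroup G, (Nat.card Da).Coprime p ∧
      Da ≤ Subgroup.centralizer ({a} : Set G) ∧
      Subgroup.centralizer ({a} : Set G) ≤ Subgroup.normalizer (Da : Set G) ∧ D ≤ Da)
    (hloc : ∀ L : Subgroup G, IsComponent L → IsLocallyKBalanced p k ↥L) : D = ⊥ := by
  refine eq_bot_of_locallyKBalanced_gen p k hk hO A hA hAcard D fam ?_
  intro L hL H hLH hHN
  obtain ⟨ψ, hψ⟩ : ∃ ψ : ↥H →* MulAut ↥L, ψ = conjAutOfLeNormalizer L H hHN := ⟨_, rfl⟩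
  refine ⟨↥ψ.range, inferInstance, ψ.rangeRestrict, ψ.rangeRestrict_surjective, ?_, ?_⟩
  · intro g
    rw [← conjAutOfLeNormalizer_eq_one_iff L H hHN g, ← hψ]
    constructor
    · intro h1
      have := congrArg Subtype.val h1
      rwa [MonoidHom.coe_rangeRestrict] at this
    · intro h1
      apply Subtype.ext
      rw [MonoidHom.coe_rangeRestrict]; exact h1
  · have hrange : (MulAut.conj : ↥L →* MulAut ↥L).range ≤ ψ.range := by
      rw [hψ]; exact conj_range_le_conjAutOfLeNormalizer_range L H hLH hHN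
    exact hloc L hL ψ.range hrange

/-- Pointwise `k`-balance: for an elementary abelian `A` of order `p ^ k` inside a subgroup `C`
with the components of `C / O_{p'}(C)` locally `k`-balanced,
`Δ_G(A) ∩ C ≤ O_{p'}(C)`. -/
theorem delta_inf_le_pPrimeCore_of_locallyKBalanced [Finite G] (p k : ℕ) [hp : Fact p.Prime]
    (hk : 1 ≤ k) (A : Subgroup G) (hA : IsElementaryAbelian p A) (hAcard : Nat.card A = p ^ k)
    (Cb : Subgroup G) (hACb : A ≤ Cb)
    (hloc : ∀ K : Subgroup (↥Cb ⧸ Cfsg.pPrimeCore p ↥Cb), Cfsg.IsComponent K →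
      Cfsg.IsLocallyKBalanced p k ↥K) :
    signalizerDelta p A ⊓ Cb ≤ (pPrimeCore p ↥Cb).map Cb.subtype := by
  have hOcard : (Nat.card (pPrimeCore p ↥Cb)).Coprime p := pPrimeCore_coprime' p
  have hObar : pPrimeCore p (↥Cb ⧸ pPrimeCore p ↥Cb) = ⊥ := pPrimeCore_quotient_eq_bot p
  obtain ⟨E, hE⟩ : ∃ E : Subgroup G, E = signalizerDelta p A ⊓ Cb := ⟨_, rfl⟩
  rw [← hE]
  have hECb : E ≤ Cb := by rw [hE]; exact inf_le_right
  obtain ⟨Db, hDb⟩ : ∃ Db : Subgroup (↥Cb ⧸ pPrimeCore p ↥Cb),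
    Db = (E.subgroupOf Cb).map (QuotientGroup.mk' (pPrimeCore p ↥Cb)) := ⟨_, rfl⟩
  obtain ⟨Ab, hAb'⟩ : ∃ Ab : Subgroup (↥Cb ⧸ pPrimeCore p ↥Cb),
    Ab = (A.subgroupOf Cb).map (QuotientGroup.mk' (pPrimeCore p ↥Cb)) := ⟨_, rfl⟩
  have hAbel : IsElementaryAbelian p Ab := by
    rw [hAb']; exact isElementaryAbelian_map _ (isElementaryAbelian_subgroupOf Cb hA)
  have hinj : ∀ a ∈ A.subgroupOf Cb, QuotientGroup.mk' (pPrimeCore p ↥Cb) a = 1 → a = 1 := by
    intro a ha h1
    rw [← MonoidHom.mem_ker, QuotientGroup.ker_mk'] at h1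
    have hc := orderOf_coprime_of_mem hOcard h1
    have hpow : a ^ p = 1 := by
      apply Subtype.ext
      rw [Subgroup.coe_pow, Subgroup.coe_one]
      exact hA.2 _ (Subgroup.mem_subgroupOf.mp ha)
    have hd := orderOf_dvd_of_pow_eq_one hpow
    exact orderOf_eq_one_iff.mp (Nat.Coprime.eq_one_of_dvd hc hd)
  have hAbcard : Nat.card Ab = p ^ k := by
    rw [hAb', card_map_of_injOn _ _ hinj,
      Nat.card_congr (Subgroup.subgroupOfEquivOfLe hACb).toEquiv, hAcard]
  have fam : ∀ a ∈ Ab, a ≠ 1 → ∃ Da : Subgroup (↥Cb ⧸ pPrimeCore p ↥Cb),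
      (Nat.card Da).Coprime p ∧ Da ≤ Subgroup.centralizer ({a} : Set _) ∧
      Subgroup.centralizer ({a} : Set _) ≤ Subgroup.normalizer (Da : Set _) ∧ Db ≤ Da := by
    intro a' ha' hne
    rw [hAb'] at ha'
    obtain ⟨at', hat, rfl⟩ := ha'
    have haA : (at' : G) ∈ A := Subgroup.mem_subgroupOf.mp hat
    have hne' : (at' : G) ≠ 1 := by
      intro h1
      apply hne
      have : at' = 1 := Subtype.ext h1
      rw [this, map_one]
    have hord : orderOf (at' : G) = p := orderOf_eq_prime (hA.2 _ haA) hne'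
    obtain ⟨h1, h2, h3⟩ := image_centralizerPPrimeCore_facts p Cb (at' : G) hord at'.2
    refine ⟨_, h1, h2, h3, ?_⟩
    rw [hDb]
    apply Subgroup.map_mono
    intro d hd
    rw [Subgroup.mem_subgroupOf] at hd ⊢
    rw [hE] at hd
    refine ⟨?_, hd.2⟩
    have hle : signalizerDelta p A ≤ centralizerPPrimeCore p (at' : G) := by
      unfold signalizerDelta
      exact iInf_le (fun a : {a : G // a ∈ A ∧ a ≠ 1} => centralizerPPrimeCore p (a : G))
        ⟨(at' : G), haA, hne'⟩
    exact hle hd.1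
  have hbot := eq_bot_of_locallyKBalanced' p k hk hObar Ab hAbel hAbcard Db fam hloc
  intro g hg
  have h1 : QuotientGroup.mk' (pPrimeCore p ↥Cb) ⟨g, hECb hg⟩ ∈ Db := by
    rw [hDb]; exact ⟨⟨g, hECb hg⟩, Subgroup.mem_subgroupOf.mpr hg, rfl⟩
  rw [hbot, Subgroup.mem_bot, ← MonoidHom.mem_ker, QuotientGroup.ker_mk'] at h1
  exact ⟨⟨g, hECb hg⟩, h1, rfl⟩

/-- `Δ_G(B) ≤ Δ_G(B₀)` for `B₀ ≤ B`. -/
theorem signalizerDelta_anti (p : ℕ) {B₀ B : Subgroup G} (h : B₀ ≤ B) :
    signalizerDelta p B ≤ signalizerDelta p B₀ := by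
  unfold signalizerDelta
  apply le_iInf
  rintro ⟨a, ha, ha1⟩
  exact iInf_le (fun a : {a : G // a ∈ B ∧ a ≠ 1} => centralizerPPrimeCore p (a : G))
    ⟨a, h ha, ha1⟩

/-- A subgroup of order exactly `p ^ k` inside a `p`-group of order at least `p ^ k`. -/
theorem exists_le_card_eq_pow [Finite G] (p k : ℕ) [hp : Fact p.Prime] (B : Subgroup G)
    (hB : IsPGroup p B) (hk : p ^ k ≤ Nat.card B) :
    ∃ B₀ : Subgroup G, B₀ ≤ B ∧ Nat.card B₀ = p ^ k := by
  obtain ⟨n, hn⟩ := IsPGroup.iff_card.mp hB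
  have hkn : k ≤ n := by
    rw [hn] at hk
    exact (Nat.pow_le_pow_iff_right hp.out.one_lt).mp hk
  have hdvd : p ^ k ∣ Nat.card ↥B := by rw [hn]; exact pow_dvd_pow p hkn
  obtain ⟨B', hB'⟩ := Sylow.exists_subgroup_card_pow_prime p hdvd
  refine ⟨B'.map B.subtype, Subgroup.map_subtype_le _, ?_⟩
  rw [Subgroup.card_map_of_injective B.subtype_injective, hB']

end kbalgen

end Cfsg.Agent.Lib.Helper20
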