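import Cfsg.Agent.Lib.Helper20.LBalance13

/-!
`L_{p'}`-balance type lemmas, part 14 (helper20): weak `k`-balance with respect to an elementary
abelian subgroup from weak local `k`-balance of invariant components.
-/

set_option autoImplicit false

universe u

namespace Cfsg.Agent.Lib.Helper20

open scoped commutatorElement
open Cfsg

section weak

variable {G : Type u} [Group G]

/-- Abstract form of the local-to-global principle for weak `k`-balance. -/
theorem le_centralizer_of_weaklyLocallyKBalanced_gen [Finite G] (p k : ℕ) [hp : Fact p.Prime]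
    (hk : 1 ≤ k) (hO : pPrimeCore p G = ⊥) (A : Subgroup G) (hA : IsElementaryAbelian p A)
    (hAcard : Nat.card A = p ^ k) (D : Subgroup G)
    (fam : ∀ a ∈ A, a ≠ 1 → ∃ Da : Subgroup G, (Nat.card Da).Coprime p ∧
      Da ≤ Subgroup.centralizer ({a} : Set G) ∧
      Subgroup.centralizer ({a} : Set G) ≤ Subgroup.normalizer (Da : Set G) ∧ D ≤ Da)
    (x : G) (hxp : x ^ p = 1) (hxA : ∀ a ∈ A, a * x = x * a)
    (hxD : x ∈ Subgroup.normalizer (D : Set G))
    (hxL : ∀ L : Subgroup G, IsComponent L → x ∈ Subgroup.normalizer (L : Set G))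
    (hloc : ∀ L : Subgroup G, IsComponent L → ∀ H : Subgroup G, L ≤ H →
      H ≤ Subgroup.normalizer (L : Set G) → ∃ (Q : Type u) (_ : Group Q) (π : ↥H →* Q),
        Function.Surjective π ∧
        (∀ g : ↥H, π g = 1 ↔ (g : G) ∈ Subgroup.centralizer (L : Set G)) ∧
        ∀ As : Subgroup Q, IsElementaryAbelian p As → Nat.card As = p ^ k →
          ∀ y : Q, orderOf y = p → y ∈ Subgroup.centralizer (As : Set Q) →
            signalizerDelta p As ≤ Subgroup.centralizer ({y} : Set Q)) :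
    D ≤ Subgroup.centralizer ({x} : Set G) := by
  by_contra hD1
  have hord : ∀ a ∈ A, a ≠ 1 → orderOf a = p := fun a ha ha1 =>
    orderOf_eq_prime (hA.2 a ha) ha1
  have hA1 : A ≠ ⊥ := by
    rw [← Subgroup.one_lt_card_iff_ne_bot, hAcard]
    exact Nat.one_lt_pow (by omega) hp.out.one_lt
  obtain ⟨a₀, ha₀1⟩ := (Subgroup.ne_bot_iff_exists_ne_one).mp hA1
  have ha₀A : (a₀ : G) ∈ A := a₀.2
  have ha₀1' : (a₀ : G) ≠ 1 := fun h => ha₀1 (Subtype.ext h)
  obtain ⟨D₀, hD₀card, hD₀C, hCD₀, hDD₀⟩ := fam a₀ ha₀A ha₀1'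
  have hzx : Subgroup.zpowers x ≤ Subgroup.normalizer (D : Set G) := by
    rw [Subgroup.zpowers_le]; exact hxD
  obtain ⟨Y, hY⟩ : ∃ Y : Subgroup G, Y = ⁅D, Subgroup.zpowers x⁆ := ⟨_, rfl⟩
  have hYD : Y ≤ D := by
    rw [hY, Subgroup.commutator_le]
    intro d hd z hz
    have h1 : z * d⁻¹ * z⁻¹ ∈ D :=
      (Subgroup.mem_normalizer_iff.mp (hzx hz) d⁻¹).mp (D.inv_mem hd)
    have e : ⁅d, z⁆ = d * (z * d⁻¹ * z⁻¹) := by
      rw [commutatorElement_def]; group
    rw [e]; exact D.mul_mem hd h1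
  have hY1 : Y ≠ ⊥ := by
    intro h
    apply hD1
    rw [hY, Subgroup.commutator_eq_bot_iff_le_centralizer,
      centralizer_zpowers_eq_centralizer_singleton] at h
    exact h
  obtain ⟨L, hL, -, hYL, -, hYL'⟩ :=
    exists_component_normalized_not_centralized p hO a₀ (hord a₀ ha₀A ha₀1') D₀ hD₀card hD₀C hCD₀
      Y (hYD.trans hDD₀) hY1
  have hDL' : ¬ D ≤ Subgroup.centralizer (L : Set G) := fun h => hYL' (hYD.trans h)
  have hDL : D ≤ Subgroup.normalizer (L : Set G) :=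
    hDD₀.trans (le_normalizer_component_of_centralizer_le p hO a₀ (hord a₀ ha₀A ha₀1') D₀
      hD₀card hD₀C hCD₀ L hL)
  have hAL : ∀ a ∈ A, a ≠ 1 → a ∈ Subgroup.normalizer (L : Set G) ∧
      a ∉ Subgroup.centralizer (L : Set G) := by
    intro a ha ha1
    obtain ⟨Da, hDacard, hDaC, hCDa, hDDa⟩ := fam a ha ha1
    have hcomm : ⁅L, Subgroup.zpowers a⁆ = L := by
      by_contra hne
      have h1 := commutator_eq_bot_of_centralizer_le p hO a (hord a ha ha1) Da hDacard hDaC hCDa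
        L hL hne
      apply hDL'
      rw [Subgroup.commutator_comm, Subgroup.commutator_eq_bot_iff_le_centralizer] at h1
      exact hDDa.trans h1
    constructor
    · have h1 : Subgroup.zpowers a ≤
          Subgroup.normalizer ((⁅L, Subgroup.zpowers a⁆ : Subgroup G) : Set G) := by
        rw [Subgroup.commutator_comm]; exact le_normalizer_commutator_left _ _
      rw [hcomm] at h1
      exact h1 (Subgroup.mem_zpowers a)
    · intro hxc
      have h1 : ⁅L, Subgroup.zpowers a⁆ = ⊥ := by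
        rw [Subgroup.commutator_comm, Subgroup.commutator_eq_bot_iff_le_centralizer,
          Subgroup.zpowers_le]
        exact hxc
      rw [hcomm] at h1
      have := isQuasisimple_nontrivial hL.2
      rw [h1] at this
      exact not_nontrivial _ this
  have hAN : A ≤ Subgroup.normalizer (L : Set G) := by
    intro a ha
    by_cases ha1 : a = 1
    · rw [ha1]; exact Subgroup.one_mem _
    · exact (hAL a ha ha1).1
  have hxN : Subgroup.zpowers x ≤ Subgroup.normalizer (L : Set G) := by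
    rw [Subgroup.zpowers_le]; exact hxL L hL
  obtain ⟨B, hB⟩ : ∃ B : Subgroup G, B = (D ⊔ A) ⊔ Subgroup.zpowers x := ⟨_, rfl⟩
  have hBN : B ≤ Subgroup.normalizer (L : Set G) := by
    rw [hB]; exact sup_le (sup_le hDL hAN) hxN
  have hDB : D ≤ B := by rw [hB]; exact le_sup_left.trans le_sup_left
  have hAB : A ≤ B := by rw [hB]; exact le_sup_right.trans le_sup_left
  have hxB : x ∈ B := by rw [hB]; exact le_sup_right (α := Subgroup G) (Subgroup.mem_zpowers x)
  obtain ⟨H, hH⟩ : ∃ H : Subgroup G, H = L ⊔ B := ⟨_, rfl⟩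
  have hLH : L ≤ H := by rw [hH]; exact le_sup_left
  have hBH : B ≤ H := by rw [hH]; exact le_sup_right
  have hDH : D ≤ H := hDB.trans hBH
  have hAH : A ≤ H := hAB.trans hBH
  have hxH : x ∈ H := hBH hxB
  have hHN : H ≤ Subgroup.normalizer (L : Set G) := by
    rw [hH]; exact sup_le Subgroup.le_normalizer hBN
  obtain ⟨Q, instQ, π, hπsurj, hπker, hdeltaQ⟩ := hloc L hL H hLH hHN
  have : Finite Q := Finite.of_surjective _ hπsurj
  obtain ⟨As, hAs⟩ : ∃ As : Subgroup Q, As = (A.subgroupOf H).map π := ⟨_, rfl⟩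
  have hAsel : IsElementaryAbelian p As := by
    rw [hAs]; exact isElementaryAbelian_map _ (isElementaryAbelian_subgroupOf H hA)
  have hAscard : Nat.card As = p ^ k := by
    rw [hAs, card_map_of_injOn, Nat.card_congr (Subgroup.subgroupOfEquivOfLe hAH).toEquiv, hAcard]
    intro a ha h1
    by_contra hne
    have ha' : (a : G) ∈ A := Subgroup.mem_subgroupOf.mp ha
    have hne' : (a : G) ≠ 1 := fun h => hne (Subtype.ext h)
    exact (hAL a ha' hne').2 ((hπker a).mp h1)
  have hDs : (D.subgroupOf H).map π ≤ signalizerDelta p As := by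
    unfold signalizerDelta
    apply le_iInf
    rintro ⟨as, hasA, has1⟩
    rw [hAs] at hasA
    obtain ⟨aH, haH, rfl⟩ := hasA
    have ha' : (aH : G) ∈ A := Subgroup.mem_subgroupOf.mp haH
    have hne' : (aH : G) ≠ 1 := by
      intro h
      apply has1
      have : aH = 1 := Subtype.ext h
      rw [this, map_one]
    obtain ⟨Da, hDacard, hDaC, hCDa, hDDa⟩ := fam (aH : G) ha' hne'
    have hBCa : B ≤ Subgroup.centralizer ({(aH : G)} : Set G) := by
      rw [hB]
      refine sup_le (sup_le (hDDa.trans hDaC) ?_) ?_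
      · intro a ha
        rw [Subgroup.mem_centralizer_iff]
        intro y hy
        rw [Set.mem_singleton_iff] at hy
        rw [hy]
        exact commute_of_isElementaryAbelian hA ha' ha
      · rw [Subgroup.zpowers_le, Subgroup.mem_centralizer_iff]
        intro y hy
        rw [Set.mem_singleton_iff] at hy
        rw [hy]
        exact hxA _ ha'
    have hchain := map_le_centralizerPPrimeCore_of_chain p hO (aH : G) (hord _ ha' hne') Da
      hDacard hDaC hCDa L hL B (hAB ha') hBN hBCa H hH π hπsurj hπker aH rfl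
    refine le_trans (Subgroup.map_mono ?_) hchain
    intro d hd
    rw [Subgroup.mem_subgroupOf] at hd ⊢
    exact ⟨hDDa hd, d.2⟩
  -- the image of `x`
  obtain ⟨xH, hxH'⟩ : ∃ xH : ↥H, xH = ⟨x, hxH⟩ := ⟨_, rfl⟩
  have hxHval : (xH : G) = x := by rw [hxH']
  have hyp : (π xH) ^ p = 1 := by
    rw [← map_pow]
    have : xH ^ p = 1 := by
      apply Subtype.ext
      rw [Subgroup.coe_pow, Subgroup.coe_one, hxHval]; exact hxp
    rw [this, map_one]
  have hyc : π xH ∈ Subgroup.centralizer (As : Set Q) := by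
    rw [Subgroup.mem_centralizer_iff]
    intro as has
    rw [SetLike.mem_coe, hAs] at has
    obtain ⟨aH, haH, rfl⟩ := has
    rw [← map_mul, ← map_mul]
    congr 1
    apply Subtype.ext
    rw [Subgroup.coe_mul, Subgroup.coe_mul, hxHval]
    exact hxA _ (Subgroup.mem_subgroupOf.mp haH)
  have hDy : (D.subgroupOf H).map π ≤ Subgroup.centralizer ({π xH} : Set Q) := by
    by_cases hy1 : π xH = 1
    · rw [hy1]
      intro q _
      rw [Subgroup.mem_centralizer_iff]
      intro z hz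
      rw [Set.mem_singleton_iff] at hz
      rw [hz, one_mul, mul_one]
    · exact hDs.trans (hdeltaQ As hAsel hAscard (π xH) (orderOf_eq_prime hyp hy1) hyc)
  apply hYL'
  rw [hY, Subgroup.commutator_le]
  intro d hd z hz
  obtain ⟨n, rfl⟩ := Subgroup.mem_zpowers_iff.mp hz
  have hdy : π ⟨d, hDH hd⟩ ∈ Subgroup.centralizer ({π xH} : Set Q) :=
    hDy ⟨⟨d, hDH hd⟩, Subgroup.mem_subgroupOf.mpr hd, rfl⟩
  have hc : Commute (π xH) (π ⟨d, hDH hd⟩) :=
    Subgroup.mem_centralizer_iff.mp hdy (π xH) rfl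
  have hc' : Commute (π ⟨d, hDH hd⟩) ((π xH) ^ n) := (hc.symm).zpow_right n
  have h1 : π ⁅(⟨d, hDH hd⟩ : ↥H), xH ^ n⁆ = 1 := by
    rw [map_commutatorElement, map_zpow, commutatorElement_eq_one_iff_commute]
    exact hc'
  have h2 := (hπker _).mp h1
  have h3 : ((⁅(⟨d, hDH hd⟩ : ↥H), xH ^ n⁆ : ↥H) : G) = ⁅d, x ^ n⁆ := by
    rw [commutatorElement_def, commutatorElement_def]
    simp only [Subgroup.coe_mul, Subgroup.coe_inv, Subgroup.coe_zpow, hxHval]
  rw [h3] at h2
  exact h2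

/-- The local-to-global principle for weak `k`-balance when the (invariant) components are
weakly locally `k`-balanced. -/
theorem le_centralizer_of_weaklyLocallyKBalanced' [Finite G] (p k : ℕ) [hp : Fact p.Prime]
    (hk : 1 ≤ k) (hO : pPrimeCore p G = ⊥) (A : Subgroup G) (hA : IsElementaryAbelian p A)
    (hAcard : Nat.card A = p ^ k) (D : Subgroup G)
    (fam : ∀ a ∈ A, a ≠ 1 → ∃ Da : Subgroup G, (Nat.card Da).Coprime p ∧
      Da ≤ Subgroup.centralizer ({a} : Set G) ∧
      Subgroup.centralizer ({a} : Set G) ≤ Subgroup.normalizer (Da : Set G) ∧ D ≤ Da)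
    (x : G) (hxp : x ^ p = 1) (hxA : ∀ a ∈ A, a * x = x * a)
    (hxD : x ∈ Subgroup.normalizer (D : Set G))
    (hxL : ∀ L : Subgroup G, IsComponent L → x ∈ Subgroup.normalizer (L : Set G))
    (hloc : ∀ L : Subgroup G, IsComponent L → IsWeaklyLocallyKBalanced p k ↥L) :
    D ≤ Subgroup.centralizer ({x} : Set G) := by
  refine le_centralizer_of_weaklyLocallyKBalanced_gen p k hk hO A hA hAcard D fam x hxp hxA hxD
    hxL ?_
  intro L hL H hLH hHN
  obtain ⟨ψ, hψ⟩ : ∃ ψ : ↥H →* MulAut ↥L, ψ = conjAutOfLeNormalizer L H hHN := ⟨_, rfl⟩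
  refine ⟨↥ψ.range, inferInstance, ψ.rangeRestrict, ψ.rangeRestrict_surjective, ?_, ?_⟩
  · intro g
    rw [← conjAutOfLeNormalizer_eq_one_iff L H hHN g, ← hψ]
    constructor
    · intro h1
      have := congrArg Subtype.val h1
      rwa [MonoidHom.coe_rangeRestrict] at this
    · intro h1
      apply Subtype.ext
      rw [MonoidHom.coe_rangeRestrict]; exact h1
  · have hrange : (MulAut.conj : ↥L →* MulAut ↥L).range ≤ ψ.range := by
      rw [hψ]; exact conj_range_le_conjAutOfLeNormalizer_range L H hLH hHN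
    exact hloc L hL ψ.range hrange

theorem mem_normalizer_iInf {ι : Sort*} (F : ι → Subgroup G) (x : G)
    (h : ∀ i, x ∈ Subgroup.normalizer ((F i : Subgroup G) : Set G)) :
    x ∈ Subgroup.normalizer ((⨅ i, F i : Subgroup G) : Set G) := by
  rw [Subgroup.mem_normalizer_iff]
  intro g
  rw [Subgroup.mem_iInf, Subgroup.mem_iInf]
  exact forall_congr' fun i => Subgroup.mem_normalizer_iff.mp (h i) g

theorem mem_normalizer_signalizerDelta [Finite G] (p : ℕ) (A : Subgroup G) (x : G)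
    (hxA : ∀ a ∈ A, a * x = x * a) :
    x ∈ Subgroup.normalizer ((signalizerDelta p A : Subgroup G) : Set G) := by
  unfold signalizerDelta
  apply mem_normalizer_iInf
  rintro ⟨a, ha, -⟩
  apply (centralizerPPrimeCore_facts p a).2.2
  rw [Subgroup.mem_centralizer_iff]
  intro z hz
  rw [Set.mem_singleton_iff] at hz
  rw [hz]
  exact hxA a ha

/-- Pointwise weak `k`-balance. -/
theorem commutator_mem_pPrimeCore_of_weaklyLocallyKBalanced [Finite G] (p k : ℕ)
    [hp : Fact p.Prime] (hk : 1 ≤ k) (A : Subgroup G) (hA : IsElementaryAbelian p A)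
    (hAcard : Nat.card A = p ^ k) (Cb : Subgroup G) (hACb : A ≤ Cb)
    (x : G) (hxCb : x ∈ Cb) (hxp : x ^ p = 1) (hxA : ∀ a ∈ A, a * x = x * a)
    (hxinv : ∀ K : Subgroup (↥Cb ⧸ Cfsg.pPrimeCore p ↥Cb), Cfsg.IsComponent K →
      ∀ y ∈ K, (QuotientGroup.mk (⟨x, hxCb⟩ : ↥Cb) : ↥Cb ⧸ Cfsg.pPrimeCore p ↥Cb) * y *
        (QuotientGroup.mk (⟨x, hxCb⟩ : ↥Cb) : ↥Cb ⧸ Cfsg.pPrimeCore p ↥Cb)⁻¹ ∈ K)
    (hloc : ∀ K : Subgroup (↥Cb ⧸ Cfsg.pPrimeCore p ↥Cb), Cfsg.IsComponent K →
      Cfsg.IsWeaklyLocallyKBalanced p k ↥K)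
    (e : G) (he : e ∈ signalizerDelta p A ⊓ Cb) :
    ⁅e, x⁆ ∈ (pPrimeCore p ↥Cb).map Cb.subtype := by
  have hOcard : (Nat.card (pPrimeCore p ↥Cb)).Coprime p := pPrimeCore_coprime' p
  have hObar : pPrimeCore p (↥Cb ⧸ pPrimeCore p ↥Cb) = ⊥ := pPrimeCore_quotient_eq_bot p
  obtain ⟨E, hE⟩ : ∃ E : Subgroup G, E = signalizerDelta p A ⊓ Cb := ⟨_, rfl⟩
  rw [← hE] at he
  have hECb : E ≤ Cb := by rw [hE]; exact inf_le_right
  obtain ⟨Db, hDb⟩ : ∃ Db : Subgroup (↥Cb ⧸ pPrimeCore p ↥Cb),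
    Db = (E.subgroupOf Cb).map (QuotientGroup.mk' (pPrimeCore p ↥Cb)) := ⟨_, rfl⟩
  obtain ⟨Ab, hAb'⟩ : ∃ Ab : Subgroup (↥Cb ⧸ pPrimeCore p ↥Cb),
    Ab = (A.subgroupOf Cb).map (QuotientGroup.mk' (pPrimeCore p ↥Cb)) := ⟨_, rfl⟩
  have hAbel : IsElementaryAbelian p Ab := by
    rw [hAb']; exact isElementaryAbelian_map _ (isElementaryAbelian_subgroupOf Cb hA)
  have hinj : ∀ a ∈ A.subgroupOf Cb, QuotientGroup.mk' (pPrimeCore p ↥Cb) a = 1 → a = 1 := by
    intro a ha h1
    rw [← MonoidHom.mem_ker, QuotientGroup.ker_mk'] at h1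
    have hc := orderOf_coprime_of_mem hOcard h1
    have hpow : a ^ p = 1 := by
      apply Subtype.ext
      rw [Subgroup.coe_pow, Subgroup.coe_one]
      exact hA.2 _ (Subgroup.mem_subgroupOf.mp ha)
    have hd := orderOf_dvd_of_pow_eq_one hpow
    exact orderOf_eq_one_iff.mp (Nat.Coprime.eq_one_of_dvd hc hd)
  have hAbcard : Nat.card Ab = p ^ k := by
    rw [hAb', card_map_of_injOn _ _ hinj,
      Nat.card_congr (Subgroup.subgroupOfEquivOfLe hACb).toEquiv, hAcard]
  have fam : ∀ a ∈ Ab, a ≠ 1 → ∃ Da : Subgroup (↥Cb ⧸ pPrimeCore p ↥Cb),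
      (Nat.card Da).Coprime p ∧ Da ≤ Subgroup.centralizer ({a} : Set _) ∧
      Subgroup.centralizer ({a} : Set _) ≤ Subgroup.normalizer (Da : Set _) ∧ Db ≤ Da := by
    intro a' ha' hne
    rw [hAb'] at ha'
    obtain ⟨at', hat, rfl⟩ := ha'
    have haA : (at' : G) ∈ A := Subgroup.mem_subgroupOf.mp hat
    have hne' : (at' : G) ≠ 1 := by
      intro h1
      apply hne
      have : at' = 1 := Subtype.ext h1
      rw [this, map_one]
    have hord : orderOf (at' : G) = p := orderOf_eq_prime (hA.2 _ haA) hne'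
    obtain ⟨h1, h2, h3⟩ := image_centralizerPPrimeCore_facts p Cb (at' : G) hord at'.2
    refine ⟨_, h1, h2, h3, ?_⟩
    rw [hDb]
    apply Subgroup.map_mono
    intro d hd
    rw [Subgroup.mem_subgroupOf] at hd ⊢
    rw [hE] at hd
    refine ⟨?_, hd.2⟩
    have hle : signalizerDelta p A ≤ centralizerPPrimeCore p (at' : G) := by
      unfold signalizerDelta
      exact iInf_le (fun a : {a : G // a ∈ A ∧ a ≠ 1} => centralizerPPrimeCore p (a : G))
        ⟨(at' : G), haA, hne'⟩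
    exact hle hd.1
  obtain ⟨xt, hxt⟩ : ∃ xt : ↥Cb, xt = ⟨x, hxCb⟩ := ⟨_, rfl⟩
  have hxtval : (xt : G) = x := by rw [hxt]
  obtain ⟨xb, hxb⟩ : ∃ xb : ↥Cb ⧸ pPrimeCore p ↥Cb, xb = QuotientGroup.mk' (pPrimeCore p ↥Cb) xt :=
    ⟨_, rfl⟩
  have hxbp : xb ^ p = 1 := by
    rw [hxb, ← map_pow]
    have : xt ^ p = 1 := by
      apply Subtype.ext
      rw [Subgroup.coe_pow, Subgroup.coe_one, hxtval]; exact hxp
    rw [this, map_one]
  have hxbA : ∀ a ∈ Ab, a * xb = xb * a := by
    intro a ha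
    rw [hAb'] at ha
    obtain ⟨at', hat, rfl⟩ := ha
    rw [hxb, ← map_mul, ← map_mul]
    congr 1
    apply Subtype.ext
    rw [Subgroup.coe_mul, Subgroup.coe_mul, hxtval]
    exact hxA _ (Subgroup.mem_subgroupOf.mp hat)
  have hxE : x ∈ Subgroup.normalizer (E : Set G) := by
    rw [hE]
    apply Subgroup.inf_normalizer_le_normalizer_inf
    exact ⟨mem_normalizer_signalizerDelta p A x hxA, Subgroup.le_normalizer hxCb⟩
  have hxbD : xb ∈ Subgroup.normalizer (Db : Set _) := by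
    rw [hDb, hxb]
    have hxtN : xt ∈ Subgroup.normalizer ((E.subgroupOf Cb : Subgroup ↥Cb) : Set ↥Cb) := by
      rw [mem_normalizer_subgroupOf_iff hECb xt, hxtval]
      exact hxE
    exact Subgroup.le_normalizer_map _ ⟨xt, hxtN, rfl⟩
  have hxbL : ∀ K : Subgroup (↥Cb ⧸ pPrimeCore p ↥Cb), IsComponent K →
      xb ∈ Subgroup.normalizer (K : Set _) := by
    intro K hK
    apply Subgroup.mem_normalizer_fintype
    intro y hy
    have := hxinv K hK y hy
    rw [hxb, hxt]
    exact this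
  have hcent := le_centralizer_of_weaklyLocallyKBalanced' p k hk hObar Ab hAbel hAbcard Db fam
    xb hxbp hxbA hxbD hxbL hloc
  have h1 : QuotientGroup.mk' (pPrimeCore p ↥Cb) ⟨e, hECb he⟩ ∈ Db := by
    rw [hDb]; exact ⟨⟨e, hECb he⟩, Subgroup.mem_subgroupOf.mpr he, rfl⟩
  have h2 := Subgroup.mem_centralizer_iff.mp (hcent h1) xb rfl
  have h3 : QuotientGroup.mk' (pPrimeCore p ↥Cb) ⁅(⟨e, hECb he⟩ : ↥Cb), xt⁆ = 1 := by
    rw [map_commutatorElement, commutatorElement_eq_one_iff_commute, ← hxb]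
    exact h2.symm
  rw [← MonoidHom.mem_ker, QuotientGroup.ker_mk'] at h3
  refine ⟨_, h3, ?_⟩
  rw [commutatorElement_def, commutatorElement_def]
  simp only [Subgroup.coe_subtype, Subgroup.coe_mul, Subgroup.coe_inv, hxtval]

end weak

end Cfsg.Agent.Lib.Helper20
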