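import Cfsg.Agent.Lib.Helper20.LBalanceMain

/-!
`L_{p'}`-balance type lemmas, part 2 (helper20): normal `p'`-subgroups of `C_G(P)` and the
`p`-layer of `N_G(P)` normalize every component when `O_{p'}(G) = 1`.
-/

set_option autoImplicit false

namespace Cfsg.Agent.Lib.Helper20

open scoped commutatorElement
open Cfsg

section lbal2

variable {G : Type*} [Group G]

theorem eq_one_of_isPGroup_of_coprime {p : ℕ} [hp : Fact p.Prime] {Q : Subgroup G}
    (hQ : IsPGroup p Q) {g : G} (hg : g ∈ Q) (hc : (orderOf g).Coprime p) : g = 1 := by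
  obtain ⟨e, he⟩ := (IsPGroup.iff_orderOf.mp hQ) ⟨g, hg⟩
  rw [Subgroup.orderOf_mk] at he
  rw [← orderOf_eq_one_iff]
  rcases Nat.eq_zero_or_pos e with h0 | h0
  · rw [he, h0, pow_zero]
  · exfalso
    have h1 : p ∣ orderOf g := by rw [he]; exact dvd_pow_self p (by omega)
    have h2 : p ∣ Nat.gcd (orderOf g) p := Nat.dvd_gcd h1 dvd_rfl
    rw [hc] at h2
    exact hp.out.one_lt.ne' (Nat.dvd_one.mp h2)

theorem orderOf_coprime_of_mem [Finite G] {p : ℕ} {D : Subgroup G} (hD : (Nat.card D).Coprime p)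
    {d : G} (hd : d ∈ D) : (orderOf d).Coprime p :=
  Nat.Coprime.coprime_dvd_left (Subgroup.orderOf_dvd_natCard D hd) hD

/-- **Lemma A.**  If `O_{p'}(G) = 1`, `P` is a `p`-subgroup and `D ≤ C_G(P)` is a `p'`-subgroup
normalized by `C_G(P)`, then `D` normalizes every component of `G`. -/
theorem le_normalizer_component_of_pPrime [Finite G] {p : ℕ} [hp : Fact p.Prime]
    (hO : pPrimeCore p G = ⊥) (P : Subgroup G) (hP : IsPGroup p P) (D : Subgroup G)
    (hDp : (Nat.card D).Coprime p) (hDC : D ≤ Subgroup.centralizer (P : Set G))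
    (hCD : Subgroup.centralizer (P : Set G) ≤ Subgroup.normalizer (D : Set G))
    (L : Subgroup G) (hL : IsComponent L) : D ≤ Subgroup.normalizer (L : Set G) := by
  intro d hd
  rw [← Cfsg.Agent.Lib.Helper16.map_conj_eq_self_iff]
  have hQn : (pCore p G).Normal := pCore_normal' p
  apply map_conj_eq_self_of_pPrime hO P hP d (orderOf_coprime_of_mem hDp hd) (hDC hd) _ _ L hL
  · rw [Subgroup.mem_centralizer_iff]
    rintro z ⟨hzQ, hzC⟩
    have h1 : ⁅d, z⁆ ∈ D := by
      rw [commutatorElement_def]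
      have := (Subgroup.mem_normalizer_iff.mp (hCD hzC) d⁻¹).mp (D.inv_mem hd)
      have h2 := D.mul_mem hd this
      have e : d * (z * d⁻¹ * z⁻¹) = d * z * d⁻¹ * z⁻¹ := by group
      rwa [e] at h2
    have h2 : ⁅d, z⁆ ∈ pCore p G := by
      rw [commutatorElement_def]
      exact (pCore p G).mul_mem (hQn.conj_mem z hzQ d) ((pCore p G).inv_mem hzQ)
    have h3 := eq_one_of_isPGroup_of_coprime (pCore_isPGroup' p) h2 (orderOf_coprime_of_mem hDp h1)
    rw [commutatorElement_eq_one_iff_mul_comm] at h3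
    exact h3.symm
  · rintro u ⟨-, huC⟩
    apply orderOf_coprime_of_mem hDp
    rw [commutatorElement_def]
    have := (Subgroup.mem_normalizer_iff.mp (hCD huC) d).mp hd
    have h2 := D.mul_mem this (D.inv_mem hd)
    exact h2

end lbal2

section quot

variable {X : Type*} [Group X]

/-- A lift of a `p'`-element through a `p'`-kernel is a `p'`-element. -/
theorem orderOf_coprime_of_quotient [Finite X] {p : ℕ} (O : Subgroup X) [O.Normal]
    (hO : (Nat.card O).Coprime p) (n : X)
    (h : (orderOf (QuotientGroup.mk' O n)).Coprime p) : (orderOf n).Coprime p := by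
  obtain ⟨a, ha⟩ : ∃ a : ℕ, a = orderOf (QuotientGroup.mk' O n) := ⟨_, rfl⟩
  have h1 : n ^ a ∈ O := by
    rw [← QuotientGroup.ker_mk' O, MonoidHom.mem_ker, map_pow, ha, pow_orderOf_eq_one]
  have h2 := orderOf_coprime_of_mem hO h1
  have h3 : n ^ (a * orderOf (n ^ a)) = 1 := by
    rw [pow_mul, pow_orderOf_eq_one]
  rw [← ha] at h
  exact Nat.Coprime.coprime_dvd_left (orderOf_dvd_of_pow_eq_one h3) (Nat.Coprime.mul_left h h2)

/-- Elements whose image lies in `E(X / O_{p'}(X))` centralize every normal `p`-subgroup. -/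
theorem commute_of_mem_layer_quotient_of_isPGroup [Finite X] {p : ℕ} [hp : Fact p.Prime]
    (R : Subgroup X) [hRn : R.Normal] (hR : IsPGroup p R) (n : X)
    (hn : QuotientGroup.mk' (pPrimeCore p X) n ∈ layer (X ⧸ pPrimeCore p X)) (z : X)
    (hz : z ∈ R) : n * z = z * n := by
  have hRbar : R.map (QuotientGroup.mk' (pPrimeCore p X)) ≤ fittingSubgroup (X ⧸ pPrimeCore p X) := by
    apply le_fittingSubgroup' (hRn.map _ (QuotientGroup.mk'_surjective _))
    exact (hR.map _).isNilpotent
  have h1 := layer_le_centralizer_fitting hn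
  have h2 := Subgroup.mem_centralizer_iff.mp h1 _ (hRbar ⟨z, hz, rfl⟩)
  have h3 : ⁅n, z⁆ ∈ pPrimeCore p X := by
    rw [← QuotientGroup.ker_mk' (pPrimeCore p X), MonoidHom.mem_ker, map_commutatorElement,
      commutatorElement_eq_one_iff_mul_comm]
    exact h2.symm
  have h4 : ⁅n, z⁆ ∈ R := by
    rw [commutatorElement_def]
    exact R.mul_mem (hRn.conj_mem z hz n) (R.inv_mem hz)
  have h5 := eq_one_of_isPGroup_of_coprime hR h4
    (orderOf_coprime_of_mem (pPrimeCore_coprime' p) h3)
  rwa [commutatorElement_eq_one_iff_mul_comm] at h5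

end quot

section assembly

variable {G : Type*} [Group G]

theorem pResidual_eq_top_of_isPerfect [Finite G] (p : ℕ) [hp : Fact p.Prime]
    (hG : Group.IsPerfect G) : pResidual p G = ⊤ := by
  rw [eq_top_iff]
  apply le_pResidual_of_isPerfect
  rw [Subgroup.isPerfect_iff, ← commutator_def]
  exact Group.isPerfect_def.mp hG

/-- A normal `p`-subgroup and a normal `p'`-subgroup commute elementwise. -/
theorem commute_of_normal_coprime [Finite G] {p : ℕ} [hp : Fact p.Prime] (R O : Subgroup G)
    [hRn : R.Normal] [hOn : O.Normal] (hR : IsPGroup p R) (hO : (Nat.card O).Coprime p)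
    {o z : G} (ho : o ∈ O) (hz : z ∈ R) : o * z = z * o := by
  have h3 : ⁅o, z⁆ ∈ O := by
    rw [commutatorElement_def]
    have := O.mul_mem ho (hOn.conj_mem o⁻¹ (O.inv_mem ho) z)
    have e : o * (z * o⁻¹ * z⁻¹) = o * z * o⁻¹ * z⁻¹ := by group
    rwa [e] at this
  have h4 : ⁅o, z⁆ ∈ R := by
    rw [commutatorElement_def]
    exact R.mul_mem (hRn.conj_mem z hz o) (R.inv_mem hz)
  have h5 := eq_one_of_isPGroup_of_coprime hR h4 (orderOf_coprime_of_mem hO h3)
  rwa [commutatorElement_eq_one_iff_mul_comm] at h5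

/-- If `O_{p'}(G) = 1`, `P` is a `p`-subgroup and `P C_G(P) ≤ N ≤ N_G(P)`, then every element of
the preimage in `N` of `E(N / O_{p'}(N))` normalizes each component of `G`. -/
theorem mem_normalizer_of_mem_comap_layer [Finite G] {p : ℕ} [hp : Fact p.Prime]
    (hO : pPrimeCore p G = ⊥) (P : Subgroup G) (hP : IsPGroup p P) (N : Subgroup G)
    (hPN : P ≤ N) (hCN : Subgroup.centralizer (P : Set G) ≤ N)
    (hNP : N ≤ Subgroup.normalizer (P : Set G))
    (L : Subgroup G) (hL : IsComponent L) (n : ↥N)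
    (hn : QuotientGroup.mk' (pPrimeCore p ↥N) n ∈ layer (↥N ⧸ pPrimeCore p ↥N)) :
    (n : G) ∈ Subgroup.normalizer (L : Set G) := by
  have hONn : (pPrimeCore p ↥N).Normal := inferInstance
  have hRn : (P.subgroupOf N).Normal :=
    (Subgroup.normal_subgroupOf_iff_le_normalizer hPN).mpr hNP
  have hRp : IsPGroup p ↥(P.subgroupOf N) := hP.comap_subtype
  have hker : ∀ a b : ↥N, QuotientGroup.mk' (pPrimeCore p ↥N) a =
      QuotientGroup.mk' (pPrimeCore p ↥N) b → a⁻¹ * b ∈ pPrimeCore p ↥N := by
    intro a b hab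
    rw [← QuotientGroup.ker_mk' (pPrimeCore p ↥N), MonoidHom.mem_ker, map_mul, map_inv, hab,
      inv_mul_cancel]
  -- Step 1: `O_{p'}(N)` normalizes `L`
  have hOL : (pPrimeCore p ↥N).map N.subtype ≤ Subgroup.normalizer (L : Set G) := by
    apply le_normalizer_component_of_pPrime hO P hP _ ?_ ?_ ?_ L hL
    · rw [Subgroup.card_map_of_injective N.subtype_injective]
      exact pPrimeCore_coprime' p
    · rintro _ ⟨o, ho, rfl⟩
      rw [Subgroup.mem_centralizer_iff]
      intro y hy
      have := commute_of_normal_coprime (P.subgroupOf N) (pPrimeCore p ↥N) hRp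
        (pPrimeCore_coprime' p) ho (z := ⟨y, hPN hy⟩) (by rw [Subgroup.mem_subgroupOf]; exact hy)
      exact (congrArg Subtype.val this).symm
    · refine hCN.trans ?_
      have e : ((pPrimeCore p ↥N).map N.subtype).subgroupOf N = pPrimeCore p ↥N :=
        Subgroup.comap_map_eq_self_of_injective N.subtype_injective _
      apply (Subgroup.normal_subgroupOf_iff_le_normalizer (Subgroup.map_subtype_le _)).mp
      rw [e]; exact hONn
  -- Step 2: `p'`-elements over a component of the quotient
  have key : ∀ K : Subgroup (↥N ⧸ pPrimeCore p ↥N), IsComponent K → ∀ m : ↥N,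
      QuotientGroup.mk' (pPrimeCore p ↥N) m ∈ K → (orderOf m).Coprime p →
      (m : G) ∈ Subgroup.normalizer (L : Set G) := by
    intro K hK m hmK hmp
    have hmE : QuotientGroup.mk' (pPrimeCore p ↥N) m ∈ layer (↥N ⧸ pPrimeCore p ↥N) :=
      component_le_layer K hK hmK
    obtain ⟨Y, hY⟩ : ∃ Y : Subgroup ↥N,
      Y = (layer G ⊓ Subgroup.centralizer (P : Set G)).subgroupOf N := ⟨_, rfl⟩
    have hNC : N ≤ Subgroup.normalizer ((Subgroup.centralizer (P : Set G) : Subgroup G) : Set G) :=
      hNP.trans (Cfsg.Agent.Lib.Helper16.normalizer_le_normalizer_centralizer P)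
    have hYn : Y.Normal := by
      rw [hY]
      apply (Subgroup.normal_subgroupOf_iff_le_normalizer (inf_le_right.trans hCN)).mpr
      exact le_normalizer_inf (by rw [Subgroup.normalizer_eq_top]; exact le_top) hNC
    have hYbar : (Y.map (QuotientGroup.mk' (pPrimeCore p ↥N))).IsSubnormal :=
      Subgroup.Normal.isSubnormal (hYn.map _ (QuotientGroup.mk'_surjective _))
    rcases component_le_or_commutes K _ hK hYbar with h | h
    · obtain ⟨y, hyY, hym⟩ := h hmK
      have ho := hker y m hym
      have e : (m : G) = (y : G) * ((y⁻¹ * m : ↥N) : G) := by simp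
      rw [e]
      apply Subgroup.mul_mem
      · rw [hY, SetLike.mem_coe, Subgroup.mem_subgroupOf] at hyY
        exact layer_le_normalizer_subnormal L hL.1 hyY.1
      · exact hOL ⟨_, ho, rfl⟩
    · rw [← Cfsg.Agent.Lib.Helper16.map_conj_eq_self_iff]
      apply map_conj_eq_self_of_pPrime hO P hP (m : G) ?_ ?_ ?_ ?_ L hL
      · rwa [Subgroup.orderOf_coe]
      · rw [Subgroup.mem_centralizer_iff]
        intro y hy
        have := commute_of_mem_layer_quotient_of_isPGroup (P.subgroupOf N) hRp m hmE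
          ⟨y, hPN hy⟩ (by rw [Subgroup.mem_subgroupOf]; exact hy)
        exact (congrArg Subtype.val this).symm
      · rw [Subgroup.mem_centralizer_iff]
        rintro z ⟨hzQ, hzC⟩
        have hQn : (pCore p G).Normal := pCore_normal' p
        have hR2n : ((pCore p G ⊓ Subgroup.centralizer (P : Set G)).subgroupOf N).Normal := by
          apply (Subgroup.normal_subgroupOf_iff_le_normalizer (inf_le_right.trans hCN)).mpr
          exact le_normalizer_inf (by rw [Subgroup.normalizer_eq_top]; exact le_top) hNC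
        have hR2p : IsPGroup p ↥((pCore p G ⊓ Subgroup.centralizer (P : Set G)).subgroupOf N) :=
          ((pCore_isPGroup' p).to_le inf_le_left).comap_subtype
        have := commute_of_mem_layer_quotient_of_isPGroup _ hR2p m hmE
          ⟨z, hCN hzC⟩ (by rw [Subgroup.mem_subgroupOf]; exact ⟨hzQ, hzC⟩)
        exact (congrArg Subtype.val this).symm
      · rintro u ⟨huE, huC⟩
        have huN : u ∈ N := hCN huC
        have h1 : ⁅(⟨u, huN⟩ : ↥N), m⁆ ∈ pPrimeCore p ↥N := by
          rw [← QuotientGroup.ker_mk' (pPrimeCore p ↥N), MonoidHom.mem_ker,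
            map_commutatorElement, commutatorElement_eq_one_iff_mul_comm]
          refine (commutes_of_commutator_eq_bot h hmK ⟨⟨u, huN⟩, ?_, rfl⟩).symm
          rw [hY, SetLike.mem_coe, Subgroup.mem_subgroupOf]
          exact ⟨huE, huC⟩
        have h2 := orderOf_coprime_of_mem (pPrimeCore_coprime' p) h1
        rw [← Subgroup.orderOf_coe] at h2
        exact h2
  -- Step 3: the layer of the quotient lies in the image of the stabilizer
  have hlayer : layer (↥N ⧸ pPrimeCore p ↥N) ≤
      ((Subgroup.normalizer (L : Set G)).subgroupOf N).map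
        (QuotientGroup.mk' (pPrimeCore p ↥N)) := by
    apply sSup_le
    intro K hK
    have hperf : Group.IsPerfect ↥K := hK.2.1
    have h1 := pResidual_eq_top_of_isPerfect p hperf
    have h2 : pResidual p ↥K ≤ (((Subgroup.normalizer (L : Set G)).subgroupOf N).map
        (QuotientGroup.mk' (pPrimeCore p ↥N))).comap K.subtype := by
      unfold pResidual
      rw [Subgroup.closure_le]
      rintro ⟨g, hgK⟩ hg
      rw [Set.mem_setOf_eq, Subgroup.orderOf_mk] at hg
      obtain ⟨m, rfl⟩ := QuotientGroup.mk'_surjective (pPrimeCore p ↥N) g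
      have hmp := orderOf_coprime_of_quotient (pPrimeCore p ↥N) (pPrimeCore_coprime' p) m hg
      exact ⟨m, Subgroup.mem_subgroupOf.mpr (key K hK m hgK hmp), rfl⟩
    intro g hg
    have h3 : (⟨g, hg⟩ : ↥K) ∈ pResidual p ↥K := by rw [h1]; exact Subgroup.mem_top _
    exact h2 h3
  obtain ⟨t, htT, htn⟩ := hlayer hn
  have ho := hker t n htn
  have e : (n : G) = (t : G) * ((t⁻¹ * n : ↥N) : G) := by simp
  rw [e]
  exact Subgroup.mul_mem _ (Subgroup.mem_subgroupOf.mp htT) (hOL ⟨_, ho, rfl⟩)

end assembly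

end Cfsg.Agent.Lib.Helper20
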