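import Cfsg.Agent.Lib.Helper20.LBalance3
import Cfsg.Agent.Lib.Helper20.PComponents
import Cfsg.Agent.Lib.Helper20.CoprimeLift
import Cfsg.Prelude.Def_EvenTechniques

/-!
`L_{p'}`-balance type lemmas, part 4 (helper20): `O_{p'}` of a `p`-local lies in `L̂_{p'}(X)`.
-/

set_option autoImplicit false

namespace Cfsg.Agent.Lib.Helper20

open scoped commutatorElement
open Cfsg

section lbal4

variable {G : Type*} [Group G]

/-- Under the hypotheses of Lemma A, `D` centralizes `O_p(G)`. -/
theorem le_centralizer_pCore_of_pPrime [Finite G] {p : ℕ} [hp : Fact p.Prime]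
    (P : Subgroup G) (hP : IsPGroup p P) (D : Subgroup G)
    (hDp : (Nat.card D).Coprime p) (hDC : D ≤ Subgroup.centralizer (P : Set G))
    (hCD : Subgroup.centralizer (P : Set G) ≤ Subgroup.normalizer (D : Set G)) :
    D ≤ Subgroup.centralizer (pCore p G : Set G) := by
  intro d hd
  have hQn : (pCore p G).Normal := pCore_normal' p
  refine Cfsg.Agent.Lib.Helper16.thompson_AxB P (pCore p G) d hP (pCore_isPGroup' p)
    (orderOf_coprime_of_mem hDp hd) (hDC hd)
    (by rw [Subgroup.normalizer_eq_top]; exact le_top)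
    (by rw [Subgroup.normalizer_eq_top]; exact Subgroup.mem_top _) ?_
  rw [Subgroup.mem_centralizer_iff]
  rintro z ⟨hzQ, hzC⟩
  have h1 : ⁅d, z⁆ ∈ D := by
    rw [commutatorElement_def]
    have := (Subgroup.mem_normalizer_iff.mp (hCD hzC) d⁻¹).mp (D.inv_mem hd)
    have h2 := D.mul_mem hd this
    have e : d * (z * d⁻¹ * z⁻¹) = d * z * d⁻¹ * z⁻¹ := by group
    rwa [e] at h2
  have h2 : ⁅d, z⁆ ∈ pCore p G := by
    rw [commutatorElement_def]
    exact (pCore p G).mul_mem (hQn.conj_mem z hzQ d) ((pCore p G).inv_mem hzQ)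
  have h3 := eq_one_of_isPGroup_of_coprime (pCore_isPGroup' p) h2 (orderOf_coprime_of_mem hDp h1)
  rw [commutatorElement_eq_one_iff_mul_comm] at h3
  exact h3.symm

/-- `O_{p'}(N_X(R)) ≤ L̂_{p'}(X)` for a `p`-subgroup `R`. -/
theorem pPrimeCore_normalizer_le_hatPLayer {X : Type*} [Group X] [Finite X] {p : ℕ}
    [hp : Fact p.Prime] (R : Subgroup X) (hR : IsPGroup p R) :
    (pPrimeCore p ↥(Subgroup.normalizer (R : Set X))).map
      (Subgroup.normalizer (R : Set X)).subtype ≤ hatPLayer p X := by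
  obtain ⟨D, hD⟩ : ∃ D : Subgroup X, D = (pPrimeCore p ↥(Subgroup.normalizer (R : Set X))).map
    (Subgroup.normalizer (R : Set X)).subtype := ⟨_, rfl⟩
  rw [← hD]
  have hDcard : (Nat.card D).Coprime p := by
    rw [hD, Subgroup.card_map_of_injective (Subgroup.subtype_injective _)]
    exact pPrimeCore_coprime' p
  have hDN : D ≤ Subgroup.normalizer (R : Set X) := by
    rw [hD]; exact Subgroup.map_subtype_le _
  have hND : Subgroup.normalizer (R : Set X) ≤ Subgroup.normalizer (D : Set X) := by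
    have e : D.subgroupOf (Subgroup.normalizer (R : Set X)) =
        pPrimeCore p ↥(Subgroup.normalizer (R : Set X)) := by
      rw [hD]; exact Subgroup.comap_map_eq_self_of_injective (Subgroup.subtype_injective _) _
    apply (Subgroup.normal_subgroupOf_iff_le_normalizer hDN).mp
    rw [e]; infer_instance
  have hDR : D ≤ Subgroup.centralizer (R : Set X) := by
    rw [hD]
    rintro _ ⟨o, ho, rfl⟩
    rw [Subgroup.mem_centralizer_iff]
    intro y hy
    have hRn : (R.subgroupOf (Subgroup.normalizer (R : Set X))).Normal := inferInstance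
    have := commute_of_normal_coprime (R.subgroupOf (Subgroup.normalizer (R : Set X)))
      (pPrimeCore p ↥(Subgroup.normalizer (R : Set X))) hR.comap_subtype
      (pPrimeCore_coprime' p) ho (z := ⟨y, Subgroup.le_normalizer hy⟩)
      (by rw [Subgroup.mem_subgroupOf]; exact hy)
    exact (congrArg Subtype.val this).symm
  -- pass to the quotient
  have hO : ¬ p ∣ Nat.card (pPrimeCore p X) := by
    intro h
    have := (pPrimeCore_coprime' (G := X) p)
    rw [Nat.Coprime, Nat.gcd_eq_right h] at this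
    exact hp.out.one_lt.ne' this
  have hObar : pPrimeCore p (X ⧸ pPrimeCore p X) = ⊥ := pPrimeCore_quotient_eq_bot p
  obtain ⟨Db, hDb⟩ : ∃ Db : Subgroup (X ⧸ pPrimeCore p X),
    Db = D.map (QuotientGroup.mk' (pPrimeCore p X)) := ⟨_, rfl⟩
  obtain ⟨Rb, hRb⟩ : ∃ Rb : Subgroup (X ⧸ pPrimeCore p X),
    Rb = R.map (QuotientGroup.mk' (pPrimeCore p X)) := ⟨_, rfl⟩
  have hRbp : IsPGroup p Rb := by rw [hRb]; exact hR.map _
  have hDbcard : (Nat.card Db).Coprime p := by
    rw [hDb]; exact Nat.Coprime.coprime_dvd_left (Subgroup.card_map_dvd _ _) hDcard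
  have hDbC : Db ≤ Subgroup.centralizer (Rb : Set (X ⧸ pPrimeCore p X)) := by
    rw [hDb, hRb]
    rintro _ ⟨d, hd, rfl⟩
    rw [Subgroup.mem_centralizer_iff]
    rintro _ ⟨y, hy, rfl⟩
    have := Subgroup.mem_centralizer_iff.mp (hDR hd) y hy
    rw [← map_mul, ← map_mul, this]
  have hCDb : Subgroup.centralizer (Rb : Set (X ⧸ pPrimeCore p X)) ≤
      Subgroup.normalizer (Db : Set (X ⧸ pPrimeCore p X)) := by
    refine (Subgroup.centralizer_le_normalizer _).trans ?_
    rw [hRb, normalizer_map_mk'_of_coprime p (pPrimeCore p X) hO R hR, hDb]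
    exact (Subgroup.map_mono hND).trans (Subgroup.le_normalizer_map _)
  intro d hd
  unfold hatPLayer
  rw [Subgroup.mem_inf, Subgroup.mem_iInf, Subgroup.mem_comap]
  refine ⟨?_, ?_⟩
  · rintro ⟨K, hK⟩
    apply pComponent_mem_normalizer p K hK d
    have h1 := le_normalizer_component_of_pPrime hObar Rb hRbp Db hDbcard hDbC hCDb _ hK.2.1
    apply h1
    rw [hDb]
    exact ⟨d, hd, rfl⟩
  · have h1 := le_centralizer_pCore_of_pPrime Rb hRbp Db hDbcard hDbC hCDb
    apply h1
    rw [hDb]
    exact ⟨d, hd, rfl⟩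

end lbal4

end Cfsg.Agent.Lib.Helper20
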