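import Cfsg.Agent.Lib.Helper20.PLocal2

/-!
`p`-constraint of `p`-local subgroups from `p`-constraint of larger subgroups (helper20).
-/

set_option autoImplicit false

namespace Cfsg.Agent.Lib.Helper20

/-- A `p`-constrained group has no subnormal subgroup `K` with `K / O_{p'}(K)` quasisimple. -/
theorem not_quasisimple_core_quotient_of_pLayer_eq_bot {D : Type*} [Group D] [Finite D] (p : ℕ)
    [hp : Fact p.Prime] (hD : Cfsg.IsPConstrained p D) (K : Subgroup D) (hK : K.IsSubnormal)
    (hq : Cfsg.IsQuasisimple (↥K ⧸ pPrimeCore p ↥K)) : False := by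
  rw [isPConstrained_iff_layer_quotient_eq_bot, layer_eq_bot_iff'] at hD
  apply hD (K.map (QuotientGroup.mk' (pPrimeCore p D)))
  exact ⟨hK.map (QuotientGroup.mk'_surjective _),
    isQuasisimple_of_mulEquiv (quotientCoreEquivMap p K hK) hq⟩

/-- Quasisimplicity of `A / O_{p'}(A)` is invariant under isomorphism. -/
theorem isQuasisimple_core_quotient_of_mulEquiv {A B : Type*} [Group A] [Group B] [Finite A]
    (p : ℕ) (e : A ≃* B) (h : Cfsg.IsQuasisimple (A ⧸ pPrimeCore p A)) :
    Cfsg.IsQuasisimple (B ⧸ pPrimeCore p B) := by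
  have he : (pPrimeCore p A).map e.toMonoidHom = pPrimeCore p B := pPrimeCore_map_mulEquiv p e
  exact isQuasisimple_of_mulEquiv (QuotientGroup.congr (pPrimeCore p A) (pPrimeCore p B) e he) h

variable {G : Type*} [Group G] [Finite G] (p : ℕ) [hp : Fact p.Prime]

theorem mem_normalizer_subgroupOf_iff {T H : Subgroup G} (hTH : T ≤ H) (d : ↥H) :
    d ∈ Subgroup.normalizer ((T.subgroupOf H : Subgroup ↥H) : Set ↥H) ↔
      (d : G) ∈ Subgroup.normalizer (T : Set G) := by
  rw [Subgroup.mem_normalizer_iff_map_conj_eq, Subgroup.mem_normalizer_iff_map_conj_eq]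
  constructor
  · intro h
    have h1 := congrArg (fun S : Subgroup ↥H => S.map H.subtype) h
    simp only [Subgroup.map_map] at h1
    have h2 : (H.subtype.comp ((MulAut.conj d : ↥H ≃* ↥H) : ↥H →* ↥H)) =
        ((MulAut.conj (d : G) : G ≃* G) : G →* G).comp H.subtype := by
      ext x; rfl
    rw [h2, ← Subgroup.map_map, Subgroup.map_subgroupOf_eq_of_le hTH] at h1
    exact h1
  · intro h
    apply Subgroup.map_injective (Subgroup.subtype_injective H)
    rw [Subgroup.map_map]
    have h2 : (H.subtype.comp ((MulAut.conj d : ↥H ≃* ↥H) : ↥H →* ↥H)) =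
        ((MulAut.conj (d : G) : G ≃* G) : G →* G).comp H.subtype := by
      ext x; rfl
    rw [h2, ← Subgroup.map_map, Subgroup.map_subgroupOf_eq_of_le hTH]
    exact h

/-- If `T ≤ H`, `C_G(T) ≤ H` and `H` is `p`-constrained then `N_G(T)` is `p`-constrained. -/
theorem isPConstrained_normalizer_of_le (T : Subgroup G) (hT : IsPGroup p T) (H : Subgroup G)
    (hTH : T ≤ H) (hCH : Subgroup.centralizer (T : Set G) ≤ H) (hH : Cfsg.IsPConstrained p ↥H) :
    Cfsg.IsPConstrained p ↥(Subgroup.normalizer (T : Set G)) := by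
  rw [isPConstrained_iff_pLayer_eq_bot]
  unfold Cfsg.pLayer
  rw [sSup_eq_bot]
  intro K hK
  exfalso
  -- K centralizes T
  have hTn : (T.subgroupOf (Subgroup.normalizer (T : Set G))).Normal :=
    Subgroup.normal_in_normalizer
  have hcomm := commutator_layerPreimage_eq_bot p
    (T.subgroupOf (Subgroup.normalizer (T : Set G))) hT.comap_subtype
  have hKX : K ≤ layerPreimage p ↥(Subgroup.normalizer (T : Set G)) := by
    unfold layerPreimage
    rw [← Subgroup.map_le_iff_le_comap]
    exact component_le_layer _ hK.2.1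
  have hKc : ∀ k ∈ K, (k : G) ∈ Subgroup.centralizer (T : Set G) := by
    intro k hk
    rw [Subgroup.mem_centralizer_iff]
    intro t ht
    have htN : t ∈ Subgroup.normalizer (T : Set G) := Subgroup.le_normalizer ht
    have := commutes_of_commutator_eq_bot hcomm (hKX hk)
      (show (⟨t, htN⟩ : ↥(Subgroup.normalizer (T : Set G))) ∈
        T.subgroupOf (Subgroup.normalizer (T : Set G)) from ht)
    exact (congrArg Subtype.val this).symm
  -- the p-constrained group D' = N_H(T)
  have hD := (isPConstrained_normalizer_and_centralizer p hH (T.subgroupOf H)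
    hT.comap_subtype).1
  set D' := Subgroup.normalizer ((T.subgroupOf H : Subgroup ↥H) : Set ↥H) with hD'
  let ι : ↥D' →* ↥(Subgroup.normalizer (T : Set G)) :=
    (H.subtype.comp D'.subtype).codRestrict _
      (fun d => (mem_normalizer_subgroupOf_iff hTH d.1).mp d.2)
  have hι : Function.Injective ι := by
    intro a b hab
    apply Subtype.ext
    apply Subtype.ext
    have h1 : ((ι a : ↥(Subgroup.normalizer (T : Set G))) : G) = (ι b : G) :=
      congrArg Subtype.val hab
    exact h1
  have hKr : K ≤ ι.range := by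
    intro k hk
    have hkH : (k : G) ∈ H := hCH (hKc k hk)
    have hkD : (⟨(k : G), hkH⟩ : ↥H) ∈ D' :=
      (mem_normalizer_subgroupOf_iff hTH ⟨(k : G), hkH⟩).mpr k.2
    exact ⟨⟨⟨(k : G), hkH⟩, hkD⟩, Subtype.ext rfl⟩
  have hsn : (K.comap ι).IsSubnormal := hK.1.comap ι
  have e : ↥(K.comap ι) ≃* ↥K :=
    (Subgroup.equivMapOfInjective (K.comap ι) ι hι).trans
      (MulEquiv.subgroupCongr (by rw [Subgroup.map_comap_eq, inf_of_le_right hKr]))
  have hq : Cfsg.IsQuasisimple (↥(K.comap ι) ⧸ pPrimeCore p ↥(K.comap ι)) :=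
    isQuasisimple_core_quotient_of_mulEquiv p e.symm (pComponent_quotient_core_quasisimple p K hK)
  exact not_quasisimple_core_quotient_of_pLayer_eq_bot p hD (K.comap ι) hsn hq

/-- A nontrivial finite `p`-subgroup has a central element of order `p`. -/
theorem exists_central_orderOf_eq_prime (T : Subgroup G) (hT : IsPGroup p T) (hT1 : T ≠ ⊥) :
    ∃ x ∈ T, orderOf x = p ∧ ∀ t ∈ T, t * x = x * t := by
  haveI : Nontrivial ↥T := (Subgroup.nontrivial_iff_ne_bot T).mpr hT1
  have hcn : Nontrivial (Subgroup.center ↥T) := hT.center_nontrivial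
  have hpg : IsPGroup p (Subgroup.center ↥T) := hT.to_subgroup _
  obtain ⟨k, hk⟩ := IsPGroup.iff_card.mp hpg
  have hdvd : p ∣ Nat.card (Subgroup.center ↥T) := by
    rw [hk]
    rcases Nat.eq_zero_or_pos k with rfl | hk0
    · exfalso
      rw [pow_zero] at hk
      have : Subsingleton (Subgroup.center ↥T) := (Nat.card_eq_one_iff_unique.mp hk).1
      exact not_subsingleton _ this
    · exact dvd_pow_self p hk0.ne'
  obtain ⟨⟨z, hz⟩, hord⟩ := exists_prime_orderOf_dvd_card' p hdvd
  rw [Subgroup.orderOf_mk] at hord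
  refine ⟨(z : G), z.2, ?_, ?_⟩
  · rw [Subgroup.orderOf_coe]; exact hord
  · intro t ht
    have := Subgroup.mem_center_iff.mp hz ⟨t, ht⟩
    exact congrArg Subtype.val this

/-- If every maximal `p`-local subgroup is `p`-constrained, or every centralizer of an element of
order `p` is `p`-constrained, then every `p`-local subgroup is `p`-constrained. -/
theorem isPConstrained_pLocal
    (h : (∀ M : Subgroup G, (∃ T : Subgroup G, IsPGroup p ↥T ∧ T ≠ ⊥ ∧
          M = Subgroup.normalizer (T : Set G)) → M ≠ ⊤ →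
        (∀ M' : Subgroup G, (∃ T' : Subgroup G, IsPGroup p ↥T' ∧ T' ≠ ⊥ ∧
          M' = Subgroup.normalizer (T' : Set G)) → M' ≠ ⊤ → M ≤ M' → M = M') →
        Cfsg.IsPConstrained p ↥M) ∨
      (∀ x : G, orderOf x = p → Cfsg.IsPConstrained p ↥(Subgroup.centralizer ({x} : Set G))))
    (T : Subgroup G) (hT : IsPGroup p ↥T) (hT1 : T ≠ ⊥)
    (hTG : Subgroup.normalizer (T : Set G) ≠ ⊤) :
    Cfsg.IsPConstrained p ↥(Subgroup.normalizer (T : Set G)) := by
  rcases h with h | h
  · -- a maximal p-local containing N_G(T)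
    let Q : Subgroup G → Prop := fun M => (∃ T' : Subgroup G, IsPGroup p ↥T' ∧ T' ≠ ⊥ ∧
        M = Subgroup.normalizer (T' : Set G)) ∧ M ≠ ⊤
    have h0 : Q (Subgroup.normalizer (T : Set G)) := ⟨⟨T, hT, hT1, rfl⟩, hTG⟩
    obtain ⟨M, hNM, hMmax⟩ := Finite.exists_le_maximal (α := Subgroup G) (p := Q) h0
    have hMc : Cfsg.IsPConstrained p ↥M := by
      apply h M hMmax.1.1 hMmax.1.2
      intro M' hM' hM'top hle
      exact le_antisymm hle (hMmax.2 ⟨hM', hM'top⟩ hle)
    exact isPConstrained_normalizer_of_le p T hT M (Subgroup.le_normalizer.trans hNM)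
      ((Subgroup.centralizer_le_normalizer _).trans hNM) hMc
  · obtain ⟨x, hxT, hord, hcomm⟩ := exists_central_orderOf_eq_prime p T hT hT1
    apply isPConstrained_normalizer_of_le p T hT (Subgroup.centralizer ({x} : Set G)) ?_ ?_
      (h x hord)
    · intro t ht
      rw [Subgroup.mem_centralizer_iff]
      intro y hy
      rw [Set.mem_singleton_iff] at hy
      subst hy
      exact (hcomm t ht).symm
    · exact Subgroup.centralizer_le (Set.singleton_subset_iff.mpr hxT)

end Cfsg.Agent.Lib.Helper20
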