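import Cfsg.Agent.Lib.Helper20.LBalance4
import Cfsg.Agent.Lib.Helper20.Bender
import Cfsg.Agent.Lib.Helper20.PLocal3

/-!
`L_{p'}`-balance type lemmas, part 5 (helper20): a nontrivial subgroup of `O_{p'}(C(x))` moves a
component normalized by `x`; relative version for an involution acting on a subgroup.
-/

set_option autoImplicit false

namespace Cfsg.Agent.Lib.Helper20

open scoped commutatorElement
open Cfsg

section abstract

variable {G : Type*} [Group G]

/-- If `O_{p'}(G) = 1`, `x` has order `p`, `D ≤ C_G(x)` is a `p'`-subgroup normalized by `C_G(x)`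
and `1 ≠ Y ≤ D`, then some component of `G` is normalized by `x` and `Y` and centralized by
neither. -/
theorem exists_component_normalized_not_centralized [Finite G] (p : ℕ) [hp : Fact p.Prime]
    (hO : pPrimeCore p G = ⊥) (x : G) (hx : orderOf x = p) (D : Subgroup G)
    (hDcard : (Nat.card D).Coprime p) (hDC : D ≤ Subgroup.centralizer ({x} : Set G))
    (hCD : Subgroup.centralizer ({x} : Set G) ≤ Subgroup.normalizer (D : Set G))
    (Y : Subgroup G) (hYD : Y ≤ D) (hY1 : Y ≠ ⊥) :
    ∃ L : Subgroup G, IsComponent L ∧ x ∈ Subgroup.normalizer (L : Set G) ∧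
      Y ≤ Subgroup.normalizer (L : Set G) ∧ x ∉ Subgroup.centralizer (L : Set G) ∧
      ¬ Y ≤ Subgroup.centralizer (L : Set G) := by
  have hzC := centralizer_zpowers_eq_centralizer_singleton x
  have hPp := isPGroup_zpowers_of_orderOf_eq x hx
  have hDQ : D ≤ Subgroup.centralizer (pCore p G : Set G) :=
    le_centralizer_pCore_of_pPrime (Subgroup.zpowers x) hPp D hDcard
      (by rw [hzC]; exact hDC) (by rw [hzC]; exact hCD)
  have hex : ∃ L : Subgroup G, IsComponent L ∧ ¬ Y ≤ Subgroup.centralizer (L : Set G) := by
    by_contra hcon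
    push Not at hcon
    apply hY1
    have h1 : Y ≤ Subgroup.centralizer (layer G : Set G) := by
      rw [Subgroup.le_centralizer_iff]
      apply sSup_le
      intro L hL
      rw [← Subgroup.le_centralizer_iff]
      exact hcon L hL
    have hF := fitting_eq_pCore_of_pPrimeCore_eq_bot p hO
    have h2 : Y ≤ Subgroup.centralizer (fittingSubgroup G : Set G) := by
      rw [hF]; exact hYD.trans hDQ
    have h3 : Y ≤ Subgroup.centralizer (generalizedFittingSubgroup G : Set G) := by
      unfold generalizedFittingSubgroup
      rw [Subgroup.le_centralizer_iff]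
      exact sup_le (Subgroup.le_centralizer_iff.mp h1) (Subgroup.le_centralizer_iff.mp h2)
    have h4 : Y ≤ generalizedFittingSubgroup G := h3.trans centralizer_genFitting_le
    have hFsn : (generalizedFittingSubgroup G).Normal := by
      have : (fittingSubgroup G).Normal := fittingSubgroup_normal'
      unfold generalizedFittingSubgroup; infer_instance
    obtain ⟨Z, hZ⟩ : ∃ Z : Subgroup G, Z = generalizedFittingSubgroup G ⊓
      Subgroup.centralizer (generalizedFittingSubgroup G : Set G) := ⟨_, rfl⟩
    have hZn : Z.Normal := by rw [hZ]; infer_instance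
    have hZZ : Z ≤ Subgroup.centralizer (Z : Set G) := by
      rw [hZ]
      exact inf_le_right.trans (Subgroup.centralizer_le (by exact_mod_cast inf_le_left))
    have hZnil : Group.IsNilpotent Z := by
      apply isNilpotent_of_commutator_le_centralized Z ⊥
      · rw [le_bot_iff, Subgroup.commutator_eq_bot_iff_le_centralizer]; exact hZZ
      · intro z _
        rw [Subgroup.mem_centralizer_iff]
        intro w hw
        rw [SetLike.mem_coe, Subgroup.mem_bot] at hw
        rw [hw, one_mul, mul_one]
    have hZF : Z ≤ pCore p G := by rw [← hF]; exact le_fittingSubgroup' hZn hZnil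
    have hYZ : Y ≤ Z := by rw [hZ]; exact le_inf h4 h3
    rw [eq_bot_iff]
    intro y hy
    rw [Subgroup.mem_bot]
    exact eq_one_of_isPGroup_of_coprime (pCore_isPGroup' p) (hZF (hYZ hy))
      (orderOf_coprime_of_mem hDcard (hYD hy))
  obtain ⟨L, hL, hYL⟩ := hex
  have hDL := le_normalizer_component_of_centralizer_le p hO x hx D hDcard hDC hCD L hL
  have hcomm : ⁅L, Subgroup.zpowers x⁆ = L := by
    by_contra hne
    have h1 := commutator_eq_bot_of_centralizer_le p hO x hx D hDcard hDC hCD L hL hne
    apply hYL
    rw [Subgroup.commutator_comm, Subgroup.commutator_eq_bot_iff_le_centralizer] at h1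
    exact hYD.trans h1
  refine ⟨L, hL, ?_, hYD.trans hDL, ?_, hYL⟩
  · have h1 : Subgroup.zpowers x ≤
        Subgroup.normalizer ((⁅L, Subgroup.zpowers x⁆ : Subgroup G) : Set G) := by
      rw [Subgroup.commutator_comm]; exact le_normalizer_commutator_left _ _
    rw [hcomm] at h1
    exact h1 (Subgroup.mem_zpowers x)
  · intro hxc
    have h1 : ⁅L, Subgroup.zpowers x⁆ = ⊥ := by
      rw [Subgroup.commutator_comm, Subgroup.commutator_eq_bot_iff_le_centralizer,
        Subgroup.zpowers_le]
      exact hxc
    rw [hcomm] at h1
    have := isQuasisimple_nontrivial hL.2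
    rw [h1] at this
    exact not_nontrivial _ this

end abstract

end Cfsg.Agent.Lib.Helper20
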