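import Cfsg.Agent.Lib.Helper20.LBalance5

/-!
`L_{p'}`-balance type lemmas, part 6 (helper20): an involution `t` normalizing `H` with `O(H) = 1`
and `1 ≠ Y ≤ O(C_H(t))`: some component of `H` is normalized by `t` and `Y`, centralized by neither.
-/

set_option autoImplicit false

namespace Cfsg.Agent.Lib.Helper20

open scoped commutatorElement
open Cfsg

section relative

variable {G : Type*} [Group G]

theorem mem_or_mul_mem_of_mem_sup_zpowers (H : Subgroup G) (t : G) (ht : orderOf t = 2)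
    (htH : t ∈ Subgroup.normalizer (H : Set G)) {x : G} (hx : x ∈ H ⊔ Subgroup.zpowers t) :
    x ∈ H ∨ x * t ∈ H := by
  have hle : Subgroup.zpowers t ≤ Subgroup.normalizer (H : Set G) := by
    rw [Subgroup.zpowers_le]; exact htH
  have hx' : x ∈ ((H ⊔ Subgroup.zpowers t : Subgroup G) : Set G) := hx
  rw [Subgroup.coe_mul_of_right_le_normalizer_left H (Subgroup.zpowers t) hle] at hx'
  obtain ⟨h, hh, z, hz, rfl⟩ := Set.mem_mul.mp hx'
  obtain ⟨k, rfl⟩ := Subgroup.mem_zpowers_iff.mp hz
  have h2 : ((orderOf t : ℕ) : ℤ) = 2 := by rw [ht]; rfl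
  have e : t ^ k = t ^ (k % 2) := by
    rw [← h2]; exact (zpow_mod_orderOf t k).symm
  have htt : t * t = 1 := by rw [← pow_two, ← ht]; exact pow_orderOf_eq_one t
  rcases Int.emod_two_eq_zero_or_one k with h0 | h1
  · left
    rw [e, h0, zpow_zero, mul_one]; exact hh
  · right
    rw [e, h1, zpow_one, mul_assoc, htt, mul_one]; exact hh

theorem mul_self_mem_of_mem_sup_zpowers (H : Subgroup G) (t : G) (ht : orderOf t = 2)
    (htH : t ∈ Subgroup.normalizer (H : Set G)) {x : G} (hx : x ∈ H ⊔ Subgroup.zpowers t) :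
    x * x ∈ H := by
  have htt : t * t = 1 := by rw [← pow_two, ← ht]; exact pow_orderOf_eq_one t
  rcases mem_or_mul_mem_of_mem_sup_zpowers H t ht htH hx with h | h
  · exact H.mul_mem h h
  · have h1 := (Subgroup.mem_normalizer_iff.mp (Subgroup.inv_mem _ htH) (x * t)).mp h
    have e : x * x = (x * t) * (t⁻¹ * (x * t) * t⁻¹⁻¹) * (t * t)⁻¹ := by group
    rw [e, htt, inv_one, mul_one]
    exact H.mul_mem h h1

/-- Relative form: `t` an involution normalizing `H`, `O(H) = 1`, `1 ≠ Y ≤ O(C_H(t))`. -/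
theorem exists_component_of_involution_acting [Finite G] (H : Subgroup G)
    (hO : pPrimeCore 2 ↥H = ⊥) (t : G) (ht : orderOf t = 2)
    (htH : t ∈ Subgroup.normalizer (H : Set G)) (Y : Subgroup G) (hY1 : Y ≠ ⊥)
    (hY : Y ≤ (pPrimeCore 2 ↥(H ⊓ Subgroup.centralizer ({t} : Set G))).map
      (H ⊓ Subgroup.centralizer ({t} : Set G)).subtype) :
    ∃ E : Subgroup ↥H, IsComponent E ∧
      (E.map H.subtype).map (MulAut.conj t).toMonoidHom = E.map H.subtype ∧
      Y ≤ Subgroup.normalizer ((E.map H.subtype : Subgroup G) : Set G) ∧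
      ¬ (t ∈ Subgroup.centralizer ((E.map H.subtype : Subgroup G) : Set G)) ∧
      ¬ (Y ≤ Subgroup.centralizer ((E.map H.subtype : Subgroup G) : Set G)) := by
  haveI : Fact (Nat.Prime 2) := ⟨Nat.prime_two⟩
  obtain ⟨X, hX⟩ : ∃ X : Subgroup G, X = H ⊔ Subgroup.zpowers t := ⟨_, rfl⟩
  have hHX : H ≤ X := by rw [hX]; exact le_sup_left
  have htX : t ∈ X := by rw [hX]; exact le_sup_right (α := Subgroup G) (Subgroup.mem_zpowers t)
  have hXN : X ≤ Subgroup.normalizer (H : Set G) := by
    rw [hX]; exact sup_le Subgroup.le_normalizer (by rw [Subgroup.zpowers_le]; exact htH)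
  have hsq : ∀ x ∈ X, x * x ∈ H := fun x hx =>
    mul_self_mem_of_mem_sup_zpowers H t ht htH (hX ▸ hx)
  have hor : ∀ x ∈ X, x ∈ H ∨ x * t ∈ H := fun x hx =>
    mem_or_mul_mem_of_mem_sup_zpowers H t ht htH (hX ▸ hx)
  obtain ⟨W, hW⟩ : ∃ W : Subgroup G, W =
    (pPrimeCore 2 ↥(H ⊓ Subgroup.centralizer ({t} : Set G))).map
      (H ⊓ Subgroup.centralizer ({t} : Set G)).subtype := ⟨_, rfl⟩
  rw [← hW] at hY
  have hWcard : (Nat.card W).Coprime 2 := by
    rw [hW, Subgroup.card_map_of_injective (Subgroup.subtype_injective _)]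
    exact pPrimeCore_coprime' 2
  have hWle : W ≤ H ⊓ Subgroup.centralizer ({t} : Set G) := by
    rw [hW]; exact Subgroup.map_subtype_le _
  have hWN : H ⊓ Subgroup.centralizer ({t} : Set G) ≤ Subgroup.normalizer (W : Set G) := by
    have e : W.subgroupOf (H ⊓ Subgroup.centralizer ({t} : Set G)) =
        pPrimeCore 2 ↥(H ⊓ Subgroup.centralizer ({t} : Set G)) := by
      rw [hW]; exact Subgroup.comap_map_eq_self_of_injective (Subgroup.subtype_injective _) _
    apply (Subgroup.normal_subgroupOf_iff_le_normalizer hWle).mp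
    rw [e]; infer_instance
  have hWX : W ≤ X := hWle.trans (inf_le_left.trans hHX)
  have htW : t ∈ Subgroup.normalizer (W : Set G) := by
    apply Subgroup.centralizer_le_normalizer (W : Set G)
    rw [Subgroup.mem_centralizer_iff]
    intro w hw
    exact (Subgroup.mem_centralizer_iff.mp (hWle hw).2 t rfl).symm
  -- Step 1: `O(X) = 1`
  have hOX : pPrimeCore 2 ↥X = ⊥ := by
    rw [eq_bot_iff]
    intro o ho
    rw [Subgroup.mem_bot]
    have hOH : ∀ o' : ↥X, o' ∈ pPrimeCore 2 ↥X → (o' : G) ∈ H → o' = 1 := by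
      intro o' ho' hoH
      have hn : ((pPrimeCore 2 ↥X).comap (Subgroup.inclusion hHX)).Normal := inferInstance
      have hc : (Nat.card ((pPrimeCore 2 ↥X).comap (Subgroup.inclusion hHX))).Coprime 2 :=
        Nat.Coprime.coprime_dvd_left (Subgroup.card_comap_dvd_of_injective _ _
          (Subgroup.inclusion_injective hHX)) (pPrimeCore_coprime' 2)
      have hle := le_pPrimeCore' hn hc
      rw [hO, le_bot_iff] at hle
      have hmem : (⟨(o' : G), hoH⟩ : ↥H) ∈ (pPrimeCore 2 ↥X).comap (Subgroup.inclusion hHX) := by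
        rw [Subgroup.mem_comap]; exact ho'
      rw [hle, Subgroup.mem_bot] at hmem
      apply Subtype.ext
      have h9 : ((⟨(o' : G), hoH⟩ : ↥H) : G) = ((1 : ↥H) : G) := congrArg Subtype.val hmem
      exact h9
    have ho2 : o * o = 1 := hOH (o * o) (Subgroup.mul_mem _ ho ho) (hsq o o.2)
    have hodd := orderOf_coprime_of_mem (pPrimeCore_coprime' 2) ho
    have hdvd : orderOf o ∣ 2 := orderOf_dvd_of_pow_eq_one (by rw [pow_two]; exact ho2)
    exact orderOf_eq_one_iff.mp (Nat.Coprime.eq_one_of_dvd hodd hdvd)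
  -- Step 2: the data in `X`
  obtain ⟨tX, htX'⟩ : ∃ tX : ↥X, tX = ⟨t, htX⟩ := ⟨_, rfl⟩
  have htXo : orderOf tX = 2 := by rw [htX', Subgroup.orderOf_mk]; exact ht
  have hDcard : (Nat.card (W.subgroupOf X)).Coprime 2 := by
    rw [Nat.card_congr (Subgroup.subgroupOfEquivOfLe hWX).toEquiv]; exact hWcard
  have hDC : W.subgroupOf X ≤ Subgroup.centralizer ({tX} : Set ↥X) := by
    intro d hd
    rw [Subgroup.mem_centralizer_iff]
    intro y hy
    rw [Set.mem_singleton_iff] at hy
    rw [hy, htX']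
    apply Subtype.ext
    exact Subgroup.mem_centralizer_iff.mp (hWle (Subgroup.mem_subgroupOf.mp hd)).2 t rfl
  have hCD : Subgroup.centralizer ({tX} : Set ↥X) ≤
      Subgroup.normalizer ((W.subgroupOf X : Subgroup ↥X) : Set ↥X) := by
    intro c hc
    rw [mem_normalizer_subgroupOf_iff hWX c]
    have hct : t * (c : G) = (c : G) * t := by
      have := Subgroup.mem_centralizer_iff.mp hc tX rfl
      rw [htX'] at this
      exact congrArg Subtype.val this
    rcases hor (c : G) c.2 with h | h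
    · have hc1 : (c : G) ∈ Subgroup.centralizer ({t} : Set G) := by
        rw [Subgroup.mem_centralizer_iff]
        intro y hy
        rw [Set.mem_singleton_iff] at hy
        rw [hy]; exact hct
      exact hWN ⟨h, hc1⟩
    · have hc1 : (c : G) * t ∈ Subgroup.centralizer ({t} : Set G) := by
        rw [Subgroup.mem_centralizer_iff]
        intro y hy
        rw [Set.mem_singleton_iff] at hy
        rw [hy, ← mul_assoc, hct]
      have h1 : (c : G) * t ∈ Subgroup.normalizer (W : Set G) := hWN ⟨h, hc1⟩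
      have e : (c : G) = ((c : G) * t) * t⁻¹ := by group
      rw [e]; exact Subgroup.mul_mem _ h1 (Subgroup.inv_mem _ htW)
  have hYX : Y ≤ X := hY.trans hWX
  have hYD : Y.subgroupOf X ≤ W.subgroupOf X := fun y hy =>
    Subgroup.mem_subgroupOf.mpr (hY (Subgroup.mem_subgroupOf.mp hy))
  have hY1' : Y.subgroupOf X ≠ ⊥ := by
    intro h
    apply hY1
    rw [eq_bot_iff]
    intro y hy
    have h1 : (⟨y, hYX hy⟩ : ↥X) ∈ Y.subgroupOf X := Subgroup.mem_subgroupOf.mpr hy
    rw [h, Subgroup.mem_bot] at h1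
    rw [Subgroup.mem_bot]; exact congrArg Subtype.val h1
  obtain ⟨L, hL, htL, hYL, htL', hYL'⟩ := exists_component_normalized_not_centralized 2 hOX tX htXo
    (W.subgroupOf X) hDcard hDC hCD (Y.subgroupOf X) hYD hY1'
  -- Step 3: `L ≤ H`
  have hcommX : commutator ↥X ≤ H.subgroupOf X := by
    rw [commutator_def, Subgroup.commutator_le]
    intro a _ b _
    rw [Subgroup.mem_subgroupOf]
    have e : ((⁅a, b⁆ : ↥X) : G) = ((a : G) * b) * ((a : G) * b) *
        ((b : G)⁻¹ * ((a : G)⁻¹ * (a : G)⁻¹) * (b : G)⁻¹⁻¹) * ((b : G)⁻¹ * (b : G)⁻¹) := by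
      simp only [commutatorElement_def, Subgroup.coe_mul, Subgroup.coe_inv]
      group
    rw [e]
    refine H.mul_mem (H.mul_mem (hsq _ (X.mul_mem a.2 b.2)) ?_) (hsq _ (X.inv_mem b.2))
    exact (Subgroup.mem_normalizer_iff.mp (hXN (X.inv_mem b.2)) _).mp (hsq _ (X.inv_mem a.2))
  have hLH : L ≤ H.subgroupOf X := by
    have hperf : ⁅L, L⁆ = L := Subgroup.isPerfect_iff.mp hL.2.1
    rw [← hperf]
    refine (Subgroup.commutator_mono le_top le_top).trans ?_
    rw [← commutator_def]; exact hcommX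
  -- Step 4: pull back to `H`
  have hEL : (L.comap (Subgroup.inclusion hHX)).map (Subgroup.inclusion hHX) = L :=
    Subgroup.map_comap_eq_self (by rw [Subgroup.inclusion_range]; exact hLH)
  refine ⟨L.comap (Subgroup.inclusion hHX), ⟨hL.1.comap _, ?_⟩, ?_⟩
  · have e1 : ↥(L.comap (Subgroup.inclusion hHX)) ≃*
        ↥((L.comap (Subgroup.inclusion hHX)).map (Subgroup.inclusion hHX)) :=
      Subgroup.equivMapOfInjective _ _ (Subgroup.inclusion_injective hHX)
    have e2 : ↥((L.comap (Subgroup.inclusion hHX)).map (Subgroup.inclusion hHX)) ≃* ↥L :=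
      MulEquiv.subgroupCongr hEL
    exact isQuasisimple_of_mulEquiv (e1.trans e2).symm hL.2
  have hEG : (L.comap (Subgroup.inclusion hHX)).map H.subtype = L.map X.subtype := by
    rw [← Subgroup.subtype_comp_inclusion hHX, ← Subgroup.map_map, hEL]
  rw [hEG]
  have hLG : (L.map X.subtype).subgroupOf X = L :=
    Subgroup.comap_map_eq_self_of_injective X.subtype_injective L
  have hLGX : L.map X.subtype ≤ X := Subgroup.map_subtype_le L
  have hnorm : ∀ c : ↥X, c ∈ Subgroup.normalizer (L : Set ↥X) →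
      (c : G) ∈ Subgroup.normalizer ((L.map X.subtype : Subgroup G) : Set G) := by
    intro c hc
    rw [← mem_normalizer_subgroupOf_iff hLGX c, hLG]; exact hc
  refine ⟨?_, ?_, ?_, ?_⟩
  · rw [Cfsg.Agent.Lib.Helper16.map_conj_eq_self_iff]
    have := hnorm tX htL
    rwa [htX'] at this
  · intro y hy
    exact hnorm ⟨y, hYX hy⟩ (hYL (Subgroup.mem_subgroupOf.mpr hy))
  · intro hc
    apply htL'
    rw [Subgroup.mem_centralizer_iff]
    intro l hl
    apply Subtype.ext
    rw [htX']
    exact Subgroup.mem_centralizer_iff.mp hc (l : G) ⟨l, hl, rfl⟩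
  · intro hc
    apply hYL'
    intro y hy
    rw [Subgroup.mem_centralizer_iff]
    intro l hl
    apply Subtype.ext
    exact Subgroup.mem_centralizer_iff.mp (hc (Subgroup.mem_subgroupOf.mp hy)) (l : G)
      ⟨l, hl, rfl⟩

end relative

end Cfsg.Agent.Lib.Helper20
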