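import Cfsg.Agent.Lib.Helper20.LBalance7

/-!
`L_{p'}`-balance type lemmas, part 8 (helper20): the chain argument of `LBalance7` for an
arbitrary surjection with kernel `C_H(L)`.
-/

set_option autoImplicit false

namespace Cfsg.Agent.Lib.Helper20

open scoped commutatorElement
open Cfsg

section general

variable {G : Type*} [Group G]

/-- **Chain lemma.**  `O_{p'}(G) = 1`, `x` of order `p`, `D'` a `p'`-subgroup of `C_G(x)` normalized
by `C_G(x)`, `L` a component, `H = L B` with `x ∈ B ≤ C_G(x) ∩ N_G(L)`, and `π` a surjection from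
`H` with kernel `C_H(L)`.  Then the image of `D' ∩ H` lies in `O_{p'}(C(π x))`. -/
theorem map_le_centralizerPPrimeCore_of_chain [Finite G] (p : ℕ) [hp : Fact p.Prime]
    (hO : pPrimeCore p G = ⊥) (x : G) (hx : orderOf x = p)
    (D' : Subgroup G) (hDcard' : (Nat.card D').Coprime p)
    (hDC' : D' ≤ Subgroup.centralizer ({x} : Set G))
    (hCD' : Subgroup.centralizer ({x} : Set G) ≤ Subgroup.normalizer (D' : Set G))
    (L : Subgroup G) (hL : IsComponent L)
    (B : Subgroup G) (hxB : x ∈ B) (hBN : B ≤ Subgroup.normalizer (L : Set G))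
    (hBC : B ≤ Subgroup.centralizer ({x} : Set G))
    (H : Subgroup G) (hH : H = L ⊔ B)
    {Q : Type*} [Group Q] [Finite Q] (π : ↥H →* Q) (hπsurj : Function.Surjective π)
    (hπker : ∀ g : ↥H, π g = 1 ↔ (g : G) ∈ Subgroup.centralizer (L : Set G))
    (xH : ↥H) (hxH' : (xH : G) = x) :
    ((D' ⊓ H).subgroupOf H).map π ≤ centralizerPPrimeCore p (π xH) := by
  have hxL : x ∈ Subgroup.normalizer (L : Set G) := hBN hxB
  have hxx : x ∈ Subgroup.centralizer ({x} : Set G) := hBC hxB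
  have hLH : L ≤ H := by rw [hH]; exact le_sup_left
  have hBH : B ≤ H := by rw [hH]; exact le_sup_right
  have hxH : x ∈ H := hBH hxB
  have hHN : H ≤ Subgroup.normalizer (L : Set G) := by
    rw [hH]; exact sup_le Subgroup.le_normalizer hBN
  have hNC : Subgroup.normalizer (L : Set G) ≤
      Subgroup.normalizer ((Subgroup.centralizer (L : Set G) : Subgroup G) : Set G) :=
    Cfsg.Agent.Lib.Helper16.normalizer_le_normalizer_centralizer L
  obtain ⟨D, hD⟩ : ∃ D : Subgroup G, D = D' ⊓ H := ⟨_, rfl⟩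
  rw [← hD]
  have hDH : D ≤ H := by rw [hD]; exact inf_le_right
  have hDD' : D ≤ D' := by rw [hD]; exact inf_le_left
  have hDC : D ≤ Subgroup.centralizer ({x} : Set G) := hDD'.trans hDC'
  have hDcard : (Nat.card D).Coprime p :=
    Nat.Coprime.coprime_dvd_left (Subgroup.card_dvd_of_le hDD') hDcard'
  have hstruct : ∀ g ∈ H, ∃ l ∈ L, ∃ b ∈ B, g = l * b := by
    intro g hg
    have h1 : g ∈ ((L ⊔ B : Subgroup G) : Set G) := hH ▸ hg
    rw [Subgroup.coe_mul_of_right_le_normalizer_left L B hBN] at h1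
    obtain ⟨l, hl, b, hb, rfl⟩ := Set.mem_mul.mp h1
    exact ⟨l, hl, b, hb, rfl⟩
  -- the subgroup `K₀`
  obtain ⟨Z, hZ⟩ : ∃ Z : Subgroup G, Z = L ⊓ Subgroup.centralizer (L : Set G) := ⟨_, rfl⟩
  have hZQ : Z ≤ pCore p G := by rw [hZ]; exact component_inf_centralizer_le_pCore hO L hL
  have hLZ : L ≤ Subgroup.centralizer (Z : Set G) := by
    rw [← Subgroup.le_centralizer_iff, hZ]; exact inf_le_right
  have hDQ : D' ≤ Subgroup.centralizer (pCore p G : Set G) := by
    have hzC := centralizer_zpowers_eq_centralizer_singleton x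
    exact le_centralizer_pCore_of_pPrime (Subgroup.zpowers x)
      (isPGroup_zpowers_of_orderOf_eq x hx) D' hDcard'
      (by rw [hzC]; exact hDC') (by rw [hzC]; exact hCD')
  have hDZ : D ≤ Subgroup.centralizer (Z : Set G) :=
    hDD'.trans (hDQ.trans (Subgroup.centralizer_le (by exact_mod_cast hZQ)))
  obtain ⟨K₀, hK₀⟩ : ∃ K₀ : Subgroup G, K₀ = H ⊓ Subgroup.centralizer ({x} : Set G) ⊓
    Subgroup.centralizer (Z : Set G) := ⟨_, rfl⟩
  have hDK : D ≤ K₀ := by rw [hK₀]; exact le_inf (le_inf hDH hDC) hDZ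
  have hK₀H : K₀ ≤ H := by rw [hK₀]; exact inf_le_left.trans inf_le_left
  have hK₀C : K₀ ≤ Subgroup.centralizer ({x} : Set G) := by
    rw [hK₀]; exact inf_le_left.trans inf_le_right
  have hK₀Z : K₀ ≤ Subgroup.centralizer (Z : Set G) := by rw [hK₀]; exact inf_le_right
  have hK₀D : K₀ ≤ Subgroup.normalizer (D : Set G) := by
    rw [hD]
    intro k hk
    exact Subgroup.inf_normalizer_le_normalizer_inf
      ⟨hCD' (hK₀C hk), Subgroup.le_normalizer (hK₀H hk)⟩
  have hNZ : Subgroup.normalizer (L : Set G) ≤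
      Subgroup.normalizer ((Subgroup.centralizer (Z : Set G) : Subgroup G) : Set G) := by
    intro g hg
    apply Cfsg.Agent.Lib.Helper16.normalizer_le_normalizer_centralizer Z
    rw [hZ]
    exact Subgroup.inf_normalizer_le_normalizer_inf ⟨hg, hNC hg⟩
  have hBK : B ≤ Subgroup.normalizer (K₀ : Set G) := by
    intro b hb
    rw [hK₀]
    apply Subgroup.inf_normalizer_le_normalizer_inf
    exact ⟨Subgroup.inf_normalizer_le_normalizer_inf
      ⟨Subgroup.le_normalizer (hBH hb), Subgroup.le_normalizer (hBC hb)⟩, hNZ (hBN hb)⟩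
  have hL₁K : ∀ l ∈ L, ⁅x, l⁆ ∈ Subgroup.centralizer (L : Set G) →
      l ∈ Subgroup.normalizer (K₀ : Set G) := by
    intro l hl hzc
    apply mem_normalizer_of_map_conj_le
    rintro _ ⟨c, hc, rfl⟩
    show l * c * l⁻¹ ∈ K₀
    have hcZ : l * c * l⁻¹ ∈ Subgroup.centralizer (Z : Set G) :=
      Subgroup.mul_mem _ (Subgroup.mul_mem _ (hLZ hl) (hK₀Z hc)) (Subgroup.inv_mem _ (hLZ hl))
    obtain ⟨z, hz⟩ : ∃ z : G, z = ⁅x, l⁆ := ⟨_, rfl⟩
    have hzZ : z ∈ Z := by
      rw [hZ, hz]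
      refine ⟨?_, hzc⟩
      rw [commutatorElement_def]
      exact L.mul_mem ((Subgroup.mem_normalizer_iff.mp hxL l).mp hl) (L.inv_mem hl)
    rw [commutatorElement_def] at hz
    have hxc : x * c * x⁻¹ = c := by
      have := Subgroup.mem_centralizer_iff.mp (hK₀C hc) x rfl
      rw [this, mul_inv_cancel_right]
    have e1 : x * (l * c * l⁻¹) * x⁻¹ = z * (l * (x * c * x⁻¹) * l⁻¹) * z⁻¹ := by
      rw [hz]; group
    have e3 : z * (l * c * l⁻¹) = (l * c * l⁻¹) * z :=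
      Subgroup.mem_centralizer_iff.mp hcZ z hzZ
    have e4 : x * (l * c * l⁻¹) * x⁻¹ = l * c * l⁻¹ := by
      rw [e1, hxc, e3, mul_inv_cancel_right]
    have hcx : l * c * l⁻¹ ∈ Subgroup.centralizer ({x} : Set G) := by
      rw [Subgroup.mem_centralizer_iff]
      intro y hy
      rw [Set.mem_singleton_iff] at hy
      rw [hy]
      calc x * (l * c * l⁻¹) = (x * (l * c * l⁻¹) * x⁻¹) * x := by group
        _ = (l * c * l⁻¹) * x := by rw [e4]
    rw [hK₀]
    exact ⟨⟨H.mul_mem (H.mul_mem (hLH hl) (hK₀H hc)) (H.inv_mem (hLH hl)), hcx⟩, hcZ⟩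
  -- the chain `D̄ ≤ X₀ ≤ X`
  obtain ⟨X, hX⟩ : ∃ X : Subgroup Q, X = Subgroup.centralizer {π xH} := ⟨_, rfl⟩
  obtain ⟨X₀, hX₀⟩ : ∃ X₀ : Subgroup Q, X₀ = (K₀.subgroupOf H).map π := ⟨_, rfl⟩
  obtain ⟨Db, hDb⟩ : ∃ Db : Subgroup Q, Db = (D.subgroupOf H).map π := ⟨_, rfl⟩
  rw [← hDb]
  have hmemX : ∀ g : ↥H, (g : G) ∈ Subgroup.centralizer ({x} : Set G) → π g ∈ X := by
    intro g hg
    rw [hX, Subgroup.mem_centralizer_iff]
    intro y hy
    rw [Set.mem_singleton_iff] at hy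
    rw [hy, ← map_mul, ← map_mul]
    congr 1
    apply Subtype.ext
    rw [Subgroup.coe_mul, Subgroup.coe_mul, hxH']
    exact Subgroup.mem_centralizer_iff.mp hg x rfl
  have hDbX₀ : Db ≤ X₀ := by
    rw [hDb, hX₀]
    apply Subgroup.map_mono
    intro d hd
    exact Subgroup.mem_subgroupOf.mpr (hDK (Subgroup.mem_subgroupOf.mp hd))
  have hX₀X : X₀ ≤ X := by
    rw [hX₀]
    rintro _ ⟨k, hk, rfl⟩
    exact hmemX k (hK₀C (Subgroup.mem_subgroupOf.mp hk))
  have hX₀Db : X₀ ≤ Subgroup.normalizer (Db : Set Q) := by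
    rw [hX₀, hDb]
    refine (Subgroup.map_mono ?_).trans (Subgroup.le_normalizer_map _)
    intro k hk
    rw [mem_normalizer_subgroupOf_iff hDH k]
    exact hK₀D (Subgroup.mem_subgroupOf.mp hk)
  have hXX₀ : X ≤ Subgroup.normalizer (X₀ : Set Q) := by
    intro q hq
    obtain ⟨g, rfl⟩ := hπsurj q
    obtain ⟨l, hl, b, hb, hg⟩ := hstruct (g : G) g.2
    have hgl : g = (⟨l, hLH hl⟩ : ↥H) * ⟨b, hBH hb⟩ := Subtype.ext hg
    have hbX : π ⟨b, hBH hb⟩ ∈ X := hmemX _ (hBC hb)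
    have hlX : π ⟨l, hLH hl⟩ ∈ X := by
      have e : π ⟨l, hLH hl⟩ = π g * (π ⟨b, hBH hb⟩)⁻¹ := by
        rw [hgl, map_mul, mul_inv_cancel_right]
      rw [e]; exact X.mul_mem hq (X.inv_mem hbX)
    have hcl : ⁅x, l⁆ ∈ Subgroup.centralizer (L : Set G) := by
      have h1 : π ⁅xH, (⟨l, hLH hl⟩ : ↥H)⁆ = 1 := by
        rw [map_commutatorElement, commutatorElement_eq_one_iff_mul_comm]
        rw [hX] at hlX
        exact Subgroup.mem_centralizer_iff.mp hlX (π xH) rfl
      have h2 := (hπker _).mp h1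
      have e : ((⁅xH, (⟨l, hLH hl⟩ : ↥H)⁆ : ↥H) : G) = ⁅x, l⁆ := by
        simp only [commutatorElement_def, Subgroup.coe_mul, Subgroup.coe_inv, hxH']
      rw [e] at h2
      exact h2
    have hgN : (g : G) ∈ Subgroup.normalizer (K₀ : Set G) := by
      rw [hg]; exact Subgroup.mul_mem _ (hL₁K l hl hcl) (hBK hb)
    rw [hX₀]
    apply Subgroup.le_normalizer_map
    exact ⟨g, (mem_normalizer_subgroupOf_iff hK₀H g).mpr hgN, rfl⟩
  have hsub := isSubnormal_subgroupOf_of_chain Db X₀ X hDbX₀ hX₀X hX₀Db hXX₀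
  have hDbcard : (Nat.card Db).Coprime p := by
    rw [hDb]
    refine Nat.Coprime.coprime_dvd_left (Subgroup.card_map_dvd _ _) ?_
    rw [Nat.card_congr (Subgroup.subgroupOfEquivOfLe hDH).toEquiv]; exact hDcard
  have hDbX : Db ≤ X := hDbX₀.trans hX₀X
  have hcard2 : (Nat.card (Db.subgroupOf X)).Coprime p := by
    rw [Nat.card_congr (Subgroup.subgroupOfEquivOfLe hDbX).toEquiv]; exact hDbcard
  have hle := subnormal_coprime_le_pPrimeCore p _ hsub hcard2
  intro q hq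
  have hqX : q ∈ X := hDbX hq
  have h1 : (⟨q, hqX⟩ : ↥X) ∈ pPrimeCore p ↥X := hle (Subgroup.mem_subgroupOf.mpr hq)
  subst hX
  exact ⟨⟨q, hqX⟩, h1, rfl⟩

/-- If the image of `D` in `H / C_H(L)` lies in a normal `p'`-subgroup then `D` centralizes `L`. -/
theorem le_centralizer_of_map_le_normal_coprime [Finite G] (p : ℕ) [hp : Fact p.Prime]
    (hO : pPrimeCore p G = ⊥) (L : Subgroup G) (hL : IsComponent L) (D : Subgroup G)
    (hDL : D ≤ Subgroup.normalizer (L : Set G)) (H : Subgroup G) (hLH : L ≤ H) (hDH : D ≤ H)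
    {Q : Type*} [Group Q] [Finite Q] (π : ↥H →* Q)
    (hπker : ∀ g : ↥H, π g = 1 ↔ (g : G) ∈ Subgroup.centralizer (L : Set G))
    (Ob : Subgroup Q) (hObn : Ob.Normal) (hObcard : (Nat.card Ob).Coprime p)
    (hDbO : (D.subgroupOf H).map π ≤ Ob) : D ≤ Subgroup.centralizer (L : Set G) := by
  have hstar : ∀ l (hl : l ∈ L), π ⟨l, hLH hl⟩ ∈ Ob → l ∈ Subgroup.centralizer (L : Set G) := by
    obtain ⟨T, hT⟩ : ∃ T : Subgroup G, T = ((Ob.comap π) ⊓ L.subgroupOf H).map H.subtype :=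
      ⟨_, rfl⟩
    have hTmem : ∀ l (hl : l ∈ L), π ⟨l, hLH hl⟩ ∈ Ob → l ∈ T := by
      intro l hl hlO
      rw [hT]
      exact ⟨⟨l, hLH hl⟩, ⟨hlO, Subgroup.mem_subgroupOf.mpr hl⟩, rfl⟩
    have hTL : T ≤ L := by
      rw [hT]
      rintro _ ⟨g, ⟨-, hg⟩, rfl⟩
      exact Subgroup.mem_subgroupOf.mp hg
    have hLT : L ≤ Subgroup.normalizer (T : Set G) := by
      intro l' hl'
      apply mem_normalizer_of_map_conj_le
      rintro _ ⟨_, hg0, rfl⟩
      rw [hT] at hg0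
      obtain ⟨g, ⟨hgO, hgL⟩, rfl⟩ := hg0
      rw [hT]
      refine ⟨(⟨l', hLH hl'⟩ : ↥H) * g * (⟨l', hLH hl'⟩ : ↥H)⁻¹,
        Subgroup.mem_inf.mpr ⟨?_, ?_⟩, rfl⟩
      · rw [Subgroup.mem_comap, map_mul, map_mul, map_inv]
        exact hObn.conj_mem _ hgO _
      · rw [Subgroup.mem_subgroupOf]
        exact L.mul_mem (L.mul_mem hl' (Subgroup.mem_subgroupOf.mp hgL)) (L.inv_mem hl')
    have hTn : (T.subgroupOf L).Normal :=
      (Subgroup.normal_subgroupOf_iff_le_normalizer hTL).mpr hLT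
    rcases quasisimple_normal_top_or_le_center hL.2 _ hTn with htop | hcen
    · exfalso
      rw [Subgroup.subgroupOf_eq_top] at htop
      obtain ⟨t, htL, ⟨e, hte⟩, htc, -⟩ :=
        exists_pElement_central_mod hO ⊥ IsPGroup.of_bot L hL L le_rfl bot_le
      have h1 := htop htL
      rw [hT] at h1
      obtain ⟨g, ⟨hgO, -⟩, hgt⟩ := h1
      have hgO' : π g ∈ Ob := hgO
      have hc := orderOf_coprime_of_mem hObcard hgO'
      have hpow : (π g) ^ (p ^ e) = 1 := by
        have h2 : g ^ (p ^ e) = 1 := by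
          apply Subtype.ext
          rw [Subgroup.coe_pow, Subgroup.coe_one]
          have : (g : G) = t := hgt
          rw [this, ← hte]; exact pow_orderOf_eq_one t
        rw [← map_pow, h2, map_one]
      have hd := orderOf_dvd_of_pow_eq_one hpow
      have h3 := Nat.Coprime.eq_one_of_dvd (Nat.Coprime.pow_right e hc) hd
      have h4 : π g = 1 := orderOf_eq_one_iff.mp h3
      have h5 := (hπker g).mp h4
      have : (g : G) = t := hgt
      rw [this] at h5
      exact htc h5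
    · intro l hl hlO
      have h1 : (⟨l, hl⟩ : ↥L) ∈ T.subgroupOf L := Subgroup.mem_subgroupOf.mpr (hTmem l hl hlO)
      have h2 := hcen h1
      rw [Subgroup.mem_center_iff] at h2
      rw [Subgroup.mem_centralizer_iff]
      intro l' hl'
      exact congrArg Subtype.val (h2 ⟨l', hl'⟩)
  have hfinal : ⁅L, D⁆ ≤ Subgroup.centralizer (L : Set G) := by
    rw [Subgroup.commutator_le]
    intro l hl d hd
    have hcL : ⁅l, d⁆ ∈ L := by
      have e : ⁅l, d⁆ = l * (d * l⁻¹ * d⁻¹) := by rw [commutatorElement_def]; group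
      rw [e]
      exact L.mul_mem hl ((Subgroup.mem_normalizer_iff.mp (hDL hd) l⁻¹).mp (L.inv_mem hl))
    apply hstar _ hcL
    have hdO : π ⟨d, hDH hd⟩ ∈ Ob := by
      apply hDbO
      exact ⟨⟨d, hDH hd⟩, Subgroup.mem_subgroupOf.mpr hd, rfl⟩
    have e : (⟨⁅l, d⁆, hLH hcL⟩ : ↥H) = ⁅(⟨l, hLH hl⟩ : ↥H), (⟨d, hDH hd⟩ : ↥H)⁆ := by
      apply Subtype.ext; rfl
    rw [e, map_commutatorElement, commutatorElement_def]
    exact Ob.mul_mem (hObn.conj_mem _ hdO _) (Ob.inv_mem hdO)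
  rcases commutator_eq_self_or_eq_bot L hL D hDL with h1 | h1
  · exfalso
    rw [h1] at hfinal
    have h2 : ⁅L, L⁆ = ⊥ := Subgroup.commutator_eq_bot_iff_le_centralizer.mpr hfinal
    rw [Subgroup.isPerfect_iff.mp hL.2.1] at h2
    have := isQuasisimple_nontrivial hL.2
    rw [h2] at this
    exact not_nontrivial _ this
  · rw [Subgroup.commutator_comm, Subgroup.commutator_eq_bot_iff_le_centralizer] at h1
    exact h1

end general

end Cfsg.Agent.Lib.Helper20
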