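import Cfsg.Agent.Lib.Helper20.LBalance8

/-!
`L_{p'}`-balance type lemmas, part 9 (helper20): the action of `H ≤ N_G(L)` on `L / Z(L)` as a
homomorphism to `MulAut (L ⧸ Z(L))`, its kernel and range.
-/

set_option autoImplicit false

namespace Cfsg.Agent.Lib.Helper20

open scoped commutatorElement
open Cfsg

section autquot

variable {K : Type*} [Group K]

theorem center_map_mulAut (e : MulAut K) :
    (Subgroup.center K).map (e : K ≃* K).toMonoidHom = Subgroup.center K :=
  Subgroup.characteristic_iff_map_eq.mp inferInstance e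

/-- The automorphism of `K ⧸ Z(K)` induced by an automorphism of `K`. -/
def autCenterQuot : MulAut K →* MulAut (K ⧸ Subgroup.center K) :=
  MonoidHom.mk' (fun e => QuotientGroup.congr (Subgroup.center K) (Subgroup.center K) e
    (center_map_mulAut e)) (by
    intro e₁ e₂
    ext q
    obtain ⟨k, rfl⟩ := QuotientGroup.mk_surjective q
    rfl)

theorem autCenterQuot_apply (e : MulAut K) (k : K) :
    autCenterQuot e (QuotientGroup.mk k : K ⧸ Subgroup.center K) =
      (QuotientGroup.mk (e k) : K ⧸ Subgroup.center K) := rfl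

end autquot

section conj

variable {G : Type*} [Group G]

/-- Conjugation action of `H ≤ N_G(L)` on `L`. -/
def conjAutOfLeNormalizer (L H : Subgroup G) (hHN : H ≤ Subgroup.normalizer (L : Set G)) :
    ↥H →* MulAut ↥L :=
  MonoidHom.mk' (fun h =>
    { toFun := fun l => ⟨(h : G) * l * (h : G)⁻¹,
        (Subgroup.mem_normalizer_iff.mp (hHN h.2) l).mp l.2⟩
      invFun := fun l => ⟨(h : G)⁻¹ * l * (h : G), by
        have := (Subgroup.mem_normalizer_iff.mp (Subgroup.inv_mem _ (hHN h.2)) l).mp l.2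
        rwa [inv_inv] at this⟩
      left_inv := fun l => Subtype.ext (by simp [mul_assoc])
      right_inv := fun l => Subtype.ext (by simp [mul_assoc])
      map_mul' := fun a b => Subtype.ext (by simp [mul_assoc]) })
    (by
      intro h₁ h₂
      ext l
      simp [mul_assoc, MulAut.mul_apply])

theorem conjAutOfLeNormalizer_apply (L H : Subgroup G)
    (hHN : H ≤ Subgroup.normalizer (L : Set G)) (h : ↥H) (l : ↥L) :
    ((conjAutOfLeNormalizer L H hHN h) l : G) = (h : G) * l * (h : G)⁻¹ := rfl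

/-- The action of `H ≤ N_G(L)` on `L ⧸ Z(L)`. -/
def actCenterQuot (L H : Subgroup G) (hHN : H ≤ Subgroup.normalizer (L : Set G)) :
    ↥H →* MulAut (↥L ⧸ Subgroup.center ↥L) :=
  autCenterQuot.comp (conjAutOfLeNormalizer L H hHN)

theorem actCenterQuot_apply (L H : Subgroup G) (hHN : H ≤ Subgroup.normalizer (L : Set G))
    (h : ↥H) (l : ↥L) :
    actCenterQuot L H hHN h (QuotientGroup.mk l : ↥L ⧸ Subgroup.center ↥L) =
      (QuotientGroup.mk (conjAutOfLeNormalizer L H hHN h l) : ↥L ⧸ Subgroup.center ↥L) := rfl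

theorem actCenterQuot_eq_one_of_mem_centralizer (L H : Subgroup G)
    (hHN : H ≤ Subgroup.normalizer (L : Set G)) (h : ↥H)
    (hh : (h : G) ∈ Subgroup.centralizer (L : Set G)) : actCenterQuot L H hHN h = 1 := by
  ext q
  obtain ⟨l, rfl⟩ := QuotientGroup.mk_surjective q
  rw [actCenterQuot_apply, MulAut.one_apply]
  congr 1
  apply Subtype.ext
  rw [conjAutOfLeNormalizer_apply]
  have := Subgroup.mem_centralizer_iff.mp hh (l : G) l.2
  rw [← this, mul_inv_cancel_right]

theorem commutator_mem_centralizer_of_actCenterQuot_eq_one (L H : Subgroup G)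
    (hHN : H ≤ Subgroup.normalizer (L : Set G)) (g : ↥H) (hg : actCenterQuot L H hHN g = 1)
    (l : G) (hl : l ∈ L) : ⁅l, (g : G)⁆ ∈ L ⊓ Subgroup.centralizer (L : Set G) := by
  have hgl : (g : G) * l⁻¹ * (g : G)⁻¹ ∈ L :=
    (Subgroup.mem_normalizer_iff.mp (hHN g.2) l⁻¹).mp (L.inv_mem hl)
  have hcL : ⁅l, (g : G)⁆ ∈ L := by
    have e : ⁅l, (g : G)⁆ = l * ((g : G) * l⁻¹ * (g : G)⁻¹) := by
      rw [commutatorElement_def]; group
    rw [e]; exact L.mul_mem hl hgl
  refine Subgroup.mem_inf.mpr ⟨hcL, ?_⟩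
  have h1 : actCenterQuot L H hHN g (QuotientGroup.mk (⟨l⁻¹, L.inv_mem hl⟩ : ↥L)) =
      (QuotientGroup.mk (⟨l⁻¹, L.inv_mem hl⟩ : ↥L) : ↥L ⧸ Subgroup.center ↥L) := by
    rw [hg, MulAut.one_apply]
  rw [actCenterQuot_apply, QuotientGroup.eq] at h1
  rw [Subgroup.mem_center_iff] at h1
  rw [Subgroup.mem_centralizer_iff]
  intro l' hl'
  have h2 := congrArg Subtype.val (h1 ⟨l', hl'⟩)
  have e : ⁅l, (g : G)⁆ = (((conjAutOfLeNormalizer L H hHN g ⟨l⁻¹, L.inv_mem hl⟩)⁻¹ *
      (⟨l⁻¹, L.inv_mem hl⟩ : ↥L) : ↥L) : G)⁻¹ := by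
    simp only [Subgroup.coe_mul, Subgroup.coe_inv, conjAutOfLeNormalizer_apply,
      commutatorElement_def]
    group
  rw [e]
  simp only [Subgroup.coe_mul] at h2
  have h3 : Commute l' (((conjAutOfLeNormalizer L H hHN g ⟨l⁻¹, L.inv_mem hl⟩)⁻¹ *
      (⟨l⁻¹, L.inv_mem hl⟩ : ↥L) : ↥L) : G) := by
    rw [Subgroup.coe_mul]; exact h2
  exact h3.inv_right.eq

theorem actCenterQuot_eq_one_iff [Finite G] (L H : Subgroup G) (hL : IsComponent L)
    (hHN : H ≤ Subgroup.normalizer (L : Set G)) (h : ↥H) :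
    actCenterQuot L H hHN h = 1 ↔ (h : G) ∈ Subgroup.centralizer (L : Set G) := by
  constructor
  · intro hh
    have hz : Subgroup.zpowers (h : G) ≤ Subgroup.normalizer (L : Set G) := by
      rw [Subgroup.zpowers_le]; exact hHN h.2
    have hle : ⁅L, Subgroup.zpowers (h : G)⁆ ≤ L ⊓ Subgroup.centralizer (L : Set G) := by
      rw [Subgroup.commutator_le]
      intro l hl g hg
      obtain ⟨k, rfl⟩ := Subgroup.mem_zpowers_iff.mp hg
      have h1 : actCenterQuot L H hHN (h ^ k) = 1 := by rw [map_zpow, hh, one_zpow]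
      have := commutator_mem_centralizer_of_actCenterQuot_eq_one L H hHN (h ^ k) h1 l hl
      rwa [Subgroup.coe_zpow] at this
    rcases commutator_eq_self_or_eq_bot L hL _ hz with h1 | h1
    · exfalso
      rw [h1] at hle
      have h2 : ⁅L, L⁆ = ⊥ :=
        Subgroup.commutator_eq_bot_iff_le_centralizer.mpr (hle.trans inf_le_right)
      rw [Subgroup.isPerfect_iff.mp hL.2.1] at h2
      have := isQuasisimple_nontrivial hL.2
      rw [h2] at this
      exact not_nontrivial _ this
    · rw [Subgroup.commutator_comm, Subgroup.commutator_eq_bot_iff_le_centralizer] at h1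
      exact h1 (Subgroup.mem_zpowers _)
  · exact actCenterQuot_eq_one_of_mem_centralizer L H hHN h

theorem conj_range_le_actCenterQuot_range (L H : Subgroup G) (hLH : L ≤ H)
    (hHN : H ≤ Subgroup.normalizer (L : Set G)) :
    (MulAut.conj : (↥L ⧸ Subgroup.center ↥L) →* MulAut (↥L ⧸ Subgroup.center ↥L)).range ≤
      (actCenterQuot L H hHN).range := by
  rintro _ ⟨s, rfl⟩
  obtain ⟨l, rfl⟩ := QuotientGroup.mk_surjective s
  refine ⟨⟨(l : G), hLH l.2⟩, ?_⟩
  ext q
  obtain ⟨l', rfl⟩ := QuotientGroup.mk_surjective q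
  rw [actCenterQuot_apply, MulAut.conj_apply]
  rw [← QuotientGroup.mk_inv, ← QuotientGroup.mk_mul, ← QuotientGroup.mk_mul]
  congr 1

end conj

end Cfsg.Agent.Lib.Helper20
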