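import Cfsg.Agent.Lib.Helper20.WielandtSylow
import Cfsg.Agent.Lib.Helper16.ThompsonAxB
import Cfsg.Agent.Lib.Helper20.PLocal

/-!
`L_{p'}`-balance type lemmas: elements of `O_{p'}` and of the `p`-layer of a `p`-local subgroup
normalize the components of a group with `O_{p'}(G) = 1` (helper20).
-/

set_option autoImplicit false

namespace Cfsg.Agent.Lib.Helper20

open scoped commutatorElement
open Cfsg

section lbal

variable {G : Type*} [Group G]

/-- A central `p`-subgroup of `p'`-index in a perfect group is trivial (transfer). -/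
theorem eq_bot_of_isPGroup_le_center_of_perfect [Finite G] {p : ℕ} [hp : Fact p.Prime]
    {L R : Subgroup G} (hperf : Group.IsPerfect L) (hRL : R ≤ L) (hR : IsPGroup p R)
    (hidx : ¬ p ∣ R.relIndex L) (hcent : R ≤ Subgroup.centralizer (L : Set G)) : R = ⊥ := by
  rw [eq_bot_iff]
  intro z hz
  rw [Subgroup.mem_bot]
  obtain ⟨S, hS⟩ : ∃ S : Subgroup ↥L, S = R.subgroupOf L := ⟨_, rfl⟩
  have hzc : (⟨z, hRL hz⟩ : ↥L) ∈ Subgroup.center ↥L := by
    rw [Subgroup.mem_center_iff]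
    rintro ⟨g, hg⟩
    apply Subtype.ext
    exact Subgroup.mem_centralizer_iff.mp (hcent hz) g hg
  have hzd : (⟨z, hRL hz⟩ : ↥L) ∈ commutator ↥L := by
    rw [Group.isPerfect_def.mp hperf]; exact Subgroup.mem_top _
  have h1 := pow_index_mem_commutator_of_mem_center S hzc hzd
  have hSS : ⁅S, S⁆ = ⊥ := by
    rw [Subgroup.commutator_eq_bot_iff_le_centralizer]
    rintro ⟨a, haL⟩ ha
    rw [Subgroup.mem_centralizer_iff]
    rintro ⟨b, hbL⟩ hb
    apply Subtype.ext
    rw [hS] at ha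
    exact (Subgroup.mem_centralizer_iff.mp (hcent ha) b hbL)
  rw [hSS, Subgroup.mem_bot] at h1
  have h2 : z ^ S.index = 1 := by
    have := congrArg Subtype.val h1
    simpa using this
  have hcop : (S.index).Coprime (orderOf z) := by
    obtain ⟨k, hk⟩ := (IsPGroup.iff_orderOf.mp hR) ⟨z, hz⟩
    rw [Subgroup.orderOf_mk] at hk
    rw [hk, hS]
    exact Nat.Coprime.pow_right _ ((Nat.Prime.coprime_iff_not_dvd hp.out).mpr hidx).symm
  obtain ⟨m, hm⟩ := exists_pow_eq_self_of_coprime hcop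
  rw [← hm, h2, one_pow]

/-- If `k`, `y` commute and `L^k = L^y` then `L^(k^j) = L^(y^j)`. -/
theorem map_conj_pow_eq_of_commute (L : Subgroup G) {k y : G} (hc : Commute k y)
    (h : L.map (MulAut.conj k).toMonoidHom = L.map (MulAut.conj y).toMonoidHom) (j : ℕ) :
    L.map (MulAut.conj (k ^ j)).toMonoidHom = L.map (MulAut.conj (y ^ j)).toMonoidHom := by
  induction j with
  | zero => simp
  | succ j ih =>
    calc L.map (MulAut.conj (k ^ (j + 1))).toMonoidHom
        = (L.map (MulAut.conj (k ^ j)).toMonoidHom).map (MulAut.conj k).toMonoidHom := by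
          rw [map_conj_map_conj, ← pow_succ']
      _ = (L.map (MulAut.conj (y ^ j)).toMonoidHom).map (MulAut.conj k).toMonoidHom := by rw [ih]
      _ = (L.map (MulAut.conj k).toMonoidHom).map (MulAut.conj (y ^ j)).toMonoidHom := by
          rw [map_conj_map_conj, map_conj_map_conj, (hc.pow_right j).eq]
      _ = (L.map (MulAut.conj y).toMonoidHom).map (MulAut.conj (y ^ j)).toMonoidHom := by rw [h]
      _ = L.map (MulAut.conj (y ^ (j + 1))).toMonoidHom := by
          rw [map_conj_map_conj, ← pow_succ]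

/-- A `p'`-element `k` commuting with the `p`-element `y` and with `L^k = L^y` normalizes `L`. -/
theorem map_conj_eq_self_of_eq_map_conj {p : ℕ} [hp : Fact p.Prime] (L : Subgroup G) {k y : G}
    (hc : Commute k y) (hk : (orderOf k).Coprime p) (hy : ∃ e : ℕ, orderOf y = p ^ e)
    (h : L.map (MulAut.conj k).toMonoidHom = L.map (MulAut.conj y).toMonoidHom) :
    L.map (MulAut.conj k).toMonoidHom = L := by
  have h1 := map_conj_pow_eq_of_commute L hc h (orderOf k)
  rw [pow_orderOf_eq_one, map_conj_one] at h1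
  obtain ⟨e, he⟩ := hy
  have hcop : (orderOf k).Coprime (orderOf y) := by rw [he]; exact Nat.Coprime.pow_right _ hk
  obtain ⟨m, hm⟩ := exists_pow_eq_self_of_coprime hcop
  have h2 : y ^ orderOf k ∈ Subgroup.normalizer (L : Set G) :=
    (Cfsg.Agent.Lib.Helper16.map_conj_eq_self_iff L _).mp h1.symm
  have h3 : y ∈ Subgroup.normalizer (L : Set G) := by
    rw [← hm]; exact Subgroup.pow_mem _ h2 m
  rw [h, (Cfsg.Agent.Lib.Helper16.map_conj_eq_self_iff L _).mpr h3]

/-- The join of the `P`-conjugates of `L^g`. -/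
def orbJoin (P L : Subgroup G) (g : G) : Subgroup G :=
  ⨆ y : ↥P, L.map (MulAut.conj (g * (y : G))).toMonoidHom

theorem map_conj_orbJoin (P L : Subgroup G) (g k : G) :
    (orbJoin P L g).map (MulAut.conj k).toMonoidHom = orbJoin P L (k * g) := by
  unfold orbJoin
  rw [Subgroup.map_iSup]
  congr 1
  ext y : 1
  rw [map_conj_map_conj, mul_assoc]

theorem map_conj_le_orbJoin (P L : Subgroup G) (g : G) {y : G} (hy : y ∈ P) :
    L.map (MulAut.conj (g * y)).toMonoidHom ≤ orbJoin P L g :=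
  le_iSup (fun y : ↥P => L.map (MulAut.conj (g * (y : G))).toMonoidHom) ⟨y, hy⟩

theorem map_conj_le_orbJoin_self (P L : Subgroup G) (g : G) :
    L.map (MulAut.conj g).toMonoidHom ≤ orbJoin P L g := by
  have := map_conj_le_orbJoin P L g (P.one_mem)
  rwa [mul_one] at this

theorem le_normalizer_orbJoin (P L : Subgroup G) {g : G}
    (hg : g ∈ Subgroup.centralizer (P : Set G)) :
    P ≤ Subgroup.normalizer ((orbJoin P L g : Subgroup G) : Set G) := by
  have e : orbJoin P L g =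
      ⨆ y : ↥P, (L.map (MulAut.conj g).toMonoidHom).map (MulAut.conj (y : G)).toMonoidHom := by
    unfold orbJoin
    congr 1
    ext y : 1
    rw [map_conj_map_conj, Subgroup.mem_centralizer_iff.mp hg y y.2]
  rw [e]
  exact le_normalizer_iSup_map_conj _ _

theorem orbJoin_le_centralizer [Finite G] (P L : Subgroup G) (hL : IsComponent L) (g g' : G)
    (hne : ∀ y ∈ P, ∀ y' ∈ P, L.map (MulAut.conj (g * y)).toMonoidHom ≠
      L.map (MulAut.conj (g' * y')).toMonoidHom) :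
    orbJoin P L g ≤ Subgroup.centralizer ((orbJoin P L g' : Subgroup G) : Set G) := by
  have hcomp : ∀ s : G, IsComponent (L.map (MulAut.conj s).toMonoidHom) := fun s =>
    isComponent_map_mulEquiv (MulAut.conj s) L hL
  unfold orbJoin
  apply iSup_le
  intro y
  rw [Subgroup.le_centralizer_iff]
  apply iSup_le
  intro y'
  have h1 := components_commute _ _ (hcomp (g' * (y' : G))) (hcomp (g * (y : G)))
    (hne y y.2 y' y'.2).symm
  rwa [Subgroup.commutator_eq_bot_iff_le_centralizer] at h1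

/-- In a group with `O_{p'} = 1`: if the `p`-group `P` normalizes `M ≥ L` (`L` a component),
there is a `p`-element `t ∈ M` not centralizing `M` with `[t, P] ≤ Z(M)`. -/
theorem exists_pElement_central_mod [Finite G] {p : ℕ} [hp : Fact p.Prime]
    (hO : pPrimeCore p G = ⊥) (P : Subgroup G) (hP : IsPGroup p P) (L : Subgroup G)
    (hL : IsComponent L) (M : Subgroup G) (hLM : L ≤ M)
    (hPM : P ≤ Subgroup.normalizer (M : Set G)) :
    ∃ t ∈ M, (∃ e : ℕ, orderOf t = p ^ e) ∧ t ∉ Subgroup.centralizer (M : Set G) ∧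
      ∀ y ∈ P, ⁅t, y⁆ ∈ M ⊓ Subgroup.centralizer (M : Set G) := by
  obtain ⟨J, hJ⟩ : ∃ J : Subgroup G, J = P ⊔ M := ⟨_, rfl⟩
  have hPJ : P ≤ J := by rw [hJ]; exact le_sup_left
  have hMJ : M ≤ J := by rw [hJ]; exact le_sup_right
  have hJN : J ≤ Subgroup.normalizer (M : Set G) := by
    rw [hJ]; exact sup_le hPM Subgroup.le_normalizer
  obtain ⟨S₁, hS₁⟩ := IsPGroup.exists_le_sylow (hP.comap_subtype (K := J))
  obtain ⟨S, hS⟩ : ∃ S : Subgroup G, S = (S₁ : Subgroup ↥J).map J.subtype := ⟨_, rfl⟩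
  have hSp : IsPGroup p S := by rw [hS]; exact S₁.2.map _
  have hSJ : S ≤ J := by rw [hS]; exact Subgroup.map_subtype_le _
  have hPS : P ≤ S := by
    rw [hS, ← Subgroup.map_subgroupOf_eq_of_le hPJ]
    exact Subgroup.map_mono hS₁
  have hLJ : L ≤ J := hLM.trans hMJ
  have hLsyl : ¬ p ∣ S.relIndex L := by
    have h1 := Cfsg.Agent.Lib.Helper16.not_dvd_relIndex_sylow_subnormal S₁
      (hL.1.subgroupOf (K := J))
    rw [← Subgroup.relIndex_map_map_of_injective _ _ J.subtype_injective,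
      Subgroup.map_subgroupOf_eq_of_le hLJ, ← hS] at h1
    exact h1
  -- the family of `S`-invariant `p`-subgroups of `M` not centralizing `M`
  let 𝒰 : Set (Subgroup G) := {U | U ≤ M ∧ IsPGroup p U ∧
    S ≤ Subgroup.normalizer (U : Set G) ∧ ¬ U ≤ Subgroup.centralizer (M : Set G)}
  have hT : S ⊓ M ∈ 𝒰 := by
    refine ⟨inf_le_right, hSp.to_le inf_le_left,
      le_normalizer_inf Subgroup.le_normalizer (hSJ.trans hJN), ?_⟩
    intro hTc
    have hRc : S ⊓ L ≤ Subgroup.centralizer (L : Set G) :=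
      ((inf_le_inf_left S hLM).trans hTc).trans
        (Subgroup.centralizer_le (by exact_mod_cast hLM))
    have hRidx : ¬ p ∣ (S ⊓ L).relIndex L := by rwa [Subgroup.inf_relIndex_right]
    have hR := eq_bot_of_isPGroup_le_center_of_perfect hL.2.1 inf_le_right
      (hSp.to_le inf_le_left) hRidx hRc
    rw [hR, Subgroup.relIndex_bot_left] at hRidx
    have hLO : L ≤ pPrimeCore p G := subnormal_coprime_le_pPrimeCore p L hL.1
      ((Nat.Prime.coprime_iff_not_dvd hp.out).mpr hRidx).symm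
    rw [hO, le_bot_iff] at hLO
    have := isQuasisimple_nontrivial hL.2
    rw [hLO] at this
    exact not_nontrivial _ this
  obtain ⟨U₀, ⟨hU₀M, hU₀p, hU₀S, hU₀c⟩, hmin⟩ :=
    WellFounded.has_min (wellFounded_lt (α := Subgroup G)) 𝒰 ⟨_, hT⟩
  have hU₀ne : U₀ ≠ ⊥ := by
    intro h; apply hU₀c; rw [h]; exact bot_le
  have hV := Cfsg.Agent.Lib.Helper16.commutator_lt_of_isPGroup U₀ S hU₀p hSp hU₀S hU₀ne
  have hVc : ⁅U₀, S⁆ ≤ Subgroup.centralizer (M : Set G) := by
    by_contra hVc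
    apply hmin ⁅U₀, S⁆ ⟨hV.le.trans hU₀M, hU₀p.to_le hV.le, ?_, hVc⟩ hV
    exact (le_inf hU₀S Subgroup.le_normalizer).trans
      (Cfsg.Agent.Lib.Helper16.inf_normalizer_le_normalizer_commutator U₀ S)
  obtain ⟨t, htU, htc⟩ := SetLike.not_le_iff_exists.mp hU₀c
  refine ⟨t, hU₀M htU, ?_, htc, ?_⟩
  · obtain ⟨e, he⟩ := (IsPGroup.iff_orderOf.mp hU₀p) ⟨t, htU⟩
    rw [Subgroup.orderOf_mk] at he
    exact ⟨e, he⟩
  · intro y hy
    have h1 : ⁅t, y⁆ ∈ ⁅U₀, S⁆ := Subgroup.commutator_mem_commutator htU (hPS hy)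
    exact ⟨hU₀M (hV.le h1), hVc h1⟩

theorem mem_of_pow_mem_of_coprime (H : Subgroup G) {g : G} {m : ℕ} (h : g ^ m ∈ H)
    (hcop : m.Coprime (orderOf g)) : g ∈ H := by
  obtain ⟨j, hj⟩ := exists_pow_eq_self_of_coprime hcop
  rw [← hj]; exact H.pow_mem h j

/-- `Z(M) ≤ O_p(G)` for a product `M` of `P`-conjugates of a component, when `O_{p'}(G) = 1`. -/
theorem orbJoin_inf_centralizer_le_pCore [Finite G] {p : ℕ} [hp : Fact p.Prime]
    (hO : pPrimeCore p G = ⊥) (P L : Subgroup G) (hL : IsComponent L) (g : G) :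
    orbJoin P L g ⊓ Subgroup.centralizer ((orbJoin P L g : Subgroup G) : Set G) ≤ pCore p G := by
  have hcomp : ∀ s : G, IsComponent (L.map (MulAut.conj s).toMonoidHom) := fun s =>
    isComponent_map_mulEquiv (MulAut.conj s) L hL
  have hME : orbJoin P L g ≤ layer G := iSup_le fun y => component_le_layer _ (hcomp _)
  rintro z ⟨hzM, hzc⟩
  have hzE : z ∈ layer G := hME hzM
  have hcent : layer G ≤ Subgroup.centralizer ({z} : Set G) := by
    apply sSup_le
    intro L' hL'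
    by_cases h : ∃ y ∈ P, L' = L.map (MulAut.conj (g * y)).toMonoidHom
    · obtain ⟨y, hy, rfl⟩ := h
      intro x hx
      rw [Subgroup.mem_centralizer_iff]
      intro w hw
      rw [Set.mem_singleton_iff] at hw
      rw [hw]
      exact (Subgroup.mem_centralizer_iff.mp hzc x (map_conj_le_orbJoin P L g hy hx)).symm
    · push Not at h
      have h1 : orbJoin P L g ≤ Subgroup.centralizer (L' : Set G) := by
        apply iSup_le
        intro y
        have h2 := components_commute _ _ (hcomp (g * (y : G))) hL' (h y y.2).symm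
        rwa [Subgroup.commutator_eq_bot_iff_le_centralizer] at h2
      intro x hx
      rw [Subgroup.mem_centralizer_iff]
      intro w hw
      rw [Set.mem_singleton_iff] at hw
      rw [hw]
      exact (Subgroup.mem_centralizer_iff.mp (h1 hzM) x hx).symm
  have hzF : z ∈ fittingSubgroup G ⊓ layer G := by
    rw [← center_layer_eq_fitting_inf_layer]
    refine ⟨⟨z, hzE⟩, Subgroup.mem_center_iff.mpr ?_, rfl⟩
    rintro ⟨x, hx⟩
    apply Subtype.ext
    exact (Subgroup.mem_centralizer_iff.mp (hcent hx) z rfl).symm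
  have hF : fittingSubgroup G = pCore p G := by
    rw [fitting_eq_pCore_sup_inf_pPrimeCore G p, hO, inf_bot_eq, sup_bot_eq]
  rw [← hF]
  exact hzF.1

theorem mem_centralizer_of_conj_mem_centralizer_map (M : Subgroup G) (k g : G)
    (h : k * g * k⁻¹ ∈ Subgroup.centralizer ((M.map (MulAut.conj k).toMonoidHom : Subgroup G) : Set G)) :
    g ∈ Subgroup.centralizer (M : Set G) := by
  rw [Subgroup.mem_centralizer_iff]
  intro x hx
  have h1 := Subgroup.mem_centralizer_iff.mp h (k * x * k⁻¹) ⟨x, hx, by simp [MulAut.conj_apply]⟩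
  calc x * g = k⁻¹ * ((k * x * k⁻¹) * (k * g * k⁻¹)) * k := by group
    _ = k⁻¹ * ((k * g * k⁻¹) * (k * x * k⁻¹)) * k := by rw [h1]
    _ = g * x := by group

theorem map_conj_congr_left (L : Subgroup G) {a b : G} (c : G)
    (h : L.map (MulAut.conj a).toMonoidHom = L.map (MulAut.conj b).toMonoidHom) :
    L.map (MulAut.conj (c * a)).toMonoidHom = L.map (MulAut.conj (c * b)).toMonoidHom := by
  rw [← map_conj_map_conj, ← map_conj_map_conj, h]

/-- **Main lemma.**  Let `O_{p'}(G) = 1`, `P` a `p`-subgroup, and `k` a `p'`-element centralizing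
`P` and `C_{O_p(G)}(P)` such that `[u, k]` is a `p'`-element for every `u ∈ C_{E(G)}(P)`.
Then `k` normalizes every component of `G`. -/
theorem map_conj_eq_self_of_pPrime [Finite G] {p : ℕ} [hp : Fact p.Prime]
    (hO : pPrimeCore p G = ⊥) (P : Subgroup G) (hP : IsPGroup p P) (k : G)
    (hk : (orderOf k).Coprime p) (hkP : k ∈ Subgroup.centralizer (P : Set G))
    (hkQ : k ∈ Subgroup.centralizer
      ((pCore p G ⊓ Subgroup.centralizer (P : Set G) : Subgroup G) : Set G))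
    (H : ∀ u ∈ layer G ⊓ Subgroup.centralizer (P : Set G), (orderOf ⁅u, k⁆).Coprime p)
    (L : Subgroup G) (hL : IsComponent L) :
    L.map (MulAut.conj k).toMonoidHom = L := by
  have hQn : (pCore p G).Normal := pCore_normal' p
  have hkQ' : k ∈ Subgroup.centralizer (pCore p G : Set G) :=
    Cfsg.Agent.Lib.Helper16.thompson_AxB P (pCore p G) k hP (pCore_isPGroup' p) hk hkP
      (by rw [Subgroup.normalizer_eq_top]; exact le_top)
      (by rw [Subgroup.normalizer_eq_top]; exact Subgroup.mem_top _) hkQ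
  by_contra hne
  have hcomm : ∀ y ∈ P, Commute k y := fun y hy =>
    (Subgroup.mem_centralizer_iff.mp hkP y hy).symm
  have hpel : ∀ y ∈ P, ∃ e : ℕ, orderOf y = p ^ e := by
    intro y hy
    obtain ⟨e, he⟩ := (IsPGroup.iff_orderOf.mp hP) ⟨y, hy⟩
    rw [Subgroup.orderOf_mk] at he
    exact ⟨e, he⟩
  have h1 : ∀ y ∈ P, L.map (MulAut.conj k).toMonoidHom ≠ L.map (MulAut.conj y).toMonoidHom :=
    fun y hy h => hne (map_conj_eq_self_of_eq_map_conj L (hcomm y hy) hk (hpel y hy) h)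
  have h2 : ∀ y ∈ P, ∀ y' ∈ P, L.map (MulAut.conj (k * y)).toMonoidHom ≠
      L.map (MulAut.conj (1 * y')).toMonoidHom := by
    intro y hy y' hy' h
    apply h1 (y⁻¹ * y') (P.mul_mem (P.inv_mem hy) hy')
    have h3 := map_conj_congr_left L y⁻¹ h
    have e1 : y⁻¹ * (k * y) = k := by
      rw [(hcomm y hy).eq]; group
    rwa [e1, one_mul] at h3
  obtain ⟨M₁, hM₁⟩ : ∃ M : Subgroup G, M = orbJoin P L 1 := ⟨_, rfl⟩
  obtain ⟨M₂, hM₂⟩ : ∃ M : Subgroup G, M = orbJoin P L k := ⟨_, rfl⟩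
  obtain ⟨M₃, hM₃⟩ : ∃ M : Subgroup G, M = orbJoin P L (k * k) := ⟨_, rfl⟩
  have hM₁₂ : M₁.map (MulAut.conj k).toMonoidHom = M₂ := by
    rw [hM₁, hM₂, map_conj_orbJoin, mul_one]
  have hM₂₃ : M₂.map (MulAut.conj k).toMonoidHom = M₃ := by
    rw [hM₂, hM₃, map_conj_orbJoin]
  have hLM₁ : L ≤ M₁ := by
    rw [hM₁]
    have := map_conj_le_orbJoin_self P L 1
    rwa [map_conj_one] at this
  have hPM₁ : P ≤ Subgroup.normalizer (M₁ : Set G) := by
    rw [hM₁]; exact le_normalizer_orbJoin P L (Subgroup.one_mem _)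
  have hM₂c : M₂ ≤ Subgroup.centralizer (M₁ : Set G) := by
    rw [hM₁, hM₂]; exact orbJoin_le_centralizer P L hL k 1 h2
  have hM₁c : M₁ ≤ Subgroup.centralizer (M₂ : Set G) := Subgroup.le_centralizer_iff.mp hM₂c
  obtain ⟨t, htM, ⟨e, hte⟩, htc, htP⟩ := exists_pElement_central_mod hO P hP L hL M₁ hLM₁ hPM₁
  have hZ : M₁ ⊓ Subgroup.centralizer (M₁ : Set G) ≤ pCore p G := by
    rw [hM₁]; exact orbJoin_inf_centralizer_le_pCore hO P L hL 1
  obtain ⟨s₂, hs₂⟩ : ∃ s : G, s = k * t⁻¹ * k⁻¹ := ⟨_, rfl⟩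
  obtain ⟨s₃, hs₃⟩ : ∃ s : G, s = k * s₂ * k⁻¹ := ⟨_, rfl⟩
  have hs₂M : s₂ ∈ M₂ := by
    rw [← hM₁₂, hs₂]; exact ⟨t⁻¹, M₁.inv_mem htM, by simp [MulAut.conj_apply]⟩
  have hs₃M : s₃ ∈ M₃ := by
    rw [← hM₂₃, hs₃]; exact ⟨s₂, hs₂M, by simp [MulAut.conj_apply]⟩
  obtain ⟨u, hu⟩ : ∃ u : G, u = t * s₂ := ⟨_, rfl⟩
  have hME : ∀ g : G, orbJoin P L g ≤ layer G := fun g => iSup_le fun y =>
    component_le_layer _ (isComponent_map_mulEquiv (MulAut.conj _) L hL)
  have huE : u ∈ layer G := by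
    rw [hu]
    exact (layer G).mul_mem (hME 1 (hM₁ ▸ htM)) (hME k (hM₂ ▸ hs₂M))
  have huC : u ∈ Subgroup.centralizer (P : Set G) := by
    rw [Subgroup.mem_centralizer_iff]
    intro y hy
    obtain ⟨z, hz⟩ : ∃ z : G, z = ⁅t, y⁆ := ⟨_, rfl⟩
    have hzZ : z ∈ M₁ ⊓ Subgroup.centralizer (M₁ : Set G) := hz ▸ htP y hy
    have hzk : Commute k z := (Subgroup.mem_centralizer_iff.mp hkQ' z (hZ hzZ)).symm
    have hzt : Commute z t := (Subgroup.mem_centralizer_iff.mp hzZ.2 t htM).symm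
    have hzs : Commute z s₂ := (Subgroup.mem_centralizer_iff.mp (hM₂c hs₂M) z hzZ.1)
    have hyk : Commute y k := (hcomm y hy).symm
    rw [commutatorElement_def] at hz
    have hA : y * t * y⁻¹ = z⁻¹ * t := by rw [hz]; group
    have hA' : y * t⁻¹ * y⁻¹ = t⁻¹ * z := by rw [hz]; group
    have hB : y * s₂ * y⁻¹ = s₂ * z := by
      calc y * s₂ * y⁻¹ = (y * k) * t⁻¹ * (y * k)⁻¹ := by rw [hs₂]; group
        _ = (k * y) * t⁻¹ * (k * y)⁻¹ := by rw [hyk.eq]
        _ = k * (y * t⁻¹ * y⁻¹) * k⁻¹ := by group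
        _ = k * (t⁻¹ * z) * k⁻¹ := by rw [hA']
        _ = (k * t⁻¹ * k⁻¹) * (k * z * k⁻¹) := by group
        _ = s₂ * z := by rw [← hs₂, hzk.eq, mul_inv_cancel_right]
    have hC : y * u * y⁻¹ = u := by
      calc y * u * y⁻¹ = (y * t * y⁻¹) * (y * s₂ * y⁻¹) := by rw [hu]; group
        _ = z⁻¹ * t * (s₂ * z) := by rw [hA, hB]
        _ = z⁻¹ * ((t * s₂) * z) := by group
        _ = z⁻¹ * (z * (t * s₂)) := by rw [(hzt.mul_right hzs).eq]
        _ = u := by rw [hu]; group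
    calc y * u = (y * u * y⁻¹) * y := by group
      _ = u * y := by rw [hC]
  have hw := H u ⟨huE, huC⟩
  obtain ⟨m, hm⟩ : ∃ m : ℕ, m = orderOf ⁅u, k⁆ := ⟨_, rfl⟩
  rw [← hm] at hw
  have hweq : ⁅u, k⁆ = t * s₂ * s₃⁻¹ * s₂ := by
    rw [commutatorElement_def, hu, hs₃, hs₂]; group
  have hwm : (t * s₂ * s₃⁻¹ * s₂) ^ m = 1 := by
    rw [← hweq, hm]; exact pow_orderOf_eq_one _
  have hmt : ∀ j : ℕ, j.Coprime p → j.Coprime (orderOf t) := by
    intro j hj; rw [hte]; exact Nat.Coprime.pow_right _ hj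
  by_cases hβ : ∃ y ∈ P, ∃ y' ∈ P, L.map (MulAut.conj (k * k * y)).toMonoidHom =
      L.map (MulAut.conj (1 * y')).toMonoidHom
  · obtain ⟨y, hy, y', hy', h⟩ := hβ
    have hckk : ∀ y ∈ P, Commute (k * k) y := fun y hy => (hcomm y hy).mul_left (hcomm y hy)
    have hkk : L.map (MulAut.conj (k * k)).toMonoidHom = L := by
      have h3 := map_conj_congr_left L y⁻¹ h
      have e1 : y⁻¹ * (k * k * y) = k * k := by
        rw [(hckk y hy).eq]; group
      rw [e1, one_mul] at h3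
      have hyy : y⁻¹ * y' ∈ P := P.mul_mem (P.inv_mem hy) hy'
      refine map_conj_eq_self_of_eq_map_conj L (hckk _ hyy) ?_ (hpel _ hyy) h3
      rw [← pow_two]
      exact Nat.Coprime.coprime_dvd_left (orderOf_pow_dvd 2) hk
    have hp2 : p ≠ 2 := by
      intro hp2
      apply hne
      rw [Cfsg.Agent.Lib.Helper16.map_conj_eq_self_iff]
      have h4 : k ^ 2 ∈ Subgroup.normalizer (L : Set G) := by
        rw [pow_two]; exact (Cfsg.Agent.Lib.Helper16.map_conj_eq_self_iff L _).mp hkk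
      refine mem_of_pow_mem_of_coprime _ h4 ?_
      rw [hp2] at hk
      exact hk.symm
    have h2p : Nat.Coprime 2 p := (Nat.coprime_primes Nat.prime_two hp.out).mpr (Ne.symm hp2)
    have hM₃₁ : M₃ = M₁ := by
      rw [hM₃, hM₁]
      unfold orbJoin
      congr 1
      ext y : 1
      rw [(hckk y y.2).eq, ← map_conj_map_conj, hkk, one_mul]
    rw [hM₃₁] at hs₃M
    have hs₂₃ : Commute s₂ s₃⁻¹ :=
      (Subgroup.mem_centralizer_iff.mp (hM₂c hs₂M) s₃⁻¹ (M₁.inv_mem hs₃M)).symm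
    have hab : Commute (t * s₃⁻¹) (s₂ * s₂) := by
      have := Subgroup.mem_centralizer_iff.mp (hM₂c (M₂.mul_mem hs₂M hs₂M)) (t * s₃⁻¹)
        (M₁.mul_mem htM (M₁.inv_mem hs₃M))
      exact this
    have hweq2 : t * s₂ * s₃⁻¹ * s₂ = (t * s₃⁻¹) * (s₂ * s₂) := by
      rw [mul_assoc t s₂, hs₂₃.eq]; group
    rw [hweq2, hab.mul_pow] at hwm
    have hb : (s₂ * s₂) ^ m ∈ M₁ := by
      have : (s₂ * s₂) ^ m = ((t * s₃⁻¹) ^ m)⁻¹ := eq_inv_of_mul_eq_one_right hwm
      rw [this]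
      exact M₁.inv_mem (M₁.pow_mem (M₁.mul_mem htM (M₁.inv_mem hs₃M)) m)
    have hb2 : k * (t⁻¹) ^ (2 * m) * k⁻¹ ∈
        Subgroup.centralizer ((M₁.map (MulAut.conj k).toMonoidHom : Subgroup G) : Set G) := by
      rw [hM₁₂, ← conj_pow, ← hs₂, pow_mul, pow_two]
      exact hM₁c hb
    have hb3 := mem_centralizer_of_conj_mem_centralizer_map M₁ k _ hb2
    rw [inv_pow] at hb3
    have hb4 : t ^ (2 * m) ∈ Subgroup.centralizer (M₁ : Set G) := by
      have := (Subgroup.centralizer (M₁ : Set G)).inv_mem hb3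
      rwa [inv_inv] at this
    exact htc (mem_of_pow_mem_of_coprime _ hb4 (hmt _ (Nat.Coprime.mul_left h2p hw)))
  · push Not at hβ
    have hM₃c₁ : M₃ ≤ Subgroup.centralizer (M₁ : Set G) := by
      rw [hM₁, hM₃]; exact orbJoin_le_centralizer P L hL (k * k) 1 hβ
    have hc : s₂ * s₃⁻¹ * s₂ ∈ Subgroup.centralizer (M₁ : Set G) :=
      Subgroup.mul_mem _ (Subgroup.mul_mem _ (hM₂c hs₂M) (Subgroup.inv_mem _ (hM₃c₁ hs₃M)))
        (hM₂c hs₂M)
    have htcomm : Commute t (s₂ * s₃⁻¹ * s₂) := Subgroup.mem_centralizer_iff.mp hc t htM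
    have hweq2 : t * s₂ * s₃⁻¹ * s₂ = t * (s₂ * s₃⁻¹ * s₂) := by group
    rw [hweq2, htcomm.mul_pow] at hwm
    have hb : t ^ m ∈ Subgroup.centralizer (M₁ : Set G) := by
      have : t ^ m = ((s₂ * s₃⁻¹ * s₂) ^ m)⁻¹ := eq_inv_of_mul_eq_one_left hwm
      rw [this]
      exact Subgroup.inv_mem _ (Subgroup.pow_mem _ hc m)
    exact htc (mem_of_pow_mem_of_coprime _ hb (hmt _ hw))

end lbal

end Cfsg.Agent.Lib.Helper20
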