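import Cfsg.Agent.Lib.Helper20.LBalance
import Cfsg.Agent.Lib.Helper20.FstarSub

set_option autoImplicit false

namespace Cfsg.Agent.Lib.Helper20

open Cfsg

/-- The image of the layer under a surjection lies in the layer. -/
theorem map_layer_le_of_surjective {G Q : Type*} [Group G] [Group Q] (f : G →* Q)
    (hf : Function.Surjective f) : (layer G).map f ≤ layer Q := by
  rw [Subgroup.map_le_iff_le_comap]
  apply sSup_le
  intro K hK
  rw [← Subgroup.map_le_iff_le_comap]
  rcases isComponent_map_or_eq_bot f hf K hK with h | h
  · rw [h]; exact bot_le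
  · exact le_sSup h

theorem layer_le_layerPreimage (p : ℕ) (K : Type*) [Group K] : layer K ≤ layerPreimage p K := by
  unfold layerPreimage
  rw [← Subgroup.map_le_iff_le_comap]
  exact map_layer_le_of_surjective _ (QuotientGroup.mk'_surjective _)

/-- S1267: `E(N_G(P)) = E(G)` for `P ≤ O_p(G)`. -/
theorem layer_normalizer_eq {G : Type*} [Group G] [Finite G] (p : ℕ) [hp : Fact p.Prime]
    (P : Subgroup G) (hP : P ≤ pCore p G) :
    (layer ↥(Subgroup.normalizer (P : Set G))).map (Subgroup.normalizer (P : Set G)).subtype =
      layer G := by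
  have hPp : IsPGroup p P := (pCore_isPGroup' p).to_le hP
  have hCn : (Subgroup.centralizer ((pCore p G : Subgroup G) : Set G)).Normal := by
    have : (pCore p G).Normal := pCore_normal' p
    infer_instance
  have hCN : Subgroup.centralizer ((pCore p G : Subgroup G) : Set G) ≤
      Subgroup.normalizer (P : Set G) :=
    (Subgroup.centralizer_le hP).trans (Subgroup.centralizer_le_normalizer _)
  apply le_antisymm
  · rw [Subgroup.map_le_iff_le_comap]
    apply sSup_le
    intro K hK
    rw [← Subgroup.map_le_iff_le_comap]
    have hKC : K.map (Subgroup.normalizer (P : Set G)).subtype ≤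
        Subgroup.centralizer ((pCore p G : Subgroup G) : Set G) :=
      (Subgroup.map_mono ((le_sSup hK).trans (layer_le_layerPreimage p _))).trans
        (layerPreimage_normalizer_le_centralizer_pCore p P hPp)
    have hsn : (K.comap (Subgroup.inclusion hCN)).IsSubnormal := hK.1.comap _
    have hsn' := hsn.trans' (Subgroup.Normal.isSubnormal hCn)
    have heq : (K.comap (Subgroup.inclusion hCN)).map
        (Subgroup.centralizer ((pCore p G : Subgroup G) : Set G)).subtype =
        K.map (Subgroup.normalizer (P : Set G)).subtype := by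
      ext x
      constructor
      · rintro ⟨y, hy, rfl⟩
        exact ⟨Subgroup.inclusion hCN y, hy, rfl⟩
      · rintro ⟨y, hy, rfl⟩
        have hyC : (y : G) ∈ Subgroup.centralizer ((pCore p G : Subgroup G) : Set G) :=
          hKC ⟨y, hy, rfl⟩
        refine ⟨⟨y, hyC⟩, ?_, rfl⟩
        show Subgroup.inclusion hCN ⟨y, hyC⟩ ∈ K
        have : Subgroup.inclusion hCN ⟨(y : G), hyC⟩ = y := Subtype.ext rfl
        rw [this]; exact hy
    rw [heq] at hsn'
    have hq : IsQuasisimple ↥(K.map (Subgroup.normalizer (P : Set G)).subtype) :=
      isQuasisimple_of_mulEquiv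
        (K.equivMapOfInjective _ (Subgroup.subtype_injective _)) hK.2
    exact le_sSup (show IsComponent _ from ⟨hsn', hq⟩)
  · apply sSup_le
    intro K hK
    have hKC : K ≤ Subgroup.centralizer ((pCore p G : Subgroup G) : Set G) :=
      ((le_sSup hK).trans layer_le_centralizer_fitting).trans
        (Subgroup.centralizer_le (pCore_le_fitting' p))
    exact component_le_map_layer_of_le hK (hKC.trans hCN)

end Cfsg.Agent.Lib.Helper20
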