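import Mathlib
import Cfsg.Agent.Lib.Helper11.DihGen
import Cfsg.Agent.Lib.Helper24.DihIso

/-!
# Groups whose 2-by-cyclic subgroups are cyclic, dihedral or `A₄`: dihedral lemmas (helper20)
-/

set_option linter.style.haveILetI false
set_option linter.unusedVariables false

namespace Cfsg.Agent.Lib.Helper20

open Cfsg.Agent.Lib.Helper11

variable {G : Type*} [Group G]


theorem tbc_card_mulAut_dvd {Q : Type*} [Group Q] [Finite Q] [IsCyclic Q]
    (hQ : IsPGroup 2 Q) : Nat.card (MulAut Q) ∣ Nat.card Q := by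
  have : Fact (Nat.Prime 2) := ⟨Nat.prime_two⟩
  obtain ⟨u, hu⟩ := IsPGroup.iff_card.mp hQ
  rw [IsCyclic.card_mulAut, hu]
  rcases Nat.eq_zero_or_pos u with rfl | hpos
  · simp
  · rw [Nat.totient_prime_pow Nat.prime_two hpos]
    simpa using pow_dvd_pow 2 (Nat.sub_le u 1)

/-- An element normalizing a cyclic 2-subgroup, an odd power of which centralizes it,
centralizes it. -/
theorem tbc_odd_centralizes_cyclic' [Finite G] (R : Subgroup G) [IsCyclic R] (hR : IsPGroup 2 R)
    {c : G} (hcN : c ∈ Subgroup.normalizer (R : Set G)) (o : ℕ) (ho : Odd o)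
    (hco : ∀ y ∈ R, c ^ o * y * (c ^ o)⁻¹ = y) :
    ∀ y ∈ R, c * y * c⁻¹ = y := by
  have : Fact (Nat.Prime 2) := ⟨Nat.prime_two⟩
  obtain ⟨φ, hφ⟩ : ∃ φ, φ = R.normalizerMonoidHom ⟨c, hcN⟩ := ⟨_, rfl⟩
  have h1 : orderOf φ ∣ Nat.card R :=
    (orderOf_dvd_natCard φ).trans (tbc_card_mulAut_dvd hR)
  have h2 : φ ^ o = 1 := by
    rw [hφ, ← map_pow]
    ext y
    have := hco y.1 y.2
    simpa using this
  have h3 : orderOf φ ∣ o := orderOf_dvd_of_pow_eq_one h2
  obtain ⟨u, hu⟩ := IsPGroup.iff_card.mp hR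
  rw [hu] at h1
  obtain ⟨j, hj, hj2⟩ := (Nat.dvd_prime_pow Nat.prime_two).mp h1
  have hj0 : j = 0 := by
    by_contra hne
    have h4 : 2 ∣ orderOf φ := by
      rw [hj2]; exact dvd_pow_self 2 hne
    have h5 : 2 ∣ o := h4.trans h3
    rcases ho with ⟨w, hw⟩
    omega
  rw [hj0, pow_zero, orderOf_eq_one_iff] at hj2
  intro y hy
  have h6 : φ ⟨y, hy⟩ = ⟨y, hy⟩ := by rw [hj2]; rfl
  rw [hφ] at h6
  have h7 := congrArg Subtype.val h6
  simpa using h7

theorem tbc_odd_centralizes_cyclic [Finite G] (R : Subgroup G) [IsCyclic R] (hR : IsPGroup 2 R)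
    {c : G} (hcN : c ∈ Subgroup.normalizer (R : Set G)) (hc : Odd (orderOf c)) :
    ∀ y ∈ R, c * y * c⁻¹ = y := by
  apply tbc_odd_centralizes_cyclic' R hR hcN (orderOf c) hc
  intro y hy
  rw [pow_orderOf_eq_one]; group

theorem tbc_cyclic_aux {H : Type*} [CommGroup H] [Finite H] (S : Subgroup H)
    (hS : IsPGroup 2 S) (hcyc : IsCyclic S) (hodd : Odd S.index)
    (hq : IsCyclic (H ⧸ S)) : IsCyclic H := by
  have : Fact (Nat.Prime 2) := ⟨Nat.prime_two⟩
  rw [IsCyclic.iff_exponent_eq_card]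
  apply Nat.dvd_antisymm (Group.exponent_dvd_nat_card)
  obtain ⟨s, hs⟩ := hcyc.exists_generator
  obtain ⟨q, hq'⟩ := hq.exists_generator
  obtain ⟨h, rfl⟩ := QuotientGroup.mk_surjective q
  have h1 : orderOf s = Nat.card S := orderOf_eq_card_of_forall_mem_zpowers hs
  have h2 : orderOf (h : H ⧸ S) = S.index := by
    rw [orderOf_eq_card_of_forall_mem_zpowers hq', Subgroup.index_eq_card]
  have h3 : orderOf (h : H ⧸ S) ∣ orderOf h := orderOf_map_dvd (QuotientGroup.mk' S) h
  have h4 : orderOf (s : H) = Nat.card S := by rw [Subgroup.orderOf_coe]; exact h1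
  have h5 : Nat.card S ∣ Monoid.exponent H := by
    rw [← h4]; exact Monoid.order_dvd_exponent _
  have h6 : S.index ∣ Monoid.exponent H := by
    rw [← h2]; exact h3.trans (Monoid.order_dvd_exponent _)
  obtain ⟨u, hu⟩ := IsPGroup.iff_card.mp hS
  have hcop : Nat.Coprime (Nat.card S) S.index := by
    rw [hu]
    apply Nat.Coprime.pow_left
    rw [Nat.coprime_two_left]
    exact hodd
  rw [← S.card_mul_index]
  exact hcop.mul_dvd_of_dvd_of_dvd h5 h6

theorem tbc_cyclic_of_cyclic_sylow {H : Type*} [Group H] [Finite H] (S : Subgroup H) [S.Normal]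
    (hS : IsPGroup 2 S) (hcyc : IsCyclic S) (hodd : Odd S.index)
    (hq : IsCyclic (H ⧸ S)) : IsCyclic H := by
  have hcent : ∀ h : H, ∀ y ∈ S, h * y * h⁻¹ = y := by
    intro h
    have hN : h ∈ Subgroup.normalizer (S : Set H) := by
      rw [Subgroup.normalizer_eq_top]; exact Subgroup.mem_top h
    apply tbc_odd_centralizes_cyclic' S hS hN S.index hodd
    intro y hy
    have hmem : h ^ S.index ∈ S := Subgroup.pow_index_mem S h
    obtain ⟨g, hg⟩ := hcyc.exists_generator
    have hcomm : ∀ a b : S, a * b = b * a := by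
      intro a b
      obtain ⟨i, rfl⟩ := Subgroup.mem_zpowers_iff.mp (hg a)
      obtain ⟨j, rfl⟩ := Subgroup.mem_zpowers_iff.mp (hg b)
      rw [← zpow_add, ← zpow_add, add_comm]
    have := congrArg Subtype.val (hcomm ⟨h ^ S.index, hmem⟩ ⟨y, hy⟩)
    simp only [Subgroup.coe_mul] at this
    rw [this]; group
  have hSZ : S ≤ Subgroup.center H := by
    intro y hy
    rw [Subgroup.mem_center_iff]
    intro h
    have := hcent h y hy
    calc h * y = (h * y * h⁻¹) * h := by group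
      _ = y * h := by rw [this]
  have hcomm : ∀ a b : H, a * b = b * a := by
    apply commutative_of_cyclic_center_quotient (QuotientGroup.mk' S)
    rw [QuotientGroup.ker_mk']
    exact hSZ
  letI : CommGroup H := { ‹Group H› with mul_comm := hcomm }
  exact tbc_cyclic_aux S hS hcyc hodd hq



/-- Any reflection inverts any rotation. -/
theorem tbc_refl_inverts {D : Subgroup G} {r s : G} {N : ℕ} (h : DihGen D r s N)
    {t y : G} (ht : t ∈ D) (htr : t ∉ Subgroup.zpowers r) (hy : y ∈ Subgroup.zpowers r) :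
    t * y * t⁻¹ = y⁻¹ := by
  rcases h.cases t ht with h1 | ⟨w, hw, rfl⟩
  · exact absurd h1 htr
  · obtain ⟨i, rfl⟩ := Subgroup.mem_zpowers_iff.mp hw
    obtain ⟨j, rfl⟩ := Subgroup.mem_zpowers_iff.mp hy
    have e1 : s * r ^ i * r ^ j * (s * r ^ i)⁻¹ = s * (r ^ i * r ^ j * (r ^ i)⁻¹) * s⁻¹ := by group
    have e2 : r ^ i * r ^ j * (r ^ i)⁻¹ = r ^ j := by
      rw [← zpow_add, ← zpow_neg, ← zpow_add]; congr 1; ring
    rw [e1, e2, h.conj_zpow, zpow_neg]

theorem tbc_refl_sq {D : Subgroup G} {r s : G} {N : ℕ} (h : DihGen D r s N)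
    {t : G} (ht : t ∈ D) (htr : t ∉ Subgroup.zpowers r) : t * t = 1 := by
  rcases h.cases t ht with h1 | ⟨w, hw, rfl⟩
  · exact absurd h1 htr
  · exact h.refl_sq hw

theorem tbc_refl_mul {D : Subgroup G} {r s : G} {N : ℕ} (h : DihGen D r s N)
    {t t' : G} (ht : t ∈ D) (htr : t ∉ Subgroup.zpowers r)
    (ht' : t' ∈ D) (htr' : t' ∉ Subgroup.zpowers r) : t * t' ∈ Subgroup.zpowers r :=
  h.toDihData.mul t ht t' ht' htr htr'

/-- A four-group in a dihedral group is self-centralizing in it. -/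
theorem tbc_four_self_centralizing {D : Subgroup G} {r s : G} {N : ℕ}
    (h : DihGen D r s N) (hN : 2 ∣ N) (K : Subgroup G) (hK : K ≤ D) (hcard : Nat.card K = 4)
    (hexp : ∀ k ∈ K, k ^ 2 = 1) {x : G} (hx : x ∈ D) (hxc : ∀ k ∈ K, x * k = k * x) :
    x ∈ K := by
  have hfin : Finite K := Nat.finite_of_card_ne_zero (by rw [hcard]; norm_num)
  have hfK : Fintype K := Fintype.ofFinite K
  have h3 : 2 < Fintype.card K := by
    rw [← Nat.card_eq_fintype_card, hcard]; norm_num
  obtain ⟨a, b, c, hab, hac, hbc⟩ := Fintype.two_lt_card_iff.mp h3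
  have hab' : (a : G) ≠ b := fun e => hab (Subtype.ext e)
  have hac' : (a : G) ≠ c := fun e => hac (Subtype.ext e)
  have hbc' : (b : G) ≠ c := fun e => hbc (Subtype.ext e)
  have hsq : ∀ k ∈ K, k * k = 1 := fun k hk => by rw [← pow_two]; exact hexp k hk
  -- pigeonhole
  have pig : ∀ u v : G, ∃ w ∈ K, w ≠ u ∧ w ≠ v := by
    intro u v
    by_cases h1 : (a : G) ≠ u ∧ (a : G) ≠ v
    · exact ⟨a, a.2, h1.1, h1.2⟩
    by_cases h2 : (b : G) ≠ u ∧ (b : G) ≠ v
    · exact ⟨b, b.2, h2.1, h2.2⟩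
    by_cases h4 : (c : G) ≠ u ∧ (c : G) ≠ v
    · exact ⟨c, c.2, h4.1, h4.2⟩
    exfalso
    have h1' : (a : G) = u ∨ (a : G) = v := by tauto
    have h2' : (b : G) = u ∨ (b : G) = v := by tauto
    have h4' : (c : G) = u ∨ (c : G) = v := by tauto
    rcases h1' with e1 | e1 <;> rcases h2' with e2 | e2 <;> rcases h4' with e4 | e4 <;>
      first
        | exact hab' (e1.trans e2.symm)
        | exact hac' (e1.trans e4.symm)
        | exact hbc' (e2.trans e4.symm)
  -- a reflection in K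
  obtain ⟨t, htK, htr⟩ : ∃ t ∈ K, t ∉ Subgroup.zpowers r := by
    by_contra hcon
    push Not at hcon
    obtain ⟨w, hwK, hw1, hw2⟩ := pig 1 (r ^ (N / 2))
    exact hw2 (h.eq_z_of_rot hN (hcon w hwK) (hsq w hwK) hw1)
  have htD : t ∈ D := hK htK
  have htt : t * t = 1 := hsq t htK
  have htinv : t⁻¹ = t := inv_eq_of_mul_eq_one_right htt
  -- the central involution is in K
  have hzK : r ^ (N / 2) ∈ K := by
    obtain ⟨u, huK, hu1, hut⟩ := pig 1 t
    by_cases hur : u ∈ Subgroup.zpowers r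
    · rw [← h.eq_z_of_rot hN hur (hsq u huK) hu1]; exact huK
    · have h1 : u * t ∈ Subgroup.zpowers r := tbc_refl_mul h (hK huK) hur htD htr
      have h2 : u * t ≠ 1 := by
        intro e
        apply hut
        rw [← htinv]
        exact eq_inv_of_mul_eq_one_left e
      have h3 : u * t ∈ K := mul_mem huK htK
      rw [← h.eq_z_of_rot hN h1 (hsq _ h3) h2]; exact h3
  -- the centralizer of t
  have key : ∀ y ∈ Subgroup.zpowers r, y * t = t * y → y ∈ K := by
    intro y hy hyt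
    have h1 := tbc_refl_inverts h htD htr hy
    have h2 : t * y * t⁻¹ = y := by rw [← hyt]; group
    have h3 : y * y = 1 := by
      have : y = y⁻¹ := h2.symm.trans h1
      calc y * y = y * y⁻¹ := by rw [← this]
        _ = 1 := mul_inv_cancel y
    by_cases hy1 : y = 1
    · rw [hy1]; exact one_mem K
    · rw [h.eq_z_of_rot hN hy h3 hy1]; exact hzK
  have hxt : x * t = t * x := hxc t htK
  by_cases hxr : x ∈ Subgroup.zpowers r
  · exact key x hxr hxt
  · have h1 : x * t ∈ Subgroup.zpowers r := tbc_refl_mul h hx hxr htD htr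
    have h2 : x * t * t = t * (x * t) := by
      calc x * t * t = t * x * t := by rw [hxt]
        _ = t * (x * t) := mul_assoc _ _ _
    have h3 : x * t ∈ K := key _ h1 h2
    have h4 : x = (x * t) * t⁻¹ := by group
    rw [h4]
    exact mul_mem h3 (inv_mem htK)






/-- Subgroups of dihedral groups are cyclic or dihedral. -/
theorem tbc_dihGen_subgroup {D : Subgroup G} {r s : G} {N : ℕ} (h : DihGen D r s N)
    (T : Subgroup G) (hT : T ≤ D) :
    IsCyclic T ∨ ∃ ρ x m', DihGen T ρ x m' ∧ m' ∣ N ∧ m' ≠ 1 := by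
  by_cases hTr : T ≤ Subgroup.zpowers r
  · left
    exact Subgroup.isCyclic_of_le hTr
  · obtain ⟨x, hxT, hxr⟩ := SetLike.not_le_iff_exists.mp hTr
    have hcyc : IsCyclic ↥(T ⊓ Subgroup.zpowers r) :=
      Subgroup.isCyclic_of_le (inf_le_right : T ⊓ Subgroup.zpowers r ≤ Subgroup.zpowers r)
    obtain ⟨ρ, hρ⟩ := (Subgroup.isCyclic_iff_exists_zpowers_eq_top _).mp hcyc
    have hρmem : ρ ∈ T ⊓ Subgroup.zpowers r := by rw [← hρ]; exact Subgroup.mem_zpowers ρ
    have hρle : Subgroup.zpowers ρ ≤ Subgroup.zpowers r := by rw [hρ]; exact inf_le_right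
    have hxD : x ∈ D := hT hxT
    have hgen : DihGen T ρ x (orderOf ρ) := by
      refine ⟨hρmem.1, hxT, rfl, tbc_refl_sq h hxD hxr, tbc_refl_inverts h hxD hxr hρmem.2,
        fun hc => hxr (hρle hc), ?_⟩
      intro y hy
      by_cases hyr : y ∈ Subgroup.zpowers r
      · left
        rw [hρ]; exact Subgroup.mem_inf.mpr ⟨hy, hyr⟩
      · right
        refine ⟨x⁻¹ * y, ?_, by group⟩
        rw [hρ]
        refine Subgroup.mem_inf.mpr ⟨mul_mem (inv_mem hxT) hy, ?_⟩
        have hxi : x⁻¹ ∉ Subgroup.zpowers r := fun hc => hxr ((Subgroup.inv_mem_iff _).mp hc)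
        exact tbc_refl_mul h (inv_mem hxD) hxi (hT hy) hyr
    by_cases ho : orderOf ρ = 1
    · left
      rw [orderOf_eq_one_iff] at ho
      have hT2 : T = Subgroup.zpowers x := by
        apply le_antisymm
        · intro y hy
          rcases hgen.cases y hy with h1 | ⟨w, hw, rfl⟩
          · rw [ho, Subgroup.zpowers_one_eq_bot, Subgroup.mem_bot] at h1
            rw [h1]; exact one_mem _
          · rw [ho, Subgroup.zpowers_one_eq_bot, Subgroup.mem_bot] at hw
            rw [hw, mul_one]; exact Subgroup.mem_zpowers x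
        · rw [Subgroup.zpowers_le]; exact hxT
      rw [hT2]
      infer_instance
    · right
      refine ⟨ρ, x, orderOf ρ, hgen, ?_, ho⟩
      rw [← h.ord]
      exact orderOf_dvd_of_mem_zpowers hρmem.2

/-- A subgroup with dihedral generators is a dihedral group. -/
theorem tbc_dihGen_equiv [Finite G] {T : Subgroup G} {ρ x : G} {m : ℕ} (h : DihGen T ρ x m) :
    Nonempty (T ≃* DihedralGroup m) := by
  have hx1 : x ≠ 1 := fun e => h.hsr (by rw [e]; exact one_mem _)
  have hx2 : orderOf x = 2 := by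
    apply orderOf_eq_prime
    · rw [pow_two]; exact h.ss
    · exact hx1
  have hy1 : x * ρ ≠ 1 := by
    intro e
    apply h.hsr
    have : x = ρ⁻¹ := eq_inv_of_mul_eq_one_left e
    rw [this]; exact inv_mem (Subgroup.mem_zpowers ρ)
  have hy2 : orderOf (x * ρ) = 2 := by
    apply orderOf_eq_prime
    · rw [pow_two]; exact h.refl_sq (Subgroup.mem_zpowers ρ)
    · exact hy1
  have key := Cfsg.Agent.Lib.Helper24.closure_pair_equiv_dihedral hx2 hy2
  have e1 : x * (x * ρ) = ρ := by rw [← mul_assoc, h.ss, one_mul]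
  have e2 : orderOf (x * (x * ρ)) = m := by rw [e1, h.ord]
  have e3 : Subgroup.closure ({x, x * ρ} : Set G) = T := by
    apply le_antisymm
    · rw [Subgroup.closure_le]
      intro y hy
      rcases hy with rfl | rfl
      · exact h.hs
      · exact mul_mem h.hs h.hr
    · apply h.le_of_mem
      · exact Subgroup.subset_closure (by simp)
      · exact Subgroup.subset_closure (by simp)
  rw [e2, e3] at key
  exact key






theorem tbc_mem_normalizer_of_conj_le [Finite G] (R : Subgroup G) {c : G}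
    (hle : ∀ y ∈ R, c * y * c⁻¹ ∈ R) : c ∈ Subgroup.normalizer (R : Set G) := by
  rw [Subgroup.mem_normalizer_iff_map_conj_eq]
  have h1 : R.map (MulAut.conj c).toMonoidHom ≤ R := by
    rintro _ ⟨y, hy, rfl⟩
    exact hle y hy
  apply Subgroup.eq_of_le_of_card_ge h1
  rw [Subgroup.card_map_of_injective (MulAut.conj c).injective]

theorem tbc_odd_of_dvd_two_pow {n o k : ℕ} (ho : Odd o) (h1 : n ∣ o) (h2 : n ∣ 2 ^ k) : n = 1 := by
  obtain ⟨j, hj, hj2⟩ := (Nat.dvd_prime_pow Nat.prime_two).mp h2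
  have hj0 : j = 0 := by
    by_contra hne
    have h4 : 2 ∣ n := by
      rw [hj2]; exact dvd_pow_self 2 hne
    have h5 : 2 ∣ o := h4.trans h1
    rcases ho with ⟨w, hw⟩
    omega
  rw [hj2, hj0, pow_zero]

/-- An odd-order element normalizing a dihedral group of order at least 8 centralizes it. -/
theorem tbc_odd_centralizes_dihedral [Finite G] {T : Subgroup G} {ρ x : G} {k : ℕ}
    (h : DihGen T ρ x (2 ^ k)) (hk : 2 ≤ k) {c : G} (hc : Odd (orderOf c))
    (hcN : ∀ t ∈ T, c * t * c⁻¹ ∈ T) : ∀ t ∈ T, c * t * c⁻¹ = t := by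
  have : Fact (Nat.Prime 2) := ⟨Nat.prime_two⟩
  have hρ : c * ρ * c⁻¹ ∈ Subgroup.zpowers ρ := by
    by_contra hcon
    have h1 := tbc_refl_sq h (hcN ρ h.hr) hcon
    have h2 : orderOf (c * ρ * c⁻¹) = 2 ^ k := by
      have := MulEquiv.orderOf_eq (MulAut.conj c) ρ
      rw [MulAut.conj_apply] at this
      rw [this, h.ord]
    have h3 : orderOf (c * ρ * c⁻¹) ∣ 2 := orderOf_dvd_of_pow_eq_one (by rw [pow_two]; exact h1)
    rw [h2] at h3
    have h4 : 2 ^ k ≤ 2 := Nat.le_of_dvd (by norm_num) h3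
    have h5 : 2 ^ 2 ≤ 2 ^ k := Nat.pow_le_pow_right (by norm_num) hk
    omega
  have hR : ∀ y ∈ Subgroup.zpowers ρ, c * y * c⁻¹ ∈ Subgroup.zpowers ρ := by
    intro y hy
    obtain ⟨i, rfl⟩ := Subgroup.mem_zpowers_iff.mp hy
    have := map_zpow (MulAut.conj c) ρ i
    rw [MulAut.conj_apply, MulAut.conj_apply] at this
    rw [this]
    exact zpow_mem hρ i
  have hcNR := tbc_mem_normalizer_of_conj_le _ hR
  have hRp : IsPGroup 2 (Subgroup.zpowers ρ) := by
    apply IsPGroup.of_card (n := k)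
    rw [Nat.card_zpowers, h.ord]
  have hcent := tbc_odd_centralizes_cyclic (Subgroup.zpowers ρ) hRp hcNR hc
  intro t ht
  by_cases htr : t ∈ Subgroup.zpowers ρ
  · exact hcent t htr
  · have ht' : c * t * c⁻¹ ∈ T := hcN t ht
    have htr' : c * t * c⁻¹ ∉ Subgroup.zpowers ρ := fun hcon =>
      htr ((Subgroup.mem_normalizer_iff.mp hcNR t).mpr hcon)
    have hti : t⁻¹ ∉ Subgroup.zpowers ρ := fun hcon => htr ((Subgroup.inv_mem_iff _).mp hcon)
    obtain ⟨y, hy⟩ : ∃ y, y = t⁻¹ * (c * t * c⁻¹) := ⟨_, rfl⟩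
    have hyR : y ∈ Subgroup.zpowers ρ := by
      rw [hy]; exact tbc_refl_mul h (inv_mem ht) hti ht' htr'
    have hct : c * t * c⁻¹ = t * y := by rw [hy]; group
    have hpow : ∀ j : ℕ, c ^ j * t * (c ^ j)⁻¹ = t * y ^ j := by
      intro j
      induction j with
      | zero => simp
      | succ j ih =>
        have e1 : c ^ (j + 1) * t * (c ^ (j + 1))⁻¹ = c * (c ^ j * t * (c ^ j)⁻¹) * c⁻¹ := by
          rw [pow_succ']; group
        have e2 : c * (t * y ^ j) * c⁻¹ = (c * t * c⁻¹) * (c * y ^ j * c⁻¹) := by group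
        rw [e1, ih, e2, hct, hcent _ (pow_mem hyR j), pow_succ', mul_assoc]
    have h1 := hpow (orderOf c)
    rw [pow_orderOf_eq_one, one_mul, inv_one, mul_one] at h1
    have h2 : y ^ orderOf c = 1 := by
      have : t * 1 = t * y ^ orderOf c := by rw [mul_one]; exact h1
      exact (mul_left_cancel this).symm
    have h3 : orderOf y ∣ orderOf c := orderOf_dvd_of_pow_eq_one h2
    have h4 : orderOf y ∣ 2 ^ k := by
      rw [← h.ord]; exact orderOf_dvd_of_mem_zpowers hyR
    have h5 : orderOf y = 1 := tbc_odd_of_dvd_two_pow hc h3 h4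
    rw [orderOf_eq_one_iff] at h5
    rw [hct, h5, mul_one]

end Cfsg.Agent.Lib.Helper20
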