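import Mathlib
import Cfsg.Agent.Lib.Helper20.TwoByCyc1

/-!
# Groups whose 2-by-cyclic subgroups are cyclic, dihedral or `A₄`: the forward direction (helper20)
-/

set_option linter.style.haveILetI false
set_option linter.unusedVariables false

namespace Cfsg.Agent.Lib.Helper20

open Cfsg.Agent.Lib.Helper11

variable {G : Type*} [Group G]

theorem tbc_abelian_ext [Finite G] (K : Subgroup G) (c : G) (hK2 : IsPGroup 2 K)
    (hK : ∀ a ∈ K, ∀ b ∈ K, a * b = b * a) (hc : ∀ k ∈ K, c * k = k * c) :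
    ∃ H : Subgroup G, K ≤ H ∧ c ∈ H ∧ (∀ a ∈ H, ∀ b ∈ H, a * b = b * a) ∧
      (∀ S : Sylow 2 ↥H, (S : Subgroup ↥H).Normal) ∧
      (∀ (S : Sylow 2 ↥H) [(S : Subgroup ↥H).Normal], IsCyclic (↥H ⧸ (S : Subgroup ↥H))) := by
  have : Fact (Nat.Prime 2) := ⟨Nat.prime_two⟩
  obtain ⟨H, hH⟩ : ∃ H, H = K ⊔ Subgroup.zpowers c := ⟨_, rfl⟩
  have hKH : K ≤ H := by rw [hH]; exact le_sup_left
  have hZH : Subgroup.zpowers c ≤ H := by rw [hH]; exact le_sup_right
  have hcH : c ∈ H := hZH (Subgroup.mem_zpowers c)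
  have h1 : K ≤ Subgroup.centralizer (K : Set G) := by
    intro a ha
    rw [Subgroup.mem_centralizer_iff]
    intro b hb
    exact hK b hb a ha
  have h2 : Subgroup.zpowers c ≤ Subgroup.centralizer (K : Set G) := by
    rw [Subgroup.zpowers_le, Subgroup.mem_centralizer_iff]
    intro b hb
    exact (hc b hb).symm
  have h3 : Subgroup.zpowers c ≤ Subgroup.centralizer (Subgroup.zpowers c : Set G) := by
    rw [Subgroup.zpowers_le, Subgroup.mem_centralizer_iff]
    intro b hb
    obtain ⟨i, rfl⟩ := Subgroup.mem_zpowers_iff.mp hb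
    exact ((Commute.refl c).zpow_left i).eq
  have hA : H ≤ Subgroup.centralizer (K : Set G) := by rw [hH]; exact sup_le h1 h2
  have hB : H ≤ Subgroup.centralizer (Subgroup.zpowers c : Set G) := by
    rw [hH]; exact sup_le (Subgroup.le_centralizer_iff.mp h2) h3
  have hHH : H ≤ Subgroup.centralizer (H : Set G) := by
    conv_lhs => rw [hH]
    exact sup_le (Subgroup.le_centralizer_iff.mp hA) (Subgroup.le_centralizer_iff.mp hB)
  have hcomm : ∀ a ∈ H, ∀ b ∈ H, a * b = b * a := by
    intro a ha b hb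
    exact (Subgroup.mem_centralizer_iff.mp (hHH hb)) a ha
  have hcomm' : ∀ a b : H, a * b = b * a := by
    intro a b
    apply Subtype.ext
    exact hcomm a.1 a.2 b.1 b.2
  have hnorm : ∀ S : Subgroup ↥H, S.Normal := by
    intro S
    refine ⟨fun n hn g => ?_⟩
    rw [hcomm' g n, mul_assoc, mul_inv_cancel, mul_one]
    exact hn
  refine ⟨H, hKH, hcH, hcomm, fun S => hnorm _, ?_⟩
  intro S hS
  -- K ≤ S
  have hKS : ∀ k (hk : k ∈ K), (⟨k, hKH hk⟩ : H) ∈ (S : Subgroup ↥H) := by
    have hK' : IsPGroup 2 (K.subgroupOf H) :=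
      hK2.of_equiv (Subgroup.subgroupOfEquivOfLe hKH).symm
    obtain ⟨Q, hQ⟩ := hK'.exists_le_sylow
    have huniq := Sylow.unique_of_normal S hS
    have hQS : Q = S := Subsingleton.elim Q S
    intro k hk
    rw [← hQS]
    apply hQ
    rw [Subgroup.mem_subgroupOf]
    exact hk
  obtain ⟨q, hq⟩ : ∃ q : ↥H ⧸ (S : Subgroup ↥H), q = QuotientGroup.mk' (S : Subgroup ↥H) ⟨c, hcH⟩ :=
    ⟨_, rfl⟩
  have hM : H ≤ ((Subgroup.zpowers q).comap (QuotientGroup.mk' (S : Subgroup ↥H))).map H.subtype := by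
    conv_lhs => rw [hH]
    apply sup_le
    · intro k hk
      refine ⟨⟨k, hKH hk⟩, ?_, rfl⟩
      rw [SetLike.mem_coe, Subgroup.mem_comap]
      have : QuotientGroup.mk' (S : Subgroup ↥H) ⟨k, hKH hk⟩ = 1 := by
        rw [QuotientGroup.mk'_apply, QuotientGroup.eq_one_iff]
        exact hKS k hk
      rw [this]; exact one_mem _
    · rw [Subgroup.zpowers_le]
      refine ⟨⟨c, hcH⟩, ?_, rfl⟩
      rw [SetLike.mem_coe, Subgroup.mem_comap, ← hq]
      exact Subgroup.mem_zpowers q
  refine ⟨⟨q, ?_⟩⟩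
  intro y
  obtain ⟨h, rfl⟩ := QuotientGroup.mk_surjective y
  obtain ⟨m, hm, hmh⟩ := hM h.2
  have : m = h := Subtype.ext hmh
  rw [this, SetLike.mem_coe, Subgroup.mem_comap] at hm
  exact hm

theorem tbc_exp_two_comm (K : Subgroup G) (hexp : ∀ k ∈ K, k ^ 2 = 1) :
    ∀ a ∈ K, ∀ b ∈ K, a * b = b * a := by
  intro a ha b hb
  have h1 : a * a = 1 := by rw [← pow_two]; exact hexp a ha
  have h2 : b * b = 1 := by rw [← pow_two]; exact hexp b hb
  have h3 : (a * b) * (a * b) = 1 := by rw [← pow_two]; exact hexp _ (mul_mem ha hb)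
  calc a * b = a * (a * b * (a * b)) * b := by rw [h3, mul_one]
    _ = (a * a) * (b * a) * (b * b) := by group
    _ = b * a := by rw [h1, h2, one_mul, mul_one]

/-- the Sylow 2-subgroups of a 2-group are everything -/
theorem tbc_sylow_eq_top {H : Type*} [Group H] (hH : IsPGroup 2 H) (S : Sylow 2 H) :
    (S : Subgroup H) = ⊤ :=
  (S.is_maximal' (hH.to_subgroup ⊤) le_top).symm

theorem tbc_four_not_cyclic (K : Subgroup G) (hcard : Nat.card K = 4)
    (hexp : ∀ k ∈ K, k ^ 2 = 1) : ¬ IsCyclic K := by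
  intro hcyc
  obtain ⟨g, hg⟩ := hcyc.exists_generator
  have h1 : orderOf g = 4 := by
    rw [orderOf_eq_card_of_forall_mem_zpowers hg, hcard]
  have h2 : g ^ 2 = 1 := by
    apply Subtype.ext
    rw [Subgroup.coe_pow]
    exact hexp g.1 g.2
  have h3 : orderOf g ∣ 2 := orderOf_dvd_of_pow_eq_one h2
  rw [h1] at h3
  omega

theorem tbc_forward [Finite G] (P : Sylow 2 G)
    (hL : ∀ H : Subgroup G, (∀ S : Sylow 2 ↥H, (S : Subgroup ↥H).Normal) →
        (∀ (S : Sylow 2 ↥H) [(S : Subgroup ↥H).Normal], IsCyclic (↥H ⧸ (S : Subgroup ↥H))) →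
        IsCyclic H ∨ (∃ n : ℕ, Nonempty (H ≃* DihedralGroup (2 ^ n))) ∨
          Nonempty (H ≃* alternatingGroup (Fin 4))) :
    (IsCyclic P ∨
      ((∃ n : ℕ, 1 ≤ n ∧ Nonempty ((P : Subgroup G) ≃* DihedralGroup (2 ^ n))) ∧
        ∀ K : Subgroup G, K ≤ P → Nat.card K = 4 → (∀ k ∈ K, k ^ 2 = 1) →
          Subgroup.centralizer (K : Set G) = K)) := by
  have : Fact (Nat.Prime 2) := ⟨Nat.prime_two⟩
  have hP2 : IsPGroup 2 (P : Subgroup G) := P.isPGroup'
  have hPtop : ∀ S : Sylow 2 ↥(P : Subgroup G), (S : Subgroup ↥(P : Subgroup G)) = ⊤ :=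
    fun S => tbc_sylow_eq_top hP2 S
  have h1 := hL (P : Subgroup G)
    (fun S => by rw [hPtop S]; infer_instance)
    (fun S _ => by
      have h2 : Nat.card (↥(P : Subgroup G) ⧸ (S : Subgroup ↥(P : Subgroup G))) = 1 := by
        rw [← Subgroup.index_eq_card, hPtop S, Subgroup.index_top]
      have : Subsingleton (↥(P : Subgroup G) ⧸ (S : Subgroup ↥(P : Subgroup G))) :=
        (Nat.card_eq_one_iff_unique.mp h2).1
      exact isCyclic_of_subsingleton)
  rcases h1 with h1 | ⟨n, ⟨e⟩⟩ | ⟨⟨e⟩⟩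
  · exact Or.inl h1
  · rcases Nat.eq_zero_or_pos n with hn | hn
    · left
      have hc : Nat.card (P : Subgroup G) = 2 := by
        rw [Nat.card_congr e.toEquiv, DihedralGroup.nat_card, hn]; norm_num
      exact isCyclic_of_prime_card hc
    · right
      refine ⟨⟨n, hn, ⟨e⟩⟩, ?_⟩
      intro K hKP hcard hexp
      have hKcomm := tbc_exp_two_comm K hexp
      have hK2 : IsPGroup 2 K := hP2.to_le hKP
      have hKC : K ≤ Subgroup.centralizer (K : Set G) := by
        intro a ha
        rw [Subgroup.mem_centralizer_iff]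
        intro b hb
        exact hKcomm b hb a ha
      -- the centralizer is a 2-group
      have hC2 : IsPGroup 2 (Subgroup.centralizer (K : Set G)) := by
        have hpos : Nat.card (Subgroup.centralizer (K : Set G)) ≠ 0 := Nat.card_pos.ne'
        have hprimes : ∀ {d : ℕ}, Nat.Prime d → d ∣ Nat.card (Subgroup.centralizer (K : Set G)) →
            d = 2 := by
          intro d hd hdvd
          by_contra hd2
          have : Fact d.Prime := ⟨hd⟩
          obtain ⟨c, hc⟩ := exists_prime_orderOf_dvd_card' d hdvd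
          have hc' : orderOf (c : G) = d := by rw [Subgroup.orderOf_coe]; exact hc
          have hcK : ∀ k ∈ K, (c : G) * k = k * c := fun k hk =>
            ((Subgroup.mem_centralizer_iff.mp c.2) k hk).symm
          obtain ⟨H, hKH, hcH, hHcomm, hHn, hHq⟩ := tbc_abelian_ext K (c : G) hK2 hKcomm hcK
          rcases hL H hHn hHq with h2 | ⟨m, ⟨e2⟩⟩ | ⟨⟨e2⟩⟩
          · have : IsCyclic K := Subgroup.isCyclic_of_le hKH
            exact tbc_four_not_cyclic K hcard hexp this
          · have hcardH : Nat.card H = 2 ^ (m + 1) := by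
              rw [Nat.card_congr e2.toEquiv, DihedralGroup.nat_card, pow_succ, mul_comm]
            have h3 : orderOf (c : G) ∣ Nat.card H := by
              have := orderOf_dvd_natCard (⟨(c : G), hcH⟩ : H)
              rwa [← Subgroup.orderOf_coe] at this
            rw [hc', hcardH] at h3
            exact hd2 ((Nat.prime_dvd_prime_iff_eq hd Nat.prime_two).mp
              (hd.dvd_of_dvd_pow h3))
          · have hcommA : IsMulCommutative (alternatingGroup (Fin 4)) := by
              refine ⟨⟨fun a b => ?_⟩⟩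
              have h4 : e2.symm a * e2.symm b = e2.symm b * e2.symm a := by
                apply Subtype.ext
                exact hHcomm _ (e2.symm a).2 _ (e2.symm b).2
              have := congrArg e2 h4
              simpa using this
            have := alternatingGroup.isMulCommutative_iff_card_le_three.mp hcommA
            simp at this
        exact IsPGroup.of_card (Nat.eq_prime_pow_of_unique_prime_dvd hpos hprimes)
      -- so it lies in a Sylow 2-subgroup, which is dihedral
      obtain ⟨Q, hQ⟩ := hC2.exists_le_sylow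
      have eQ : (Q : Subgroup G) ≃* DihedralGroup (2 ^ n) := (Sylow.equiv Q P).trans e
      have hgen := dihGen_of_equiv (Q : Subgroup G) (2 ^ n) eQ
      apply le_antisymm _ hKC
      intro x hx
      apply tbc_four_self_centralizing hgen (dvd_pow_self 2 (by omega)) K (hKC.trans hQ) hcard hexp
        (hQ hx)
      intro k hk
      exact ((Subgroup.mem_centralizer_iff.mp hx) k hk).symm
  · exfalso
    have hc : Nat.card (P : Subgroup G) = 12 := by
      rw [Nat.card_congr e.toEquiv, nat_card_alternatingGroup]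
      simp [Nat.factorial]
    obtain ⟨u, hu⟩ := IsPGroup.iff_card.mp hP2
    rw [hc] at hu
    have h3 : 3 ∣ 2 ^ u := by rw [← hu]; norm_num
    have := Nat.Prime.dvd_of_dvd_pow Nat.prime_three h3
    omega

end Cfsg.Agent.Lib.Helper20
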