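import Mathlib
import Cfsg.Agent.Lib.Helper20.TwoByCyc2

/-!
# Groups whose `p`-by-cyclic subgroups are cyclic or dihedral (odd `p`): forward direction (helper20)
-/

set_option linter.style.haveILetI false
set_option linter.unusedVariables false

namespace Cfsg.Agent.Lib.Helper20

open Cfsg.Agent.Lib.Helper11

variable {G : Type*} [Group G]

/-- quotient of `R ⊔ ⟨x⟩` by a normal subgroup containing `R` is cyclic -/
theorem pbc_quot_cyclic (R : Subgroup G) (x : G) {H : Subgroup G} (hH : H = R ⊔ Subgroup.zpowers x)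
    (S : Subgroup ↥H) [hSn : S.Normal] (hRS : ∀ k (hk : k ∈ R), (⟨k, by rw [hH]; exact (le_sup_left : R ≤ _) hk⟩ : H) ∈ S) :
    ∃ hxH : x ∈ H, ∀ y : ↥H ⧸ S, y ∈ Subgroup.zpowers (QuotientGroup.mk' S ⟨x, hxH⟩) := by
  have hRH : R ≤ H := by rw [hH]; exact le_sup_left
  have hZH : Subgroup.zpowers x ≤ H := by rw [hH]; exact le_sup_right
  have hxH : x ∈ H := hZH (Subgroup.mem_zpowers x)
  refine ⟨hxH, ?_⟩
  obtain ⟨q, hq⟩ : ∃ q : ↥H ⧸ S, q = QuotientGroup.mk' S ⟨x, hxH⟩ := ⟨_, rfl⟩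
  rw [← hq]
  have hM : H ≤ ((Subgroup.zpowers q).comap (QuotientGroup.mk' S)).map H.subtype := by
    conv_lhs => rw [hH]
    apply sup_le
    · intro k hk
      refine ⟨⟨k, hRH hk⟩, ?_, rfl⟩
      rw [SetLike.mem_coe, Subgroup.mem_comap]
      have : QuotientGroup.mk' S ⟨k, hRH hk⟩ = 1 := by
        rw [QuotientGroup.mk'_apply, QuotientGroup.eq_one_iff]
        exact hRS k hk
      rw [this]; exact one_mem _
    · rw [Subgroup.zpowers_le]
      refine ⟨⟨x, hxH⟩, ?_, rfl⟩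
      rw [SetLike.mem_coe, Subgroup.mem_comap, ← hq]
      exact Subgroup.mem_zpowers q
  intro y
  obtain ⟨h, rfl⟩ := QuotientGroup.mk_surjective y
  obtain ⟨m, hm, hmh⟩ := hM h.2
  have : m = h := Subtype.ext hmh
  rw [this, SetLike.mem_coe, Subgroup.mem_comap] at hm
  exact hm

/-- `R ⊔ ⟨x⟩` is `p`-by-cyclic when `R` is a `p`-group normalized by `x`. -/
theorem pbc_ext [Finite G] {p : ℕ} [Fact p.Prime] (R : Subgroup G) (x : G) (hR : IsPGroup p R)
    (hx : x ∈ Subgroup.normalizer (R : Set G)) :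
    ∃ H : Subgroup G, R ≤ H ∧ x ∈ H ∧
      (∀ S : Sylow p ↥H, (S : Subgroup ↥H).Normal) ∧
      (∀ (S : Sylow p ↥H) [(S : Subgroup ↥H).Normal], IsCyclic (↥H ⧸ (S : Subgroup ↥H))) := by
  obtain ⟨H, hH⟩ : ∃ H, H = R ⊔ Subgroup.zpowers x := ⟨_, rfl⟩
  have hRH : R ≤ H := by rw [hH]; exact le_sup_left
  have hZH : Subgroup.zpowers x ≤ H := by rw [hH]; exact le_sup_right
  have hxH : x ∈ H := hZH (Subgroup.mem_zpowers x)
  have hHN : H ≤ Subgroup.normalizer (R : Set G) := by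
    rw [hH]; exact sup_le Subgroup.le_normalizer (Subgroup.zpowers_le.mpr hx)
  haveI hR'n : (R.subgroupOf H).Normal := (Subgroup.normal_subgroupOf_iff_le_normalizer hRH).mpr hHN
  have hR'p : IsPGroup p (R.subgroupOf H) := hR.of_equiv (Subgroup.subgroupOfEquivOfLe hRH).symm
  -- the quotient by R' is cyclic, hence commutators lie in R'
  have hcomm : ∀ g h : ↥H, g * h * g⁻¹ * h⁻¹ ∈ R.subgroupOf H := by
    obtain ⟨hxH', hgen⟩ := pbc_quot_cyclic R x hH (R.subgroupOf H)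
      (fun k hk => by rw [Subgroup.mem_subgroupOf]; exact hk)
    intro g h
    rw [← QuotientGroup.eq_one_iff]
    obtain ⟨i, hi⟩ := Subgroup.mem_zpowers_iff.mp (hgen (g : ↥H ⧸ R.subgroupOf H))
    obtain ⟨j, hj⟩ := Subgroup.mem_zpowers_iff.mp (hgen (h : ↥H ⧸ R.subgroupOf H))
    rw [QuotientGroup.mk_mul, QuotientGroup.mk_mul, QuotientGroup.mk_mul, QuotientGroup.mk_inv,
      QuotientGroup.mk_inv, ← hi, ← hj]
    rw [← zpow_add, ← zpow_neg, ← zpow_add, ← zpow_neg, ← zpow_add]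
    have : i + j + -i + -j = 0 := by ring
    rw [this, zpow_zero]
  have hRS : ∀ S : Sylow p ↥H, R.subgroupOf H ≤ S := fun S => hR'p.le_sylow_of_normal S
  have hSn : ∀ S : Sylow p ↥H, (S : Subgroup ↥H).Normal := by
    intro S
    refine ⟨fun s hs g => ?_⟩
    have h1 : g * s * g⁻¹ = (g * s * g⁻¹ * s⁻¹) * s := by group
    rw [h1]
    exact mul_mem (hRS S (hcomm g s)) hs
  refine ⟨H, hRH, hxH, hSn, ?_⟩
  intro S hS
  obtain ⟨hxH', hgen⟩ := pbc_quot_cyclic R x hH (S : Subgroup ↥H)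
    (fun k hk => hRS S (by rw [Subgroup.mem_subgroupOf]; exact hk))
  exact ⟨⟨_, hgen⟩⟩

theorem pbc_pelement_rot {D : Subgroup G} {r s : G} {N : ℕ} (h : DihGen D r s N) {p : ℕ}
    [hpp : Fact p.Prime] (hp : p ≠ 2) {k : G} (hk : k ∈ D) {u : ℕ} (hku : k ^ (p ^ u) = 1) :
    k ∈ Subgroup.zpowers r := by
  by_contra hcon
  have h1 : k * k = 1 := tbc_refl_sq h hk hcon
  have h2 : orderOf k ∣ 2 := orderOf_dvd_of_pow_eq_one (by rw [pow_two]; exact h1)
  have h3 : orderOf k ∣ p ^ u := orderOf_dvd_of_pow_eq_one hku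
  have hcop : Nat.Coprime 2 (p ^ u) := by
    apply Nat.Coprime.pow_right
    rw [Nat.coprime_primes Nat.prime_two hpp.out]
    exact fun e => hp e.symm
  have h4 : orderOf k = 1 := Nat.eq_one_of_dvd_coprimes hcop h2 h3
  rw [orderOf_eq_one_iff] at h4
  exact hcon (by rw [h4]; exact one_mem _)

theorem pbc_dih_invert [Finite G] {p : ℕ} [hpp : Fact p.Prime] (hp : p ≠ 2) {H R : Subgroup G}
    {x : G} {n : ℕ} (e : H ≃* DihedralGroup (p ^ n)) (hRH : R ≤ H) (hR : IsPGroup p R)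
    (hxH : x ∈ H) (hxR : ¬ ∀ k ∈ R, x * k = k * x) :
    x * x = 1 ∧ ∀ k ∈ R, x * k * x⁻¹ = k⁻¹ := by
  have hgen := dihGen_of_equiv H (p ^ n) e
  obtain ⟨r, hr⟩ : ∃ r, r = ((e.symm (DihedralGroup.r 1) : H) : G) := ⟨_, rfl⟩
  obtain ⟨s, hs⟩ : ∃ s, s = ((e.symm (DihedralGroup.sr 0) : H) : G) := ⟨_, rfl⟩
  rw [← hr, ← hs] at hgen
  have hRr : ∀ k ∈ R, k ∈ Subgroup.zpowers r := by
    intro k hk
    obtain ⟨u, hu⟩ := hR ⟨k, hk⟩
    have hu' : k ^ (p ^ u) = 1 := by
      have := congrArg Subtype.val hu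
      simpa using this
    exact pbc_pelement_rot hgen hp (hRH hk) hu'
  have hxr : x ∉ Subgroup.zpowers r := by
    intro hcon
    apply hxR
    intro k hk
    obtain ⟨i, rfl⟩ := Subgroup.mem_zpowers_iff.mp hcon
    obtain ⟨j, rfl⟩ := Subgroup.mem_zpowers_iff.mp (hRr k hk)
    rw [← zpow_add, ← zpow_add, add_comm]
  exact ⟨tbc_refl_sq hgen hxH hxr, fun k hk => tbc_refl_inverts hgen hxH hxr (hRr k hk)⟩

theorem pbc_key [Finite G] {p : ℕ} [hpp : Fact p.Prime] (hp : p ≠ 2)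
    (hL : ∀ H : Subgroup G, (∀ S : Sylow p ↥H, (S : Subgroup ↥H).Normal) →
        (∀ (S : Sylow p ↥H) [(S : Subgroup ↥H).Normal], IsCyclic (↥H ⧸ (S : Subgroup ↥H))) →
        IsCyclic H ∨ (∃ n : ℕ, Nonempty (H ≃* DihedralGroup (p ^ n))))
    (R : Subgroup G) (hR : IsPGroup p R) {x : G} (hxN : x ∈ Subgroup.normalizer (R : Set G))
    (hxC : ¬ ∀ k ∈ R, x * k = k * x) :
    x * x = 1 ∧ ∀ k ∈ R, x * k * x⁻¹ = k⁻¹ := by
  obtain ⟨H, hRH, hxH, hHn, hHq⟩ := pbc_ext R x hR hxN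
  rcases hL H hHn hHq with hc | ⟨n, ⟨e⟩⟩
  · exfalso
    apply hxC
    intro k hk
    obtain ⟨g, hg⟩ := hc.exists_generator
    obtain ⟨i, hi⟩ := Subgroup.mem_zpowers_iff.mp (hg ⟨x, hxH⟩)
    obtain ⟨j, hj⟩ := Subgroup.mem_zpowers_iff.mp (hg ⟨k, hRH hk⟩)
    have h1 : (⟨x, hxH⟩ : H) * ⟨k, hRH hk⟩ = ⟨k, hRH hk⟩ * ⟨x, hxH⟩ := by
      rw [← hi, ← hj, ← zpow_add, ← zpow_add, add_comm]
    exact congrArg Subtype.val h1
  · exact pbc_dih_invert hp e hRH hR hxH hxC

theorem pbc_not_centralizer_iff {R : Subgroup G} {x : G} :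
    x ∉ Subgroup.centralizer (R : Set G) ↔ ¬ ∀ k ∈ R, x * k = k * x := by
  rw [Subgroup.mem_centralizer_iff]
  constructor
  · intro h1 h2
    exact h1 (fun k hk => (h2 k hk).symm)
  · intro h1 h2
    exact h1 (fun k hk => (h2 k hk).symm)

theorem pbc_forward [Finite G] {p : ℕ} [hpp : Fact p.Prime] (hp : p ≠ 2) (P : Sylow p G)
    (hL : ∀ H : Subgroup G, (∀ S : Sylow p ↥H, (S : Subgroup ↥H).Normal) →
        (∀ (S : Sylow p ↥H) [(S : Subgroup ↥H).Normal], IsCyclic (↥H ⧸ (S : Subgroup ↥H))) →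
        IsCyclic H ∨ (∃ n : ℕ, Nonempty (H ≃* DihedralGroup (p ^ n)))) :
    (IsCyclic P ∧
      (Subgroup.normalizer ((P : Subgroup G) : Set G) =
          Subgroup.centralizer ((P : Subgroup G) : Set G) ∨
       ((Subgroup.centralizer ((P : Subgroup G) : Set G)).relIndex
          (Subgroup.normalizer ((P : Subgroup G) : Set G)) = 2 ∧
        ∀ Q : Subgroup G, Q ≤ P → Nat.card Q = p →
          IsMulCommutative ↥(Subgroup.centralizer (Q : Set G)) ∧
          ∀ x : G, x ∈ Subgroup.normalizer (Q : Set G) → x ∉ Subgroup.centralizer (Q : Set G) →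
            orderOf x = 2 ∧ ∀ c : G, c ∈ Subgroup.centralizer (Q : Set G) →
              x * c * x⁻¹ = c⁻¹))) := by
  have hP : IsPGroup p (P : Subgroup G) := P.isPGroup'
  have hp2 : ¬ (2 ∣ p) := by
    intro h2
    exact hp ((Nat.prime_dvd_prime_iff_eq Nat.prime_two hpp.out).mp h2).symm
  -- P is cyclic
  have hPtop : ∀ S : Sylow p ↥(P : Subgroup G), (S : Subgroup ↥(P : Subgroup G)) = ⊤ :=
    fun S => (S.is_maximal' (hP.to_subgroup ⊤) le_top).symm
  have hPc : IsCyclic ↥(P : Subgroup G) := by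
    have h1 := hL (P : Subgroup G)
      (fun S => by rw [hPtop S]; infer_instance)
      (fun S _ => by
        have h2 : Nat.card (↥(P : Subgroup G) ⧸ (S : Subgroup ↥(P : Subgroup G))) = 1 := by
          rw [← Subgroup.index_eq_card, hPtop S, Subgroup.index_top]
        have : Subsingleton (↥(P : Subgroup G) ⧸ (S : Subgroup ↥(P : Subgroup G))) :=
          (Nat.card_eq_one_iff_unique.mp h2).1
        exact isCyclic_of_subsingleton)
    rcases h1 with h1 | ⟨n, ⟨e⟩⟩
    · exact h1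
    · exfalso
      obtain ⟨u, hu⟩ := IsPGroup.iff_card.mp hP
      have hc : Nat.card (P : Subgroup G) = 2 * p ^ n := by
        rw [Nat.card_congr e.toEquiv, DihedralGroup.nat_card]
      rw [hu] at hc
      have h3 : 2 ∣ p ^ u := by rw [hc]; exact dvd_mul_right 2 _
      exact hp2 (Nat.Prime.dvd_of_dvd_pow Nat.prime_two h3)
  refine ⟨hPc, ?_⟩
  by_cases hNC : Subgroup.normalizer ((P : Subgroup G) : Set G) =
      Subgroup.centralizer ((P : Subgroup G) : Set G)
  · exact Or.inl hNC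
  right
  have hCN : Subgroup.centralizer ((P : Subgroup G) : Set G) ≤
      Subgroup.normalizer ((P : Subgroup G) : Set G) := Subgroup.centralizer_le_normalizer _
  have hNC' : ¬ Subgroup.normalizer ((P : Subgroup G) : Set G) ≤
      Subgroup.centralizer ((P : Subgroup G) : Set G) := fun h => hNC (le_antisymm h hCN)
  obtain ⟨x, hxN, hxC⟩ := SetLike.not_le_iff_exists.mp hNC'
  have hinvP : ∀ y : G, y ∈ Subgroup.normalizer ((P : Subgroup G) : Set G) →
      y ∉ Subgroup.centralizer ((P : Subgroup G) : Set G) →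
      y * y = 1 ∧ ∀ k ∈ (P : Subgroup G), y * k * y⁻¹ = k⁻¹ :=
    fun y hyN hyC => pbc_key hp hL (P : Subgroup G) hP hyN (pbc_not_centralizer_iff.mp hyC)
  obtain ⟨hxx, hxinv⟩ := hinvP x hxN hxC
  refine ⟨?_, ?_⟩
  · -- index two
    show ((Subgroup.centralizer ((P : Subgroup G) : Set G)).subgroupOf
      (Subgroup.normalizer ((P : Subgroup G) : Set G))).index = 2
    rw [Subgroup.index_eq_two_iff]
    refine ⟨⟨x, hxN⟩, ?_⟩
    rintro ⟨b, hbN⟩
    simp only [Subgroup.mem_subgroupOf, Subgroup.coe_mul]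
    by_cases hbC : b ∈ Subgroup.centralizer ((P : Subgroup G) : Set G)
    · right
      refine ⟨hbC, ?_⟩
      intro hc
      apply hxC
      have : x = b⁻¹ * (b * x) := by group
      rw [this]
      exact mul_mem (inv_mem hbC) hc
    · left
      refine ⟨?_, hbC⟩
      obtain ⟨hbb, hbinv⟩ := hinvP b hbN hbC
      rw [Subgroup.mem_centralizer_iff]
      intro k hk
      have h1 : x * k * x⁻¹ = k⁻¹ := hxinv k hk
      have h2 : b * k⁻¹ * b⁻¹ = k⁻¹⁻¹ := hbinv k⁻¹ (inv_mem hk)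
      rw [inv_inv] at h2
      have h3 : b * x * k * (b * x)⁻¹ = k := by
        calc b * x * k * (b * x)⁻¹ = b * (x * k * x⁻¹) * b⁻¹ := by group
          _ = k := by rw [h1, h2]
      calc k * (b * x) = (b * x * k * (b * x)⁻¹) * (b * x) := by rw [h3]
        _ = b * x * k := by group
  · intro Q hQP hQcard
    have hQp : IsPGroup p Q := hP.to_le hQP
    have hCNQ : Subgroup.centralizer (Q : Set G) ≤ Subgroup.normalizer (Q : Set G) :=
      Subgroup.centralizer_le_normalizer _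
    have hinvQ : ∀ y : G, y ∈ Subgroup.normalizer (Q : Set G) →
        y ∉ Subgroup.centralizer (Q : Set G) → y * y = 1 :=
      fun y hyN hyC => (pbc_key hp hL Q hQp hyN (pbc_not_centralizer_iff.mp hyC)).1
    have hsecond : ∀ y : G, y ∈ Subgroup.normalizer (Q : Set G) →
        y ∉ Subgroup.centralizer (Q : Set G) →
        orderOf y = 2 ∧ ∀ c : G, c ∈ Subgroup.centralizer (Q : Set G) → y * c * y⁻¹ = c⁻¹ := by
      intro y hyN hyC
      have hyy := hinvQ y hyN hyC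
      have hy1 : y ≠ 1 := by
        intro e
        apply hyC
        rw [e]; exact one_mem _
      refine ⟨orderOf_eq_prime (by rw [pow_two]; exact hyy) hy1, ?_⟩
      intro c hc
      have h1 : y * c ∈ Subgroup.normalizer (Q : Set G) := mul_mem hyN (hCNQ hc)
      have h2 : y * c ∉ Subgroup.centralizer (Q : Set G) := by
        intro hcon
        apply hyC
        have : y = (y * c) * c⁻¹ := by group
        rw [this]
        exact mul_mem hcon (inv_mem hc)
      have h3 := hinvQ (y * c) h1 h2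
      have hyinv : y⁻¹ = y := inv_eq_of_mul_eq_one_right hyy
      rw [hyinv]
      have h4 : (y * c * y) * c = 1 := by
        calc (y * c * y) * c = (y * c) * (y * c) := by group
          _ = 1 := h3
      exact eq_inv_of_mul_eq_one_left h4
    refine ⟨?_, hsecond⟩
    -- x inverts Q and is outside C(Q)
    have hxQ : ∀ k ∈ Q, x * k * x⁻¹ = k⁻¹ := fun k hk => hxinv k (hQP hk)
    have hxNQ : x ∈ Subgroup.normalizer (Q : Set G) := by
      apply tbc_mem_normalizer_of_conj_le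
      intro k hk
      rw [hxQ k hk]; exact inv_mem hk
    have hxCQ : x ∉ Subgroup.centralizer (Q : Set G) := by
      intro hcon
      have hQnt : Nontrivial Q := by
        rw [← Finite.one_lt_card_iff_nontrivial, hQcard]
        exact hpp.out.one_lt
      obtain ⟨q, hq⟩ := exists_ne (1 : Q)
      have h1 : x * (q : G) * x⁻¹ = (q : G)⁻¹ := hxQ q q.2
      have h2 : (q : G) * x = x * (q : G) := (Subgroup.mem_centralizer_iff.mp hcon) q q.2
      have h3 : x * (q : G) * x⁻¹ = q := by rw [← h2]; group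
      have h4 : (q : G) * q = 1 := by
        have : (q : G) = (q : G)⁻¹ := h3.symm.trans h1
        calc (q : G) * q = (q : G) * (q : G)⁻¹ := by rw [← this]
          _ = 1 := mul_inv_cancel _
      have h5 : orderOf (q : G) ∣ 2 := orderOf_dvd_of_pow_eq_one (by rw [pow_two]; exact h4)
      have h6 : orderOf (q : G) ∣ p := by
        rw [Subgroup.orderOf_coe, ← hQcard]; exact orderOf_dvd_natCard q
      have hcop : Nat.Coprime 2 p := by
        rw [Nat.coprime_primes Nat.prime_two hpp.out]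
        exact fun e => hp e.symm
      have h7 : orderOf (q : G) = 1 := Nat.eq_one_of_dvd_coprimes hcop h5 h6
      rw [orderOf_eq_one_iff] at h7
      exact hq (Subtype.ext h7)
    obtain ⟨_, hxinvC⟩ := hsecond x hxNQ hxCQ
    refine ⟨⟨fun a b => ?_⟩⟩
    apply Subtype.ext
    rw [Subgroup.coe_mul, Subgroup.coe_mul]
    have h1 := hxinvC (a * b) (mul_mem a.2 b.2)
    have h2 := hxinvC a a.2
    have h3 := hxinvC b b.2
    have h4 : x * ((a : G) * b) * x⁻¹ = (x * a * x⁻¹) * (x * b * x⁻¹) := by group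
    rw [h4, h2, h3, mul_inv_rev] at h1
    have h5 : ((a : G)⁻¹ * (b : G)⁻¹)⁻¹ = ((b : G)⁻¹ * (a : G)⁻¹)⁻¹ := by rw [h1]
    rw [mul_inv_rev, mul_inv_rev, inv_inv, inv_inv] at h5
    exact h5.symm

end Cfsg.Agent.Lib.Helper20
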