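import Mathlib
import Cfsg.Agent.Lib.Helper20.PByCyc1

/-!
# Groups whose `p`-by-cyclic subgroups are cyclic or dihedral (odd `p`): backward direction and the theorem (helper20)
-/

set_option linter.style.haveILetI false
set_option linter.unusedVariables false

namespace Cfsg.Agent.Lib.Helper20

open Cfsg.Agent.Lib.Helper11

variable {G : Type*} [Group G]

theorem pbc_cyclic_aux {H : Type*} [CommGroup H] [Finite H] {p : ℕ} [hpp : Fact p.Prime]
    (S : Subgroup H) (hS : IsPGroup p S) (hcyc : IsCyclic S) (hodd : ¬ p ∣ S.index)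
    (hq : IsCyclic (H ⧸ S)) : IsCyclic H := by
  rw [IsCyclic.iff_exponent_eq_card]
  apply Nat.dvd_antisymm (Group.exponent_dvd_nat_card)
  obtain ⟨s, hs⟩ := hcyc.exists_generator
  obtain ⟨q, hq'⟩ := hq.exists_generator
  obtain ⟨h, rfl⟩ := QuotientGroup.mk_surjective q
  have h1 : orderOf s = Nat.card S := orderOf_eq_card_of_forall_mem_zpowers hs
  have h2 : orderOf (h : H ⧸ S) = S.index := by
    rw [orderOf_eq_card_of_forall_mem_zpowers hq', Subgroup.index_eq_card]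
  have h3 : orderOf (h : H ⧸ S) ∣ orderOf h := orderOf_map_dvd (QuotientGroup.mk' S) h
  have h4 : orderOf (s : H) = Nat.card S := by rw [Subgroup.orderOf_coe]; exact h1
  have h5 : Nat.card S ∣ Monoid.exponent H := by
    rw [← h4]; exact Monoid.order_dvd_exponent _
  have h6 : S.index ∣ Monoid.exponent H := by
    rw [← h2]; exact h3.trans (Monoid.order_dvd_exponent _)
  obtain ⟨u, hu⟩ := IsPGroup.iff_card.mp hS
  have hcop : Nat.Coprime (Nat.card S) S.index := by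
    rw [hu]
    apply Nat.Coprime.pow_left
    rw [Nat.Prime.coprime_iff_not_dvd hpp.out]
    exact hodd
  rw [← S.card_mul_index]
  exact hcop.mul_dvd_of_dvd_of_dvd h5 h6

/-- a `p`-by-cyclic group whose cyclic Sylow `p`-subgroup is centralized by a generator of
the quotient is cyclic -/
theorem pbc_cyclic_of_central {H : Type*} [Group H] [Finite H] {p : ℕ} [hpp : Fact p.Prime]
    (S : Subgroup H) [hSn : S.Normal] (hS : IsPGroup p S) (hcyc : IsCyclic S)
    (hodd : ¬ p ∣ S.index) (y : H)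
    (hy : ∀ q : H ⧸ S, q ∈ Subgroup.zpowers (QuotientGroup.mk' S y))
    (hyc : ∀ s ∈ S, y * s = s * y) : IsCyclic H := by
  have hq : IsCyclic (H ⧸ S) := ⟨⟨_, hy⟩⟩
  obtain ⟨g, hg⟩ := hcyc.exists_generator
  have hScomm : ∀ a ∈ S, ∀ b ∈ S, a * b = b * a := by
    intro a ha b hb
    obtain ⟨i, hi⟩ := Subgroup.mem_zpowers_iff.mp (hg ⟨a, ha⟩)
    obtain ⟨j, hj⟩ := Subgroup.mem_zpowers_iff.mp (hg ⟨b, hb⟩)
    have : (⟨a, ha⟩ : S) * ⟨b, hb⟩ = ⟨b, hb⟩ * ⟨a, ha⟩ := by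
      rw [← hi, ← hj, ← zpow_add, ← zpow_add, add_comm]
    exact congrArg Subtype.val this
  have hdecomp : ∀ h : H, ∃ i : ℤ, ∃ s ∈ S, h = y ^ i * s := by
    intro h
    obtain ⟨i, hi⟩ := Subgroup.mem_zpowers_iff.mp (hy (h : H ⧸ S))
    refine ⟨i, (y ^ i)⁻¹ * h, ?_, by group⟩
    rw [← QuotientGroup.eq]
    rw [← hi]; rfl
  have hSZ : S ≤ Subgroup.center H := by
    intro s hs
    rw [Subgroup.mem_center_iff]
    intro h
    obtain ⟨i, s', hs', rfl⟩ := hdecomp h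
    have h1 : y ^ i * s = s * y ^ i := by
      have : Commute y s := hyc s hs
      exact (this.zpow_left i).eq
    calc y ^ i * s' * s = y ^ i * (s' * s) := by group
      _ = y ^ i * (s * s') := by rw [hScomm s' hs' s hs]
      _ = (y ^ i * s) * s' := by group
      _ = (s * y ^ i) * s' := by rw [h1]
      _ = s * (y ^ i * s') := by group
  have hcomm : ∀ a b : H, a * b = b * a := by
    apply commutative_of_cyclic_center_quotient (QuotientGroup.mk' S)
    rw [QuotientGroup.ker_mk']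
    exact hSZ
  letI : CommGroup H := { ‹Group H› with mul_comm := hcomm }
  exact pbc_cyclic_aux S hS hcyc hodd hq

theorem pbc_centralizer_map_conj (Q : Subgroup G) (g : G) :
    Subgroup.centralizer ((Q.map (MulAut.conj g).toMonoidHom : Subgroup G) : Set G) =
      (Subgroup.centralizer (Q : Set G)).map (MulAut.conj g).toMonoidHom := by
  ext x
  constructor
  · intro hx
    refine ⟨g⁻¹ * x * g, Subgroup.mem_centralizer_iff.mpr ?_, by simp [mul_assoc]⟩
    intro h hh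
    have h1 : g * h * g⁻¹ ∈ ((Q.map (MulAut.conj g).toMonoidHom : Subgroup G) : Set G) :=
      ⟨h, hh, rfl⟩
    have h2 := (Subgroup.mem_centralizer_iff.mp hx) _ h1
    calc h * (g⁻¹ * x * g) = g⁻¹ * ((g * h * g⁻¹) * x) * g := by group
      _ = g⁻¹ * (x * (g * h * g⁻¹)) * g := by rw [h2]
      _ = g⁻¹ * x * g * h := by group
  · rintro ⟨y, hy, rfl⟩
    rw [Subgroup.mem_centralizer_iff]
    rintro _ ⟨h, hh, rfl⟩
    have h2 := (Subgroup.mem_centralizer_iff.mp hy) h hh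
    show g * h * g⁻¹ * (g * y * g⁻¹) = g * y * g⁻¹ * (g * h * g⁻¹)
    calc g * h * g⁻¹ * (g * y * g⁻¹) = g * (h * y) * g⁻¹ := by group
      _ = g * (y * h) * g⁻¹ := by rw [h2]
      _ = g * y * g⁻¹ * (g * h * g⁻¹) := by group

theorem pbc_map_conj_inv (Q : Subgroup G) (g : G) :
    (Q.map (MulAut.conj g⁻¹).toMonoidHom).map (MulAut.conj g).toMonoidHom = Q := by
  ext x
  constructor
  · rintro ⟨_, ⟨k, hk, rfl⟩, rfl⟩
    have : (MulAut.conj g).toMonoidHom ((MulAut.conj g⁻¹).toMonoidHom k) = k := by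
      show g * (g⁻¹ * k * g⁻¹⁻¹) * g⁻¹ = k
      group
    rw [this]; exact hk
  · intro hx
    refine ⟨g⁻¹ * x * g, ⟨x, hx, ?_⟩, ?_⟩
    · show g⁻¹ * x * g⁻¹⁻¹ = g⁻¹ * x * g
      group
    · show g * (g⁻¹ * x * g) * g⁻¹ = x
      group

/-- transport of the conditions on `Q` along conjugation -/
theorem pbc_transport (Q : Subgroup G) (g : G)
    (hc : IsMulCommutative ↥(Subgroup.centralizer (Q : Set G)))
    (hx : ∀ x : G, x ∈ Subgroup.normalizer (Q : Set G) → x ∉ Subgroup.centralizer (Q : Set G) →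
      orderOf x = 2 ∧ ∀ c : G, c ∈ Subgroup.centralizer (Q : Set G) → x * c * x⁻¹ = c⁻¹) :
    (∀ a ∈ Subgroup.centralizer ((Q.map (MulAut.conj g).toMonoidHom : Subgroup G) : Set G),
      ∀ b ∈ Subgroup.centralizer ((Q.map (MulAut.conj g).toMonoidHom : Subgroup G) : Set G),
        a * b = b * a) ∧
    (∀ x : G, x ∈ Subgroup.normalizer ((Q.map (MulAut.conj g).toMonoidHom : Subgroup G) : Set G) →
      x ∉ Subgroup.centralizer ((Q.map (MulAut.conj g).toMonoidHom : Subgroup G) : Set G) →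
      x * x = 1 ∧ ∀ c ∈ Subgroup.centralizer
        ((Q.map (MulAut.conj g).toMonoidHom : Subgroup G) : Set G), x * c * x⁻¹ = c⁻¹) := by
  rw [pbc_centralizer_map_conj]
  have hN := Subgroup.map_equiv_normalizer_eq Q (MulAut.conj g)
  rw [← hN]
  constructor
  · rintro _ ⟨a, ha, rfl⟩ _ ⟨b, hb, rfl⟩
    have h1 : (⟨a, ha⟩ : Subgroup.centralizer (Q : Set G)) * ⟨b, hb⟩ = ⟨b, hb⟩ * ⟨a, ha⟩ :=
      hc.is_comm.comm _ _
    have h2 : a * b = b * a := congrArg Subtype.val h1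
    rw [← map_mul, ← map_mul, h2]
  · rintro _ ⟨x, hxN, rfl⟩ hxC
    have hxC' : x ∉ Subgroup.centralizer (Q : Set G) := fun hcon => hxC ⟨x, hcon, rfl⟩
    obtain ⟨ho, hinv⟩ := hx x hxN hxC'
    have hxx : x * x = 1 := by
      rw [← pow_two, ← ho]; exact pow_orderOf_eq_one x
    refine ⟨by rw [← map_mul, hxx, map_one], ?_⟩
    rintro _ ⟨c, hc', rfl⟩
    rw [← map_inv, ← map_mul, ← map_mul, hinv c hc', map_inv]

theorem pbc_omega [Finite G] {p : ℕ} [hpp : Fact p.Prime] (S₀ : Subgroup G)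
    (hS : IsPGroup p S₀) (hcyc : IsCyclic S₀) (hne : S₀ ≠ ⊥) :
    ∃ Q₀ : Subgroup G, Q₀ ≤ S₀ ∧ Nat.card Q₀ = p ∧
      (∀ y : G, (∀ t ∈ S₀, y * t * y⁻¹ ∈ S₀) → y ∈ Subgroup.normalizer (Q₀ : Set G)) ∧
      (∀ t ∈ S₀, t ∈ Subgroup.centralizer (Q₀ : Set G)) := by
  obtain ⟨r, hr⟩ := (Subgroup.isCyclic_iff_exists_zpowers_eq_top _).mp hcyc
  obtain ⟨n, hn⟩ := IsPGroup.iff_card.mp hS
  have hn0 : n ≠ 0 := by
    intro h0
    rw [h0, pow_zero] at hn
    exact hne (Subgroup.eq_bot_of_card_eq _ hn)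
  have hor : orderOf r = p ^ n := by
    rw [← Nat.card_zpowers, hr, hn]
  obtain ⟨q₀, hq₀⟩ : ∃ q₀, q₀ = r ^ (p ^ (n - 1)) := ⟨_, rfl⟩
  have hppos : 0 < p := hpp.out.pos
  have hoq : orderOf q₀ = p := by
    rw [hq₀, orderOf_pow_of_dvd (pow_pos hppos _).ne' (by rw [hor]; exact pow_dvd_pow p (Nat.sub_le n 1)),
      hor, Nat.pow_div (Nat.sub_le n 1) hppos]
    have : n - (n - 1) = 1 := by omega
    rw [this, pow_one]
  have hq₀S : q₀ ∈ S₀ := by
    rw [hq₀, ← hr]; exact pow_mem (Subgroup.mem_zpowers r) _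
  refine ⟨Subgroup.zpowers q₀, Subgroup.zpowers_le.mpr hq₀S, by rw [Nat.card_zpowers, hoq], ?_, ?_⟩
  · intro y hy
    apply tbc_mem_normalizer_of_conj_le
    have h1 : y * r * y⁻¹ ∈ Subgroup.zpowers r := by
      rw [hr]; exact hy r (by rw [← hr]; exact Subgroup.mem_zpowers r)
    obtain ⟨i, hi⟩ := Subgroup.mem_zpowers_iff.mp h1
    have h2 : y * q₀ * y⁻¹ = q₀ ^ i := by
      have := map_pow (MulAut.conj y) r (p ^ (n - 1))
      rw [MulAut.conj_apply, MulAut.conj_apply] at this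
      rw [hq₀, this, ← hi, ← zpow_natCast, ← zpow_natCast, ← zpow_mul, ← zpow_mul, mul_comm]
    intro k hk
    obtain ⟨j, rfl⟩ := Subgroup.mem_zpowers_iff.mp hk
    have := map_zpow (MulAut.conj y) q₀ j
    rw [MulAut.conj_apply, MulAut.conj_apply] at this
    rw [this, h2]
    exact zpow_mem (zpow_mem (Subgroup.mem_zpowers q₀) i) j
  · intro t ht
    rw [Subgroup.mem_centralizer_iff]
    intro k hk
    have hk' : k ∈ Subgroup.zpowers r := by
      rw [hr]; exact (Subgroup.zpowers_le.mpr hq₀S) hk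
    rw [← hr] at ht
    obtain ⟨a, rfl⟩ := Subgroup.mem_zpowers_iff.mp ht
    obtain ⟨b, rfl⟩ := Subgroup.mem_zpowers_iff.mp hk'
    rw [← zpow_add, ← zpow_add, add_comm]

theorem pbc_dihedral_case [Finite G] {p : ℕ} [hpp : Fact p.Prime] (H : Subgroup G)
    (S : Sylow p ↥H) [hSn : (S : Subgroup ↥H).Normal]
    (hcyc : IsCyclic ↥((S : Subgroup ↥H).map H.subtype)) (y : ↥H)
    (hy : ∀ q : ↥H ⧸ (S : Subgroup ↥H), q ∈ Subgroup.zpowers (QuotientGroup.mk' (S : Subgroup ↥H) y))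
    (hyy : (y : G) * y = 1)
    (hyinv : ∀ t ∈ (S : Subgroup ↥H).map H.subtype, (y : G) * t * (y : G)⁻¹ = t⁻¹)
    (hyS : (y : G) ∉ (S : Subgroup ↥H).map H.subtype) :
    ∃ n : ℕ, Nonempty (H ≃* DihedralGroup (p ^ n)) := by
  obtain ⟨r, hr⟩ := (Subgroup.isCyclic_iff_exists_zpowers_eq_top _).mp hcyc
  have hS0H : (S : Subgroup ↥H).map H.subtype ≤ H := Subgroup.map_subtype_le _
  have hrS : r ∈ (S : Subgroup ↥H).map H.subtype := by rw [← hr]; exact Subgroup.mem_zpowers r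
  have hyy' : y * y = 1 := Subtype.ext hyy
  have hypow : ∀ i : ℤ, y ^ i = 1 ∨ y ^ i = y := by
    intro i
    have h2 : y ^ (2 : ℤ) = 1 := by
      rw [zpow_ofNat, pow_two]; exact hyy'
    obtain ⟨k, hk | hk⟩ := Int.even_or_odd' i
    · left
      rw [hk, zpow_mul, h2, one_zpow]
    · right
      rw [hk, zpow_add, zpow_mul, h2, one_zpow, one_mul, zpow_one]
  have hgen : DihGen H r (y : G) (orderOf r) := by
    refine ⟨hS0H hrS, y.2, rfl, hyy, hyinv r hrS, by rw [hr]; exact hyS, ?_⟩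
    intro h hh
    obtain ⟨i, hi⟩ := Subgroup.mem_zpowers_iff.mp (hy ((⟨h, hh⟩ : ↥H) : ↥H ⧸ (S : Subgroup ↥H)))
    have h1 : (y ^ i)⁻¹ * ⟨h, hh⟩ ∈ (S : Subgroup ↥H) := by
      rw [← QuotientGroup.eq, ← hi]; rfl
    rcases hypow i with h2 | h2
    · left
      rw [h2, inv_one, one_mul] at h1
      rw [hr]
      exact ⟨⟨h, hh⟩, h1, rfl⟩
    · right
      rw [h2] at h1
      refine ⟨(y : G)⁻¹ * h, ?_, by group⟩
      rw [hr]
      exact ⟨y⁻¹ * ⟨h, hh⟩, h1, by simp⟩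
  have hS0p : IsPGroup p ↥((S : Subgroup ↥H).map H.subtype) := S.isPGroup'.map _
  obtain ⟨n, hn⟩ := IsPGroup.iff_card.mp hS0p
  have hor : orderOf r = p ^ n := by
    rw [← Nat.card_zpowers, hr, hn]
  rw [hor] at hgen
  exact ⟨n, tbc_dihGen_equiv hgen⟩

theorem pbc_conj_mem (H : Subgroup G) (S : Subgroup ↥H) [hSn : S.Normal] {h t : G} (hh : h ∈ H)
    (ht : t ∈ S.map H.subtype) : h * t * h⁻¹ ∈ S.map H.subtype := by
  obtain ⟨s, hs, rfl⟩ := ht
  refine ⟨⟨h, hh⟩ * s * ⟨h, hh⟩⁻¹, hSn.conj_mem s hs ⟨h, hh⟩, ?_⟩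
  simp

theorem pbc_backward [Finite G] {p : ℕ} [hpp : Fact p.Prime] (hp : p ≠ 2) (P : Sylow p G)
    (hR : IsCyclic P ∧
      (Subgroup.normalizer ((P : Subgroup G) : Set G) =
          Subgroup.centralizer ((P : Subgroup G) : Set G) ∨
       ((Subgroup.centralizer ((P : Subgroup G) : Set G)).relIndex
          (Subgroup.normalizer ((P : Subgroup G) : Set G)) = 2 ∧
        ∀ Q : Subgroup G, Q ≤ P → Nat.card Q = p →
          IsMulCommutative ↥(Subgroup.centralizer (Q : Set G)) ∧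
          ∀ x : G, x ∈ Subgroup.normalizer (Q : Set G) → x ∉ Subgroup.centralizer (Q : Set G) →
            orderOf x = 2 ∧ ∀ c : G, c ∈ Subgroup.centralizer (Q : Set G) →
              x * c * x⁻¹ = c⁻¹)))
    (H : Subgroup G) (hn : ∀ S : Sylow p ↥H, (S : Subgroup ↥H).Normal)
    (hq : ∀ (S : Sylow p ↥H) [(S : Subgroup ↥H).Normal], IsCyclic (↥H ⧸ (S : Subgroup ↥H))) :
    IsCyclic H ∨ (∃ n : ℕ, Nonempty (H ≃* DihedralGroup (p ^ n))) := by
  obtain ⟨hPc, hcase⟩ := hR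
  obtain ⟨S⟩ : Nonempty (Sylow p ↥H) := inferInstance
  haveI hSn := hn S
  have hqS := hq S
  have hS0p : IsPGroup p ↥((S : Subgroup ↥H).map H.subtype) := S.isPGroup'.map _
  obtain ⟨P', hP'⟩ := hS0p.exists_le_sylow
  obtain ⟨g, hg⟩ := MulAction.exists_smul_eq G P P'
  have hP'c : IsCyclic ↥(P' : Subgroup G) := (Sylow.equiv P' P).isCyclic.mpr hPc
  have hS0c : IsCyclic ↥((S : Subgroup ↥H).map H.subtype) := Subgroup.isCyclic_of_le hP'
  have hSc : IsCyclic ↥(S : Subgroup ↥H) :=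
    ((S : Subgroup ↥H).equivMapOfInjective H.subtype H.subtype_injective).isCyclic.mpr hS0c
  obtain ⟨q, hq'⟩ := hqS.exists_generator
  obtain ⟨y, rfl⟩ := QuotientGroup.mk_surjective q
  have hynorm : ∀ t ∈ (S : Subgroup ↥H).map H.subtype,
      (y : G) * t * (y : G)⁻¹ ∈ (S : Subgroup ↥H).map H.subtype :=
    fun t ht => pbc_conj_mem H (S : Subgroup ↥H) y.2 ht
  have hcyc_of_central : (∀ t ∈ (S : Subgroup ↥H).map H.subtype, (y : G) * t = t * y) →
      IsCyclic H := by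
    intro hc
    apply pbc_cyclic_of_central (S : Subgroup ↥H) S.isPGroup' hSc S.not_dvd_index y hq'
    intro s hs
    apply Subtype.ext
    exact hc s ⟨s, hs, rfl⟩
  have hmemP : ∀ t ∈ (P' : Subgroup G), g⁻¹ * t * g ∈ (P : Subgroup G) := by
    intro t ht
    rw [← hg, Sylow.coe_subgroup_smul, Subgroup.mem_pointwise_smul_iff_inv_smul_mem] at ht
    have h1 : (MulAut.conj g)⁻¹ • t = g⁻¹ * t * g := by
      rw [MulAut.smul_def, MulAut.conj_inv_apply]
    rwa [h1] at ht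
  rcases hcase with hNC | ⟨_, hQ⟩
  · left
    apply hcyc_of_central
    intro t ht
    haveI : IsMulCommutative ↥(P : Subgroup G) := hPc.isMulCommutative
    have h1 : g⁻¹ * t * g ∈ (P : Subgroup G) := hmemP t (hP' ht)
    have h2 : (g⁻¹ * (y : G)⁻¹ * g)⁻¹ * (g⁻¹ * t * g) * (g⁻¹ * (y : G)⁻¹ * g) ∈ (P : Subgroup G) := by
      have : (g⁻¹ * (y : G)⁻¹ * g)⁻¹ * (g⁻¹ * t * g) * (g⁻¹ * (y : G)⁻¹ * g) =
          g⁻¹ * ((y : G) * t * (y : G)⁻¹) * g := by group
      rw [this]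
      exact hmemP _ (hP' (hynorm t ht))
    obtain ⟨n, hnN, hn⟩ := P.conj_eq_normalizer_conj_of_mem (g⁻¹ * t * g) (g⁻¹ * (y : G)⁻¹ * g) h1 h2
    have hnN' : n ∈ Subgroup.normalizer ((P : Subgroup G) : Set G) := hnN
    rw [hNC] at hnN'
    have h3 : n⁻¹ * (g⁻¹ * t * g) * n = g⁻¹ * t * g := by
      have := (Subgroup.mem_centralizer_iff.mp hnN') _ h1
      calc n⁻¹ * (g⁻¹ * t * g) * n = n⁻¹ * ((g⁻¹ * t * g) * n) := by group
        _ = n⁻¹ * (n * (g⁻¹ * t * g)) := by rw [this]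
        _ = g⁻¹ * t * g := by group
    rw [h3] at hn
    have h4 : g⁻¹ * ((y : G) * t * (y : G)⁻¹) * g = g⁻¹ * t * g := by
      rw [← hn]; group
    have h5 : (y : G) * t * (y : G)⁻¹ = t := by
      have := mul_left_cancel (mul_right_cancel h4)
      exact this
    calc (y : G) * t = ((y : G) * t * (y : G)⁻¹) * y := by group
      _ = t * y := by rw [h5]
  · by_cases hbot : (S : Subgroup ↥H).map H.subtype = ⊥
    · left
      apply hcyc_of_central
      intro t ht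
      rw [hbot, Subgroup.mem_bot] at ht
      rw [ht, mul_one, one_mul]
    obtain ⟨Q₀, hQ₀S, hQ₀card, hQ₀N, hQ₀C⟩ := pbc_omega _ hS0p hS0c hbot
    obtain ⟨Q, hQdef⟩ : ∃ Q, Q = Q₀.map (MulAut.conj g⁻¹).toMonoidHom := ⟨_, rfl⟩
    have hQP : Q ≤ P := by
      rw [hQdef]
      rintro _ ⟨k, hk, rfl⟩
      have := hmemP k (hP' (hQ₀S hk))
      show g⁻¹ * k * g⁻¹⁻¹ ∈ (P : Subgroup G)
      rwa [inv_inv]
    have hQcard : Nat.card Q = p := by
      rw [hQdef, Subgroup.card_map_of_injective (MulAut.conj g⁻¹).injective, hQ₀card]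
    obtain ⟨hQc, hQx⟩ := hQ Q hQP hQcard
    have htr := pbc_transport Q g hQc hQx
    have hQQ₀ : Q.map (MulAut.conj g).toMonoidHom = Q₀ := by
      rw [hQdef]; exact pbc_map_conj_inv Q₀ g
    rw [hQQ₀] at htr
    obtain ⟨htr1, htr2⟩ := htr
    by_cases hyC : (y : G) ∈ Subgroup.centralizer (Q₀ : Set G)
    · left
      apply hcyc_of_central
      intro t ht
      exact htr1 _ hyC _ (hQ₀C t ht)
    · right
      obtain ⟨hyy, hyinv⟩ := htr2 (y : G) (hQ₀N _ hynorm) hyC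
      exact pbc_dihedral_case H S hS0c y hq' hyy (fun t ht => hyinv t (hQ₀C t ht))
        (fun hcon => hyC (hQ₀C _ hcon))


/-- **Groups whose `p`-by-cyclic subgroups are cyclic or dihedral** (`p` odd). -/
theorem pbc_main [Finite G] {p : ℕ} [Fact p.Prime] (hp : p ≠ 2) (P : Sylow p G) :
    (∀ H : Subgroup G, (∀ S : Sylow p ↥H, (S : Subgroup ↥H).Normal) →
        (∀ (S : Sylow p ↥H) [(S : Subgroup ↥H).Normal], IsCyclic (↥H ⧸ (S : Subgroup ↥H))) →
        IsCyclic H ∨ (∃ n : ℕ, Nonempty (H ≃* DihedralGroup (p ^ n)))) ↔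
    (IsCyclic P ∧
      (Subgroup.normalizer ((P : Subgroup G) : Set G) = Subgroup.centralizer ((P : Subgroup G) : Set G) ∨
       ((Subgroup.centralizer ((P : Subgroup G) : Set G)).relIndex (Subgroup.normalizer ((P : Subgroup G) : Set G)) = 2 ∧
        ∀ Q : Subgroup G, Q ≤ P → Nat.card Q = p →
          IsMulCommutative ↥(Subgroup.centralizer (Q : Set G)) ∧
          ∀ x : G, x ∈ Subgroup.normalizer (Q : Set G) → x ∉ Subgroup.centralizer (Q : Set G) →
            orderOf x = 2 ∧ ∀ c : G, c ∈ Subgroup.centralizer (Q : Set G) → x * c * x⁻¹ = c⁻¹))) :=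
  ⟨pbc_forward hp P, fun hR H hn hq => pbc_backward hp P hR H hn hq⟩

end Cfsg.Agent.Lib.Helper20
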