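import Cfsg.Agent.Lib.Helper20.Wielandt
import Cfsg.Agent.Lib.Helper20.FstarComm3
import Cfsg.Agent.Lib.Helper16.ResidualQuot
import Cfsg.Agent.Lib.Helper16.PClosedQuot
import Cfsg.Agent.Lib.Helper16.Subnormal
import Cfsg.Agent.Lib.Helper16.WeaklyClosed
import Cfsg.Agent.Lib.Helper17.SylowConj

/-!
Structure of `p`-minimal groups (helper20).
-/

set_option autoImplicit false

namespace Cfsg.Agent.Lib.Helper20

open scoped commutatorElement
open Cfsg

section pmin

variable {P : Type*} [Group P] [Finite P] {p : ℕ} [hp : Fact p.Prime]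

/-- In a `p`-minimal group, a proper subgroup containing the Sylow `p`-subgroup `S` lies in the
unique maximal subgroup over `S`. -/
theorem le_coatom_of_sylow_le (hP : IsPMinimal p P) (S : Sylow p P) (M : Subgroup P)
    (hM : IsCoatom M) (hSM : (S : Subgroup P) ≤ M) {H : Subgroup P}
    (hSH : (S : Subgroup P) ≤ H) (hH : H ≠ ⊤) : H ≤ M := by
  obtain ⟨M', hM', hHM'⟩ := (eq_top_or_exists_le_coatom H).resolve_left hH
  obtain ⟨-, M₀, -, huniq⟩ := hP S
  have e1 := huniq M ⟨hM, hSM⟩
  have e2 := huniq M' ⟨hM', hSH.trans hHM'⟩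
  rw [e1, ← e2]; exact hHM'

theorem pResidual_le_or_le_normalCore (hP : IsPMinimal p P) (S : Sylow p P) (M : Subgroup P)
    (hM : IsCoatom M) (hSM : (S : Subgroup P) ≤ M) (N : Subgroup P) (hN : N.Normal) :
    pResidual p P ≤ N ∨ N ≤ M.normalCore := by
  by_cases h : N ≤ M
  · exact Or.inr (Subgroup.normal_le_normalCore.mpr h)
  · left
    have htop : (S : Subgroup P) ⊔ N = ⊤ := by
      by_contra hne
      exact h (le_sup_right.trans (le_coatom_of_sylow_le hP S M hM hSM le_sup_left hne))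
    apply Cfsg.Agent.Lib.Helper16.pResidual_le_of_le_sup N (S : Subgroup P) S.2
    rw [htop]; exact le_top

theorem pResidual_not_le_coatom (S : Sylow p P) (M : Subgroup P)
    (hM : IsCoatom M) (hSM : (S : Subgroup P) ≤ M) : ¬ pResidual p P ≤ M := by
  intro h
  apply hM.1
  rw [eq_top_iff, ← Cfsg.Agent.Lib.Helper16.pResidual_sup_sylow p S]
  exact sup_le h hSM

omit [Finite P] hp in
theorem map_conj_map_conj (H : Subgroup P) (a b : P) :
    (H.map (MulAut.conj a).toMonoidHom).map (MulAut.conj b).toMonoidHom =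
      H.map (MulAut.conj (b * a)).toMonoidHom := by
  rw [Subgroup.map_map]
  congr 1
  ext x
  simp [MulAut.conj_apply, mul_assoc]

omit [Finite P] hp in
theorem map_conj_one (H : Subgroup P) : H.map (MulAut.conj (1 : P)).toMonoidHom = H := by
  have : (MulAut.conj (1 : P)).toMonoidHom = MonoidHom.id P := by
    ext x
    simp
  rw [this, Subgroup.map_id]

theorem normalClosure_le_coatom_of_isSubnormal (hP : IsPMinimal p P) (S : Sylow p P)
    (M : Subgroup P) (hM : IsCoatom M) (hSM : (S : Subgroup P) ≤ M) (N : Subgroup P)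
    (hN : N.IsSubnormal) (hNM : N ≤ M) : Subgroup.normalClosure (N : Set P) ≤ M := by
  by_contra hK
  have hKn : (Subgroup.normalClosure (N : Set P)).Normal := inferInstance
  have htop : Subgroup.normalClosure (N : Set P) ⊔ (S : Subgroup P) = ⊤ := by
    by_contra hne
    exact hK (le_sup_left.trans (le_coatom_of_sylow_le hP S M hM hSM le_sup_right hne))
  obtain ⟨N₁, hN₁def⟩ : ∃ N₁ : Subgroup P, N₁ = sSup {U : Subgroup P |
      ∃ s ∈ (S : Subgroup P), U = N.map (MulAut.conj s).toMonoidHom} := ⟨_, rfl⟩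
  have hgen : ∀ s ∈ (S : Subgroup P), N.map (MulAut.conj s).toMonoidHom ≤ N₁ := by
    intro s hs
    rw [hN₁def]
    exact le_sSup ⟨s, hs, rfl⟩
  have hN₁sn : N₁.IsSubnormal := by
    rw [hN₁def]
    apply sSup_isSubnormal
    rintro U ⟨s, hs, rfl⟩
    exact hN.map (MulAut.conj s).surjective
  have hNN₁ : N ≤ N₁ := by
    have := hgen 1 (one_mem _)
    rwa [map_conj_one] at this
  have hN₁M : N₁ ≤ M := by
    rw [hN₁def]
    apply sSup_le
    rintro U ⟨s, hs, rfl⟩
    rintro _ ⟨n, hn, rfl⟩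
    simp only [MulEquiv.coe_toMonoidHom, MulAut.conj_apply]
    exact M.mul_mem (M.mul_mem (hSM hs) (hNM hn)) (M.inv_mem (hSM hs))
  have hN₁K : N₁ ≤ Subgroup.normalClosure (N : Set P) := by
    rw [hN₁def]
    apply sSup_le
    rintro U ⟨s, hs, rfl⟩
    rintro _ ⟨n, hn, rfl⟩
    simp only [MulEquiv.coe_toMonoidHom, MulAut.conj_apply]
    exact hKn.conj_mem n (Subgroup.le_normalClosure hn) s
  have hSN₁le : ∀ s ∈ (S : Subgroup P), N₁.map (MulAut.conj s).toMonoidHom ≤ N₁ := by
    intro s hs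
    rw [Subgroup.map_le_iff_le_comap]
    conv_lhs => rw [hN₁def]
    apply sSup_le
    rintro U ⟨t, ht, rfl⟩
    rw [← Subgroup.map_le_iff_le_comap, map_conj_map_conj]
    exact hgen _ (Subgroup.mul_mem _ hs ht)
  have hne : N₁ ≠ Subgroup.normalClosure (N : Set P) := fun h => hK (h ▸ hN₁M)
  have hsn' : (N₁.subgroupOf (Subgroup.normalClosure (N : Set P))).IsSubnormal := hN₁sn.subgroupOf
  have hne' : N₁.subgroupOf (Subgroup.normalClosure (N : Set P)) ≠ ⊤ := by
    intro h
    exact hne (le_antisymm hN₁K (Subgroup.subgroupOf_eq_top.mp h))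
  obtain ⟨K', hK'n, hN₁K', hK'lt⟩ := (hsn'.lt_normal).resolve_left hne'
  have hconj : ∀ g : P, ∀ n ∈ N₁,
      g * n * g⁻¹ ∈ K'.map (Subgroup.normalClosure (N : Set P)).subtype := by
    intro g n hn
    have hg : g ∈ Subgroup.normalClosure (N : Set P) ⊔ (S : Subgroup P) := by rw [htop]; trivial
    obtain ⟨k, hk, s, hs, rfl⟩ := Subgroup.mem_sup_of_normal_left.mp hg
    have hsn : s * n * s⁻¹ ∈ N₁ := by
      apply hSN₁le s hs
      exact ⟨n, hn, by simp [MulAut.conj_apply]⟩
    have hmem : (⟨k, hk⟩ : ↥(Subgroup.normalClosure (N : Set P))) *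
        ⟨s * n * s⁻¹, hN₁K hsn⟩ * (⟨k, hk⟩ : ↥(Subgroup.normalClosure (N : Set P)))⁻¹ ∈ K' :=
      hK'n.conj_mem _ (hN₁K' (show _ ∈ N₁.subgroupOf _ from hsn)) _
    refine ⟨_, hmem, ?_⟩
    simp only [Subgroup.coe_subtype, Subgroup.coe_mul, Subgroup.coe_inv]
    group
  have hKle : Subgroup.normalClosure (N : Set P) ≤
      K'.map (Subgroup.normalClosure (N : Set P)).subtype := by
    refine (Subgroup.normalClosure_mono (show (N : Set P) ⊆ N₁ from hNN₁)).trans ?_
    unfold Subgroup.normalClosure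
    rw [Subgroup.closure_le]
    intro x hx
    obtain ⟨n, hn, hnx⟩ := Group.mem_conjugatesOfSet_iff.mp hx
    obtain ⟨c, rfl⟩ := isConj_iff.mp hnx
    exact hconj c n hn
  apply hK'lt.ne
  rw [eq_top_iff]
  intro x _
  obtain ⟨y, hy, hyx⟩ := hKle x.2
  have : y = x := Subtype.ext hyx
  rwa [this] at hy

theorem inf_sylow_le_pCore_of_isSubnormal (hP : IsPMinimal p P) (S : Sylow p P)
    (M : Subgroup P) (hM : IsCoatom M) (hSM : (S : Subgroup P) ≤ M) (N : Subgroup P)
    (hN : N.IsSubnormal) (hNM : N ≤ M) : N ⊓ (S : Subgroup P) ≤ pCore p P := by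
  have hKM := normalClosure_le_coatom_of_isSubnormal hP S M hM hSM N hN hNM
  have hKn : (Subgroup.normalClosure (N : Set P)).Normal := inferInstance
  have hQp : IsPGroup p ↥(Subgroup.normalClosure (N : Set P) ⊓ (S : Subgroup P)) :=
    S.2.to_le inf_le_right
  have hndvd : ¬ p ∣ ((Subgroup.normalClosure (N : Set P) ⊓ (S : Subgroup P)).subgroupOf
      (Subgroup.normalClosure (N : Set P))).index := by
    have h1 := Cfsg.Agent.Lib.Helper17.not_dvd_relIndex_of_sylow_of_normal S
      (Subgroup.normalClosure (N : Set P))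
    rw [← Subgroup.inf_relIndex_right, inf_comm] at h1
    exact h1
  have hfr := Sylow.normalizer_sup_eq_top ((hQp.comap_subtype).toSylow hndvd)
  have e1 : (((hQp.comap_subtype).toSylow hndvd : Sylow p ↥(Subgroup.normalClosure (N : Set P))) :
      Subgroup ↥(Subgroup.normalClosure (N : Set P))) =
      (Subgroup.normalClosure (N : Set P) ⊓ (S : Subgroup P)).subgroupOf
        (Subgroup.normalClosure (N : Set P)) := rfl
  rw [e1, Subgroup.map_subgroupOf_eq_of_le inf_le_left] at hfr
  have hSN : (S : Subgroup P) ≤ Subgroup.normalizer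
      ((Subgroup.normalClosure (N : Set P) ⊓ (S : Subgroup P) : Subgroup P) : Set P) := by
    apply le_normalizer_inf' _ Subgroup.le_normalizer
    rw [Subgroup.normalizer_eq_top_iff.mpr hKn]
    exact le_top
  have hnorm : Subgroup.normalizer
      ((Subgroup.normalClosure (N : Set P) ⊓ (S : Subgroup P) : Subgroup P) : Set P) = ⊤ := by
    by_contra hne
    have h2 := le_coatom_of_sylow_le hP S M hM hSM hSN hne
    apply hM.1
    rw [eq_top_iff, ← hfr]
    exact sup_le h2 hKM
  have hQn : (Subgroup.normalClosure (N : Set P) ⊓ (S : Subgroup P)).Normal :=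
    Subgroup.normalizer_eq_top_iff.mp hnorm
  exact (inf_le_inf_right _ Subgroup.le_normalClosure).trans (le_pCore' hQn hQp)

omit hp in
/-- Second isomorphism theorem, index form. -/
theorem index_eq_relIndex_of_sup_eq_top (N L : Subgroup P) [L.Normal] (h : N ⊔ L = ⊤) :
    N.index = (N ⊓ L).relIndex L := by
  have c1 : Nat.card N * N.index = Nat.card P := Subgroup.card_mul_index N
  have c2 : Nat.card L * L.index = Nat.card P := Subgroup.card_mul_index L
  have c3 : Nat.card (N ⊓ L : Subgroup P) * (N ⊓ L).relIndex L = Nat.card L := by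
    have := Subgroup.relIndex_mul_relIndex (⊥ : Subgroup P) (N ⊓ L) L bot_le inf_le_right
    rwa [Subgroup.relIndex_bot_left, Subgroup.relIndex_bot_left] at this
  have c4 : Nat.card (N ⊓ L : Subgroup P) * (N ⊓ L).relIndex N = Nat.card N := by
    have := Subgroup.relIndex_mul_relIndex (⊥ : Subgroup P) (N ⊓ L) N bot_le inf_le_left
    rwa [Subgroup.relIndex_bot_left, Subgroup.relIndex_bot_left] at this
  have c5 : (N ⊓ L).relIndex N = L.index := by
    rw [Subgroup.inf_relIndex_left, ← Subgroup.relIndex_sup_right N L, h,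
      Subgroup.relIndex_top_right]
  rw [c5] at c4
  have hpos1 : 0 < Nat.card (N ⊓ L : Subgroup P) := Nat.card_pos
  have hpos2 : 0 < L.index := Nat.pos_of_ne_zero Subgroup.index_ne_zero_of_finite
  have key : (Nat.card (N ⊓ L : Subgroup P) * L.index) * N.index =
      (Nat.card (N ⊓ L : Subgroup P) * L.index) * (N ⊓ L).relIndex L := by
    calc (Nat.card (N ⊓ L : Subgroup P) * L.index) * N.index
        = Nat.card N * N.index := by rw [c4]
      _ = Nat.card L * L.index := by rw [c1, c2]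
      _ = (Nat.card (N ⊓ L : Subgroup P) * (N ⊓ L).relIndex L) * L.index := by rw [c3]
      _ = (Nat.card (N ⊓ L : Subgroup P) * L.index) * (N ⊓ L).relIndex L := by ring
  exact Nat.eq_of_mul_eq_mul_left (Nat.mul_pos hpos1 hpos2) key

omit [Finite P] hp in
theorem card_sup_dvd_mul_of_le_normalizer (H K : Subgroup P)
    (h : H ≤ Subgroup.normalizer (K : Set P)) :
    Nat.card (H ⊔ K : Subgroup P) ∣ Nat.card H * Nat.card K := by
  have hK : K ≤ H ⊔ K := le_sup_right
  have hH : H ≤ H ⊔ K := le_sup_left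
  have hn : (K.subgroupOf (H ⊔ K)).Normal :=
    (Subgroup.normal_subgroupOf_iff_le_normalizer hK).mpr (sup_le h Subgroup.le_normalizer)
  have h1 := card_sup_dvd_mul (H.subgroupOf (H ⊔ K)) (K.subgroupOf (H ⊔ K))
  rw [← Subgroup.subgroupOf_sup hH hK, Subgroup.subgroupOf_self, Subgroup.card_top,
    Nat.card_congr (Subgroup.subgroupOfEquivOfLe hH).toEquiv,
    Nat.card_congr (Subgroup.subgroupOfEquivOfLe hK).toEquiv] at h1
  exact h1

/-- If `O^p(P)` has a normal Sylow `p`-subgroup `T`, then for every prime `r ≠ p` some subgroup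
`T R` (`R` a Sylow `r`-subgroup of `P`) is normalized by the Sylow `p`-subgroup `S`. -/
theorem exists_invariant_hall_pr (S : Sylow p P)
    (h2 : ∀ T : Sylow p ↥(pResidual p P), (T : Subgroup ↥(pResidual p P)).Normal)
    (r : ℕ) [hr : Fact r.Prime] (hrp : r ≠ p) :
    ∃ Y : Subgroup P, (S : Subgroup P) ≤ Subgroup.normalizer (Y : Set P) ∧
      (∃ a b : ℕ, Nat.card Y ∣ p ^ a * r ^ b) ∧
      ∀ k : ℕ, r ^ k ∣ Nat.card P → r ^ k ∣ Nat.card Y := by
  haveI hLn : (pResidual p P).Normal := Cfsg.Agent.Lib.Helper16.pResidual_normal p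
  obtain ⟨L, hL⟩ : ∃ L : Subgroup P, L = pResidual p P := ⟨_, rfl⟩
  rw [← hL] at h2 hLn
  let T₀ : Sylow p ↥L := default
  have hT₀n : (T₀ : Subgroup ↥L).Normal := h2 T₀
  have hT₀c : (T₀ : Subgroup ↥L).Characteristic := Sylow.characteristic_of_normal T₀ hT₀n
  obtain ⟨T, hTdef⟩ : ∃ T : Subgroup P, T = (T₀ : Subgroup ↥L).map L.subtype := ⟨_, rfl⟩
  have hTL : T ≤ L := by rw [hTdef]; exact Subgroup.map_subtype_le _
  have hTn : T.Normal := by
    rw [← Subgroup.normalizer_eq_top_iff, eq_top_iff, hTdef]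
    have := normalizer_le_normalizer_map_of_characteristic L (T₀ : Subgroup ↥L) hT₀c
    rwa [Subgroup.normalizer_eq_top_iff.mpr hLn] at this
  have hTp : IsPGroup p T := by rw [hTdef]; exact T₀.2.map _
  have hTidx : ¬ p ∣ T.relIndex L := by
    have h1 : T.subgroupOf L = (T₀ : Subgroup ↥L) := by
      rw [hTdef]; exact Subgroup.comap_map_eq_self_of_injective L.subtype_injective _
    unfold Subgroup.relIndex
    rw [h1]; exact T₀.not_dvd_index
  let R : Sylow r P := default
  have hRL : (R : Subgroup P) ≤ L := by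
    intro x hx
    rw [hL]
    apply Cfsg.Agent.Lib.Helper16.mem_pResidual_of_coprime
    obtain ⟨k, hk⟩ := (IsPGroup.iff_orderOf.mp R.2) ⟨x, hx⟩
    rw [Subgroup.orderOf_mk] at hk
    rw [hk]
    exact Nat.Coprime.pow_left k ((Nat.coprime_primes hr.out hp.out).mpr hrp)
  have hfr : Subgroup.normalizer ((R : Subgroup P) : Set P) ⊔ L = ⊤ :=
    Sylow.normalizer_sup_eq_top' R hRL
  obtain ⟨Y₀, hY₀⟩ : ∃ Y₀ : Subgroup P, Y₀ = T ⊔ (R : Subgroup P) := ⟨_, rfl⟩
  have hNY₀ : Subgroup.normalizer ((R : Subgroup P) : Set P) ≤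
      Subgroup.normalizer (Y₀ : Set P) := by
    rw [hY₀]
    apply le_normalizer_sup' _ le_rfl
    rw [Subgroup.normalizer_eq_top_iff.mpr hTn]; exact le_top
  have hfr' : Subgroup.normalizer (Y₀ : Set P) ⊔ L = ⊤ := by
    rw [eq_top_iff, ← hfr]; exact sup_le_sup_right hNY₀ L
  have hTY₀ : T ≤ Y₀ := by rw [hY₀]; exact le_sup_left
  have hRY₀ : (R : Subgroup P) ≤ Y₀ := by rw [hY₀]; exact le_sup_right
  have hY₀L : Y₀ ≤ L := by rw [hY₀]; exact sup_le hTL hRL
  have hidx : ¬ p ∣ (Subgroup.normalizer (Y₀ : Set P)).index := by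
    rw [index_eq_relIndex_of_sup_eq_top _ L hfr']
    intro hdvd
    apply hTidx
    have d1 : (Subgroup.normalizer (Y₀ : Set P) ⊓ L).relIndex L ∣ Y₀.relIndex L :=
      Subgroup.relIndex_dvd_of_le_left L (le_inf Subgroup.le_normalizer hY₀L)
    have d2 : Y₀.relIndex L ∣ T.relIndex L := Subgroup.relIndex_dvd_of_le_left L hTY₀
    exact hdvd.trans (d1.trans d2)
  let Q : Sylow p ↥(Subgroup.normalizer (Y₀ : Set P)) := default
  have hQ'p : IsPGroup p ((Q : Subgroup ↥(Subgroup.normalizer (Y₀ : Set P))).map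
      (Subgroup.normalizer (Y₀ : Set P)).subtype) := Q.2.map _
  have hQ'idx : ¬ p ∣ ((Q : Subgroup ↥(Subgroup.normalizer (Y₀ : Set P))).map
      (Subgroup.normalizer (Y₀ : Set P)).subtype).index := by
    rw [Subgroup.index_map_subtype]
    intro hdvd
    rcases (Nat.Prime.dvd_mul hp.out).mp hdvd with h | h
    · exact Q.not_dvd_index h
    · exact hidx h
  obtain ⟨g, hg⟩ := MulAction.exists_smul_eq P S (hQ'p.toSylow hQ'idx)
  have hSg : (S : Subgroup P).map (MulAut.conj g).toMonoidHom ≤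
      Subgroup.normalizer (Y₀ : Set P) := by
    have h1 : ((g • S : Sylow p P) : Subgroup P) =
        (Q : Subgroup ↥(Subgroup.normalizer (Y₀ : Set P))).map
          (Subgroup.normalizer (Y₀ : Set P)).subtype := by rw [hg]; rfl
    have h3 : ((g • S : Sylow p P) : Subgroup P) =
        (S : Subgroup P).map (MulAut.conj g).toMonoidHom := by
      rw [Sylow.coe_subgroup_smul]; rfl
    rw [← h3, h1]; exact Subgroup.map_subtype_le _
  refine ⟨Y₀.map (MulAut.conj g⁻¹).toMonoidHom, ?_, ?_, ?_⟩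
  · rw [← Subgroup.map_equiv_normalizer_eq Y₀ (MulAut.conj g⁻¹)]
    have := Subgroup.map_mono (f := (MulAut.conj g⁻¹).toMonoidHom) hSg
    rwa [map_conj_map_conj, inv_mul_cancel, map_conj_one] at this
  · obtain ⟨a, ha⟩ := IsPGroup.iff_card.mp hTp
    obtain ⟨b, hb⟩ := IsPGroup.iff_card.mp R.2
    refine ⟨a, b, ?_⟩
    rw [Subgroup.card_map_of_injective (MulAut.conj g⁻¹).injective]
    have h4 := card_sup_dvd_mul (R : Subgroup P) T
    rw [sup_comm, ← hY₀, ha, hb, mul_comm] at h4
    exact h4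
  · intro k hk
    rw [Subgroup.card_map_of_injective (MulAut.conj g⁻¹).injective]
    exact (R.pow_dvd_card_of_pow_dvd_card hk).trans (Subgroup.card_dvd_of_le hRY₀)

theorem primeFactors_card_le_two_of_pClosed (hP : IsPMinimal p P) (S : Sylow p P)
    (M : Subgroup P) (hM : IsCoatom M) (hSM : (S : Subgroup P) ≤ M)
    (h2 : ∀ T : Sylow p ↥(pResidual p P), (T : Subgroup ↥(pResidual p P)).Normal) :
    (Nat.card P).primeFactors.card ≤ 2 := by
  by_contra hcard
  apply hM.1
  apply Subgroup.eq_top_of_le_card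
  apply Nat.le_of_dvd Nat.card_pos
  rw [Nat.dvd_iff_prime_pow_dvd_dvd]
  intro r k hr hrk
  haveI : Fact r.Prime := ⟨hr⟩
  by_cases hrp : r = p
  · subst hrp
    exact (S.pow_dvd_card_of_pow_dvd_card hrk).trans (Subgroup.card_dvd_of_le hSM)
  · obtain ⟨Y, hSY, ⟨a, b, hYcard⟩, hYr⟩ := exists_invariant_hall_pr S h2 r hrp
    have hX : (S : Subgroup P) ⊔ Y ≠ ⊤ := by
      intro htop
      apply hcard
      have d1 := card_sup_dvd_mul_of_le_normalizer (S : Subgroup P) Y hSY
      rw [htop, Subgroup.card_top] at d1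
      obtain ⟨c, hc⟩ := IsPGroup.iff_card.mp S.2
      have d2 : Nat.card P ∣ p ^ (c + a) * r ^ b := by
        refine d1.trans ?_
        rw [hc, pow_add, mul_assoc]
        exact Nat.mul_dvd_mul_left _ hYcard
      have hsub : (Nat.card P).primeFactors ⊆ {p, r} := by
        intro q hq
        have hqp := Nat.prime_of_mem_primeFactors hq
        have hqd := (Nat.dvd_of_mem_primeFactors hq).trans d2
        rcases (Nat.Prime.dvd_mul hqp).mp hqd with h | h
        · have := (Nat.prime_dvd_prime_iff_eq hqp hp.out).mp (hqp.dvd_of_dvd_pow h)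
          simp [this]
        · have := (Nat.prime_dvd_prime_iff_eq hqp hr).mp (hqp.dvd_of_dvd_pow h)
          simp [this]
      exact (Finset.card_le_card hsub).trans Finset.card_le_two
    have hXM := le_coatom_of_sylow_le hP S M hM hSM le_sup_left hX
    exact (hYr k hrk).trans (Subgroup.card_dvd_of_le (le_sup_right.trans hXM))

/-- S2905. -/
theorem pMinimal_structure (hP : IsPMinimal p P) (S : Sylow p P) (M : Subgroup P)
    (hM : IsCoatom M) (hSM : (S : Subgroup P) ≤ M) :
    (∀ N : Subgroup P, N.IsSubnormal → N ≤ M → N ⊓ (S : Subgroup P) ≤ pCore p P) ∧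
    ((∀ T : Sylow p ↥(pResidual p P), (T : Subgroup ↥(pResidual p P)).Normal) →
      (Nat.card P).primeFactors.card ≤ 2) ∧
    (∀ N : Subgroup P, N.Normal → pResidual p P ≤ N ∨ N ≤ M.normalCore) ∧
    (∀ N : Subgroup P, N.Normal → M.normalCore ≤ N → N ≤ pResidual p P ⊔ M.normalCore →
      N = M.normalCore ∨ N = pResidual p P ⊔ M.normalCore) ∧
    M.normalCore < pResidual p P ⊔ M.normalCore := by
  refine ⟨fun N hN hNM => inf_sylow_le_pCore_of_isSubnormal hP S M hM hSM N hN hNM,
    fun h2 => primeFactors_card_le_two_of_pClosed hP S M hM hSM h2,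
    fun N hN => pResidual_le_or_le_normalCore hP S M hM hSM N hN, ?_, ?_⟩
  · intro N hN hFN hNle
    rcases pResidual_le_or_le_normalCore hP S M hM hSM N hN with h | h
    · exact Or.inr (le_antisymm hNle (sup_le h hFN))
    · exact Or.inl (le_antisymm h hFN)
  · refine lt_of_le_of_ne le_sup_right ?_
    intro h
    apply pResidual_not_le_coatom S M hM hSM
    have : pResidual p P ≤ M.normalCore := by rw [h]; exact le_sup_left
    exact this.trans (Subgroup.normalCore_le M)

end pmin

end Cfsg.Agent.Lib.Helper20
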