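import Cfsg.Agent.Lib.Helper20.PMinimal
import Cfsg.Agent.Lib.Helper20.PrimitivePair
import Cfsg.Agent.Lib.Helper16.ParabolicChar
import Cfsg.Agent.Lib.Helper13.CoprimeSylow
import Cfsg.Agent.Lib.Helper16.LargestPReduced

/-!
Components of `p`-minimal groups with `O_p = 1` (helper20).
-/

set_option autoImplicit false

namespace Cfsg.Agent.Lib.Helper20

open scoped commutatorElement
open Cfsg

section pmincomp

variable {P : Type*} [Group P] [Finite P] {p : ℕ} [hp : Fact p.Prime]

/-- A perfect subgroup lies in `O^p`. -/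
theorem le_pResidual_of_isPerfect (K : Subgroup P) (hK : Group.IsPerfect K) :
    K ≤ pResidual p P := by
  haveI := Cfsg.Agent.Lib.Helper16.pResidual_normal (G := P) p
  have hQ : IsPGroup p (P ⧸ pResidual p P) := Cfsg.Agent.Lib.Helper16.quotient_pResidual_isPGroup p
  haveI : Group.IsNilpotent (P ⧸ pResidual p P) := hQ.isNilpotent
  haveI h1 : Group.IsPerfect (K.map (QuotientGroup.mk' (pResidual p P))) := Group.IsPerfect.map _
  have h2 : K.map (QuotientGroup.mk' (pResidual p P)) = ⊥ := by
    by_contra hne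
    haveI := (Subgroup.nontrivial_iff_ne_bot _).mpr hne
    exact Group.IsPerfect.not_isSolvable
      (G := ↥(K.map (QuotientGroup.mk' (pResidual p P)))) inferInstance
  have h3 := (Subgroup.map_eq_bot_iff _).mp h2
  rwa [QuotientGroup.ker_mk'] at h3

omit [Finite P] hp in
theorem not_le_of_isNilpotent {K N : Subgroup P} (hK : IsComponent K)
    (hN : Group.IsNilpotent N) : ¬ K ≤ N := by
  intro h
  apply isQuasisimple_not_isSolvable hK.2
  have : Group.IsSolvable N := inferInstance
  exact Group.isSolvable_of_isSolvable_injective (Subgroup.inclusion_injective h)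

/-- In a `p`-minimal group with `O_p = 1`, a normal subgroup inside the maximal subgroup over `S`
is nilpotent. -/
theorem isNilpotent_of_normal_le_coatom (hP : IsPMinimal p P) (hOp : pCore p P = ⊥)
    (S : Sylow p P) (M : Subgroup P) (hM : IsCoatom M) (hSM : (S : Subgroup P) ≤ M)
    (N : Subgroup P) (hN : N.Normal) (hNM : N ≤ M) : Group.IsNilpotent N := by
  have hNS : N ⊓ (S : Subgroup P) = ⊥ := by
    rw [eq_bot_iff, ← hOp]
    exact inf_sylow_le_pCore_of_isSubnormal hP S M hM hSM N hN.isSubnormal hNM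
  have hpN : ¬ p ∣ Nat.card N := by
    have := Cfsg.Agent.Lib.Helper17.not_dvd_relIndex_of_sylow_of_normal S N
    rwa [← Subgroup.inf_relIndex_right, inf_comm, hNS, Subgroup.relIndex_bot_left] at this
  have hcop : (Nat.card (S : Subgroup P)).Coprime (Nat.card N) := by
    obtain ⟨c, hc⟩ := IsPGroup.iff_card.mp S.2
    rw [hc]
    exact Nat.Coprime.pow_left _ ((Nat.Prime.coprime_iff_not_dvd hp.out).mpr hpN)
  apply ((Group.isNilpotent_of_finite_tfae (G := N)).out 0 3).mpr
  intro r hr R
  have : Group.IsNilpotent (S : Subgroup P) := S.2.isNilpotent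
  obtain ⟨R₀, hR₀⟩ := Cfsg.Agent.Lib.Helper13.exists_invariant_sylow (S : Subgroup P) N
    (by rw [Subgroup.normalizer_eq_top_iff.mpr hN]; exact le_top) hcop (Or.inl inferInstance) r
  have hfr := Sylow.normalizer_sup_eq_top R₀
  have hnorm : Subgroup.normalizer (((R₀ : Subgroup N).map N.subtype : Subgroup P) : Set P) = ⊤ := by
    by_contra hne
    have := le_coatom_of_sylow_le hP S M hM hSM hR₀ hne
    apply hM.1
    rw [eq_top_iff, ← hfr]
    exact sup_le this hNM
  have hR₀n : (R₀ : Subgroup N).Normal := by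
    have h1 : ((R₀ : Subgroup N).map N.subtype).Normal := Subgroup.normalizer_eq_top_iff.mp hnorm
    have h2 : ((R₀ : Subgroup N).map N.subtype).comap N.subtype = (R₀ : Subgroup N) :=
      Subgroup.comap_map_eq_self_of_injective N.subtype_injective _
    rw [← h2]
    exact h1.comap _
  obtain ⟨g, hg⟩ := MulAction.exists_smul_eq N R₀ R
  rw [← hg, Sylow.smul_eq_of_normal]
  exact hR₀n

/-- In a `p`-minimal group with `O_p = 1`, a normal `p'`-subgroup is nilpotent. -/
theorem isNilpotent_of_normal_of_not_dvd (hP : IsPMinimal p P) (hOp : pCore p P = ⊥)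
    (S : Sylow p P) (M : Subgroup P) (hM : IsCoatom M) (hSM : (S : Subgroup P) ≤ M)
    (N : Subgroup P) (hN : N.Normal) (hpN : ¬ p ∣ Nat.card N) : Group.IsNilpotent N := by
  by_cases hNM : N ≤ M
  · exact isNilpotent_of_normal_le_coatom hP hOp S M hM hSM N hN hNM
  · have hLN : pResidual p P ≤ N :=
      (pResidual_le_or_le_normalCore hP S M hM hSM N hN).resolve_right
        (fun h => hNM (h.trans (Subgroup.normalCore_le M)))
    have h2 : ∀ T : Sylow p ↥(pResidual p P), (T : Subgroup ↥(pResidual p P)).Normal := by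
      intro T
      have hT : (T : Subgroup ↥(pResidual p P)) = ⊥ := by
        rw [← Subgroup.card_eq_one]
        obtain ⟨c, hc⟩ := IsPGroup.iff_card.mp T.2
        rcases Nat.eq_zero_or_pos c with h0 | h0
        · rw [hc, h0, pow_zero]
        · exfalso
          apply hpN
          have d1 : p ∣ Nat.card (T : Subgroup ↥(pResidual p P)) := by
            rw [hc]; exact dvd_pow_self p h0.ne'
          exact (d1.trans (Subgroup.card_subgroup_dvd_card _)).trans (Subgroup.card_dvd_of_le hLN)
      rw [hT]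
      infer_instance
    have hcard := primeFactors_card_le_two_of_pClosed hP S M hM hSM h2
    by_cases h1 : Nat.card N = 1
    · have : Subsingleton N := (Nat.card_eq_one_iff_unique.mp h1).1
      infer_instance
    · obtain ⟨r, hr, hrN⟩ := Nat.exists_prime_and_dvd h1
      haveI : Fact r.Prime := ⟨hr⟩
      have hrp : r ≠ p := fun h => hpN (h ▸ hrN)
      have hpP : p ∣ Nat.card P := by
        by_contra hnd
        apply (hP S).1
        have hS1 : Nat.card (S : Subgroup P) = 1 := by
          rw [Sylow.card_eq_multiplicity, Nat.factorization_eq_zero_of_not_dvd hnd, pow_zero]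
        rw [Subgroup.card_eq_one.mp hS1]
        infer_instance
      have hsub : ({p, r} : Finset ℕ) ⊆ (Nat.card P).primeFactors := by
        intro d hd
        simp only [Finset.mem_insert, Finset.mem_singleton] at hd
        rcases hd with rfl | rfl
        · exact Nat.mem_primeFactors.mpr ⟨hp.out, hpP, Nat.card_pos.ne'⟩
        · exact Nat.mem_primeFactors.mpr
            ⟨hr, hrN.trans (Subgroup.card_subgroup_dvd_card N), Nat.card_pos.ne'⟩
      have heq : ({p, r} : Finset ℕ) = (Nat.card P).primeFactors :=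
        Finset.eq_of_subset_of_card_le hsub (by rw [Finset.card_pair hrp.symm]; exact hcard)
      have hNr : Nat.card N = r ^ (Nat.card N).primeFactorsList.length :=
        Nat.eq_prime_pow_of_unique_prime_dvd Nat.card_pos.ne' (fun {d} hd hdN => by
          have hmem : d ∈ (Nat.card P).primeFactors := Nat.mem_primeFactors.mpr
            ⟨hd, hdN.trans (Subgroup.card_subgroup_dvd_card N), Nat.card_pos.ne'⟩
          rw [← heq] at hmem
          simp only [Finset.mem_insert, Finset.mem_singleton] at hmem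
          rcases hmem with rfl | rfl
          · exact absurd hdN hpN
          · rfl)
      exact (IsPGroup.of_card hNr).isNilpotent

omit [Finite P] hp in
/-- `S` normalizes the join of the `S`-conjugates of `V`. -/
theorem le_normalizer_iSup_map_conj (S V : Subgroup P) :
    S ≤ Subgroup.normalizer
      ((⨆ s : ↥S, V.map (MulAut.conj (s : P)).toMonoidHom : Subgroup P) : Set P) := by
  intro t ht
  rw [← Cfsg.Agent.Lib.Helper16.map_conj_eq_self_iff, Subgroup.map_iSup]
  apply le_antisymm
  · apply iSup_le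
    intro s
    rw [map_conj_map_conj]
    exact le_iSup (fun s : ↥S => V.map (MulAut.conj (s : P)).toMonoidHom) ⟨t * s, S.mul_mem ht s.2⟩
  · apply iSup_le
    intro s
    refine le_trans ?_ (le_iSup _ (⟨t⁻¹ * s, S.mul_mem (S.inv_mem ht) s.2⟩ : ↥S))
    rw [map_conj_map_conj]
    simp

/-- A component of a `p`-minimal group with `O_p = 1` is not contained in a normal `p'`-subgroup
or in a normal subgroup of the maximal subgroup over `S`. -/
theorem pMinimal_component_abc (hP : IsPMinimal p P) (hOp : pCore p P = ⊥)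
    (S : Sylow p P) (K : Subgroup P) (hK : IsComponent K) :
    pResidual p P = layer P ∧ fittingSubgroup P ≤ layer P ∧
      layer P = ⨆ s : ↥(S : Subgroup P), K.map (MulAut.conj (s : P)).toMonoidHom := by
  obtain ⟨-, M, ⟨hM, hSM⟩, -⟩ := hP S
  have hEc : (layer P).Characteristic := layer_characteristic
  have hEn : (layer P).Normal := inferInstance
  have hKE : K ≤ layer P := component_le_layer K hK
  have hLn : (pResidual p P).Normal := Cfsg.Agent.Lib.Helper16.pResidual_normal p
  -- `E ≰ M`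
  have hEM : ¬ layer P ≤ M := fun h =>
    not_le_of_isNilpotent hK (isNilpotent_of_normal_le_coatom hP hOp S M hM hSM _ hEn h) hKE
  have hLE : pResidual p P ≤ layer P :=
    (pResidual_le_or_le_normalCore hP S M hM hSM _ hEn).resolve_right
      (fun h => hEM (h.trans (Subgroup.normalCore_le M)))
  have hEL : layer P ≤ pResidual p P := by
    apply sSup_le
    intro K' hK'
    exact le_pResidual_of_isPerfect K' hK'.2.1
  have hL : pResidual p P = layer P := le_antisymm hLE hEL
  refine ⟨hL, ?_, ?_⟩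
  · -- `F(P) ≤ O_{p'}(P) ≤ O^p(P)`
    rw [← hL, fitting_eq_pCore_sup_inf_pPrimeCore P p, hOp, bot_sup_eq]
    intro g hg
    apply Cfsg.Agent.Lib.Helper16.mem_pResidual_of_coprime
    have h1 : orderOf g ∣ Nat.card (pPrimeCore p P) := by
      have := orderOf_dvd_natCard (⟨g, hg.2⟩ : ↥(pPrimeCore p P))
      rwa [Subgroup.orderOf_mk] at this
    exact Nat.Coprime.coprime_dvd_left h1 (pPrimeCore_coprime' p)
  · obtain ⟨E₀, hE₀⟩ : ∃ E₀ : Subgroup P,
        E₀ = ⨆ s : ↥(S : Subgroup P), K.map (MulAut.conj (s : P)).toMonoidHom := ⟨_, rfl⟩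
    rw [← hE₀]
    have hcomp : ∀ s : P, IsComponent (K.map (MulAut.conj s).toMonoidHom) := fun s =>
      isComponent_map_mulEquiv (MulAut.conj s) K hK
    have hE₀E : E₀ ≤ layer P := by
      rw [hE₀]
      exact iSup_le fun s => component_le_layer _ (hcomp s)
    have hKE₀ : K ≤ E₀ := by
      rw [hE₀]
      refine le_trans ?_ (le_iSup _ (1 : ↥(S : Subgroup P)))
      rw [Subgroup.coe_one, map_conj_one]
    have hsn : E₀.IsSubnormal := by
      rw [hE₀, iSup]
      apply sSup_isSubnormal
      rintro U ⟨s, rfl⟩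
      exact (hcomp s).1
    have hE₀n : E₀.Normal := by
      rw [← Subgroup.normalizer_eq_top_iff, eq_top_iff,
        ← Cfsg.Agent.Lib.Helper16.pResidual_sup_sylow p S, hL]
      refine sup_le (layer_le_normalizer_subnormal E₀ hsn) ?_
      rw [hE₀]
      exact le_normalizer_iSup_map_conj _ _
    have hE₀M : ¬ E₀ ≤ M := fun h =>
      not_le_of_isNilpotent hK (isNilpotent_of_normal_le_coatom hP hOp S M hM hSM _ hE₀n h) hKE₀
    have hLE₀ : pResidual p P ≤ E₀ :=
      (pResidual_le_or_le_normalCore hP S M hM hSM _ hE₀n).resolve_right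
        (fun h => hE₀M (h.trans (Subgroup.normalCore_le M)))
    exact le_antisymm (hL ▸ hLE₀) hE₀E

omit [Finite P] hp in
theorem commutatorElement_mul_left_of_commute {a c b : P} (h : Commute c b) :
    ⁅a * c, b⁆ = ⁅a, b⁆ := by
  rw [commutatorElement_def, commutatorElement_def, mul_inv_rev]
  calc a * c * b * (c⁻¹ * a⁻¹) * b⁻¹ = a * (c * b * c⁻¹) * a⁻¹ * b⁻¹ := by group
    _ = a * b * a⁻¹ * b⁻¹ := by rw [h.eq, mul_inv_cancel_right]

omit [Finite P] hp in
theorem commutatorElement_mul_right_of_commute {a b c : P} (h : Commute c a) :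
    ⁅a, b * c⁆ = ⁅a, b⁆ := by
  rw [commutatorElement_def, commutatorElement_def, mul_inv_rev]
  calc a * (b * c) * a⁻¹ * (c⁻¹ * b⁻¹) = a * b * (c * a⁻¹ * c⁻¹) * b⁻¹ := by group
    _ = a * b * a⁻¹ * b⁻¹ := by rw [h.inv_right.eq, mul_inv_cancel_right]

omit [Finite P] hp in
/-- A perfect subgroup `K` with `K ≤ V C(K)`, `V ≤ K`, equals `V`. -/
theorem le_of_le_sup_centralizer_of_perfect {K V : Subgroup P} (hperf : ⁅K, K⁆ = K)
    (hVK : V ≤ K) (h : K ≤ V ⊔ Subgroup.centralizer (K : Set P)) : K ≤ V := by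
  have hVC : V ≤ Subgroup.normalizer
      ((Subgroup.centralizer (K : Set P) : Subgroup P) : Set P) :=
    hVK.trans (Subgroup.le_normalizer.trans
      (Cfsg.Agent.Lib.Helper16.normalizer_le_normalizer_centralizer K))
  have hdec : ∀ k ∈ K, ∃ v ∈ V, ∃ c ∈ Subgroup.centralizer (K : Set P), k = v * c := by
    intro k hk
    have h1 : k ∈ ((V ⊔ Subgroup.centralizer (K : Set P) : Subgroup P) : Set P) := h hk
    rw [Subgroup.coe_mul_of_left_le_normalizer_right _ _ hVC] at h1
    obtain ⟨v, hv, c, hc, rfl⟩ := h1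
    exact ⟨v, hv, c, hc, rfl⟩
  have hle : ⁅K, K⁆ ≤ V := by
    rw [Subgroup.commutator_le]
    intro k₁ hk₁ k₂ hk₂
    obtain ⟨v₁, hv₁, c₁, hc₁, rfl⟩ := hdec k₁ hk₁
    obtain ⟨v₂, hv₂, c₂, hc₂, rfl⟩ := hdec k₂ hk₂
    have e1 : Commute c₁ (v₂ * c₂) := (Subgroup.mem_centralizer_iff.mp hc₁ _ hk₂).symm
    have e2 : Commute c₂ v₁ := (Subgroup.mem_centralizer_iff.mp hc₂ _ (hVK hv₁)).symm
    rw [commutatorElement_mul_left_of_commute e1, commutatorElement_mul_right_of_commute e2]
    rw [commutatorElement_def]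
    exact V.mul_mem (V.mul_mem (V.mul_mem hv₁ hv₂) (V.inv_mem hv₁)) (V.inv_mem hv₂)
  rwa [hperf] at hle

/-- `p`-minimality can be checked on one Sylow `p`-subgroup. -/
theorem isPMinimal_of_sylow {X : Type*} [Group X] [Finite X] (T₀ : Sylow p X)
    (hn : ¬ (T₀ : Subgroup X).Normal) (M₀ : Subgroup X) (hM₀ : M₀ ≠ ⊤)
    (h : ∀ U : Subgroup X, (T₀ : Subgroup X) ≤ U → U ≠ ⊤ → U ≤ M₀) : IsPMinimal p X := by
  intro T
  obtain ⟨g, hg⟩ := MulAction.exists_smul_eq X T₀ T
  have hTn : ¬ (T : Subgroup X).Normal := by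
    intro hTn
    apply hn
    haveI := hTn
    have h1 : T₀ = g⁻¹ • T := by rw [← hg, inv_smul_smul]
    rw [Sylow.smul_eq_of_normal] at h1
    rw [h1]; exact hTn
  refine ⟨hTn, ?_⟩
  have hTg : (T : Subgroup X) = (T₀ : Subgroup X).map (MulAut.conj g).toMonoidHom := by
    rw [← hg]; rfl
  have hT₀g : (T₀ : Subgroup X) = (T : Subgroup X).map (MulAut.conj g⁻¹).toMonoidHom := by
    rw [hTg, map_conj_map_conj, inv_mul_cancel, map_conj_one]
  have hback : ∀ U : Subgroup X,
      (U.map (MulAut.conj g⁻¹).toMonoidHom).map (MulAut.conj g).toMonoidHom = U := by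
    intro U
    rw [map_conj_map_conj, mul_inv_cancel, map_conj_one]
  have htop : ∀ a : X, (⊤ : Subgroup X).map (MulAut.conj a).toMonoidHom = ⊤ := by
    intro a
    rw [← MonoidHom.range_eq_map, MonoidHom.range_eq_top]
    exact (MulAut.conj a).surjective
  obtain ⟨M₁, hM₁⟩ : ∃ M₁ : Subgroup X, M₁ = M₀.map (MulAut.conj g).toMonoidHom := ⟨_, rfl⟩
  have key : ∀ U : Subgroup X, (T : Subgroup X) ≤ U → U ≠ ⊤ → U ≤ M₁ := by
    intro U hTU hU
    have h1 : (T₀ : Subgroup X) ≤ U.map (MulAut.conj g⁻¹).toMonoidHom := by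
      rw [hT₀g]; exact Subgroup.map_mono hTU
    have h2 : U.map (MulAut.conj g⁻¹).toMonoidHom ≠ ⊤ := by
      intro h2
      apply hU
      rw [← hback U, h2, htop]
    have h3 := h _ h1 h2
    rw [← hback U, hM₁]
    exact Subgroup.map_mono h3
  have hM₁top : M₁ ≠ ⊤ := by
    intro h1
    apply hM₀
    have : (M₀.map (MulAut.conj g).toMonoidHom).map (MulAut.conj g⁻¹).toMonoidHom = M₀ := by
      rw [map_conj_map_conj, inv_mul_cancel, map_conj_one]
    rw [← this, ← hM₁, h1, htop]
  have hTtop : (T : Subgroup X) ≠ ⊤ := by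
    intro h1
    apply hTn
    rw [h1]; infer_instance
  obtain ⟨M', hM', hle⟩ := (eq_top_or_exists_le_coatom M₁).resolve_left hM₁top
  refine ⟨M', ⟨hM', (key _ le_rfl hTtop).trans hle⟩, ?_⟩
  rintro U ⟨hU, hTU⟩
  have h1 : U ≤ M' := (key U hTU hU.1).trans hle
  exact ((hU.le_iff_eq hM'.1).mp h1).symm

/-- S2906 (d): `K N_S(K)` is `p`-minimal. -/
theorem pMinimal_component_d (hP : IsPMinimal p P) (hOp : pCore p P = ⊥)
    (S : Sylow p P) (K : Subgroup P) (hK : IsComponent K) :
    IsPMinimal p ↥(K ⊔ ((S : Subgroup P) ⊓ Subgroup.normalizer (K : Set P))) := by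
  obtain ⟨-, M, ⟨hM, hSM⟩, -⟩ := hP S
  obtain ⟨hL, -, hE⟩ := pMinimal_component_abc hP hOp S K hK
  obtain ⟨S₀, hS₀⟩ : ∃ S₀ : Subgroup P,
      S₀ = (S : Subgroup P) ⊓ Subgroup.normalizer (K : Set P) := ⟨_, rfl⟩
  rw [← hS₀]
  obtain ⟨X, hX⟩ : ∃ X : Subgroup P, X = K ⊔ S₀ := ⟨_, rfl⟩
  rw [← hX]
  have hS₀S : S₀ ≤ (S : Subgroup P) := by rw [hS₀]; exact inf_le_left
  have hS₀N : S₀ ≤ Subgroup.normalizer (K : Set P) := by rw [hS₀]; exact inf_le_right
  have hKX : K ≤ X := by rw [hX]; exact le_sup_left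
  have hS₀X : S₀ ≤ X := by rw [hX]; exact le_sup_right
  have hKS : (S : Subgroup P) ⊓ K = S₀ ⊓ K := by
    apply le_antisymm
    · rw [hS₀]
      exact le_inf (le_inf inf_le_left (inf_le_right.trans Subgroup.le_normalizer)) inf_le_right
    · exact inf_le_inf_right _ hS₀S
  have hperf : ⁅K, K⁆ = K := Subgroup.isPerfect_iff.mp hK.2.1
  have hcomp : ∀ s : P, IsComponent (K.map (MulAut.conj s).toMonoidHom) := fun s =>
    isComponent_map_mulEquiv (MulAut.conj s) K hK
  -- `K ≰ M`
  have hKM : ¬ K ≤ M := by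
    intro h
    apply pResidual_not_le_coatom S M hM hSM
    rw [hL, hE]
    apply iSup_le
    intro s
    have h1 : M.map (MulAut.conj (s : P)).toMonoidHom = M :=
      (Cfsg.Agent.Lib.Helper16.map_conj_eq_self_iff M _).mpr (Subgroup.le_normalizer (hSM s.2))
    rw [← h1]
    exact Subgroup.map_mono h
  have hXM : ¬ X ≤ M := fun h => hKM (hKX.trans h)
  -- `S₀` is a Sylow `p`-subgroup of `X`
  have hS₀p : IsPGroup p ↥(S₀.subgroupOf X) := (S.2.to_le hS₀S).comap_subtype
  have hrel : ¬ p ∣ S₀.relIndex K := by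
    have h1 := Cfsg.Agent.Lib.Helper16.not_dvd_relIndex_sylow_subnormal S hK.1
    rwa [← Subgroup.inf_relIndex_right, hKS, Subgroup.inf_relIndex_right] at h1
  have hKn : (K.subgroupOf X).Normal :=
    (Subgroup.normal_subgroupOf_iff_le_normalizer hKX).mpr
      (by rw [hX]; exact sup_le Subgroup.le_normalizer hS₀N)
  have hidx : ¬ p ∣ (S₀.subgroupOf X).index := by
    have htop : S₀.subgroupOf X ⊔ K.subgroupOf X = ⊤ := by
      rw [← Subgroup.subgroupOf_sup hS₀X hKX, sup_comm, ← hX, Subgroup.subgroupOf_self]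
    rw [index_eq_relIndex_of_sup_eq_top _ _ htop, Subgroup.inf_relIndex_right,
      Subgroup.relIndex_subgroupOf hKX]
    exact hrel
  obtain ⟨T₀, hT₀⟩ : ∃ T₀ : Sylow p ↥X, (T₀ : Subgroup ↥X) = S₀.subgroupOf X :=
    ⟨hS₀p.toSylow hidx, rfl⟩
  -- `S₀` is not normal in `X`
  have hT₀n : ¬ (T₀ : Subgroup ↥X).Normal := by
    rw [hT₀, Subgroup.normal_subgroupOf_iff_le_normalizer hS₀X]
    intro hXN
    have hKN : K ≤ Subgroup.normalizer (S₀ : Set P) := hKX.trans hXN
    have hKN' : K ≤ Subgroup.normalizer ((S₀ ⊓ K : Subgroup P) : Set P) := by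
      intro k hk
      have h1 := Subgroup.mem_normalizer_iff.mp (hKN hk)
      rw [Subgroup.mem_normalizer_iff]
      intro x
      rw [Subgroup.mem_inf, Subgroup.mem_inf, ← h1 x]
      constructor
      · rintro ⟨ha, hb⟩
        exact ⟨ha, K.mul_mem (K.mul_mem hk hb) (K.inv_mem hk)⟩
      · rintro ⟨ha, hb⟩
        refine ⟨ha, ?_⟩
        have : x = k⁻¹ * (k * x * k⁻¹) * k := by group
        rw [this]
        exact K.mul_mem (K.mul_mem (K.inv_mem hk) hb) hk
    have hsn : (S₀ ⊓ K).IsSubnormal := by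
      apply Subgroup.IsSubnormal.trans inf_le_right _ hK.1
      exact ((Subgroup.normal_subgroupOf_iff_le_normalizer inf_le_right).mpr hKN').isSubnormal
    have hbot : S₀ ⊓ K = ⊥ := by
      rw [eq_bot_iff, ← hOp]
      exact Cfsg.Agent.Lib.Helper16.le_pCore_of_isSubnormal_of_isPGroup p hsn
        (S.2.to_le (inf_le_left.trans hS₀S))
    have hpK : ¬ p ∣ Nat.card K := by
      have h1 := hrel
      rwa [← Subgroup.inf_relIndex_right, hbot, Subgroup.relIndex_bot_left] at h1
    have hKO : K ≤ pPrimeCore p P :=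
      subnormal_coprime_le_pPrimeCore p K hK.1
        ((Nat.Prime.coprime_iff_not_dvd hp.out).mpr hpK).symm
    have hOn : (pPrimeCore p P).Normal := (pPrimeCore_mem' (G := P) p).1
    have hOc : ¬ p ∣ Nat.card (pPrimeCore p P) :=
      (Nat.Prime.coprime_iff_not_dvd hp.out).mp (pPrimeCore_coprime' (G := P) p).symm
    exact not_le_of_isNilpotent hK
      (isNilpotent_of_normal_of_not_dvd hP hOp S M hM hSM _ hOn hOc) hKO
  -- the core claim
  have core : ∀ U : Subgroup P, S₀ ≤ U → U ≤ X → U ≠ X → U ≤ M := by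
    intro U hS₀U hUX hUne
    obtain ⟨V, hV⟩ : ∃ V : Subgroup P, V = U ⊓ K := ⟨_, rfl⟩
    have hVK : V ≤ K := by rw [hV]; exact inf_le_right
    have hVU : V ≤ U := by rw [hV]; exact inf_le_left
    have hVne : ¬ K ≤ V := by
      intro h
      apply hUne
      apply le_antisymm hUX
      rw [hX]
      exact sup_le (h.trans hVU) hS₀U
    obtain ⟨W, hW⟩ : ∃ W : Subgroup P,
        W = ⨆ s : ↥(S : Subgroup P), V.map (MulAut.conj (s : P)).toMonoidHom := ⟨_, rfl⟩
    have hWS : (S : Subgroup P) ≤ Subgroup.normalizer (W : Set P) := by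
      rw [hW]; exact le_normalizer_iSup_map_conj _ _
    have hVW : V ≤ W := by
      rw [hW]
      refine le_trans ?_ (le_iSup _ (1 : ↥(S : Subgroup P)))
      rw [Subgroup.coe_one, map_conj_one]
    have hWC : W ≤ V ⊔ Subgroup.centralizer (K : Set P) := by
      rw [hW]
      apply iSup_le
      intro s
      by_cases hs : (s : P) ∈ Subgroup.normalizer (K : Set P)
      · have hsS₀ : (s : P) ∈ S₀ := by rw [hS₀]; exact ⟨s.2, hs⟩
        have h1 : U.map (MulAut.conj (s : P)).toMonoidHom = U :=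
          (Cfsg.Agent.Lib.Helper16.map_conj_eq_self_iff U _).mpr
            (Subgroup.le_normalizer (hS₀U hsS₀))
        have h2 : K.map (MulAut.conj (s : P)).toMonoidHom = K :=
          (Cfsg.Agent.Lib.Helper16.map_conj_eq_self_iff K _).mpr hs
        refine le_trans ?_ le_sup_left
        rw [hV]
        refine (Subgroup.map_inf_le _ _ _).trans ?_
        rw [h1, h2]
      · have hne : K.map (MulAut.conj (s : P)).toMonoidHom ≠ K := fun h =>
          hs ((Cfsg.Agent.Lib.Helper16.map_conj_eq_self_iff K _).mp h)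
        have hcomm := components_commute _ K (hcomp (s : P)) hK hne
        rw [Subgroup.commutator_eq_bot_iff_le_centralizer] at hcomm
        exact ((Subgroup.map_mono hVK).trans hcomm).trans le_sup_right
    have hWtop : W ⊔ (S : Subgroup P) ≠ ⊤ := by
      intro htop
      have hWn : W.Normal := by
        rw [← Subgroup.normalizer_eq_top_iff, eq_top_iff, ← htop]
        exact sup_le Subgroup.le_normalizer hWS
      have hLW : pResidual p P ≤ W :=
        Cfsg.Agent.Lib.Helper16.pResidual_le_of_le_sup W (S : Subgroup P) S.2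
          (by rw [sup_comm, htop]; exact le_top)
      have hKW : K ≤ W := (component_le_layer K hK).trans (hL ▸ hLW)
      exact hVne (le_of_le_sup_centralizer_of_perfect hperf hVK (hKW.trans hWC))
    have hWM : W ⊔ (S : Subgroup P) ≤ M :=
      le_coatom_of_sylow_le hP S M hM hSM le_sup_right hWtop
    have hVM : V ≤ M := hVW.trans (le_sup_left.trans hWM)
    -- Dedekind
    intro u hu
    have hu' : u ∈ ((K ⊔ S₀ : Subgroup P) : Set P) := by
      have := hUX hu
      rwa [hX] at this
    rw [Subgroup.coe_mul_of_right_le_normalizer_left K S₀ hS₀N] at hu'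
    obtain ⟨k, hk, s, hs, rfl⟩ := hu'
    have hkU : k ∈ U := by
      have : k = k * s * s⁻¹ := by group
      rw [this]
      exact U.mul_mem hu (U.inv_mem (hS₀U hs))
    have hkV : k ∈ V := by rw [hV]; exact ⟨hkU, hk⟩
    exact M.mul_mem (hVM hkV) (hSM (hS₀S hs))
  -- transfer to `↥X`
  apply isPMinimal_of_sylow T₀ hT₀n (M.subgroupOf X)
  · rw [Ne, Subgroup.subgroupOf_eq_top]
    exact hXM
  · intro U' hTU' hU'
    have h1 : S₀ ≤ U'.map X.subtype := by
      rw [← Subgroup.map_subgroupOf_eq_of_le hS₀X, ← hT₀]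
      exact Subgroup.map_mono hTU'
    have h2 : U'.map X.subtype ≤ X := Subgroup.map_subtype_le U'
    have h3 : U'.map X.subtype ≠ X := by
      intro h3
      apply hU'
      apply Subgroup.map_injective X.subtype_injective
      rw [h3, ← MonoidHom.range_eq_map, Subgroup.range_subtype]
    have h4 := core _ h1 h2 h3
    rw [Subgroup.map_le_iff_le_comap] at h4
    exact h4

end pmincomp

end Cfsg.Agent.Lib.Helper20
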