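import Mathlib
import Cfsg.Prelude.Def_Local

/-!
# Orbit sizes in modules for `p`-soluble groups (helper20)

If `H` is `p`-soluble, `V` a module in characteristic `p` spanned by the orbit of a vector `a`
fixed by a Sylow `p`-subgroup, then `dim C_V(H) ≤ 1` and every vector whose orbit size is coprime
to that of `a` is `H`-fixed.  Elementary induction on `|H|` through a normal `p`- or
`p'`-subgroup.
-/

set_option linter.style.haveILetI false
set_option linter.unusedVariables false

namespace Cfsg.Agent.Lib.Helper20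

universe u v w

section
variable {k : Type u} [Field k] {H : Type v} [Group H] {V : Type w} [AddCommGroup V] [Module k V]

/-- stabilizer of a vector under a representation -/
def repStab (ρ : Representation k H V) (a : V) : Subgroup H where
  carrier := {h | ρ h a = a}
  one_mem' := by simp
  mul_mem' := by
    intro x y hx hy
    simp only [Set.mem_ofPred_eq] at *
    rw [map_mul, Module.End.mul_apply, hy, hx]
  inv_mem' := by
    intro x hx
    simp only [Set.mem_ofPred_eq] at *
    have h1 : ρ x⁻¹ (ρ x a) = a := by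
      rw [← Module.End.mul_apply, ← map_mul, inv_mul_cancel, map_one]; rfl
    rw [hx] at h1
    exact h1

theorem mem_repStab {ρ : Representation k H V} {a : V} {h : H} :
    h ∈ repStab ρ a ↔ ρ h a = a := Iff.rfl

theorem rep_inv_apply (ρ : Representation k H V) (h : H) (v : V) : ρ h⁻¹ (ρ h v) = v := by
  rw [← Module.End.mul_apply, ← map_mul, inv_mul_cancel, map_one]; rfl

theorem rep_apply_inv (ρ : Representation k H V) (h : H) (v : V) : ρ h (ρ h⁻¹ v) = v := by
  rw [← Module.End.mul_apply, ← map_mul, mul_inv_cancel, map_one]; rfl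

theorem rep_mul_apply (ρ : Representation k H V) (g h : H) (v : V) :
    ρ (g * h) v = ρ g (ρ h v) := by
  rw [map_mul, Module.End.mul_apply]

/-- orbit–stabilizer for representations -/
theorem card_orbit_eq_index (ρ : Representation k H V) (a : V) :
    Nat.card {u : V | ∃ h : H, ρ h a = u} = (repStab ρ a).index := by
  letI : MulAction H V :=
    { smul := fun h v => ρ h v
      one_smul := fun v => by show ρ 1 v = v; rw [map_one]; rfl
      mul_smul := fun g h v => rep_mul_apply ρ g h v }
  have h1 : {u : V | ∃ h : H, ρ h a = u} = MulAction.orbit H a := by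
    ext u; rfl
  have h2 : repStab ρ a = MulAction.stabilizer H a := by
    ext h; rfl
  rw [h1, h2, Subgroup.index_eq_card]
  exact Nat.card_congr (MulAction.orbitEquivQuotientStabilizer H a)

theorem repStab_index_apply [Finite H] (ρ : Representation k H V) (a : V) (g : H) :
    (repStab ρ (ρ g a)).index = (repStab ρ a).index := by
  have hset : {u : V | ∃ h : H, ρ h (ρ g a) = u} = {u : V | ∃ h : H, ρ h a = u} := by
    ext u
    constructor
    · rintro ⟨h, rfl⟩
      exact ⟨h * g, rep_mul_apply ρ h g a⟩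
    · rintro ⟨h, rfl⟩
      refine ⟨h * g⁻¹, ?_⟩
      rw [rep_mul_apply, rep_inv_apply]
  rw [← card_orbit_eq_index, ← card_orbit_eq_index, hset]

end

section
variable {G : Type*} [Group G]

/-- for `N` normal, `|N : N ∩ S|` divides `|G : S|` -/
theorem relIndex_dvd_index_of_normal_right [Finite G] (S N : Subgroup G) [N.Normal] :
    S.relIndex N ∣ S.index := by
  have h1 : (S ⊓ N).index = S.relIndex N * N.index := by
    rw [← Subgroup.inf_relIndex_right, Subgroup.relIndex_mul_index inf_le_right]
  have h2 : (S ⊓ N).index = N.relIndex S * S.index := by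
    rw [← Subgroup.inf_relIndex_left, Subgroup.relIndex_mul_index inf_le_left]
  obtain ⟨t, ht⟩ : N.relIndex S ∣ N.index := Subgroup.relIndex_dvd_index_of_normal N S
  have h3 : N.relIndex S ≠ 0 := by
    unfold Subgroup.relIndex
    exact Subgroup.index_ne_zero_of_finite
  refine ⟨t, ?_⟩
  have h4 : N.relIndex S * S.index = N.relIndex S * (S.relIndex N * t) := by
    rw [← h2, h1, ht]; ring
  exact Nat.eq_of_mul_eq_mul_left (Nat.pos_of_ne_zero h3) h4

theorem relIndex_eq_index_of_coprime' [Finite G] (A B : Subgroup G)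
    (h : A.index.Coprime B.index) : A.relIndex B = A.index := by
  have h1 : A.relIndex B * B.index = (A ⊓ B).index := by
    rw [← Subgroup.inf_relIndex_right, Subgroup.relIndex_mul_index inf_le_right]
  have h2 : A.index ∣ (A ⊓ B).index := Subgroup.index_dvd_of_le inf_le_left
  have h3 : A.index ∣ A.relIndex B := by
    rw [← h1] at h2
    exact h.dvd_of_dvd_mul_right h2
  have h4 : A.relIndex B ≤ A.index := by
    have := Subgroup.relIndex_le_of_le_right (H := A) (le_top : B ≤ ⊤)
      (by rw [Subgroup.relIndex_top_right]; exact Subgroup.index_ne_zero_of_finite)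
    rwa [Subgroup.relIndex_top_right] at this
  have h5 : 0 < A.relIndex B := by
    apply Nat.pos_of_ne_zero
    unfold Subgroup.relIndex
    exact Subgroup.index_ne_zero_of_finite
  exact le_antisymm h4 (Nat.le_of_dvd h5 h3)

theorem exists_mul_of_coprime_index' [Finite G] (A B : Subgroup G)
    (h : A.index.Coprime B.index) (g : G) : ∃ b ∈ B, ∃ a ∈ A, g = b * a := by
  have hrel := relIndex_eq_index_of_coprime' A B h
  let e := Subgroup.quotientSubgroupOfEmbeddingOfLE A (le_top : B ≤ ⊤)
  have hcard : Nat.card ((⊤ : Subgroup G) ⧸ A.subgroupOf ⊤) ≤ Nat.card (B ⧸ A.subgroupOf B) := by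
    have e1 : Nat.card (B ⧸ A.subgroupOf B) = A.relIndex B := by
      rw [Subgroup.relIndex, Subgroup.index_eq_card]
    have e2 : Nat.card ((⊤ : Subgroup G) ⧸ A.subgroupOf ⊤) = A.relIndex ⊤ := by
      rw [Subgroup.relIndex, Subgroup.index_eq_card]
    rw [e1, e2, Subgroup.relIndex_top_right, hrel]
  have hbij := Function.Injective.bijective_of_nat_card_le e.injective hcard
  obtain ⟨q, hq⟩ := hbij.2 (QuotientGroup.mk ⟨g, Subgroup.mem_top g⟩)
  obtain ⟨b, rfl⟩ := QuotientGroup.mk_surjective q
  have hq' : e (QuotientGroup.mk b) = QuotientGroup.mk (Subgroup.inclusion (le_top : B ≤ ⊤) b) :=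
    Subgroup.quotientSubgroupOfEmbeddingOfLE_apply_mk A _ b
  rw [hq', QuotientGroup.eq, Subgroup.mem_subgroupOf] at hq
  refine ⟨b, b.2, (b : G)⁻¹ * g, ?_, by group⟩
  simpa using hq

end

section
variable {k : Type u} [Field k] {H : Type v} [Group H] {V : Type w} [AddCommGroup V] [Module k V]

/-- the permutation of the orbit of `a` induced by `h` -/
def orbPerm (ρ : Representation k H V) (a : V) (h : H) :
    Equiv.Perm {u : V // ∃ g : H, ρ g a = u} where
  toFun := fun u => ⟨ρ h u.1, by
    obtain ⟨g, hg⟩ := u.2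
    exact ⟨h * g, by rw [rep_mul_apply, hg]⟩⟩
  invFun := fun u => ⟨ρ h⁻¹ u.1, by
    obtain ⟨g, hg⟩ := u.2
    exact ⟨h⁻¹ * g, by rw [rep_mul_apply, hg]⟩⟩
  left_inv := fun u => Subtype.ext (rep_inv_apply ρ h u.1)
  right_inv := fun u => Subtype.ext (rep_apply_inv ρ h u.1)

theorem orbPerm_val (ρ : Representation k H V) (a : V) (h : H)
    (u : {u : V // ∃ g : H, ρ g a = u}) : (orbPerm ρ a h u).1 = ρ h u.1 := rfl

theorem orbPerm_mul (ρ : Representation k H V) (a : V) (g h : H)
    (u : {u : V // ∃ g : H, ρ g a = u}) : orbPerm ρ a g (orbPerm ρ a h u) = orbPerm ρ a (g * h) u :=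
  Subtype.ext (rep_mul_apply ρ g h u.1).symm

theorem orbPerm_inv_apply (ρ : Representation k H V) (a : V) (h : H)
    (u : {u : V // ∃ g : H, ρ g a = u}) : orbPerm ρ a h⁻¹ (orbPerm ρ a h u) = u :=
  Subtype.ext (rep_inv_apply ρ h u.1)

theorem pso_normal_fixes [Finite H] (p : ℕ) [hp : Fact p.Prime] [CharP k p]
    (ρ : Representation k H V) (a b : V)
    (hspan : Submodule.span k {u : V | ∃ h : H, ρ h a = u} = ⊤)
    (N : Subgroup H) [hNn : N.Normal] (hN : (Nat.card N).Coprime p)
    (hcop : ((repStab ρ a).index).Coprime ((repStab ρ b).index)) :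
    ∀ n ∈ N, ρ n b = b := by
  classical
  haveI hOfin : Finite {u : V // ∃ g : H, ρ g a = u} := by
    have : Set.Finite (Set.range fun h : H => ρ h a) := Set.finite_range _
    exact this
  haveI : Fintype {u : V // ∃ g : H, ρ g a = u} := Fintype.ofFinite _
  obtain ⟨B, hB⟩ : ∃ B : Subgroup H, B = N ⊓ repStab ρ b := ⟨_, rfl⟩
  haveI : Fintype ↥B := Fintype.ofFinite _
  -- coefficients
  have hb : b ∈ Submodule.span k (Set.range (Subtype.val : {u : V // ∃ g : H, ρ g a = u} → V)) := by
    rw [Subtype.range_coe_subtype]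
    have : {u : V | ∃ g : H, ρ g a = u} = {u : V | ∃ h : H, ρ h a = u} := rfl
    rw [hspan]; exact Submodule.mem_top
  obtain ⟨c, hc⟩ := Submodule.mem_span_range_iff_exists_fun k |>.mp hb
  -- |B| is invertible
  have hBne : (Nat.card B : k) ≠ 0 := by
    intro h0
    rw [CharP.cast_eq_zero_iff k p] at h0
    have h1 : Nat.card B ∣ Nat.card N := Subgroup.card_dvd_of_le (by rw [hB]; exact inf_le_left)
    have h2 : p ∣ Nat.card N := h0.trans h1
    have h3 : p ∣ Nat.gcd (Nat.card N) p := Nat.dvd_gcd h2 dvd_rfl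
    rw [hN] at h3
    exact hp.out.one_lt.ne' (Nat.dvd_one.mp h3)
  obtain ⟨c', hc'⟩ : ∃ c' : {u : V // ∃ g : H, ρ g a = u} → k,
      c' = fun u => (Nat.card B : k)⁻¹ * ∑ x : B, c (orbPerm ρ a (x : H)⁻¹ u) := ⟨_, rfl⟩
  have hBstab : ∀ x : B, ρ (x : H) b = b := by
    intro x
    have : (x : H) ∈ N ⊓ repStab ρ b := by rw [← hB]; exact x.2
    exact (Subgroup.mem_inf.mp this).2
  -- Claim 1
  have claim1 : ∑ u, c' u • (u : V) = b := by
    rw [hc']
    simp only [mul_smul, Finset.sum_smul]
    rw [← Finset.smul_sum, Finset.sum_comm]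
    have inner : ∀ x : B, ∑ u : {u : V // ∃ g : H, ρ g a = u},
        c (orbPerm ρ a (x : H)⁻¹ u) • (u : V) = b := by
      intro x
      rw [← Equiv.sum_comp (orbPerm ρ a (x : H))]
      simp only [orbPerm_inv_apply, orbPerm_val]
      rw [← hBstab x, ← hc, map_sum]
      simp only [map_smul]
    rw [Finset.sum_congr rfl (fun x _ => inner x), Finset.sum_const, Finset.card_univ,
      ← Nat.card_eq_fintype_card, ← Nat.cast_smul_eq_nsmul k, smul_smul, inv_mul_cancel₀ hBne,
      one_smul]
  -- Claim 2
  have claim2 : ∀ y ∈ B, ∀ u, c' (orbPerm ρ a y u) = c' u := by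
    intro y hy u
    rw [hc']
    simp only
    congr 1
    rw [← Equiv.sum_comp (Equiv.mulLeft (⟨y, hy⟩ : B))]
    apply Finset.sum_congr rfl
    intro x _
    rw [orbPerm_mul]
    congr 2
    simp [mul_inv_rev]
  -- Claim 3
  have claim3 : ∀ n ∈ N, ∀ u : {u : V // ∃ g : H, ρ g a = u},
      ∃ x ∈ B, orbPerm ρ a x u = orbPerm ρ a n u := by
    intro n hn u
    obtain ⟨g, hg⟩ := u.2
    have hidx : (repStab ρ u.1).index = (repStab ρ a).index := by
      rw [← hg]; exact repStab_index_apply ρ a g
    have h1 : ((repStab ρ u.1).subgroupOf N).index ∣ (repStab ρ a).index := by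
      rw [← hidx]; exact relIndex_dvd_index_of_normal_right _ N
    have h2 : ((repStab ρ b).subgroupOf N).index ∣ (repStab ρ b).index :=
      relIndex_dvd_index_of_normal_right _ N
    have hcop' : (((repStab ρ u.1).subgroupOf N).index).Coprime
        (((repStab ρ b).subgroupOf N).index) :=
      Nat.Coprime.coprime_dvd_left h1 (Nat.Coprime.coprime_dvd_right h2 hcop)
    obtain ⟨x, hx, y, hy, hxy⟩ := exists_mul_of_coprime_index' _ _ hcop' (⟨n, hn⟩ : N)
    rw [Subgroup.mem_subgroupOf] at hx hy
    refine ⟨(x : H), by rw [hB]; exact Subgroup.mem_inf.mpr ⟨x.2, hx⟩, ?_⟩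
    apply Subtype.ext
    rw [orbPerm_val, orbPerm_val]
    have hn' : n = (x : H) * (y : H) := by
      have := congrArg Subtype.val hxy
      simpa using this
    rw [hn', rep_mul_apply]
    congr 1
    exact (mem_repStab.mp hy).symm
  -- Claim 4
  intro n hn
  have hinv : ∀ u, c' (orbPerm ρ a n⁻¹ u) = c' u := by
    intro u
    obtain ⟨x, hx, hxu⟩ := claim3 n⁻¹ (inv_mem hn) u
    rw [← hxu]
    exact claim2 x hx u
  calc ρ n b = ρ n (∑ u, c' u • (u : V)) := by rw [claim1]
    _ = ∑ u, c' u • ρ n (u : V) := by rw [map_sum]; simp only [map_smul]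
    _ = ∑ u, c' (orbPerm ρ a n⁻¹ (orbPerm ρ a n u)) • ((orbPerm ρ a n u : {u : V // ∃ g : H, ρ g a = u}) : V) := by
        simp only [orbPerm_inv_apply, orbPerm_val]
    _ = ∑ u, c' (orbPerm ρ a n⁻¹ u) • (u : V) :=
        Equiv.sum_comp (orbPerm ρ a n) (fun u => c' (orbPerm ρ a n⁻¹ u) • (u : V))
    _ = ∑ u, c' u • (u : V) := by simp only [hinv]
    _ = b := claim1

/-- the averaging projection onto the invariants of a normal `p'`-subgroup -/
noncomputable def avgN (ρ : Representation k H V) (N : Subgroup H) [Fintype N] : V →ₗ[k] V :=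
  (Nat.card N : k)⁻¹ • ∑ n : N, ρ (n : H)

theorem avgN_apply (ρ : Representation k H V) (N : Subgroup H) [Fintype N] (v : V) :
    avgN ρ N v = (Nat.card N : k)⁻¹ • ∑ n : N, ρ (n : H) v := by
  unfold avgN
  rw [LinearMap.smul_apply, LinearMap.sum_apply]

theorem avgN_mem (ρ : Representation k H V) (N : Subgroup H) [Fintype N] (v : V) (m : N) :
    ρ (m : H) (avgN ρ N v) = avgN ρ N v := by
  rw [avgN_apply, map_smul, map_sum]
  congr 1
  calc ∑ n : N, ρ (m : H) (ρ (n : H) v) = ∑ n : N, ρ ((Equiv.mulLeft m n : N) : H) v := by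
        apply Finset.sum_congr rfl
        intro n _
        rw [← rep_mul_apply]
        rfl
    _ = ∑ n : N, ρ (n : H) v := Equiv.sum_comp (Equiv.mulLeft m) (fun n : N => ρ (n : H) v)

theorem avgN_id (ρ : Representation k H V) (N : Subgroup H) [Fintype N]
    (hN : (Nat.card N : k) ≠ 0) (v : V) (hv : ∀ n : N, ρ (n : H) v = v) :
    avgN ρ N v = v := by
  rw [avgN_apply]
  simp only [hv]
  rw [Finset.sum_const, Finset.card_univ, ← Nat.card_eq_fintype_card, ← Nat.cast_smul_eq_nsmul k,
    smul_smul, inv_mul_cancel₀ hN, one_smul]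

theorem avgN_equivariant (ρ : Representation k H V) (N : Subgroup H) [hNn : N.Normal] [Fintype N]
    (h : H) (v : V) : avgN ρ N (ρ h v) = ρ h (avgN ρ N v) := by
  rw [avgN_apply, avgN_apply, map_smul, map_sum]
  congr 1
  symm
  calc ∑ n : N, ρ h (ρ (n : H) v)
      = ∑ n : N, ρ (((MulAut.conjNormal (H := N) h).toEquiv n : N) : H) (ρ h v) := by
        apply Finset.sum_congr rfl
        intro n _
        rw [← rep_mul_apply, ← rep_mul_apply]
        congr 2
        show h * (n : H) = ((MulAut.conjNormal h n : N) : H) * h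
        rw [MulAut.conjNormal_apply]
        group
    _ = ∑ n : N, ρ (n : H) (ρ h v) :=
        Equiv.sum_comp (MulAut.conjNormal (H := N) h).toEquiv (fun n : N => ρ (n : H) (ρ h v))

theorem qti_val (ρ : Representation k H V) (N : Subgroup H) [N.Normal] (h : H)
    (w : Representation.invariants (ρ.comp N.subtype)) :
    ((ρ.quotientToInvariants N (QuotientGroup.mk h) w :
      Representation.invariants (ρ.comp N.subtype)) : V) = ρ h (w : V) := rfl

theorem pso_step [Finite H] (p : ℕ) [hp : Fact p.Prime] (ρ : Representation k H V) (a : V)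
    (hfix : ∃ P : Sylow p H, (P : Subgroup H) ≤ repStab ρ a)
    (hspan : Submodule.span k {u : V | ∃ h : H, ρ h a = u} = ⊤)
    (N : Subgroup H) [hNn : N.Normal]
    (π : V →ₗ[k] V) (hπW : ∀ v (n : N), ρ (n : H) (π v) = π v)
    (hπid : ∀ v, (∀ n : N, ρ (n : H) v = v) → π v = v)
    (hπeq : ∀ h v, π (ρ h v) = ρ h (π v))
    (hNb : ∀ b : V, ((repStab ρ a).index).Coprime ((repStab ρ b).index) →
      ∀ n : N, ρ (n : H) b = b)
    (IH : ∀ a₀ : Representation.invariants (ρ.comp N.subtype),
      (∃ P' : Sylow p (H ⧸ N), (P' : Subgroup (H ⧸ N)) ≤ repStab (ρ.quotientToInvariants N) a₀) →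
      Submodule.span k {u | ∃ q : H ⧸ N, ρ.quotientToInvariants N q a₀ = u} = ⊤ →
      Module.finrank k (ρ.quotientToInvariants N).invariants ≤ 1 ∧
      ∀ b' : Representation.invariants (ρ.comp N.subtype),
        ((repStab (ρ.quotientToInvariants N) a₀).index).Coprime
          ((repStab (ρ.quotientToInvariants N) b').index) →
        ∀ q : H ⧸ N, ρ.quotientToInvariants N q b' = b') :
    Module.finrank k ρ.invariants ≤ 1 ∧
    ∀ b : V, ((repStab ρ a).index).Coprime ((repStab ρ b).index) → ∀ h : H, ρ h b = b := by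
  have hmemW : ∀ v : V, (∀ n : N, ρ (n : H) v = v) →
      v ∈ Representation.invariants (ρ.comp N.subtype) := by
    intro v hv
    rw [Representation.mem_invariants]
    intro n
    exact hv n
  obtain ⟨a₀, ha₀⟩ : ∃ a₀ : Representation.invariants (ρ.comp N.subtype), (a₀ : V) = π a :=
    ⟨⟨π a, hmemW _ (hπW a)⟩, rfl⟩
  have hfin : Module.Finite k V := by
    rw [Module.finite_def, ← hspan]
    apply Submodule.fg_span
    exact Set.finite_range (fun h : H => ρ h a)
  -- (i) Sylow
  have hSyl : ∃ P' : Sylow p (H ⧸ N),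
      (P' : Subgroup (H ⧸ N)) ≤ repStab (ρ.quotientToInvariants N) a₀ := by
    obtain ⟨P, hP⟩ := hfix
    refine ⟨P.mapSurjective (QuotientGroup.mk'_surjective N), ?_⟩
    rw [Sylow.coe_mapSurjective]
    rintro _ ⟨x, hx, rfl⟩
    rw [mem_repStab]
    apply Subtype.ext
    show ((ρ.quotientToInvariants N (QuotientGroup.mk x) a₀ :
      Representation.invariants (ρ.comp N.subtype)) : V) = a₀
    rw [qti_val, ha₀, ← hπeq, mem_repStab.mp (hP hx)]
  -- (ii) span
  have hspan' : Submodule.span k {u | ∃ q : H ⧸ N, ρ.quotientToInvariants N q a₀ = u} = ⊤ := by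
    rw [eq_top_iff]
    rintro w -
    obtain ⟨π', hπ'⟩ : ∃ π' : V →ₗ[k] Representation.invariants (ρ.comp N.subtype),
        ∀ v, (π' v : V) = π v :=
      ⟨LinearMap.codRestrict _ π (fun v => hmemW _ (hπW v)), fun v => rfl⟩
    have hw : π' (w : V) = w := by
      apply Subtype.ext
      rw [hπ']
      apply hπid
      intro n
      exact (Representation.mem_invariants _ _).mp w.2 n
    have h1 : (w : V) ∈ Submodule.span k {u : V | ∃ h : H, ρ h a = u} := by
      rw [hspan]; exact Submodule.mem_top
    have h2 : π' (w : V) ∈ (Submodule.span k {u : V | ∃ h : H, ρ h a = u}).map π' :=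
      Submodule.mem_map_of_mem h1
    rw [Submodule.map_span, hw] at h2
    refine Submodule.span_mono ?_ h2
    rintro _ ⟨_, ⟨h, rfl⟩, rfl⟩
    refine ⟨QuotientGroup.mk h, ?_⟩
    apply Subtype.ext
    rw [qti_val, hπ', ha₀, hπeq]
  obtain ⟨IH1, IH2⟩ := IH a₀ hSyl hspan'
  -- (iii) indices
  have hidx_a : (repStab (ρ.quotientToInvariants N) a₀).index ∣ (repStab ρ a).index := by
    have hle : repStab ρ a ≤ (repStab (ρ.quotientToInvariants N) a₀).comap (QuotientGroup.mk' N) := by
      intro h hh
      rw [Subgroup.mem_comap, mem_repStab]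
      apply Subtype.ext
      show ((ρ.quotientToInvariants N (QuotientGroup.mk h) a₀ :
        Representation.invariants (ρ.comp N.subtype)) : V) = a₀
      rw [qti_val, ha₀, ← hπeq, mem_repStab.mp hh]
    have := Subgroup.index_dvd_of_le hle
    rwa [Subgroup.index_comap_of_surjective _ (QuotientGroup.mk'_surjective N)] at this
  have hidx_b : ∀ b' : Representation.invariants (ρ.comp N.subtype),
      (repStab (ρ.quotientToInvariants N) b').index = (repStab ρ (b' : V)).index := by
    intro b'
    have heq : repStab ρ (b' : V) =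
        (repStab (ρ.quotientToInvariants N) b').comap (QuotientGroup.mk' N) := by
      ext h
      rw [Subgroup.mem_comap, mem_repStab, mem_repStab, Subtype.ext_iff]
      rfl
    rw [heq, Subgroup.index_comap_of_surjective _ (QuotientGroup.mk'_surjective N)]
  refine ⟨?_, ?_⟩
  · -- (1)
    have hle : ρ.invariants ≤ ((ρ.quotientToInvariants N).invariants).map
        (Representation.invariants (ρ.comp N.subtype)).subtype := by
      intro v hv
      rw [Representation.mem_invariants] at hv
      have hvW : v ∈ Representation.invariants (ρ.comp N.subtype) := hmemW v (fun n => hv n)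
      refine ⟨⟨v, hvW⟩, ?_, rfl⟩
      rw [SetLike.mem_coe, Representation.mem_invariants]
      intro q
      obtain ⟨h, rfl⟩ := QuotientGroup.mk_surjective q
      apply Subtype.ext
      show ((ρ.quotientToInvariants N (QuotientGroup.mk h) ⟨v, hvW⟩ :
        Representation.invariants (ρ.comp N.subtype)) : V) = v
      rw [qti_val]
      exact hv h
    calc Module.finrank k ρ.invariants
        ≤ Module.finrank k (((ρ.quotientToInvariants N).invariants).map
          (Representation.invariants (ρ.comp N.subtype)).subtype) := Submodule.finrank_mono hle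
      _ = Module.finrank k (ρ.quotientToInvariants N).invariants :=
          Submodule.finrank_map_subtype_eq _ _
      _ ≤ 1 := IH1
  · -- (2)
    intro b hcop h
    have hbN := hNb b hcop
    obtain ⟨b', hb'⟩ : ∃ b' : Representation.invariants (ρ.comp N.subtype), (b' : V) = b :=
      ⟨⟨b, hmemW b hbN⟩, rfl⟩
    have hcop' : ((repStab (ρ.quotientToInvariants N) a₀).index).Coprime
        ((repStab (ρ.quotientToInvariants N) b').index) := by
      rw [hidx_b b', hb']
      exact Nat.Coprime.coprime_dvd_left hidx_a hcop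
    have := IH2 b' hcop' (QuotientGroup.mk h)
    have h3 := congrArg Subtype.val this
    rw [qti_val, hb'] at h3
    exact h3

end

theorem pso_exists_normal {H : Type v} [Group H] [Finite H] [Nontrivial H] (p : ℕ)
    [hp : Fact p.Prime] (hsol : Cfsg.IsPSolvable p H) :
    ∃ N : Subgroup H, N.Normal ∧ N ≠ ⊥ ∧ (IsPGroup p N ∨ (Nat.card N).Coprime p) := by
  obtain ⟨n, K, h0, hlast, hmono, hnorm, hidx⟩ := hsol
  have key : ∀ i : ℕ, ∀ hi : i < n + 1, K ⟨i, hi⟩ ≠ ⊥ →
      ∃ N : Subgroup H, N.Normal ∧ N ≠ ⊥ ∧ (IsPGroup p N ∨ (Nat.card N).Coprime p) := by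
    intro i
    induction i with
    | zero =>
      intro hi hne
      exact absurd h0 hne
    | succ i ih =>
      intro hi hne
      by_cases hprev : K ⟨i, by omega⟩ = ⊥
      · refine ⟨K ⟨i + 1, hi⟩, hnorm _, hne, ?_⟩
        have hj := hidx ⟨i, by omega⟩
        have e1 : (⟨i, by omega⟩ : Fin n).castSucc = (⟨i, by omega⟩ : Fin (n + 1)) := rfl
        have e2 : (⟨i, by omega⟩ : Fin n).succ = (⟨i + 1, hi⟩ : Fin (n + 1)) := rfl
        rw [e1, e2, hprev, Subgroup.relIndex_bot_left] at hj
        rcases hj with ⟨m, hm⟩ | hj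
        · exact Or.inl (IsPGroup.of_card hm)
        · exact Or.inr hj
      · exact ih (by omega) hprev
  apply key n (by omega)
  have : (⟨n, by omega⟩ : Fin (n + 1)) = Fin.last n := rfl
  rw [this, hlast]
  exact top_ne_bot

end Cfsg.Agent.Lib.Helper20
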