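import Mathlib
import Cfsg.Agent.Lib.Helper20.PSolvOrbit1

/-!
# Orbit sizes in modules for `p`-soluble groups: the induction (helper20)
-/

set_option linter.style.haveILetI false
set_option linter.unusedVariables false

namespace Cfsg.Agent.Lib.Helper20

universe u v w

theorem pso_relIndex_map_dvd {C Q : Type*} [Group C] [Group Q] (f : C →* Q) (A B : Subgroup C)
    [A.Normal] (hAB : A ≤ B) : (A.map f).relIndex (B.map f) ∣ A.relIndex B := by
  rw [Subgroup.relIndex_map_map]
  have h1 : B ⊔ f.ker = B ⊔ (A ⊔ f.ker) := by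
    rw [← sup_assoc, sup_eq_left.mpr hAB]
  rw [h1, Subgroup.relIndex_sup_right]
  exact Subgroup.relIndex_dvd_of_le_left B le_sup_left

theorem pso_pow_or_coprime_of_dvd {p : ℕ} (hp : p.Prime) {a b : ℕ} (hab : a ∣ b)
    (h : (∃ m : ℕ, b = p ^ m) ∨ b.Coprime p) : (∃ m : ℕ, a = p ^ m) ∨ a.Coprime p := by
  rcases h with ⟨m, hm⟩ | h
  · left
    rw [hm] at hab
    obtain ⟨j, _, hj⟩ := (Nat.dvd_prime_pow hp).mp hab
    exact ⟨j, hj⟩
  · right
    exact Nat.Coprime.coprime_dvd_left hab h

theorem pso_isPSolvable_of_surjective {p : ℕ} (hp : p.Prime) {C Q : Type*} [Group C] [Group Q]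
    (f : C →* Q) (hf : Function.Surjective f) (h : Cfsg.IsPSolvable p C) :
    Cfsg.IsPSolvable p Q := by
  obtain ⟨n, K, h0, hlast, hmono, hnorm, hidx⟩ := h
  refine ⟨n, fun i => (K i).map f, ?_, ?_, ?_, ?_, ?_⟩
  · simp only [h0, Subgroup.map_bot]
  · simp only [hlast, ← MonoidHom.range_eq_map, MonoidHom.range_eq_top.mpr hf]
  · intro i j hij
    exact Subgroup.map_mono (hmono hij)
  · intro i
    exact Subgroup.Normal.map (hnorm i) f hf
  · intro i
    haveI := hnorm i.castSucc
    have hle : K i.castSucc ≤ K i.succ := hmono (Fin.castSucc_le_succ i)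
    exact pso_pow_or_coprime_of_dvd hp (pso_relIndex_map_dvd f _ _ hle) (hidx i)

variable {k : Type u} [Field k]

theorem pso_core (p : ℕ) [hp : Fact p.Prime] [CharP k p] :
    ∀ (n : ℕ) (H : Type v) [Group H] [Finite H] (V : Type w) [AddCommGroup V] [Module k V],
      Nat.card H = n → Cfsg.IsPSolvable p H → ∀ (ρ : Representation k H V) (a : V),
      (∃ P : Sylow p H, (P : Subgroup H) ≤ repStab ρ a) →
      Submodule.span k {u : V | ∃ h : H, ρ h a = u} = ⊤ →
      Module.finrank k ρ.invariants ≤ 1 ∧
      ∀ b : V, ((repStab ρ a).index).Coprime ((repStab ρ b).index) → ∀ h : H, ρ h b = b := by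
  intro n
  induction n using Nat.strong_induction_on with
  | _ n ih =>
    intro H _ _ V _ _ hn hsol ρ a hfix hspan
    by_cases hnt : Nontrivial H
    · obtain ⟨N, hNn, hNne, hNcase⟩ := pso_exists_normal p hsol
      haveI := hNn
      have hlt : Nat.card (H ⧸ N) < n := by
        rw [← hn, ← Subgroup.index_eq_card, ← N.card_mul_index]
        have h1 : 1 < Nat.card N := by
          rw [Finite.one_lt_card_iff_nontrivial]
          exact (Subgroup.nontrivial_iff_ne_bot N).mpr hNne
        have h2 : 0 < N.index := Nat.pos_of_ne_zero Subgroup.index_ne_zero_of_finite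
        nlinarith
      have hsolq : Cfsg.IsPSolvable p (H ⧸ N) :=
        pso_isPSolvable_of_surjective hp.out (QuotientGroup.mk' N) (QuotientGroup.mk'_surjective N) hsol
      have IH := fun (a₀ : Representation.invariants (ρ.comp N.subtype)) h1 h2 =>
        ih (Nat.card (H ⧸ N)) hlt (H ⧸ N) (Representation.invariants (ρ.comp N.subtype)) rfl hsolq
          (ρ.quotientToInvariants N) a₀ h1 h2
      rcases hNcase with hNp | hNp'
      · -- `N` is a `p`-group: it acts trivially
        obtain ⟨P, hP⟩ := hfix
        have hNP : N ≤ P := hNp.le_sylow_of_normal P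
        have htriv : ∀ (n : N) (v : V), ρ (n : H) v = v := by
          intro n v
          have hv : v ∈ Submodule.span k {u : V | ∃ h : H, ρ h a = u} := by
            rw [hspan]; exact Submodule.mem_top
          induction hv using Submodule.span_induction with
          | mem u hu =>
            obtain ⟨h, rfl⟩ := hu
            have h1 : h⁻¹ * (n : H) * h ∈ N := by
              have := hNn.conj_mem (n : H) n.2 h⁻¹
              simpa using this
            have h2 : ρ (h⁻¹ * (n : H) * h) a = a := mem_repStab.mp (hP (hNP h1))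
            have h3 : (n : H) * h = h * (h⁻¹ * (n : H) * h) := by group
            rw [← rep_mul_apply, h3, rep_mul_apply, h2]
          | zero => exact map_zero _
          | add x y _ _ hx hy => rw [map_add, hx, hy]
          | smul c x _ hx => rw [map_smul, hx]
        exact pso_step p ρ a ⟨P, hP⟩ hspan N LinearMap.id (fun v n => htriv n v)
          (fun v _ => rfl) (fun h v => rfl) (fun b _ n => htriv n b) IH
      · -- `N` is a `p'`-group: average
        haveI : Fintype N := Fintype.ofFinite N
        have hNk : (Nat.card N : k) ≠ 0 := by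
          intro h0
          rw [CharP.cast_eq_zero_iff k p] at h0
          have h3 : p ∣ Nat.gcd (Nat.card N) p := Nat.dvd_gcd h0 dvd_rfl
          rw [hNp'] at h3
          exact hp.out.one_lt.ne' (Nat.dvd_one.mp h3)
        exact pso_step p ρ a hfix hspan N (avgN ρ N) (fun v n => avgN_mem ρ N v n)
          (fun v hv => avgN_id ρ N hNk v hv) (fun h v => avgN_equivariant ρ N h v)
          (fun b hcop n => pso_normal_fixes p ρ a b hspan N hNp' hcop n n.2) IH
    · -- trivial group
      rw [not_nontrivial_iff_subsingleton] at hnt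
      have hone : ∀ h : H, ρ h = 1 := by
        intro h
        rw [Subsingleton.elim h 1, map_one]
      refine ⟨?_, fun b _ h => by rw [hone h]; rfl⟩
      have ha : a ∈ ρ.invariants := by
        rw [Representation.mem_invariants]
        intro g
        rw [hone g]; rfl
      apply finrank_le_one (⟨a, ha⟩ : ρ.invariants)
      intro w
      have hw : (w : V) ∈ Submodule.span k {u : V | ∃ h : H, ρ h a = u} := by
        rw [hspan]; exact Submodule.mem_top
      have hset : {u : V | ∃ h : H, ρ h a = u} = {a} := by
        ext u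
        constructor
        · rintro ⟨h, rfl⟩
          rw [hone h]; rfl
        · intro hu
          rw [Set.mem_singleton_iff] at hu
          exact ⟨1, by rw [hu, hone 1]; rfl⟩
      rw [hset, Submodule.mem_span_singleton] at hw
      obtain ⟨c, hc⟩ := hw
      exact ⟨c, Subtype.ext hc⟩

/-- **Orbit sizes in modules for `p`-soluble groups.** -/
theorem pso_main {k : Type u} {V : Type w} {H : Type v} [Field k] (p : ℕ) [Fact p.Prime] [CharP k p]
    [AddCommGroup V] [Module k V]
    [Group H] [Finite H] (hsol : Cfsg.IsPSolvable p H) (ρ : Representation k H V) (a : V)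
    (hfix : ∃ P : Sylow p H, ∀ x : H, x ∈ (P : Subgroup H) → ρ x a = a)
    (hspan : Submodule.span k {u : V | ∃ h : H, ρ h a = u} = ⊤) :
    Module.finrank k ρ.invariants ≤ 1 ∧
    ∀ b : V, (Nat.card {u : V | ∃ h : H, ρ h a = u}).Coprime
      (Nat.card {u : V | ∃ h : H, ρ h b = u}) → ∀ h : H, ρ h b = b := by
  obtain ⟨P, hP⟩ := hfix
  have key := pso_core (k := k) p (Nat.card H) H V rfl hsol ρ a ⟨P, fun x hx => hP x hx⟩ hspan
  refine ⟨key.1, ?_⟩
  intro b hcop
  rw [card_orbit_eq_index, card_orbit_eq_index] at hcop
  exact key.2 b hcop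

end Cfsg.Agent.Lib.Helper20
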