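import Cfsg.Agent.Lib.Helper20.CharPLocal
import Cfsg.Agent.Lib.Helper20.PConstrainedFusion
import Cfsg.Agent.Lib.Helper20.StabChain
import Cfsg.Agent.Lib.Helper20.FstarComm2
import Cfsg.Prelude.Def_LocalStructure
import Cfsg.Agent.Lib.Lead.UniqueOrderP

/-!
A group of even order and parabolic characteristic 2 with `Z(G/O(G)) = 1` has `O(G) = 1`
(helper20).
-/

set_option autoImplicit false

namespace Cfsg.Agent.Lib.Helper20

open scoped commutatorElement
open Cfsg

section

variable {G : Type*} [Group G]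

/-- A fixed-point-free involution inverts (copied from helper's S4005). -/
theorem inverts_of_fpf' [Finite G] (N : Subgroup G) [hN : N.Normal] (t : G) (ht : t * t = 1)
    (hfpf : ∀ n ∈ N, t * n = n * t → n = 1) : ∀ n ∈ N, t * n * t⁻¹ = n⁻¹ := by
  have htinv : t⁻¹ = t := inv_eq_of_mul_eq_one_left ht
  let f : N → N := fun n =>
    ⟨(n : G)⁻¹ * (t * n * t⁻¹), N.mul_mem (N.inv_mem n.2) (hN.conj_mem n n.2 t)⟩
  have hinj : Function.Injective f := by
    intro n m hnm
    have h1 : (n : G)⁻¹ * (t * n * t⁻¹) = (m : G)⁻¹ * (t * m * t⁻¹) := congrArg Subtype.val hnm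
    have h2 : t * ((m : G) * (n : G)⁻¹) = ((m : G) * (n : G)⁻¹) * t := by
      have h3 : (m : G) * (n : G)⁻¹ * (t * n * t⁻¹) = t * m * t⁻¹ := by
        rw [mul_assoc, h1, mul_inv_cancel_left]
      have h4 : (m : G) * (n : G)⁻¹ * t = t * m * t⁻¹ * (t * (n : G)⁻¹) := by
        calc (m : G) * (n : G)⁻¹ * t
            = (m : G) * (n : G)⁻¹ * (t * n * t⁻¹) * (t * (n : G)⁻¹) := by group
          _ = t * m * t⁻¹ * (t * (n : G)⁻¹) := by rw [h3]
      rw [h4]; group
    have h5 := hfpf _ (N.mul_mem m.2 (N.inv_mem n.2)) h2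
    have : (m : G) = n := mul_inv_eq_one.mp h5
    exact Subtype.ext this.symm
  have hsurj : Function.Surjective f := Finite.surjective_of_injective hinj
  intro n hn
  obtain ⟨m, hm⟩ := hsurj ⟨n, hn⟩
  have hm' : (m : G)⁻¹ * (t * m * t⁻¹) = n := congrArg Subtype.val hm
  rw [← hm', htinv]
  have e1 : t * ((m : G)⁻¹ * (t * m * t)) * t = t * (m : G)⁻¹ * t * m * (t * t) := by group
  have e2 : ((m : G)⁻¹ * (t * m * t))⁻¹ = t⁻¹ * (m : G)⁻¹ * t⁻¹ * m := by group
  rw [e1, e2, ht, mul_one, htinv]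

variable [Finite G]

/-- In a group of parabolic characteristic `p`, a nontrivial element of the centre of a Sylow
`p`-subgroup has no nontrivial fixed points on `O_{p'}(G)`. -/
theorem fpf_of_parabolic {p : ℕ} [hp : Fact p.Prime] (hG : IsOfParabolicCharacteristic p G)
    (S : Sylow p G) (w : G) (hw1 : w ≠ 1) (hwS : w ∈ (S : Subgroup G))
    (hwZ : ∀ s ∈ (S : Subgroup G), s * w = w * s) :
    ∀ o ∈ pPrimeCore p G, w * o = o * w → o = 1 := by
  have hOn : (pPrimeCore p G).Normal := (pPrimeCore_mem' p).1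
  have hRS : Subgroup.zpowers w ≤ (S : Subgroup G) := (Subgroup.zpowers_le).mpr hwS
  have hR : IsPGroup p ↥(Subgroup.zpowers w) := S.2.to_le hRS
  have hRne : Subgroup.zpowers w ≠ ⊥ := by
    intro h
    exact hw1 ((Subgroup.zpowers_eq_bot).mp h)
  have hSC : (S : Subgroup G) ≤ Subgroup.centralizer ((Subgroup.zpowers w : Subgroup G) : Set G) := by
    intro s hs
    rw [Subgroup.mem_centralizer_iff]
    intro x hx
    obtain ⟨k, rfl⟩ := Subgroup.mem_zpowers_iff.mp hx
    exact ((Commute.zpow_right (show Commute s w from hwZ s hs) k).eq).symm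
  have hSN : (S : Subgroup G) ≤ Subgroup.normalizer ((Subgroup.zpowers w : Subgroup G) : Set G) :=
    hSC.trans (Subgroup.centralizer_le_normalizer _)
  have hchar := hG (Subgroup.zpowers w) hR hRne ⟨S, hSN⟩
  have hO' : pPrimeCore p ↥(Subgroup.normalizer ((Subgroup.zpowers w : Subgroup G) : Set G)) = ⊥ := by
    have h1 := (pPrimeCore_le_centralizer_pCore (K :=
      ↥(Subgroup.normalizer ((Subgroup.zpowers w : Subgroup G) : Set G))) p).trans hchar
    rw [eq_bot_iff]
    have hdisj : pPrimeCore p ↥(Subgroup.normalizer ((Subgroup.zpowers w : Subgroup G) : Set G)) ⊓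
        pCore p ↥(Subgroup.normalizer ((Subgroup.zpowers w : Subgroup G) : Set G)) = ⊥ := by
      apply disjoint_iff.mp
      apply Subgroup.disjoint_of_coprime_natCard
      obtain ⟨k, hk⟩ := IsPGroup.iff_card.mp (pCore_isPGroup' (G :=
        ↥(Subgroup.normalizer ((Subgroup.zpowers w : Subgroup G) : Set G))) p)
      rw [hk]
      exact Nat.Coprime.pow_right k (pPrimeCore_coprime' p)
    rw [← hdisj]
    exact le_inf le_rfl h1
  -- `D = C_O(w)`
  have hDN : pPrimeCore p G ⊓ Subgroup.centralizer ((Subgroup.zpowers w : Subgroup G) : Set G) ≤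
      Subgroup.normalizer ((Subgroup.zpowers w : Subgroup G) : Set G) :=
    inf_le_right.trans (Subgroup.centralizer_le_normalizer _)
  have hND : Subgroup.normalizer ((Subgroup.zpowers w : Subgroup G) : Set G) ≤
      Subgroup.normalizer ((pPrimeCore p G ⊓
        Subgroup.centralizer ((Subgroup.zpowers w : Subgroup G) : Set G) : Subgroup G) : Set G) := by
    apply le_normalizer_inf'
    · rw [Subgroup.normalizer_eq_top_iff.mpr hOn]; exact le_top
    · exact normalizer_le_normalizer_centralizer_sc _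
  have hDn : ((pPrimeCore p G ⊓
      Subgroup.centralizer ((Subgroup.zpowers w : Subgroup G) : Set G)).subgroupOf
        (Subgroup.normalizer ((Subgroup.zpowers w : Subgroup G) : Set G))).Normal :=
    (Subgroup.normal_subgroupOf_iff_le_normalizer hDN).mpr hND
  have hDc : (Nat.card ((pPrimeCore p G ⊓
      Subgroup.centralizer ((Subgroup.zpowers w : Subgroup G) : Set G)).subgroupOf
        (Subgroup.normalizer ((Subgroup.zpowers w : Subgroup G) : Set G)))).Coprime p := by
    rw [Nat.card_congr (Subgroup.subgroupOfEquivOfLe hDN).toEquiv]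
    exact Nat.Coprime.coprime_dvd_left (Subgroup.card_dvd_of_le inf_le_left) (pPrimeCore_coprime' p)
  have hD := le_pPrimeCore' hDn hDc
  rw [hO'] at hD
  intro o ho hcomm
  have hoD : o ∈ pPrimeCore p G ⊓
      Subgroup.centralizer ((Subgroup.zpowers w : Subgroup G) : Set G) := by
    refine ⟨ho, ?_⟩
    show o ∈ Subgroup.centralizer ((Subgroup.zpowers w : Subgroup G) : Set G)
    rw [Subgroup.mem_centralizer_iff]
    intro x hx
    obtain ⟨k, rfl⟩ := Subgroup.mem_zpowers_iff.mp hx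
    exact (Commute.zpow_left (show Commute w o from hcomm) k).eq
  have h2 : (⟨o, hDN hoD⟩ : ↥(Subgroup.normalizer ((Subgroup.zpowers w : Subgroup G) : Set G))) ∈
      (pPrimeCore p G ⊓
      Subgroup.centralizer ((Subgroup.zpowers w : Subgroup G) : Set G)).subgroupOf
        (Subgroup.normalizer ((Subgroup.zpowers w : Subgroup G) : Set G)) := hoD
  have h3 := hD h2
  rw [Subgroup.mem_bot] at h3
  exact congrArg Subtype.val h3

/-- S2898. -/
theorem oddCore_eq_bot_of_parabolic (h2 : 2 ∣ Nat.card G) (hG : IsOfParabolicCharacteristic 2 G)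
    [hN : (oddCore G).Normal] (hZ : Subgroup.center (G ⧸ oddCore G) = ⊥) : oddCore G = ⊥ := by
  by_contra hO
  haveI : Fact (Nat.Prime 2) := ⟨Nat.prime_two⟩
  have hOn : (pPrimeCore 2 G).Normal := hN
  let S : Sylow 2 G := default
  have hCn : (Subgroup.centralizer (pPrimeCore 2 G : Set G)).Normal := Subgroup.normal_centralizer
  have hCS : Subgroup.centralizer (pPrimeCore 2 G : Set G) ⊓ (S : Subgroup G) = ⊥ := by
    by_contra hne
    have hHn : ((Subgroup.centralizer (pPrimeCore 2 G : Set G)).subgroupOf (S : Subgroup G)).Normal :=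
      hCn.subgroupOf _
    have hHne : (Subgroup.centralizer (pPrimeCore 2 G : Set G)).subgroupOf (S : Subgroup G) ≠ ⊥ := by
      intro h
      apply hne
      rw [Subgroup.subgroupOf_eq_bot] at h
      exact disjoint_iff.mp h
    obtain ⟨z, hzH, hz1, hzc⟩ := Cfsg.Agent.Lib.Lead.UniqueOrderP.exists_central_of_normal S.2
      ((Subgroup.centralizer (pPrimeCore 2 G : Set G)).subgroupOf (S : Subgroup G)) hHne
    have hfpf := fpf_of_parabolic hG S (z : G)
      (fun h => hz1 (Subtype.ext h)) z.2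
      (fun s hs => congrArg Subtype.val (Subgroup.mem_center_iff.mp hzc ⟨s, hs⟩))
    apply hO
    rw [eq_bot_iff]
    intro o ho
    rw [Subgroup.mem_bot]
    apply hfpf o ho
    have hzC : (z : G) ∈ Subgroup.centralizer (pPrimeCore 2 G : Set G) := hzH
    exact (Subgroup.mem_centralizer_iff.mp hzC o ho).symm
  have hCO : Subgroup.centralizer (pPrimeCore 2 G : Set G) ≤ pPrimeCore 2 G := by
    apply le_pPrimeCore' hCn
    have h1 := Cfsg.Agent.Lib.Helper17.not_dvd_relIndex_of_sylow_of_normal S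
      (Subgroup.centralizer (pPrimeCore 2 G : Set G))
    rw [← Subgroup.inf_relIndex_right, inf_comm, hCS, Subgroup.relIndex_bot_left] at h1
    exact ((Nat.Prime.coprime_iff_not_dvd Nat.prime_two).mpr h1).symm
  have hSne : (S : Subgroup G) ≠ ⊥ := Sylow.ne_bot_of_dvd_card S h2
  haveI : Nontrivial ↥(S : Subgroup G) := (Subgroup.nontrivial_iff_ne_bot _).mpr hSne
  have hcn : Nontrivial (Subgroup.center ↥(S : Subgroup G)) := IsPGroup.center_nontrivial S.2
  have hcp : IsPGroup 2 (Subgroup.center ↥(S : Subgroup G)) := S.2.to_subgroup _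
  obtain ⟨k, hk⟩ := IsPGroup.iff_card.mp hcp
  have hk0 : k ≠ 0 := by
    rintro rfl
    have h1 : Nat.card (Subgroup.center ↥(S : Subgroup G)) = 1 := by simpa using hk
    have h3 := Finite.one_lt_card (α := Subgroup.center ↥(S : Subgroup G))
    omega
  have hdvd : 2 ∣ Nat.card (Subgroup.center ↥(S : Subgroup G)) := by
    rw [hk]; exact dvd_pow_self 2 hk0
  obtain ⟨z, hz⟩ := exists_prime_orderOf_dvd_card' 2 hdvd
  obtain ⟨z0, hz0def⟩ : ∃ z0 : G, z0 = ((z : ↥(S : Subgroup G)) : G) := ⟨_, rfl⟩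
  have hz0ord : orderOf z0 = 2 := by
    rw [hz0def, Subgroup.orderOf_coe, Subgroup.orderOf_coe]; exact hz
  have hz0S : z0 ∈ (S : Subgroup G) := by rw [hz0def]; exact (z : ↥(S : Subgroup G)).2
  have hz0Z : ∀ s ∈ (S : Subgroup G), s * z0 = z0 * s := by
    intro s hs
    rw [hz0def]
    exact congrArg Subtype.val (Subgroup.mem_center_iff.mp z.2 ⟨s, hs⟩)
  have hz01 : z0 ≠ 1 := by
    intro h
    rw [h, orderOf_one] at hz0ord
    omega
  have hz0sq : z0 * z0 = 1 := by
    rw [← pow_two, ← hz0ord, pow_orderOf_eq_one]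
  have hfpf := fpf_of_parabolic hG S z0 hz01 hz0S hz0Z
  have hinv := inverts_of_fpf' (pPrimeCore 2 G) z0 hz0sq hfpf
  have hzinv : z0⁻¹ = z0 := inv_eq_of_mul_eq_one_left hz0sq
  have hcomm : ∀ g : G, z0 * g * z0⁻¹ * g⁻¹ ∈ Subgroup.centralizer (pPrimeCore 2 G : Set G) := by
    intro g
    rw [Subgroup.mem_centralizer_iff]
    intro o ho
    have ho1 : g⁻¹ * o * g ∈ pPrimeCore 2 G := by
      have := hOn.conj_mem o ho g⁻¹
      rwa [inv_inv] at this
    have e1 : z0⁻¹ * (g⁻¹ * o * g) * z0 = (g⁻¹ * o * g)⁻¹ := by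
      have h3 := hinv (g⁻¹ * o * g) ho1
      rw [hzinv] at h3 ⊢
      exact h3
    have e2 : (z0 * g * z0⁻¹ * g⁻¹) * o * (z0 * g * z0⁻¹ * g⁻¹)⁻¹ = o := by
      calc (z0 * g * z0⁻¹ * g⁻¹) * o * (z0 * g * z0⁻¹ * g⁻¹)⁻¹
          = z0 * (g * (z0⁻¹ * (g⁻¹ * o * g) * z0) * g⁻¹) * z0⁻¹ := by group
        _ = z0 * (g * (g⁻¹ * o * g)⁻¹ * g⁻¹) * z0⁻¹ := by rw [e1]
        _ = z0 * o⁻¹ * z0⁻¹ := by group
        _ = o := by rw [hinv o⁻¹ (Subgroup.inv_mem _ ho), inv_inv]
    exact (mul_inv_eq_iff_eq_mul.mp e2).symm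
  have hzc : (QuotientGroup.mk z0 : G ⧸ oddCore G) ∈ Subgroup.center (G ⧸ oddCore G) := by
    rw [Subgroup.mem_center_iff]
    intro q
    obtain ⟨g, rfl⟩ := QuotientGroup.mk_surjective q
    have h3 : z0 * g⁻¹ * z0⁻¹ * g⁻¹⁻¹ ∈ oddCore G := hCO (hcomm g⁻¹)
    rw [← QuotientGroup.mk_mul, ← QuotientGroup.mk_mul, QuotientGroup.eq]
    have e : (g * z0)⁻¹ * (z0 * g) = z0 * g⁻¹ * z0⁻¹ * g⁻¹⁻¹ := by
      have e0 : (g * z0)⁻¹ * (z0 * g) = z0⁻¹ * g⁻¹ * z0 * g := by group
      rw [e0, inv_inv, hzinv]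
    rw [e]
    exact h3
  rw [hZ, Subgroup.mem_bot, QuotientGroup.eq_one_iff] at hzc
  have h4 : z0 ∈ (S : Subgroup G) ⊓ pPrimeCore 2 G := ⟨hz0S, hzc⟩
  rw [sylow_inf_pPrimeCore_eq_bot, Subgroup.mem_bot] at h4
  exact hz01 h4

end

end Cfsg.Agent.Lib.Helper20
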