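import Mathlib

/-! The number of partitions of `n` is at most `fib (n+1)`, hence at most `2^(n-2)` for `n ≥ 5`. -/

set_option autoImplicit false

namespace Cfsg.Agent.Lib.Helper20

open Multiset

/-- a chosen (largest) part of a nonempty partition -/
noncomputable def partMax {n : ℕ} (l : Nat.Partition n) : ℕ :=
  if h : l.parts.toFinset.Nonempty then l.parts.toFinset.max' h else 0

theorem partMax_mem {n : ℕ} (l : Nat.Partition n) (hn : 0 < n) : partMax l ∈ l.parts := by
  have hne : l.parts.toFinset.Nonempty := by
    rw [Finset.nonempty_iff_ne_empty]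
    intro h
    have h0 : l.parts = 0 := Multiset.toFinset_eq_empty.mp h
    have := l.parts_sum
    rw [h0, Multiset.sum_zero] at this
    omega
  unfold partMax
  rw [dif_pos hne]
  exact Multiset.mem_toFinset.mp (Finset.max'_mem _ hne)

/-- the left inverse of the recursion map, on the level of multisets -/
noncomputable def partRecInv (n : ℕ) : Nat.Partition (n + 1) ⊕ Nat.Partition n → Multiset ℕ
  | Sum.inl μ => 1 ::ₘ μ.parts
  | Sum.inr μ => (μ.parts.count 1 + 2) ::ₘ μ.parts.filter (fun i => i ≠ 1)

/-- the recursion map: remove a part `1` if there is one, otherwise replace a (largest) part `M`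
by `M - 2` parts equal to `1` -/
noncomputable def partRec (n : ℕ) (l : Nat.Partition (n + 2)) :
    Nat.Partition (n + 1) ⊕ Nat.Partition n :=
  if h : 1 ∈ l.parts then
    Sum.inl ⟨l.parts.erase 1, fun {i} hi => l.parts_pos (Multiset.mem_of_mem_erase hi), by
      have h1 := Multiset.sum_erase h
      have h2 := l.parts_sum
      omega⟩
  else
    Sum.inr ⟨l.parts.erase (partMax l) + Multiset.replicate (partMax l - 2) 1, by
      intro i hi
      rcases Multiset.mem_add.mp hi with hi | hi
      · exact l.parts_pos (Multiset.mem_of_mem_erase hi)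
      · rw [Multiset.eq_of_mem_replicate hi]; exact Nat.one_pos, by
      have hM := partMax_mem l (by omega)
      have h1 := Multiset.sum_erase hM
      have h2 := l.parts_sum
      have hpos := l.parts_pos hM
      have hM1 : partMax l ≠ 1 := fun h1' => h (h1' ▸ hM)
      rw [Multiset.sum_add, Multiset.sum_replicate, smul_eq_mul, mul_one]
      omega⟩

theorem partRecInv_partRec (n : ℕ) (l : Nat.Partition (n + 2)) :
    partRecInv n (partRec n l) = l.parts := by
  unfold partRec
  by_cases h : 1 ∈ l.parts
  · rw [dif_pos h]
    show 1 ::ₘ l.parts.erase 1 = l.parts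
    exact Multiset.cons_erase h
  · rw [dif_neg h]
    have hM := partMax_mem l (by omega)
    have hpos := l.parts_pos hM
    have hM1 : partMax l ≠ 1 := fun h1' => h (h1' ▸ hM)
    show (Multiset.count 1 (l.parts.erase (partMax l) + Multiset.replicate (partMax l - 2) 1) + 2) ::ₘ
      Multiset.filter (fun i => i ≠ 1) (l.parts.erase (partMax l) + Multiset.replicate (partMax l - 2) 1)
        = l.parts
    have h1e : 1 ∉ l.parts.erase (partMax l) := fun h' => h (Multiset.mem_of_mem_erase h')
    have hc : Multiset.count 1 (l.parts.erase (partMax l) + Multiset.replicate (partMax l - 2) 1)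
        = partMax l - 2 := by
      rw [Multiset.count_add, Multiset.count_eq_zero_of_notMem h1e, Multiset.count_replicate_self,
        zero_add]
    have hf : Multiset.filter (fun i => i ≠ 1)
        (l.parts.erase (partMax l) + Multiset.replicate (partMax l - 2) 1)
        = l.parts.erase (partMax l) := by
      rw [Multiset.filter_add]
      have h3 : Multiset.filter (fun i => i ≠ 1) (l.parts.erase (partMax l))
          = l.parts.erase (partMax l) := by
        apply Multiset.filter_eq_self.mpr
        intro a ha h1'
        exact h1e (h1' ▸ ha)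
      have h4 : Multiset.filter (fun i => i ≠ 1) (Multiset.replicate (partMax l - 2) 1) = 0 := by
        apply Multiset.filter_eq_nil.mpr
        intro a ha
        rw [Multiset.eq_of_mem_replicate ha]
        simp
      rw [h3, h4, add_zero]
    rw [hc, hf]
    have h5 : partMax l - 2 + 2 = partMax l := by omega
    rw [h5]
    exact Multiset.cons_erase hM

theorem partRec_injective (n : ℕ) : Function.Injective (partRec n) := by
  intro l l' h
  apply Nat.Partition.ext
  rw [← partRecInv_partRec n l, ← partRecInv_partRec n l', h]

theorem card_partition_rec (n : ℕ) :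
    Fintype.card (Nat.Partition (n + 2)) ≤
      Fintype.card (Nat.Partition (n + 1)) + Fintype.card (Nat.Partition n) := by
  have := Fintype.card_le_of_injective (partRec n) (partRec_injective n)
  rwa [Fintype.card_sum] at this

theorem card_partition_le_fib : ∀ n : ℕ, Fintype.card (Nat.Partition n) ≤ Nat.fib (n + 1) := by
  intro n
  induction n using Nat.strong_induction_on with
  | _ n ih =>
  match n, ih with
  | 0, _ => simp
  | 1, _ => simp
  | (m + 2), ih =>
    have h1 := ih (m + 1) (by omega)
    have h2 := ih m (by omega)
    have h3 := card_partition_rec m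
    have h4 : Nat.fib (m + 2 + 1) = Nat.fib (m + 1) + Nat.fib (m + 1 + 1) := Nat.fib_add_two
    omega

theorem fib_succ_le_two_pow : ∀ n : ℕ, 5 ≤ n → Nat.fib (n + 1) ≤ 2 ^ (n - 2) ∧
    Nat.fib (n + 2) ≤ 2 ^ (n - 1) := by
  intro n hn
  induction n, hn using Nat.le_induction with
  | base => decide
  | succ k hk ih =>
    obtain ⟨h1, h2⟩ := ih
    refine ⟨?_, ?_⟩
    · have : k + 1 - 2 = k - 1 := by omega
      rw [this]; exact h2
    · have h3 : Nat.fib (k + 1 + 2) = Nat.fib (k + 1) + Nat.fib (k + 2) := Nat.fib_add_two
      have h4 : k + 1 - 1 = (k - 2) + 2 := by omega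
      have h5 : k - 1 = (k - 2) + 1 := by omega
      rw [h3, h4]
      rw [h5] at h2
      have h6 : 2 ^ (k - 2 + 2) = 4 * 2 ^ (k - 2) := by rw [pow_add]; ring
      have h7 : 2 ^ (k - 2 + 1) = 2 * 2 ^ (k - 2) := by rw [pow_succ]; ring
      rw [h6]
      rw [h7] at h2
      omega

theorem card_partition_le_two_pow (n : ℕ) (hn : 5 ≤ n) :
    Fintype.card (Nat.Partition n) ≤ 2 ^ (n - 2) :=
  (card_partition_le_fib n).trans (fib_succ_le_two_pow n hn).1

end Cfsg.Agent.Lib.Helper20
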