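import Cfsg.Agent.Lib.Helper20.PrimitivePair
import Cfsg.Agent.Lib.Helper16.CharP
import Cfsg.Agent.Lib.Helper16.WeaklyClosed

/-!
Existence of primitive pairs of characteristic `p` in groups of local characteristic `p`
without strongly `p`-embedded maximal `p`-locals (Kurzweil–Stellmacher 10.1) (helper20).
-/

set_option autoImplicit false

namespace Cfsg.Agent.Lib.Helper20

open scoped commutatorElement
open Cfsg
open Cfsg.Agent.Lib.Helper16 (opDown opDown_le opDown_isPGroup le_normalizer_opDown le_opDown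
  normalizer_le_normalizer_opDown map_pCore_eq_opDown map_conj_eq_self_iff
  exists_mem_normalizer_not_mem)

section plocal

variable {G : Type*} [Group G] (p : ℕ)

/-- `L` is a `p`-local subgroup. -/
def IsPLocalSub (L : Subgroup G) : Prop :=
  ∃ T : Subgroup G, IsPGroup p T ∧ T ≠ ⊥ ∧ L = Subgroup.normalizer (T : Set G)

/-- `M` is a maximal `p`-local subgroup. -/
def IsMaxPLocalSub (M : Subgroup G) : Prop :=
  IsPLocalSub p M ∧ ∀ L : Subgroup G, IsPLocalSub p L → M ≤ L → L = M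

variable {p}

theorem card_lt_card_of_lt' [Finite G] {M N : Subgroup G} (h : M < N) :
    Nat.card M < Nat.card N :=
  Set.ncard_lt_ncard (s := (M : Set G)) (t := (N : Set G)) (by exact_mod_cast h) (Set.toFinite _)

theorem exists_isMaxPLocalSub_ge [Finite G] {L : Subgroup G} (hL : IsPLocalSub p L) :
    ∃ M, IsMaxPLocalSub p M ∧ L ≤ M := by
  obtain ⟨M, hLM, hM⟩ := Set.Finite.exists_le_maximal
    (s := {L : Subgroup G | IsPLocalSub p L}) (Set.toFinite _) hL
  exact ⟨M, ⟨hM.1, fun L' hL' hML' => le_antisymm (hM.2 hL' hML') hML'⟩, hLM⟩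

theorem IsMaxPLocalSub.normalizer_eq {M : Subgroup G} (hM : IsMaxPLocalSub p M) {Q : Subgroup G}
    (hQ : IsPGroup p Q) (hQne : Q ≠ ⊥) (hMQ : M ≤ Subgroup.normalizer (Q : Set G)) :
    Subgroup.normalizer (Q : Set G) = M :=
  hM.2 _ ⟨Q, hQ, hQne, rfl⟩ hMQ

theorem IsPLocalSub.opDown_ne_bot {M : Subgroup G} (hM : IsPLocalSub p M) : opDown p M ≠ ⊥ := by
  obtain ⟨T, hT, hTne, rfl⟩ := hM
  intro h
  apply hTne
  rw [eq_bot_iff, ← h]
  exact le_opDown p Subgroup.le_normalizer le_rfl hT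

theorem IsMaxPLocalSub.normalizer_opDown [Finite G] [Fact p.Prime] {M : Subgroup G}
    (hM : IsMaxPLocalSub p M) : Subgroup.normalizer ((opDown p M : Subgroup G) : Set G) = M :=
  hM.normalizer_eq (opDown_isPGroup p M) hM.1.opDown_ne_bot (le_normalizer_opDown p M)

theorem IsMaxPLocalSub.normalizer_le [Finite G] [Fact p.Prime] {M : Subgroup G}
    (hM : IsMaxPLocalSub p M) : Subgroup.normalizer (M : Set G) ≤ M := by
  have h := normalizer_le_normalizer_opDown p M
  rwa [hM.normalizer_opDown] at h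

theorem IsPLocalSub.map_conj {L : Subgroup G} (hL : IsPLocalSub p L) (g : G) :
    IsPLocalSub p (L.map (MulAut.conj g).toMonoidHom) := by
  obtain ⟨T, hT, hTne, rfl⟩ := hL
  refine ⟨T.map (MulAut.conj g).toMonoidHom, hT.map _, ?_, ?_⟩
  · rwa [Ne, Subgroup.map_eq_bot_iff_of_injective _ (MulAut.conj g).injective]
  · exact Subgroup.map_equiv_normalizer_eq T (MulAut.conj g)

theorem pp_map_conj_map_conj_inv (L : Subgroup G) (g : G) :
    (L.map (MulAut.conj g).toMonoidHom).map (MulAut.conj g⁻¹).toMonoidHom = L := by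
  rw [Subgroup.map_map]
  have : (MulAut.conj g⁻¹).toMonoidHom.comp (MulAut.conj g).toMonoidHom = MonoidHom.id G := by
    ext x
    simp [MulAut.conj_apply]
    group
  rw [this, Subgroup.map_id]

theorem IsMaxPLocalSub.map_conj {M : Subgroup G} (hM : IsMaxPLocalSub p M) (g : G) :
    IsMaxPLocalSub p (M.map (MulAut.conj g).toMonoidHom) := by
  refine ⟨hM.1.map_conj g, fun L hL hML => ?_⟩
  have h1 : M ≤ L.map (MulAut.conj g⁻¹).toMonoidHom := by
    have := Subgroup.map_mono (f := (MulAut.conj g⁻¹).toMonoidHom) hML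
    rwa [pp_map_conj_map_conj_inv] at this
  have h2 := hM.2 _ (hL.map_conj g⁻¹) h1
  have h3 := pp_map_conj_map_conj_inv L g⁻¹
  rw [inv_inv, h2] at h3
  exact h3.symm

theorem IsPLocalSub.ne_top (hOp : pCore p G = ⊥) {M : Subgroup G} (hM : IsPLocalSub p M) :
    M ≠ ⊤ := by
  obtain ⟨T, hT, hTne, rfl⟩ := hM
  intro h
  apply hTne
  rw [eq_bot_iff, ← hOp]
  exact le_pCore' (Subgroup.normalizer_eq_top_iff.mp h) hT

theorem IsPLocalSub.dvd_card [Finite G] [hp : Fact p.Prime] {M : Subgroup G}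
    (hM : IsPLocalSub p M) : p ∣ Nat.card M := by
  obtain ⟨T, hT, hTne, rfl⟩ := hM
  obtain ⟨k, hk⟩ := IsPGroup.iff_card.mp hT
  have hk0 : k ≠ 0 := by
    rintro rfl
    apply hTne
    rw [← Subgroup.card_eq_one]
    simpa using hk
  have h1 : Nat.card T ∣ Nat.card (Subgroup.normalizer (T : Set G)) :=
    Subgroup.card_dvd_of_le Subgroup.le_normalizer
  rw [hk] at h1
  exact (dvd_pow_self p hk0).trans h1

/-- In a maximal `p`-local `M` of characteristic `p`, the normalizer of a nontrivial normal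
subgroup of `M` is `M` again. -/
theorem IsMaxPLocalSub.normalizer_le_of_normal [Finite G] [Fact p.Prime] {M : Subgroup G}
    (hM : IsMaxPLocalSub p M)
    (hchar : M ⊓ Subgroup.centralizer ((opDown p M : Subgroup G) : Set G) ≤ opDown p M)
    {A : Subgroup G} (hA : A ≠ ⊥) (hAM : A ≤ M) (hMA : M ≤ Subgroup.normalizer (A : Set G)) :
    Subgroup.normalizer (A : Set G) ≤ M := by
  have hAQ : A ⊓ opDown p M ≠ ⊥ := by
    intro h
    have h1 : A ≤ Subgroup.centralizer ((opDown p M : Subgroup G) : Set G) :=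
      le_centralizer_of_inf_eq_bot hAM (opDown_le p M) hMA (le_normalizer_opDown p M) h
    have h2 : A ≤ opDown p M := (le_inf hAM h1).trans hchar
    apply hA
    rw [eq_bot_iff, ← h]
    exact le_inf le_rfl h2
  have hR : A ⊓ opDown p M ≤ opDown p A := by
    apply le_opDown p inf_le_left
    · exact le_normalizer_inf' Subgroup.le_normalizer (hAM.trans (le_normalizer_opDown p M))
    · exact (opDown_isPGroup p M).to_le inf_le_right
  have hRne : opDown p A ≠ ⊥ := by
    intro h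
    apply hAQ
    rw [eq_bot_iff, ← h]
    exact hR
  have h3 := normalizer_le_normalizer_opDown p A
  have h4 := hM.normalizer_eq (opDown_isPGroup p A) hRne (hMA.trans h3)
  rwa [h4] at h3

/-- A good pair: two distinct maximal `p`-locals each containing the `O_p` of the other. -/
def HasGoodPair (p : ℕ) (G : Type*) [Group G] : Prop :=
  ∃ M₁ M₂ : Subgroup G, IsMaxPLocalSub p M₁ ∧ IsMaxPLocalSub p M₂ ∧ M₁ ≠ M₂ ∧
    opDown p M₁ ⊔ opDown p M₂ ≤ M₁ ⊓ M₂

theorem hasGoodPair_of_triple [Finite G] [Fact p.Prime] : ∀ n : ℕ, ∀ M₁ M₂ T : Subgroup G,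
    IsMaxPLocalSub p M₁ → IsMaxPLocalSub p M₂ → M₁ ≠ M₂ → IsPGroup p T → T ≠ ⊥ →
    T ≤ M₁ → T ≤ M₂ → Nat.card G - Nat.card T = n → HasGoodPair p G := by
  intro n
  induction n using Nat.strong_induction_on with
  | _ n ih =>
  intro M₁ M₂ T hM₁ hM₂ hne hT hTne hTM₁ hTM₂ hn
  -- bigger `p`-subgroups in an intersection give a good pair by induction
  have bigger : ∀ (N₁ N₂ T' : Subgroup G), IsMaxPLocalSub p N₁ → IsMaxPLocalSub p N₂ → N₁ ≠ N₂ →
      IsPGroup p T' → T < T' → T' ≤ N₁ → T' ≤ N₂ → HasGoodPair p G := by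
    intro N₁ N₂ T' hN₁ hN₂ hNne hT' hlt h1 h2
    have hT'ne : T' ≠ ⊥ := by
      rintro rfl
      exact hTne (eq_bot_iff.mpr hlt.le)
    have hc1 : Nat.card T < Nat.card T' := card_lt_card_of_lt' hlt
    have hc2 : Nat.card T' ≤ Nat.card G := Subgroup.card_le_card_group T'
    exact ih (Nat.card G - Nat.card T') (by omega) N₁ N₂ T' hN₁ hN₂ hNne hT' hT'ne h1 h2 rfl
  -- extending `T` by an element of `T O_p(M)` normalizing `T`
  have ext : ∀ M : Subgroup G, T ≤ M → ¬ opDown p M ≤ T →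
      ∃ t ∈ M, t ∈ Subgroup.normalizer (T : Set G) ∧ t ∉ T ∧
        IsPGroup p (T ⊔ Subgroup.zpowers t : Subgroup G) := by
    intro M hTM hnot
    have hP : IsPGroup p (T ⊔ opDown p M : Subgroup G) :=
      IsPGroup.to_sup_of_normal_right' hT (opDown_isPGroup p M)
        (hTM.trans (le_normalizer_opDown p M))
    have hlt : T < T ⊔ opDown p M := by
      refine lt_of_le_of_ne le_sup_left ?_
      intro h
      apply hnot
      rw [h]; exact le_sup_right
    obtain ⟨t, htP, htN, htT⟩ := exists_mem_normalizer_not_mem _ _ hP hlt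
    refine ⟨t, ?_, htN, htT, ?_⟩
    · exact (sup_le hTM (opDown_le p M)) htP
    · apply hP.to_le
      exact sup_le le_sup_left ((Subgroup.zpowers_le).mpr htP)
  have hltz : ∀ t : G, t ∉ T → T < T ⊔ Subgroup.zpowers t := by
    intro t ht
    refine lt_of_le_of_ne le_sup_left ?_
    intro h
    apply ht
    rw [h]
    exact Subgroup.mem_sup_right (Subgroup.mem_zpowers t)
  -- `Y`: `M ≠ M'` with `N(T) ≤ M'`
  have Y : ∀ M M' : Subgroup G, IsMaxPLocalSub p M → IsMaxPLocalSub p M' → M ≠ M' → T ≤ M →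
      Subgroup.normalizer (T : Set G) ≤ M' → HasGoodPair p G ∨ opDown p M ≤ T := by
    intro M M' hM hM' hMM' hTM hNM'
    by_cases h : opDown p M ≤ T
    · exact Or.inr h
    · left
      obtain ⟨t, htM, htN, htT, htp⟩ := ext M hTM h
      refine bigger M M' _ hM hM' hMM' htp (hltz t htT) ?_ ?_
      · exact sup_le hTM ((Subgroup.zpowers_le).mpr htM)
      · exact sup_le (Subgroup.le_normalizer.trans hNM') ((Subgroup.zpowers_le).mpr (hNM' htN))
  obtain ⟨M₃, hM₃, hNM₃⟩ := exists_isMaxPLocalSub_ge (p := p)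
    (L := Subgroup.normalizer (T : Set G)) ⟨T, hT, hTne, rfl⟩
  have Z : ∀ N₁ N₂ : Subgroup G, IsMaxPLocalSub p N₁ → IsMaxPLocalSub p N₂ → N₁ ≠ N₂ →
      T ≤ N₁ → T ≤ N₂ → N₂ ≠ M₃ → HasGoodPair p G := by
    intro N₁ N₂ hN₁ hN₂ hN hTN₁ hTN₂ hN₂M₃
    rcases Y N₂ M₃ hN₂ hM₃ hN₂M₃ hTN₂ hNM₃ with h | hO₂
    · exact h
    by_cases h31 : N₁ = M₃
    · subst h31
      by_cases hO₁ : opDown p N₁ ≤ T
      · exact ⟨N₁, N₂, hN₁, hN₂, hN, (sup_le hO₁ hO₂).trans (le_inf hTN₁ hTN₂)⟩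
      · obtain ⟨t, htM, htN, htT, htp⟩ := ext N₁ hTN₁ hO₁
        by_cases ht2 : t ∈ N₂
        · refine bigger N₁ N₂ _ hN₁ hN₂ hN htp (hltz t htT) ?_ ?_
          · exact sup_le hTN₁ ((Subgroup.zpowers_le).mpr htM)
          · exact sup_le hTN₂ ((Subgroup.zpowers_le).mpr ht2)
        · -- the conjugate pair
          have hN₂' := hN₂.map_conj t
          have hne2 : N₂.map (MulAut.conj t).toMonoidHom ≠ N₂ := by
            intro h
            exact ht2 (hN₂.normalizer_le ((map_conj_eq_self_iff N₂ t).mp h))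
          have hne1 : N₂.map (MulAut.conj t).toMonoidHom ≠ N₁ := by
            intro h
            apply hN
            have h1 := pp_map_conj_map_conj_inv N₂ t
            rw [h] at h1
            have h2 : N₁.map (MulAut.conj t⁻¹).toMonoidHom = N₁ :=
              (map_conj_eq_self_iff N₁ t⁻¹).mpr
                (Subgroup.le_normalizer (N₁.inv_mem htM))
            rw [h2] at h1
            exact h1
          have hT2' : T ≤ N₂.map (MulAut.conj t).toMonoidHom := by
            have h1 := (map_conj_eq_self_iff T t).mpr htN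
            rw [← h1]
            exact Subgroup.map_mono hTN₂
          rcases Y _ N₁ hN₂' hN₁ hne1 hT2' hNM₃ with h | hO₂'
          · exact h
          · exact ⟨N₂, _, hN₂, hN₂', hne2.symm, (sup_le hO₂ hO₂').trans (le_inf hTN₂ hT2')⟩
    · rcases Y N₁ M₃ hN₁ hM₃ h31 hTN₁ hNM₃ with h | hO₁
      · exact h
      · exact ⟨N₁, N₂, hN₁, hN₂, hN, (sup_le hO₁ hO₂).trans (le_inf hTN₁ hTN₂)⟩
  by_cases h2 : M₂ = M₃
  · have h1 : M₁ ≠ M₃ := fun h => hne (h.trans h2.symm)
    exact Z M₂ M₁ hM₂ hM₁ hne.symm hTM₂ hTM₁ h1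
  · exact Z M₁ M₂ hM₁ hM₂ hne hTM₁ hTM₂ h2

theorem charP_of_isPLocalSub (hloc : Cfsg.IsOfLocalCharacteristic p G) {M : Subgroup G}
    (hM : IsPLocalSub p M) :
    Subgroup.centralizer (Cfsg.pCore p ↥M : Set ↥M) ≤ Cfsg.pCore p ↥M := by
  obtain ⟨T, hT, hTne, rfl⟩ := hM
  exact hloc.2 T hT hTne

/-- Kurzweil–Stellmacher 10.1: local characteristic `p` and `O_p(G) = 1` give a primitive pair of
characteristic `p`, unless all maximal `p`-locals are strongly `p`-embedded. -/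
theorem primitive_pair_or_strongly_embedded [Finite G] [Fact p.Prime]
    (hloc : Cfsg.IsOfLocalCharacteristic p G) (hOp : Cfsg.pCore p G = ⊥) :
    (∃ M₁ M₂ : Subgroup G, M₁ ≠ M₂ ∧
      (∀ A : Subgroup G, A ≠ ⊥ → A ≤ M₁ ⊓ M₂ →
        (M₁ ≤ Subgroup.normalizer (A : Set G) →
          M₂ ⊓ Subgroup.normalizer (A : Set G) = M₁ ⊓ M₂) ∧
        (M₂ ≤ Subgroup.normalizer (A : Set G) →
          M₁ ⊓ Subgroup.normalizer (A : Set G) = M₁ ⊓ M₂)) ∧
      Subgroup.centralizer (Cfsg.pCore p ↥M₁ : Set ↥M₁) ≤ Cfsg.pCore p ↥M₁ ∧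
      Subgroup.centralizer (Cfsg.pCore p ↥M₂ : Set ↥M₂) ≤ Cfsg.pCore p ↥M₂ ∧
      (Cfsg.pCore p ↥M₁).map M₁.subtype ⊔ (Cfsg.pCore p ↥M₂).map M₂.subtype ≤ M₁ ⊓ M₂) ∨
    (∀ M : Subgroup G,
      (∃ T : Subgroup G, IsPGroup p T ∧ T ≠ ⊥ ∧ M = Subgroup.normalizer (T : Set G)) →
      (∀ L : Subgroup G,
        (∃ T : Subgroup G, IsPGroup p T ∧ T ≠ ⊥ ∧ L = Subgroup.normalizer (T : Set G)) →
        M ≤ L → L = M) →
      M ≠ ⊤ ∧ p ∣ Nat.card M ∧
        ∀ g : G, g ∉ M → ¬ p ∣ Nat.card ↥(M ⊓ M.map (MulAut.conj g).toMonoidHom)) := by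
  by_cases h : ∀ M : Subgroup G, IsPLocalSub p M →
      (∀ L : Subgroup G, IsPLocalSub p L → M ≤ L → L = M) →
      M ≠ ⊤ ∧ p ∣ Nat.card M ∧
        ∀ g : G, g ∉ M → ¬ p ∣ Nat.card ↥(M ⊓ M.map (MulAut.conj g).toMonoidHom)
  · exact Or.inr h
  · left
    push Not at h
    obtain ⟨M, hMloc, hMmax, hnot⟩ := h
    have hM : IsMaxPLocalSub p M := ⟨hMloc, hMmax⟩
    obtain ⟨g, hgM, hdvd⟩ := hnot (hMloc.ne_top hOp) hMloc.dvd_card
    obtain ⟨T, hT, hTne, hTle⟩ : ∃ T : Subgroup G, IsPGroup p T ∧ T ≠ ⊥ ∧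
        T ≤ M ⊓ M.map (MulAut.conj g).toMonoidHom := by
      let P : Sylow p ↥(M ⊓ M.map (MulAut.conj g).toMonoidHom) := default
      refine ⟨(P : Subgroup _).map (Subgroup.subtype _), P.2.map _, ?_, Subgroup.map_subtype_le _⟩
      rw [Ne, Subgroup.map_eq_bot_iff_of_injective _ (Subgroup.subtype_injective _)]
      exact Sylow.ne_bot_of_dvd_card P hdvd
    have hMg := hM.map_conj g
    have hneM : M ≠ M.map (MulAut.conj g).toMonoidHom := fun h =>
      hgM (hM.normalizer_le ((map_conj_eq_self_iff M g).mp h.symm))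
    obtain ⟨M₁, M₂, hM₁, hM₂, hne, hO⟩ := hasGoodPair_of_triple _ M _ T hM hMg hneM hT hTne
      (hTle.trans inf_le_left) (hTle.trans inf_le_right) rfl
    have hc₁ := charP_of_isPLocalSub hloc hM₁.1
    have hc₂ := charP_of_isPLocalSub hloc hM₂.1
    have hc₁' : M₁ ⊓ Subgroup.centralizer ((opDown p M₁ : Subgroup G) : Set G) ≤ opDown p M₁ :=
      Cfsg.Agent.Lib.Helper16.isCharPSub_of_type p M₁ hc₁
    have hc₂' : M₂ ⊓ Subgroup.centralizer ((opDown p M₂ : Subgroup G) : Set G) ≤ opDown p M₂ :=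
      Cfsg.Agent.Lib.Helper16.isCharPSub_of_type p M₂ hc₂
    refine ⟨M₁, M₂, hne, ?_, hc₁, hc₂, ?_⟩
    · intro A hA hAD
      constructor
      · intro hMA
        have hNA := hM₁.normalizer_le_of_normal hc₁' hA (hAD.trans inf_le_left) hMA
        exact le_antisymm (le_inf (inf_le_right.trans hNA) inf_le_left)
          (le_inf inf_le_right (inf_le_left.trans hMA))
      · intro hMA
        have hNA := hM₂.normalizer_le_of_normal hc₂' hA (hAD.trans inf_le_right) hMA
        exact le_antisymm (le_inf inf_le_left (inf_le_right.trans hNA))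
          (le_inf inf_le_left (inf_le_right.trans hMA))
    · rw [map_pCore_eq_opDown, map_pCore_eq_opDown]
      exact hO

end plocal

end Cfsg.Agent.Lib.Helper20
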