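import Cfsg.Agent.Lib.Helper20.PrimitivePair

/-!
Bender's maximal subgroup theorem (helper20).
-/

set_option autoImplicit false

namespace Cfsg.Agent.Lib.Helper20

open scoped commutatorElement
open Cfsg

/-- `C_X(O_p(X)) ≤ O_p(X)` implies `F*(X) = O_p(X)`. -/
theorem genFitting_eq_pCore_of_centralizer_pCore_le {X : Type*} [Group X] [Finite X] (p : ℕ)
    [hp : Fact p.Prime]
    (hC : Subgroup.centralizer (pCore p X : Set X) ≤ pCore p X) :
    generalizedFittingSubgroup X = pCore p X := by
  have hFn : (fittingSubgroup X).Normal := fittingSubgroup_normal'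
  have hOn : (pPrimeCore p X).Normal := (pPrimeCore_mem' p).1
  have hTn : (fittingSubgroup X ⊓ pPrimeCore p X).Normal := inferInstance
  have hcop : (Nat.card (fittingSubgroup X ⊓ pPrimeCore p X : Subgroup X)).Coprime p :=
    Nat.Coprime.coprime_dvd_left (Subgroup.card_dvd_of_le inf_le_right) (pPrimeCore_coprime' p)
  have hdis : pCore p X ⊓ (fittingSubgroup X ⊓ pPrimeCore p X) = ⊥ :=
    inf_eq_bot_of_isPGroup_of_coprime (pCore_isPGroup' p) hcop
  have hT : fittingSubgroup X ⊓ pPrimeCore p X = ⊥ := by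
    have h1 : fittingSubgroup X ⊓ pPrimeCore p X ≤ Subgroup.centralizer (pCore p X : Set X) := by
      intro t ht
      rw [Subgroup.mem_centralizer_iff]
      intro a ha
      exact (Subgroup.commute_of_normal_of_disjoint _ _ (pCore_normal p X) hTn
        (disjoint_iff.mpr hdis) a t ha ht).eq
    rw [eq_bot_iff, ← hdis]
    exact le_inf (h1.trans hC) le_rfl
  have hF : fittingSubgroup X = pCore p X := by
    have h := fitting_eq_pCore_sup_inf_pPrimeCore X p
    rwa [hT, sup_bot_eq] at h
  apply le_antisymm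
  · exact genFitting_le_of_centralizer_le (pCore p X) hF.le hC
  · rw [← hF]
    exact le_sup_right

/-- Bender's maximal subgroup theorem. -/
theorem bender_maximal_subgroup {G : Type*} [Group G] [Finite G] [IsSimpleGroup G]
    (M N : Subgroup G) (hM : IsCoatom M) (hN : IsCoatom N) (hMN : M ≠ N)
    (h1 : (generalizedFittingSubgroup ↥M).map M.subtype ≤ N)
    (h2 : (generalizedFittingSubgroup ↥N).map N.subtype ≤ M) :
    ∃ p : ℕ, p.Prime ∧ IsPGroup p ↥(generalizedFittingSubgroup ↥M) ∧
      IsPGroup p ↥(generalizedFittingSubgroup ↥N) := by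
  have key : ∀ (K : Subgroup G), IsCoatom K → ∀ A : Subgroup G, A ≠ ⊥ → A ≤ K →
      K ≤ Subgroup.normalizer (A : Set G) → Subgroup.normalizer (A : Set G) = K := by
    intro K hK A hA hAK hKA
    rcases eq_or_lt_of_le hKA with h | h
    · exact h.symm
    · exfalso
      have htop := hK.2 _ h
      have hAn : A.Normal := Subgroup.normalizer_eq_top_iff.mp htop
      rcases hAn.eq_bot_or_eq_top with h' | h'
      · exact hA h'
      · apply hK.1
        rw [eq_top_iff, ← h']
        exact hAK
  have hP : ∀ A : Subgroup G, A ≠ ⊥ → A ≤ M ⊓ N →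
      (M ≤ Subgroup.normalizer (A : Set G) → N ⊓ Subgroup.normalizer (A : Set G) = M ⊓ N) ∧
      (N ≤ Subgroup.normalizer (A : Set G) → M ⊓ Subgroup.normalizer (A : Set G) = M ⊓ N) := by
    intro A hA hAD
    constructor
    · intro h
      rw [key M hM A hA (hAD.trans inf_le_left) h, inf_comm]
    · intro h
      rw [key N hN A hA (hAD.trans inf_le_right) h]
  obtain ⟨p, hp, hc1, hc2, -⟩ := primitive_pair_char M N hMN hP h1 h2
  haveI : Fact p.Prime := ⟨hp⟩
  refine ⟨p, hp, ?_, ?_⟩
  · rw [genFitting_eq_pCore_of_centralizer_pCore_le p hc1]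
    exact pCore_isPGroup' p
  · rw [genFitting_eq_pCore_of_centralizer_pCore_le p hc2]
    exact pCore_isPGroup' p

end Cfsg.Agent.Lib.Helper20
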