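import Mathlib
import Cfsg.Agent.Lib.Helper24.OddAct

set_option linter.style.haveILetI false
set_option linter.unusedVariables false
set_option linter.unusedSectionVars false
set_option autoImplicit false

namespace Cfsg.Agent.Lib.Helper20
open scoped commutatorElement

section Q8Like
variable {G : Type*} [Group G]

/-- fixed points of a `p`-power order conjugation on an invariant finite subgroup, mod `p` -/
theorem q8_card_modEq_fix {p n : ℕ} [Fact p.Prime] (N : Subgroup G) [Finite N] (t : G)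
    (ht : t ^ (p ^ n) = 1) (hn : ∀ d ∈ N, t * d * t⁻¹ ∈ N) :
    Nat.card N ≡ Nat.card (N ⊓ Subgroup.centralizer {t} : Subgroup G) [MOD p] := by
  classical
  haveI : Fintype N := Fintype.ofFinite N
  let f : Function.End N := fun d => ⟨t * d * t⁻¹, hn d d.2⟩
  have hpow : ∀ (k : ℕ) (d : N), (((f ^ k) d : N) : G) = t ^ k * d * (t ^ k)⁻¹ := by
    intro k
    induction k with
    | zero => intro d; rw [pow_zero, pow_zero, inv_one, one_mul, mul_one]; rfl
    | succ k ih =>
      intro d
      rw [pow_succ']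
      show t * ((f ^ k) d : G) * t⁻¹ = _
      rw [ih d, pow_succ']
      group
  have hf : f ^ (p ^ n) = 1 := by
    funext d
    apply Subtype.ext
    rw [hpow, ht]
    simp
    rfl
  have h1 := Equiv.Perm.card_fixedPoints_modEq (p := p) (n := n) hf
  rw [← Nat.card_eq_fintype_card, ← Nat.card_eq_fintype_card] at h1
  have h3 : (Subtype.val '' (Function.fixedPoints f) : Set G) =
      ((N ⊓ Subgroup.centralizer {t} : Subgroup G) : Set G) := by
    ext g
    constructor
    · rintro ⟨d, hd, rfl⟩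
      have hd' : f d = d := hd
      have hd2 : t * (d : G) * t⁻¹ = d := congrArg Subtype.val hd'
      refine Subgroup.mem_inf.mpr ⟨d.2, ?_⟩
      rw [Subgroup.mem_centralizer_singleton_iff]
      rw [mul_inv_eq_iff_eq_mul] at hd2
      exact hd2.symm
    · intro hg
      have hg' := Subgroup.mem_inf.mp hg
      refine ⟨⟨g, hg'.1⟩, ?_, rfl⟩
      show f ⟨g, hg'.1⟩ = ⟨g, hg'.1⟩
      apply Subtype.ext
      show t * g * t⁻¹ = g
      have := Subgroup.mem_centralizer_singleton_iff.mp hg'.2
      rw [mul_inv_eq_iff_eq_mul]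
      exact this.symm
  have h2 : Nat.card (Function.fixedPoints f) =
      Nat.card (N ⊓ Subgroup.centralizer {t} : Subgroup G) := by
    rw [← Nat.card_image_of_injective Subtype.val_injective (Function.fixedPoints f), h3]
    rfl
  rw [h2] at h1
  exact h1

/-- quaternion-like subgroup of order 8 with unique involution `z` -/
structure QL (D : Subgroup G) (z : G) : Prop where
  card : Nat.card D = 8
  zmem : z ∈ D
  zne : z ≠ 1
  zsq : z * z = 1
  uniq : ∀ u ∈ D, u * u = 1 → u = 1 ∨ u = z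
  nonab : ∃ a ∈ D, ∃ b ∈ D, a * b ≠ b * a

theorem QL.finite {D : Subgroup G} {z : G} (h : QL D z) : Finite D :=
  Nat.finite_of_card_ne_zero (by rw [h.card]; norm_num)

/-- `z` commutes with all of `D` -/
theorem QL.zcomm {D : Subgroup G} {z : G} (h : QL D z) {d : G} (hd : d ∈ D) : d * z = z * d := by
  have h1 : d * z * d⁻¹ ∈ D := D.mul_mem (D.mul_mem hd h.zmem) (D.inv_mem hd)
  have h2 : (d * z * d⁻¹) * (d * z * d⁻¹) = 1 := by
    have : (d * z * d⁻¹) * (d * z * d⁻¹) = d * (z * z) * d⁻¹ := by group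
    rw [this, h.zsq]; group
  rcases h.uniq _ h1 h2 with h3 | h3
  · exfalso
    apply h.zne
    have : z = d⁻¹ * (d * z * d⁻¹) * d := by group
    rw [this, h3]; group
  · rw [mul_inv_eq_iff_eq_mul] at h3
    exact h3

/-- elements of `D` have order dividing 8 -/
theorem QL.pow_eight {D : Subgroup G} {z : G} (h : QL D z) {d : G} (hd : d ∈ D) : d ^ 8 = 1 := by
  haveI := h.finite
  have h1 : (⟨d, hd⟩ : D) ^ Nat.card D = 1 := pow_card_eq_one'
  rw [h.card] at h1
  exact congrArg Subtype.val h1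

/-- non-central-looking elements square to `z` -/
theorem QL.sq {D : Subgroup G} {z : G} (h : QL D z) {u : G} (hu : u ∈ D) (h1 : u ≠ 1)
    (hz : u ≠ z) : u * u = z := by
  haveI := h.finite
  have huu : u * u ≠ 1 := fun h2 => by rcases h.uniq u hu h2 with h3 | h3 <;> contradiction
  have huD : u * u ∈ D := D.mul_mem hu hu
  by_cases h4 : (u * u) * (u * u) = 1
  · rcases h.uniq _ huD h4 with h5 | h5
    · exact absurd h5 huu
    · exact h5
  · exfalso
    -- order of u is 8, so D is cyclic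
    have h8 := h.pow_eight hu
    have ho : orderOf u ∣ 2 ^ 3 := by
      apply orderOf_dvd_of_pow_eq_one
      simpa using h8
    obtain ⟨k, hk, hk2⟩ := (Nat.dvd_prime_pow Nat.prime_two).mp ho
    have hk3 : k = 3 := by
      by_contra hne
      have hk' : k ≤ 2 := by omega
      have : orderOf u ∣ 4 := by
        rw [hk2]
        exact (pow_dvd_pow 2 hk')
      apply h4
      have h5 : u ^ 4 = 1 := orderOf_dvd_iff_pow_eq_one.mp this
      calc (u * u) * (u * u) = u ^ 4 := by simp [pow_succ, mul_assoc]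
        _ = 1 := h5
    rw [hk3] at hk2
    have hou : orderOf (⟨u, hu⟩ : D) = Nat.card D := by
      rw [h.card, Subgroup.orderOf_mk, hk2]; norm_num
    haveI : IsCyclic D := isCyclic_of_orderOf_eq_card _ hou
    obtain ⟨a, ha, b, hb, hab⟩ := h.nonab
    apply hab
    have := IsCyclic.commGroup.mul_comm (⟨a, ha⟩ : D) ⟨b, hb⟩
    exact congrArg Subtype.val this

/-- a conjugate of `z` lying in `D` equals `z` -/
theorem QL.conj_z {D : Subgroup G} {z : G} (h : QL D z) {t : G} (hn : t * z * t⁻¹ ∈ D) :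
    t * z * t⁻¹ = z := by
  have h2 : (t * z * t⁻¹) * (t * z * t⁻¹) = 1 := by
    have : (t * z * t⁻¹) * (t * z * t⁻¹) = t * (z * z) * t⁻¹ := by group
    rw [this, h.zsq]; group
  rcases h.uniq _ hn h2 with h3 | h3
  · exfalso
    apply h.zne
    have : z = t⁻¹ * (t * z * t⁻¹) * t := by group
    rw [this, h3]; group
  · exact h3

theorem QL.orderOf_z {D : Subgroup G} {z : G} (h : QL D z) : orderOf z = 2 := by
  haveI : Fact (Nat.Prime 2) := ⟨Nat.prime_two⟩
  apply orderOf_eq_prime
  · rw [pow_two]; exact h.zsq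
  · exact h.zne

theorem QL.orderOf_four {D : Subgroup G} {z : G} (h : QL D z) {u : G} (hu : u ∈ D) (h1 : u ≠ 1)
    (hz : u ≠ z) : orderOf u = 4 := by
  haveI : Fact (Nat.Prime 2) := ⟨Nat.prime_two⟩
  have hsq := h.sq hu h1 hz
  have := orderOf_eq_prime_pow (x := u) (p := 2) (n := 1) ?_ ?_
  · simpa using this
  · rw [pow_one, pow_two, hsq]; exact h.zne
  · have : u ^ 2 ^ (1 + 1) = (u * u) * (u * u) := by simp [pow_succ, mul_assoc]
    rw [this, hsq, h.zsq]

/-- elements of `zpowers z` -/
theorem q8_mem_zpowers_inv {z : G} (hz : z * z = 1) {c : G} (hc : c ∈ Subgroup.zpowers z) :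
    c = 1 ∨ c = z := by
  obtain ⟨k, rfl⟩ := Subgroup.mem_zpowers_iff.mp hc
  have hinv : z⁻¹ = z := by rw [inv_eq_iff_mul_eq_one]; exact hz
  rcases Int.even_or_odd k with ⟨m, hm⟩ | ⟨m, hm⟩
  · left
    rw [hm, ← two_mul, zpow_mul, zpow_two, hz, one_zpow]
  · right
    rw [hm, zpow_add, zpow_mul, zpow_two, hz, one_zpow, one_mul, zpow_one]

/-- the centre of `D` is `{1, z}` -/
theorem QL.center_sub {D : Subgroup G} {z : G} (h : QL D z) {d : G} (hd : d ∈ D)
    (hc : ∀ e ∈ D, d * e = e * d) : d = 1 ∨ d = z := by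
  haveI := h.finite
  by_contra hcon
  push Not at hcon
  have ho : orderOf d = 4 := h.orderOf_four hd hcon.1 hcon.2
  have hdc : (⟨d, hd⟩ : D) ∈ Subgroup.center D := by
    rw [Subgroup.mem_center_iff]
    intro g
    apply Subtype.ext
    exact (hc g g.2).symm
  have h4 : 4 ∣ Nat.card (Subgroup.center D) := by
    have := Subgroup.orderOf_dvd_natCard (Subgroup.center D) hdc
    rwa [Subgroup.orderOf_mk, ho] at this
  have h8 : Nat.card (Subgroup.center D) * (Subgroup.center D).index = 8 := by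
    rw [Subgroup.card_mul_index, h.card]
  have hidx : (Subgroup.center D).index = 1 ∨ (Subgroup.center D).index = 2 := by
    obtain ⟨m, hm⟩ := h4
    rw [hm] at h8
    have : m * (Subgroup.center D).index = 2 := by nlinarith
    have hle : (Subgroup.center D).index ∣ 2 := Dvd.intro_left _ this
    have := (Nat.dvd_prime Nat.prime_two).mp hle
    exact this
  obtain ⟨a, ha, b, hb, hab⟩ := h.nonab
  apply hab
  have key : (⟨a, ha⟩ : D) * ⟨b, hb⟩ = ⟨b, hb⟩ * ⟨a, ha⟩ := by
    rcases hidx with h1 | h2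
    · have htop : Subgroup.center D = ⊤ := Subgroup.index_eq_one.mp h1
      have : (⟨a, ha⟩ : D) ∈ Subgroup.center D := by rw [htop]; trivial
      exact ((Subgroup.mem_center_iff.mp this) ⟨b, hb⟩).symm
    · have hcard : Nat.card (D ⧸ Subgroup.center D) = 2 := by
        rw [← Subgroup.index_eq_card, h2]
      haveI : Fact (Nat.Prime 2) := ⟨Nat.prime_two⟩
      haveI : IsCyclic (D ⧸ Subgroup.center D) := isCyclic_of_prime_card hcard
      exact commutative_of_cyclic_center_quotient (QuotientGroup.mk' (Subgroup.center D))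
        (by simp) _ _
  exact congrArg Subtype.val key

/-- commutators in `D` lie in `{1, z}` -/
theorem QL.comm_mem {D : Subgroup G} {z : G} (h : QL D z) {a b : G} (ha : a ∈ D) (hb : b ∈ D) :
    ⁅a, b⁆ = 1 ∨ ⁅a, b⁆ = z := by
  haveI := h.finite
  haveI : Fact (Nat.Prime 2) := ⟨Nat.prime_two⟩
  have hZsub : ∀ c : D, c ∈ Subgroup.center D → (c : G) = 1 ∨ (c : G) = z := by
    intro c hc
    apply h.center_sub c.2
    intro e he
    have := Subgroup.mem_center_iff.mp hc ⟨e, he⟩
    exact (congrArg Subtype.val this).symm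
  have hzc : (⟨z, h.zmem⟩ : D) ∈ Subgroup.center D := by
    rw [Subgroup.mem_center_iff]
    intro g
    apply Subtype.ext
    exact h.zcomm g.2
  have hZeq : Subgroup.center D = Subgroup.zpowers (⟨z, h.zmem⟩ : D) := by
    apply le_antisymm
    · intro c hc
      rcases hZsub c hc with h1 | h1
      · have : c = 1 := Subtype.ext h1
        rw [this]; exact Subgroup.one_mem _
      · have : c = ⟨z, h.zmem⟩ := Subtype.ext h1
        rw [this]; exact Subgroup.mem_zpowers _
    · rw [Subgroup.zpowers_le]; exact hzc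
  have hcardZ : Nat.card (Subgroup.center D) = 2 := by
    rw [hZeq, Nat.card_zpowers, Subgroup.orderOf_mk, h.orderOf_z]
  have h8 : Nat.card (Subgroup.center D) * (Subgroup.center D).index = 8 := by
    rw [Subgroup.card_mul_index, h.card]
  have hidx : (Subgroup.center D).index = 4 := by
    rw [hcardZ] at h8; omega
  have hcard : Nat.card (D ⧸ Subgroup.center D) = 2 ^ 2 := by
    rw [← Subgroup.index_eq_card, hidx]; norm_num
  have hcomm := IsPGroup.commutative_of_card_eq_prime_sq hcard
  have hmem : ⁅(⟨a, ha⟩ : D), ⟨b, hb⟩⁆ ∈ Subgroup.center D := by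
    rw [← QuotientGroup.eq_one_iff]
    rw [commutatorElement_def]
    simp only [QuotientGroup.mk_mul, QuotientGroup.mk_inv]
    rw [hcomm (QuotientGroup.mk ⟨a, ha⟩) (QuotientGroup.mk ⟨b, hb⟩)]
    group
  have := hZsub _ hmem
  simpa [commutatorElement_def] using this

/-- some commutator in `D` equals `z` -/
theorem QL.exists_comm {D : Subgroup G} {z : G} (h : QL D z) :
    ∃ a ∈ D, ∃ b ∈ D, ⁅a, b⁆ = z := by
  obtain ⟨a, ha, b, hb, hab⟩ := h.nonab
  refine ⟨a, ha, b, hb, ?_⟩
  rcases h.comm_mem ha hb with h1 | h1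
  · exfalso
    apply hab
    rw [commutatorElement_eq_one_iff_mul_comm] at h1
    exact h1
  · exact h1

/-- an element of odd prime order acting nontrivially on `D`: `p = 3` and fixed points `{1,z}` -/
theorem QL.fix_of_prime {D : Subgroup G} {z : G} (h : QL D z) {p : ℕ} [Fact p.Prime] (hp : p ≠ 2)
    {t : G} (ht : t ^ p = 1) (hn : ∀ d ∈ D, t * d * t⁻¹ ∈ D) (hnc : ∃ d ∈ D, t * d * t⁻¹ ≠ d) :
    p = 3 ∧ ∀ d ∈ D, t * d * t⁻¹ = d → d = 1 ∨ d = z := by
  haveI := h.finite
  have hpp : p.Prime := Fact.out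
  obtain ⟨F, hF⟩ : ∃ F : Subgroup G, F = D ⊓ Subgroup.centralizer {t} := ⟨_, rfl⟩
  have hmod : Nat.card D ≡ Nat.card F [MOD p] := by
    rw [hF]
    exact q8_card_modEq_fix (n := 1) D t (by simpa using ht) hn
  have hFD : F ≤ D := by rw [hF]; exact inf_le_left
  have hdvd : Nat.card F ∣ 8 := by
    rw [← h.card]; exact Subgroup.card_dvd_of_le hFD
  have hzF : z ∈ F := by
    rw [hF]
    refine Subgroup.mem_inf.mpr ⟨h.zmem, ?_⟩
    rw [Subgroup.mem_centralizer_singleton_iff]
    have := h.conj_z (hn z h.zmem)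
    rw [mul_inv_eq_iff_eq_mul] at this
    exact this.symm
  have hmemF : ∀ d ∈ D, t * d * t⁻¹ = d → d ∈ F := by
    intro d hd hfix
    rw [hF]
    refine Subgroup.mem_inf.mpr ⟨hd, ?_⟩
    rw [Subgroup.mem_centralizer_singleton_iff]
    rw [mul_inv_eq_iff_eq_mul] at hfix
    exact hfix.symm
  have hne1 : Nat.card F ≠ 1 := by
    intro h1
    have : F = ⊥ := Subgroup.card_eq_one.mp h1
    rw [this, Subgroup.mem_bot] at hzF
    exact h.zne hzF
  have hne8 : Nat.card F ≠ 8 := by
    intro h8
    have : F = D := Subgroup.eq_of_le_of_card_ge hFD (by rw [h8, h.card])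
    obtain ⟨d, hd, hdne⟩ := hnc
    apply hdne
    have hdF : d ∈ F := by rw [this]; exact hd
    rw [hF] at hdF
    have := Subgroup.mem_centralizer_singleton_iff.mp (Subgroup.mem_inf.mp hdF).2
    rw [mul_inv_eq_iff_eq_mul]
    exact this.symm
  have hcases : Nat.card F = 2 ∨ Nat.card F = 4 := by
    have hle : Nat.card F ≤ 8 := Nat.le_of_dvd (by norm_num) hdvd
    have hpos : 0 < Nat.card F := Nat.pos_of_dvd_of_pos hdvd (by norm_num)
    interval_cases hcF : Nat.card F <;> simp_all <;> omega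
  rw [h.card] at hmod
  have hp3 : p = 3 ∧ Nat.card F = 2 := by
    rcases hcases with h2 | h4
    · rw [h2] at hmod
      have : p ∣ 8 - 2 := (Nat.modEq_iff_dvd' (by norm_num)).mp hmod.symm
      have h6 : p ∣ 2 * 3 := by simpa using this
      rcases (Nat.Prime.dvd_mul hpp).mp h6 with h' | h'
      · exact absurd ((Nat.prime_dvd_prime_iff_eq hpp Nat.prime_two).mp h') hp
      · exact ⟨(Nat.prime_dvd_prime_iff_eq hpp Nat.prime_three).mp h', h2⟩
    · rw [h4] at hmod
      have : p ∣ 8 - 4 := (Nat.modEq_iff_dvd' (by norm_num)).mp hmod.symm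
      have h6 : p ∣ 2 * 2 := by simpa using this
      rcases (Nat.Prime.dvd_mul hpp).mp h6 with h' | h' <;>
        exact absurd ((Nat.prime_dvd_prime_iff_eq hpp Nat.prime_two).mp h') hp
  refine ⟨hp3.1, ?_⟩
  intro d hd hfix
  have hdF := hmemF d hd hfix
  have h2 : (⟨d, hdF⟩ : F) ^ Nat.card F = 1 := pow_card_eq_one'
  rw [hp3.2] at h2
  have h3 : d ^ 2 = 1 := congrArg Subtype.val h2
  rw [pow_two] at h3
  exact h.uniq d hd h3

/-- a `t`-invariant subgroup of `D` containing a non-central element is all of `D` -/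
theorem QL.le_of_inv {D : Subgroup G} {z : G} (h : QL D z) {t : G} (ht : t ^ 3 = 1)
    (hfix : ∀ d ∈ D, t * d * t⁻¹ = d → d = 1 ∨ d = z)
    (N : Subgroup G) (hND : N ≤ D) (hn : ∀ d ∈ N, t * d * t⁻¹ ∈ N) {u : G} (hu : u ∈ N)
    (hu1 : u ≠ 1) (huz : u ≠ z) : D ≤ N := by
  haveI := h.finite
  haveI : Fact (Nat.Prime 3) := ⟨Nat.prime_three⟩
  haveI : Finite N := Finite.of_injective (Subgroup.inclusion hND) (Subgroup.inclusion_injective hND)
  obtain ⟨F, hF⟩ : ∃ F : Subgroup G, F = N ⊓ Subgroup.centralizer {t} := ⟨_, rfl⟩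
  have hmod : Nat.card N ≡ Nat.card F [MOD 3] := by
    rw [hF]
    exact q8_card_modEq_fix (p := 3) (n := 1) N t (by simpa using ht) hn
  have hzN : z ∈ N := by
    rw [← h.sq (hND hu) hu1 huz]; exact N.mul_mem hu hu
  have hzF : z ∈ F := by
    rw [hF]
    refine Subgroup.mem_inf.mpr ⟨hzN, ?_⟩
    rw [Subgroup.mem_centralizer_singleton_iff]
    have := h.conj_z (hND (hn z hzN))
    rw [mul_inv_eq_iff_eq_mul] at this
    exact this.symm
  have hFz : F = Subgroup.zpowers z := by
    apply le_antisymm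
    · intro d hd
      rw [hF] at hd
      have hd' := Subgroup.mem_inf.mp hd
      have hc := Subgroup.mem_centralizer_singleton_iff.mp hd'.2
      have : t * d * t⁻¹ = d := by rw [mul_inv_eq_iff_eq_mul]; exact hc.symm
      rcases hfix d (hND hd'.1) this with h1 | h1
      · rw [h1]; exact Subgroup.one_mem _
      · rw [h1]; exact Subgroup.mem_zpowers _
    · rw [Subgroup.zpowers_le]; exact hzF
  have hcF : Nat.card F = 2 := by rw [hFz, Nat.card_zpowers, h.orderOf_z]
  rw [hcF] at hmod
  have h4 : 4 ∣ Nat.card N := by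
    have := Subgroup.orderOf_dvd_natCard N hu
    rwa [h.orderOf_four (hND hu) hu1 huz] at this
  have hdvd : Nat.card N ∣ 8 := by
    rw [← h.card]; exact Subgroup.card_dvd_of_le hND
  have hN8 : Nat.card N = 8 := by
    have hle : Nat.card N ≤ 8 := Nat.le_of_dvd (by norm_num) hdvd
    have hmod' : Nat.card N % 3 = 2 % 3 := hmod
    obtain ⟨m, hm⟩ := h4
    omega
  have : N = D := Subgroup.eq_of_le_of_card_ge hND (by rw [hN8, h.card])
  rw [this]

end Q8Like
end Cfsg.Agent.Lib.Helper20
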