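import Mathlib
import Cfsg.Agent.Lib.Helper24.OddAct
import Cfsg.Agent.Lib.Helper12.Generation
import Cfsg.Agent.Lib.Helper20.Q8Like

set_option linter.style.haveILetI false
set_option linter.unusedVariables false
set_option linter.unusedSectionVars false
set_option autoImplicit false

namespace Cfsg.Agent.Lib.Helper20
open scoped commutatorElement

section Q8Induct
variable {G : Type*} [Group G]

/-- elements of `U` whose commutators with `V` lie in the `U`-central subgroup `Z` -/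
def q8YS (U V Z : Subgroup G) (hZ : ∀ u ∈ U, ∀ c ∈ Z, u * c = c * u) : Subgroup G where
  carrier := {u | u ∈ U ∧ ∀ w ∈ V, ⁅u, w⁆ ∈ Z}
  one_mem' := ⟨U.one_mem, fun w hw => by rw [commutatorElement_one_left]; exact Z.one_mem⟩
  mul_mem' := by
    rintro a b ⟨haU, ha⟩ ⟨hbU, hb⟩
    refine ⟨U.mul_mem haU hbU, fun w hw => ?_⟩
    have e : ⁅a * b, w⁆ = a * ⁅b, w⁆ * a⁻¹ * ⁅a, w⁆ := by
      simp only [commutatorElement_def]; group
    rw [e, hZ a haU _ (hb w hw), mul_inv_cancel_right]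
    exact Z.mul_mem (hb w hw) (ha w hw)
  inv_mem' := by
    rintro a ⟨haU, ha⟩
    refine ⟨U.inv_mem haU, fun w hw => ?_⟩
    have e : ⁅a⁻¹, w⁆ = a⁻¹ * ⁅a, w⁆⁻¹ * a := by
      simp only [commutatorElement_def]; group
    have hc : ⁅a, w⁆⁻¹ ∈ Z := Z.inv_mem (ha w hw)
    have := hZ a⁻¹ (U.inv_mem haU) _ hc
    rw [e, this, inv_mul_cancel_right]
    exact hc

theorem q8_conj_mem_of_normalizer {U : Subgroup G} {t : G}
    (ht : t ∈ Subgroup.normalizer (U : Set G)) {u : G} (hu : u ∈ U) : t * u * t⁻¹ ∈ U :=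
  (Subgroup.mem_normalizer_iff.mp ht u).mp hu

theorem q8_conj_mem_of_normalizer' {U : Subgroup G} {t : G}
    (ht : t ∈ Subgroup.normalizer (U : Set G)) {u : G} (hu : u ∈ U) : t⁻¹ * u * t ∈ U :=
  (Subgroup.mem_normalizer_iff''.mp ht u).mp hu

theorem q8_exists_class2 [Finite G] (U Z : Subgroup G) (hU : IsPGroup 2 U) (hZU : Z ≤ U)
    (hZ : ∀ u ∈ U, ∀ c ∈ Z, u * c = c * u) (hne : ¬ U ≤ Z) :
    ∃ u ∈ U, u ∉ Z ∧ ∀ w ∈ U, ⁅u, w⁆ ∈ Z := by
  haveI : Fact (Nat.Prime 2) := ⟨Nat.prime_two⟩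
  obtain ⟨Z', hZ'⟩ : ∃ Z' : Subgroup U, Z' = Z.subgroupOf U := ⟨_, rfl⟩
  have hmemZ' : ∀ u : U, u ∈ Z' ↔ (u : G) ∈ Z := by
    intro u; rw [hZ']; exact Subgroup.mem_subgroupOf
  haveI hnorm : Z'.Normal := by
    constructor
    intro n hn g
    rw [hmemZ'] at hn ⊢
    have : ((g * n * g⁻¹ : U) : G) = n := by
      simp only [Subgroup.coe_mul, Subgroup.coe_inv]
      rw [hZ g g.2 n hn, mul_inv_cancel_right]
    rw [this]; exact hn
  have hQ : IsPGroup 2 (U ⧸ Z') := hU.to_quotient Z'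
  haveI : Nontrivial (U ⧸ Z') := by
    obtain ⟨u, huU, huZ⟩ := SetLike.not_le_iff_exists.mp hne
    refine ⟨⟨QuotientGroup.mk ⟨u, huU⟩, 1, ?_⟩⟩
    intro h
    rw [QuotientGroup.eq_one_iff, hmemZ'] at h
    exact huZ h
  have hcn : Nontrivial (Subgroup.center (U ⧸ Z')) := hQ.center_nontrivial
  obtain ⟨⟨q, hq⟩, hq1⟩ := exists_ne (1 : Subgroup.center (U ⧸ Z'))
  obtain ⟨u, rfl⟩ := QuotientGroup.mk_surjective q
  refine ⟨u, u.2, ?_, ?_⟩
  · intro huZ
    apply hq1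
    apply Subtype.ext
    show (QuotientGroup.mk u : U ⧸ Z') = 1
    rw [QuotientGroup.eq_one_iff, hmemZ']; exact huZ
  · intro w hw
    have hc := Subgroup.mem_center_iff.mp hq (QuotientGroup.mk ⟨w, hw⟩)
    have : (QuotientGroup.mk (⁅u, ⟨w, hw⟩⁆) : U ⧸ Z') = 1 := by
      rw [commutatorElement_def]
      simp only [QuotientGroup.mk_mul, QuotientGroup.mk_inv]
      rw [← hc]; group
    rw [QuotientGroup.eq_one_iff, hmemZ'] at this
    simpa [commutatorElement_def] using this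

/-- the four lines of `⟨x, y⟩ ≅ Z₃ × Z₃` -/
def ln3 (x y : G) : Fin 4 → G
  | 0 => x
  | 1 => y
  | 2 => x * y
  | 3 => x ^ 2 * y

theorem ln3_mem (C : Subgroup G) {x y : G} (hx : x ∈ C) (hy : y ∈ C) (i : Fin 4) :
    ln3 x y i ∈ C := by
  fin_cases i
  · exact hx
  · exact hy
  · exact C.mul_mem hx hy
  · exact C.mul_mem (C.pow_mem hx 2) hy

theorem ln3_pow_three {x y : G} (hxy : x * y = y * x) (hx3 : x ^ 3 = 1) (hy3 : y ^ 3 = 1)
    (i : Fin 4) : ln3 x y i ^ 3 = 1 := by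
  have hc : Commute x y := hxy
  fin_cases i
  · exact hx3
  · exact hy3
  · show (x * y) ^ 3 = 1
    rw [hc.mul_pow, hx3, hy3, one_mul]
  · show (x ^ 2 * y) ^ 3 = 1
    calc (x ^ 2 * y) ^ 3 = (x ^ 2) ^ 3 * y ^ 3 := (hc.pow_left 2).mul_pow 3
      _ = (x ^ 3) ^ 2 * y ^ 3 := by rw [← pow_mul, ← pow_mul]
      _ = 1 := by rw [hx3, hy3]; simp

theorem q8_odd_of_pow_three {t : G} (h : t ^ 3 = 1) : Odd (orderOf t) := by
  have hd := orderOf_dvd_of_pow_eq_one h
  rcases (Nat.dvd_prime Nat.prime_three).mp hd with h1 | h1 <;> rw [h1]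
  · exact ⟨0, by norm_num⟩
  · exact ⟨1, by norm_num⟩

theorem q8_cen_conj_mem {U : Subgroup G} {t s : G} (htU : t ∈ Subgroup.normalizer (U : Set G))
    (hts : t * s = s * t) {d : G} (hd : d ∈ U ⊓ Subgroup.centralizer {s}) :
    t * d * t⁻¹ ∈ U ⊓ Subgroup.centralizer {s} := by
  have hd' := Subgroup.mem_inf.mp hd
  refine Subgroup.mem_inf.mpr ⟨q8_conj_mem_of_normalizer htU hd'.1, ?_⟩
  rw [Subgroup.mem_centralizer_singleton_iff]
  have h1 : Commute d s := Subgroup.mem_centralizer_singleton_iff.mp hd'.2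
  have h2 : Commute t s := hts
  exact ((h2.mul_left h1).mul_left h2.inv_left).eq

theorem q8_gen3 [Finite G] {x y : G} (hxy : x * y = y * x) (hx3 : x ^ 3 = 1) (hy3 : y ^ 3 = 1)
    (K : Subgroup G) (hK : IsPGroup 2 K) (hxK : x ∈ Subgroup.normalizer (K : Set G))
    (hyK : y ∈ Subgroup.normalizer (K : Set G)) (K₀ : Subgroup G)
    (h : ∀ i : Fin 4, K ⊓ Subgroup.centralizer {ln3 x y i} ≤ K₀) : K ≤ K₀ := by
  haveI : Fact (Nat.Prime 3) := ⟨Nat.prime_three⟩
  haveI : Fact (Nat.Prime 2) := ⟨Nat.prime_two⟩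
  have hcop : (Nat.card K).Coprime 3 := by
    obtain ⟨n, hn⟩ := IsPGroup.iff_card.mp hK
    rw [hn]
    exact Nat.Coprime.pow_left n (by norm_num)
  refine Cfsg.Agent.Lib.Helper12.le_gen_of_coprime K hcop x y hxK hyK hxy hx3 hy3 K₀ (h 0) ?_
  intro i
  have hi : i.val = 0 ∨ i.val = 1 ∨ i.val = 2 := by
    have := ZMod.val_lt i; omega
  rcases hi with h0 | h1 | h2
  · rw [h0, pow_zero, one_mul]; exact h 1
  · rw [h1, pow_one]; exact h 2
  · rw [h2]; exact h 3

theorem ln3_pair {x y : G} (hx3 : x ^ 3 = 1) (C : Subgroup G) :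
    ∀ i j : Fin 4, i ≠ j → ln3 x y i ∈ C → ln3 x y j ∈ C → x ∈ C ∧ y ∈ C := by
  have h01 : x ∈ C → y ∈ C → x ∈ C ∧ y ∈ C := fun a b => ⟨a, b⟩
  have h02 : x ∈ C → x * y ∈ C → x ∈ C ∧ y ∈ C := fun a b => ⟨a, by
    have : y = x⁻¹ * (x * y) := by group
    rw [this]; exact C.mul_mem (C.inv_mem a) b⟩
  have h03 : x ∈ C → x ^ 2 * y ∈ C → x ∈ C ∧ y ∈ C := fun a b => ⟨a, by
    have : y = (x ^ 2)⁻¹ * (x ^ 2 * y) := by group
    rw [this]; exact C.mul_mem (C.inv_mem (C.pow_mem a 2)) b⟩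
  have h12 : y ∈ C → x * y ∈ C → x ∈ C ∧ y ∈ C := fun a b => ⟨by
    have : x = (x * y) * y⁻¹ := by group
    rw [this]; exact C.mul_mem b (C.inv_mem a), a⟩
  have h13 : y ∈ C → x ^ 2 * y ∈ C → x ∈ C ∧ y ∈ C := fun a b => ⟨by
    have h2 : x ^ 2 ∈ C := by
      have : x ^ 2 = (x ^ 2 * y) * y⁻¹ := by group
      rw [this]; exact C.mul_mem b (C.inv_mem a)
    have : x = (x ^ 2) ^ 2 := by
      rw [← pow_mul]
      show x = x ^ (3 + 1)
      rw [pow_succ, hx3, one_mul]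
    rw [this]; exact C.pow_mem h2 2, a⟩
  have h23 : x * y ∈ C → x ^ 2 * y ∈ C → x ∈ C ∧ y ∈ C := fun a b => by
    have hx : x ∈ C := by
      have : x = (x ^ 2 * y) * (x * y)⁻¹ := by group
      rw [this]; exact C.mul_mem b (C.inv_mem a)
    exact h02 hx a
  intro i j hij hi hj
  fin_cases i <;> fin_cases j
  all_goals first
    | exact absurd rfl hij
    | exact h01 hi hj | exact h02 hi hj | exact h03 hi hj | exact h12 hi hj
    | exact h13 hi hj | exact h23 hi hj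
    | exact h01 hj hi | exact h02 hj hi | exact h03 hj hi | exact h12 hj hi
    | exact h13 hj hi | exact h23 hj hi

theorem q8YS_normalizer [Finite G] {U Z : Subgroup G}
    (hZc : ∀ u ∈ U, ∀ c ∈ Z, u * c = c * u) {t : G}
    (htU : t ∈ Subgroup.normalizer (U : Set G)) (htZ : ∀ c ∈ Z, t * c = c * t) :
    t ∈ Subgroup.normalizer ((q8YS U U Z hZc : Subgroup G) : Set G) := by
  apply Subgroup.mem_normalizer_fintype
  intro n hn
  obtain ⟨hnU, hnc⟩ := hn
  refine ⟨q8_conj_mem_of_normalizer htU hnU, fun w hw => ?_⟩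
  have hw' : t⁻¹ * w * t ∈ U := q8_conj_mem_of_normalizer' htU hw
  have hc := hnc _ hw'
  have e : ⁅t * n * t⁻¹, w⁆ = t * ⁅n, t⁻¹ * w * t⁆ * t⁻¹ := by
    simp only [commutatorElement_def]; group
  rw [e, htZ _ hc, mul_inv_cancel_right]
  exact hc

theorem q8_inf_centralizer_normalizer [Finite G] {U D : Subgroup G} {t : G}
    (htU : t ∈ Subgroup.normalizer (U : Set G)) (htD : t ∈ Subgroup.normalizer (D : Set G)) :
    t ∈ Subgroup.normalizer ((U ⊓ Subgroup.centralizer (D : Set G) : Subgroup G) : Set G) := by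
  apply Subgroup.mem_normalizer_fintype
  intro n hn
  have hn' := Subgroup.mem_inf.mp hn
  refine Subgroup.mem_inf.mpr ⟨q8_conj_mem_of_normalizer htU hn'.1, ?_⟩
  rw [Subgroup.mem_centralizer_iff]
  intro d hd
  have hd' : t⁻¹ * d * t ∈ D := q8_conj_mem_of_normalizer' htD hd
  have hc := Subgroup.mem_centralizer_iff.mp hn'.2 _ hd'
  calc d * (t * n * t⁻¹) = t * ((t⁻¹ * d * t) * n) * t⁻¹ := by group
    _ = t * (n * (t⁻¹ * d * t)) * t⁻¹ := by rw [hc]
    _ = t * n * t⁻¹ * d := by group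

/-- the inductive hypothesis package -/
structure Good (x y z : G) (U : Subgroup G) : Prop where
  two : IsPGroup 2 U
  xn : x ∈ Subgroup.normalizer (U : Set G)
  yn : y ∈ Subgroup.normalizer (U : Set G)
  zmem : z ∈ U
  zc : ∀ u ∈ U, u * z = z * u
  line : ∀ i : Fin 4, U ⊓ Subgroup.centralizer {ln3 x y i} ≤ Subgroup.zpowers z ∨
      QL (U ⊓ Subgroup.centralizer {ln3 x y i}) z
  meet : ∀ u ∈ U, u * x = x * u → u * y = y * u → u ∈ Subgroup.zpowers z

theorem q8_comm_main [Finite G] {x y z : G} (hxy : x * y = y * x) (hx3 : x ^ 3 = 1)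
    (hy3 : y ^ 3 = 1) (hzne : z ≠ 1) (hzz : z * z = 1) (hxz : x * z = z * x)
    (hyz : y * z = z * y) :
    ∀ (n : ℕ) (U : Subgroup G), Nat.card U = n → Good x y z U →
      ∀ i j : Fin 4, i ≠ j → ∀ c ∈ U ⊓ Subgroup.centralizer {ln3 x y i},
        ∀ d ∈ U ⊓ Subgroup.centralizer {ln3 x y j}, c * d = d * c := by
  intro n
  induction n using Nat.strong_induction_on with
  | _ n ih =>
  intro U hcard hG
  by_cases hUZ : U ≤ Subgroup.zpowers z
  · intro i j hij c hc d hd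
    have hc' := hUZ (Subgroup.mem_inf.mp hc).1
    have hd' := hUZ (Subgroup.mem_inf.mp hd).1
    obtain ⟨a, rfl⟩ := Subgroup.mem_zpowers_iff.mp hc'
    obtain ⟨b, rfl⟩ := Subgroup.mem_zpowers_iff.mp hd'
    exact zpow_mul_comm z a b
  haveI : Fact (Nat.Prime 3) := ⟨Nat.prime_three⟩
  obtain ⟨Z, hZdef⟩ : ∃ Z : Subgroup G, Z = Subgroup.zpowers z := ⟨_, rfl⟩
  have hzZ : z ∈ Z := by rw [hZdef]; exact Subgroup.mem_zpowers z
  have hZU : Z ≤ U := by rw [hZdef, Subgroup.zpowers_le]; exact hG.zmem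
  have hZcomm : ∀ t : G, t * z = z * t → ∀ c ∈ Z, t * c = c * t := by
    intro t ht c hc
    rw [hZdef] at hc
    obtain ⟨k, rfl⟩ := Subgroup.mem_zpowers_iff.mp hc
    exact ((show Commute t z from ht).zpow_right k).eq
  have hZc : ∀ u ∈ U, ∀ c ∈ Z, u * c = c * u := fun u hu => hZcomm u (hG.zc u hu)
  -- facts about the lines
  have hl_x : ∀ i, ln3 x y i * x = x * ln3 x y i := fun i =>
    Subgroup.mem_centralizer_singleton_iff.mp
      (ln3_mem (Subgroup.centralizer {x}) (Subgroup.mem_centralizer_singleton_iff.mpr rfl)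
        (Subgroup.mem_centralizer_singleton_iff.mpr hxy.symm) i)
  have hl_y : ∀ i, ln3 x y i * y = y * ln3 x y i := fun i =>
    Subgroup.mem_centralizer_singleton_iff.mp
      (ln3_mem (Subgroup.centralizer {y}) (Subgroup.mem_centralizer_singleton_iff.mpr hxy)
        (Subgroup.mem_centralizer_singleton_iff.mpr rfl) i)
  have hl_z : ∀ i, ln3 x y i * z = z * ln3 x y i := fun i =>
    Subgroup.mem_centralizer_singleton_iff.mp
      (ln3_mem (Subgroup.centralizer {z}) (Subgroup.mem_centralizer_singleton_iff.mpr hxz)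
        (Subgroup.mem_centralizer_singleton_iff.mpr hyz) i)
  have hl_l : ∀ i j, ln3 x y i * ln3 x y j = ln3 x y j * ln3 x y i := fun i j =>
    Subgroup.mem_centralizer_singleton_iff.mp
      (ln3_mem (Subgroup.centralizer {ln3 x y j})
        (Subgroup.mem_centralizer_singleton_iff.mpr (hl_x j).symm)
        (Subgroup.mem_centralizer_singleton_iff.mpr (hl_y j).symm) i)
  have hl_n : ∀ i, ln3 x y i ∈ Subgroup.normalizer (U : Set G) := fun i =>
    ln3_mem (Subgroup.normalizer (U : Set G)) hG.xn hG.yn i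
  obtain ⟨Y, hY⟩ : ∃ Y : Subgroup G, Y = q8YS U U Z hZc := ⟨_, rfl⟩
  have hYU : Y ≤ U := by rw [hY]; exact fun u hu => hu.1
  have hYmem : ∀ u, u ∈ Y ↔ u ∈ U ∧ ∀ w ∈ U, ⁅u, w⁆ ∈ Z := by
    intro u; rw [hY]; exact Iff.rfl
  obtain ⟨u₀, hu₀U, hu₀Z, hu₀c⟩ :=
    q8_exists_class2 U Z hG.two hZU hZc (by rw [hZdef]; exact hUZ)
  have hu₀Y : u₀ ∈ Y := (hYmem u₀).mpr ⟨hu₀U, hu₀c⟩
  have hxY : x ∈ Subgroup.normalizer (Y : Set G) := by
    rw [hY]; exact q8YS_normalizer hZc hG.xn (hZcomm x hxz)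
  have hyY : y ∈ Subgroup.normalizer (Y : Set G) := by
    rw [hY]; exact q8YS_normalizer hZc hG.yn (hZcomm y hyz)
  have hex : ∃ i₀ : Fin 4, ¬ (Y ⊓ Subgroup.centralizer {ln3 x y i₀} ≤ Z) := by
    by_contra hcon
    push Not at hcon
    exact hu₀Z (q8_gen3 hxy hx3 hy3 Y (hG.two.to_le hYU) hxY hyY Z hcon hu₀Y)
  obtain ⟨i₀, hi₀⟩ := hex
  obtain ⟨u, huYC, huZ⟩ := SetLike.not_le_iff_exists.mp hi₀
  have huY := (Subgroup.mem_inf.mp huYC).1
  have huC := (Subgroup.mem_inf.mp huYC).2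
  obtain ⟨D, hD⟩ : ∃ D : Subgroup G, D = U ⊓ Subgroup.centralizer {ln3 x y i₀} := ⟨_, rfl⟩
  have huD : u ∈ D := by rw [hD]; exact Subgroup.mem_inf.mpr ⟨hYU huY, huC⟩
  have hQL : QL D z := by
    rcases hG.line i₀ with h1 | h1
    · exfalso; apply huZ; rw [hZdef]; apply h1; rw [← hD]; exact huD
    · rw [hD]; exact h1
  have hDU : D ≤ U := by rw [hD]; exact inf_le_left
  have hu1 : u ≠ 1 := fun h => huZ (h ▸ Z.one_mem)
  have huz : u ≠ z := fun h => huZ (h ▸ hzZ)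
  have hext : ∃ t : G, t ^ 3 = 1 ∧ t ∈ Subgroup.normalizer (U : Set G) ∧
      t * ln3 x y i₀ = ln3 x y i₀ * t ∧ t * z = z * t ∧ ∃ d ∈ D, t * d * t⁻¹ ≠ d := by
    by_contra hcon
    push Not at hcon
    apply huZ
    rw [hZdef]
    apply hG.meet u (hYU huY)
    · have := hcon x hx3 hG.xn (hl_x i₀).symm hxz u huD
      rw [mul_inv_eq_iff_eq_mul] at this; exact this.symm
    · have := hcon y hy3 hG.yn (hl_y i₀).symm hyz u huD
      rw [mul_inv_eq_iff_eq_mul] at this; exact this.symm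
  obtain ⟨t, ht3, htU, htl, htz, htnc⟩ := hext
  have htD : ∀ d ∈ D, t * d * t⁻¹ ∈ D := by
    intro d hd; rw [hD] at hd ⊢; exact q8_cen_conj_mem htU htl hd
  have hfixD := (hQL.fix_of_prime (p := 3) (by norm_num) ht3 htD htnc).2
  have htY : t ∈ Subgroup.normalizer (Y : Set G) := by
    rw [hY]; exact q8YS_normalizer hZc htU (hZcomm t htz)
  have hDY : D ≤ Y := by
    have h1 : D ≤ Y ⊓ D := by
      apply hQL.le_of_inv ht3 hfixD (Y ⊓ D) inf_le_right ?_
        (Subgroup.mem_inf.mpr ⟨huY, huD⟩) hu1 huz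
      intro d hd
      have hd' := Subgroup.mem_inf.mp hd
      exact Subgroup.mem_inf.mpr ⟨q8_conj_mem_of_normalizer htY hd'.1, htD d hd'.2⟩
    exact fun d hd => (Subgroup.mem_inf.mp (h1 hd)).1
  have hDcomm : ∀ j : Fin 4, j ≠ i₀ → ∀ c ∈ D,
      ∀ d' ∈ U ⊓ Subgroup.centralizer {ln3 x y j}, c * d' = d' * c := by
    intro j hj c hc d' hd'
    have hcU := hDU hc
    have hcl : c * ln3 x y i₀ = ln3 x y i₀ * c := by
      rw [hD] at hc
      exact Subgroup.mem_centralizer_singleton_iff.mp (Subgroup.mem_inf.mp hc).2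
    rcases hG.line j with h1 | hQL'
    · have hd'Z : d' ∈ Z := by rw [hZdef]; exact h1 hd'
      exact hZc c hcU d' hd'Z
    · obtain ⟨D', hD'⟩ : ∃ D' : Subgroup G, D' = U ⊓ Subgroup.centralizer {ln3 x y j} :=
        ⟨_, rfl⟩
      rw [← hD'] at hQL' hd'
      have hD'U : D' ≤ U := by rw [hD']; exact inf_le_left
      obtain ⟨g₀, hg₀⟩ : ∃ g₀ : G, g₀ = ln3 x y i₀ := ⟨_, rfl⟩
      have hg3 : g₀ ^ 3 = 1 := by rw [hg₀]; exact ln3_pow_three hxy hx3 hy3 i₀
      have hgU : g₀ ∈ Subgroup.normalizer (U : Set G) := by rw [hg₀]; exact hl_n i₀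
      have hgD' : ∀ d ∈ D', g₀ * d * g₀⁻¹ ∈ D' := by
        intro d hd; rw [hD'] at hd ⊢
        exact q8_cen_conj_mem hgU (by rw [hg₀]; exact hl_l i₀ j) hd
      have hgnc : ∃ d ∈ D', g₀ * d * g₀⁻¹ ≠ d := by
        by_contra hcon
        push Not at hcon
        obtain ⟨a, ha, b, hb, hab⟩ := hQL'.nonab
        apply hab
        have hmemZ : ∀ d ∈ D', d ∈ Z := by
          intro d hd
          have h1 := hcon d hd
          have hdi : ln3 x y i₀ ∈ Subgroup.centralizer {d} := by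
            rw [Subgroup.mem_centralizer_singleton_iff, ← hg₀]
            rw [mul_inv_eq_iff_eq_mul] at h1; exact h1
          have hdj : ln3 x y j ∈ Subgroup.centralizer {d} := by
            rw [Subgroup.mem_centralizer_singleton_iff]
            rw [hD'] at hd
            exact (Subgroup.mem_centralizer_singleton_iff.mp (Subgroup.mem_inf.mp hd).2).symm
          have hp := ln3_pair hx3 (Subgroup.centralizer {d}) i₀ j (Ne.symm hj) hdi hdj
          rw [hZdef]
          apply hG.meet d (hD'U hd)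
          · exact (Subgroup.mem_centralizer_singleton_iff.mp hp.1).symm
          · exact (Subgroup.mem_centralizer_singleton_iff.mp hp.2).symm
        have haZ := hmemZ a ha
        have hbZ := hmemZ b hb
        rw [hZdef] at haZ hbZ
        obtain ⟨k, rfl⟩ := Subgroup.mem_zpowers_iff.mp haZ
        obtain ⟨l, rfl⟩ := Subgroup.mem_zpowers_iff.mp hbZ
        exact zpow_mul_comm z k l
      have hfixD' := (hQL'.fix_of_prime (p := 3) (by norm_num) hg3 hgD' hgnc).2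
      obtain ⟨d₀, hd₀, hd₀ne⟩ := hgnc
      have hgc : g₀ * c = c * g₀ := by rw [hg₀]; exact hcl.symm
      have hgz : g₀ * z = z * g₀ := by rw [hg₀]; exact hl_z i₀
      obtain ⟨k, hk⟩ : ∃ k : G, k = ⁅c, d₀⁆ := ⟨_, rfl⟩
      have hkZ : k ∈ Z := by rw [hk]; exact ((hYmem c).mp (hDY hc)).2 d₀ (hD'U hd₀)
      have hgk : g₀ * k = k * g₀ := hZcomm g₀ hgz k hkZ
      obtain ⟨e₀, he₀⟩ : ∃ e₀ : G, e₀ = g₀ * d₀ * g₀⁻¹ := ⟨_, rfl⟩
      have h1 : c * d₀ * c⁻¹ = k * d₀ := by rw [hk, commutatorElement_def]; group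
      have h2 : c * e₀ * c⁻¹ = k * e₀ := by
        rw [he₀]
        have e1 : c * (g₀ * d₀ * g₀⁻¹) * c⁻¹ = (c * g₀) * d₀ * (c * g₀)⁻¹ := by group
        rw [e1, ← hgc]
        have e2 : (g₀ * c) * d₀ * (g₀ * c)⁻¹ = g₀ * (c * d₀ * c⁻¹) * g₀⁻¹ := by group
        rw [e2, h1]
        have e3 : g₀ * (k * d₀) * g₀⁻¹ = (g₀ * k) * d₀ * g₀⁻¹ := by group
        rw [e3, hgk]
        group
      obtain ⟨s, hs⟩ : ∃ s : G, s = d₀⁻¹ * e₀ := ⟨_, rfl⟩
      have he₀D' : e₀ ∈ D' := by rw [he₀]; exact hgD' d₀ hd₀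
      have hsD' : s ∈ D' := by rw [hs]; exact D'.mul_mem (D'.inv_mem hd₀) he₀D'
      have hsc : c * s * c⁻¹ = s := by
        have e1 : c * s * c⁻¹ = (c * d₀ * c⁻¹)⁻¹ * (c * e₀ * c⁻¹) := by rw [hs]; group
        rw [e1, h1, h2, hs]; group
      have hs1 : s ≠ 1 := by
        intro h
        apply hd₀ne
        rw [← he₀]
        rw [hs, inv_mul_eq_one] at h
        exact h.symm
      have hsz : s ≠ z := by
        intro h
        apply hzne
        have h3 : g₀ * d₀ * g₀⁻¹ = d₀ * z := by rw [← he₀, ← h, hs]; group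
        have h4 : g₀ * z * g₀⁻¹ = z := by rw [hgz, mul_inv_cancel_right]
        exact Cfsg.Agent.Lib.Helper24.eq_one_of_odd_stab (q8_odd_of_pow_three hg3) h3 h4
          ⟨1, by rw [pow_one, pow_two]; exact hzz⟩
      have hS : D' ≤ D' ⊓ Subgroup.centralizer {c} := by
        apply hQL'.le_of_inv hg3 hfixD' (D' ⊓ Subgroup.centralizer {c}) inf_le_left ?_
          (Subgroup.mem_inf.mpr ⟨hsD', ?_⟩) hs1 hsz
        · intro d hd
          have hd2 := Subgroup.mem_inf.mp hd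
          refine Subgroup.mem_inf.mpr ⟨hgD' d hd2.1, ?_⟩
          rw [Subgroup.mem_centralizer_singleton_iff]
          have hdc : Commute d c := Subgroup.mem_centralizer_singleton_iff.mp hd2.2
          have hgc' : Commute g₀ c := hgc
          exact ((hgc'.mul_left hdc).mul_left hgc'.inv_left).eq
        · rw [Subgroup.mem_centralizer_singleton_iff]
          rw [mul_inv_eq_iff_eq_mul] at hsc
          exact hsc.symm
      have := (Subgroup.mem_inf.mp (hS hd')).2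
      exact (Subgroup.mem_centralizer_singleton_iff.mp this).symm
  obtain ⟨U₁, hU₁⟩ : ∃ U₁ : Subgroup G, U₁ = U ⊓ Subgroup.centralizer (D : Set G) := ⟨_, rfl⟩
  have hU₁U : U₁ ≤ U := by rw [hU₁]; exact inf_le_left
  have hcen_eq : ∀ j : Fin 4, j ≠ i₀ → U₁ ⊓ Subgroup.centralizer {ln3 x y j} =
      U ⊓ Subgroup.centralizer {ln3 x y j} := by
    intro j hj
    apply le_antisymm
    · exact inf_le_inf_right _ hU₁U
    · intro d' hd'
      have hd2 := Subgroup.mem_inf.mp hd'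
      refine Subgroup.mem_inf.mpr ⟨?_, hd2.2⟩
      rw [hU₁]
      refine Subgroup.mem_inf.mpr ⟨hd2.1, ?_⟩
      rw [Subgroup.mem_centralizer_iff]
      intro c hc
      exact hDcomm j hj c hc d' hd'
  have hnormD : ∀ t : G, t ∈ Subgroup.normalizer (U : Set G) →
      t * ln3 x y i₀ = ln3 x y i₀ * t → t ∈ Subgroup.normalizer (D : Set G) := by
    intro t htU htl
    apply Subgroup.mem_normalizer_fintype
    intro d hd
    have hd' : d ∈ D := hd
    rw [hD] at hd'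
    have := q8_cen_conj_mem htU htl hd'
    rw [← hD] at this
    exact this
  have hGood₁ : Good x y z U₁ := by
    refine ⟨hG.two.to_le hU₁U, ?_, ?_, ?_, fun u hu => hG.zc u (hU₁U hu), ?_,
      fun u hu => hG.meet u (hU₁U hu)⟩
    · rw [hU₁]; exact q8_inf_centralizer_normalizer hG.xn (hnormD x hG.xn (hl_x i₀).symm)
    · rw [hU₁]; exact q8_inf_centralizer_normalizer hG.yn (hnormD y hG.yn (hl_y i₀).symm)
    · rw [hU₁]
      refine Subgroup.mem_inf.mpr ⟨hG.zmem, ?_⟩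
      rw [Subgroup.mem_centralizer_iff]
      intro d hd
      exact hG.zc d (hDU hd)
    · intro j
      by_cases hj : j = i₀
      · left
        rw [hj]
        intro w hw
        have hw2 := Subgroup.mem_inf.mp hw
        have hwU₁ := hw2.1
        rw [hU₁] at hwU₁
        have hw3 := Subgroup.mem_inf.mp hwU₁
        have hwD : w ∈ D := by rw [hD]; exact Subgroup.mem_inf.mpr ⟨hw3.1, hw2.2⟩
        have hwc := Subgroup.mem_centralizer_iff.mp hw3.2
        rcases hQL.center_sub hwD (fun e he => (hwc e he).symm) with h1 | h1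
        · rw [h1]; exact Subgroup.one_mem _
        · rw [h1]; exact Subgroup.mem_zpowers z
      · rw [hcen_eq j hj]; exact hG.line j
  have hlt : Nat.card U₁ < n := by
    rw [← hcard]
    have hlt' : U₁ < U := by
      apply lt_of_le_of_ne hU₁U
      intro heq
      obtain ⟨a, ha, b, hb, hab⟩ := hQL.nonab
      apply hab
      have haU₁ : a ∈ U₁ := by rw [heq]; exact hDU ha
      rw [hU₁] at haU₁
      have := Subgroup.mem_centralizer_iff.mp (Subgroup.mem_inf.mp haU₁).2 b hb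
      exact this.symm
    exact Set.ncard_lt_ncard (SetLike.coe_ssubset_coe.mpr hlt') (Set.toFinite _)
  have hIH := ih (Nat.card U₁) hlt U₁ rfl hGood₁
  intro i j hij c hc d hd
  by_cases hi : i = i₀
  · have hj : j ≠ i₀ := fun h => hij (hi.trans h.symm)
    have hcD : c ∈ D := by rw [hD, ← hi]; exact hc
    exact hDcomm j hj c hcD d hd
  · by_cases hj : j = i₀
    · have hdD : d ∈ D := by rw [hD, ← hj]; exact hd
      exact (hDcomm i hi d hdD c hc).symm
    · rw [← hcen_eq i hi] at hc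
      rw [← hcen_eq j hj] at hd
      exact hIH i j hij c hc d hd

end Q8Induct
end Cfsg.Agent.Lib.Helper20
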