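import Mathlib
import Cfsg.Agent.Lib.Helper24.OddAct
import Cfsg.Agent.Lib.Lead.MaxClassCentralizers
import Cfsg.Agent.Lib.Helper20.Q8Like

set_option linter.style.haveILetI false
set_option linter.unusedVariables false
set_option linter.unusedSectionVars false
set_option autoImplicit false

namespace Cfsg.Agent.Lib.Helper20
open scoped commutatorElement
open Cfsg.Agent.Lib.Lead.UniqueOrderP Cfsg.Agent.Lib.Lead.MaxClassCentralizers

section Q8Quat

theorem q8_uniqueOrderP {Q : Type*} [Group Q]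
    (hu : ∀ u v : Q, u * u = 1 → v * v = 1 → u ≠ 1 → v ≠ 1 → u = v) : UniqueOrderP 2 Q := by
  have key : ∀ (H : Subgroup Q), Nat.card H = 2 →
      ∃ h : Q, h ≠ 1 ∧ h * h = 1 ∧ H = Subgroup.zpowers h := by
    intro H hH
    haveI : Finite H := Nat.finite_of_card_ne_zero (by rw [hH]; norm_num)
    haveI : Fact (Nat.Prime 2) := ⟨Nat.prime_two⟩
    have hnt : Nontrivial H := Finite.one_lt_card_iff_nontrivial.mp (by rw [hH]; norm_num)
    obtain ⟨h', hh'⟩ := exists_ne (1 : H)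
    have h2 : h' ^ 2 = 1 := by rw [← hH]; exact pow_card_eq_one'
    have hne : (h' : Q) ≠ 1 := fun h => hh' (Subtype.ext h)
    have hsq : (h' : Q) * h' = 1 := by
      have := congrArg Subtype.val h2
      simpa [pow_two] using this
    refine ⟨h', hne, hsq, ?_⟩
    symm
    apply Subgroup.eq_of_le_of_card_ge
    · rw [Subgroup.zpowers_le]; exact h'.2
    · rw [hH, Nat.card_zpowers, orderOf_eq_prime (by rw [pow_two]; exact hsq) hne]
  intro H K hH hK
  obtain ⟨h, h1, h2, rfl⟩ := key H hH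
  obtain ⟨k, k1, k2, rfl⟩ := key K hK
  rw [hu h k h2 k2 h1 k1]

variable {G : Type*} [Group G]

theorem q8_coset_fix {D A : Subgroup G} (hAD : A ≤ D)
    (hidx : ∀ g ∈ D, ∀ h ∈ D, g ∉ A → h ∉ A → g⁻¹ * h ∈ A)
    {t : G} (hodd : Odd (orderOf t)) (hn : ∀ d ∈ D, t * d * t⁻¹ ∈ D)
    (hcA : ∀ a ∈ A, t * a * t⁻¹ = a) (hA2 : ∀ c ∈ A, ∃ j : ℕ, c ^ (2 ^ j) = 1) :
    ∀ d ∈ D, t * d * t⁻¹ = d := by
  intro d hd
  by_cases hdA : d ∈ A
  · exact hcA d hdA
  · have h1 : t * d * t⁻¹ ∉ A := by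
      intro hmem
      apply hdA
      have h2 := hcA _ hmem
      have h3 : t * d * t⁻¹ = d := by
        have h4 : t⁻¹ * (t * (t * d * t⁻¹) * t⁻¹) * t = t⁻¹ * (t * d * t⁻¹) * t := by rw [h2]
        have e1 : t⁻¹ * (t * (t * d * t⁻¹) * t⁻¹) * t = t * d * t⁻¹ := by group
        have e2 : t⁻¹ * (t * d * t⁻¹) * t = d := by group
        rw [e1, e2] at h4; exact h4
      rw [← h3]; exact hmem
    have hc : d⁻¹ * (t * d * t⁻¹) ∈ A := hidx d hd _ (hn d hd) hdA h1
    have h2 : t * d * t⁻¹ = d * (d⁻¹ * (t * d * t⁻¹)) := by group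
    have hc1 := Cfsg.Agent.Lib.Helper24.eq_one_of_odd_stab hodd h2 (hcA _ hc) (hA2 _ hc)
    rw [h2, hc1, mul_one]

/-- a `2`-subgroup with at most one involution on which an odd-order element acts nontrivially
is nonabelian of order `8` -/
theorem q8_card_eight {D : Subgroup G} [Finite D] (hD : IsPGroup 2 D)
    (hu : ∀ u ∈ D, ∀ v ∈ D, u * u = 1 → v * v = 1 → u ≠ 1 → v ≠ 1 → u = v)
    {t : G} (hodd : Odd (orderOf t)) (hn : ∀ d ∈ D, t * d * t⁻¹ ∈ D)
    (hnc : ∃ d ∈ D, t * d * t⁻¹ ≠ d) :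
    Nat.card D = 8 ∧ ∃ a ∈ D, ∃ b ∈ D, a * b ≠ b * a := by
  have hfixinv : ∀ d ∈ D, d * d = 1 → t * d * t⁻¹ = d := by
    intro d hd hdd
    by_cases hd1 : d = 1
    · rw [hd1]; group
    · symm
      apply hu d hd _ (hn d hd) hdd ?_ hd1 ?_
      · have : (t * d * t⁻¹) * (t * d * t⁻¹) = t * (d * d) * t⁻¹ := by group
        rw [this, hdd]; group
      · intro h1
        apply hd1
        have : d = t⁻¹ * (t * d * t⁻¹) * t := by group
        rw [this, h1]; group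
  have hnonab : ∃ a ∈ D, ∃ b ∈ D, a * b ≠ b * a := by
    by_contra hcon
    push Not at hcon
    obtain ⟨d, hd, hdne⟩ := hnc
    apply hdne
    refine Cfsg.Agent.Lib.Helper24.odd_centralizes_abelian_two_group hodd D hD hcon hn ?_ d hd
    intro x hx hox
    apply hfixinv x hx
    rw [← pow_two, ← hox]; exact pow_orderOf_eq_one x
  refine ⟨?_, hnonab⟩
  have huniq : UniqueOrderP 2 D := by
    apply q8_uniqueOrderP
    intro u v huu hvv hu1 hv1
    apply Subtype.ext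
    apply hu u u.2 v v.2 (congrArg Subtype.val huu) (congrArg Subtype.val hvv)
    · intro h; exact hu1 (Subtype.ext h)
    · intro h; exact hv1 (Subtype.ext h)
  have hcomm : ∃ x y : D, x * y ≠ y * x := by
    obtain ⟨a, ha, b, hb, hab⟩ := hnonab
    exact ⟨⟨a, ha⟩, ⟨b, hb⟩, fun h => hab (congrArg Subtype.val h)⟩
  obtain ⟨n, a, b, hcard, hn3, hoa, hidx, hba, hb2, hconj⟩ :=
    quaternion_gens_of_unique hD huniq hcomm
  by_cases hn4 : n = 3
  · rw [hcard, hn4]; norm_num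
  exfalso
  have hn4' : 4 ≤ n := by omega
  have h1 : ∀ g : D, g ∉ Subgroup.zpowers a → g ^ 4 = 1 := by
    intro g hg
    have hgb : g * b⁻¹ ∈ Subgroup.zpowers a := by
      rw [Subgroup.mul_mem_iff_of_index_two hidx]
      constructor
      · intro h; exact absurd h hg
      · intro h; exact absurd ((Subgroup.inv_mem_iff _).mp h) hba
    obtain ⟨k, hk⟩ := Subgroup.mem_zpowers_iff.mp hgb
    have hbc : b * (a ^ k) * b⁻¹ = (a ^ k)⁻¹ := by
      have := map_zpow (MulAut.conj b) a k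
      simp only [MulAut.conj_apply] at this
      rw [this, hconj, inv_zpow]
    have hg_eq : g = a ^ k * b := by rw [hk]; group
    have hg2 : g ^ 2 = b ^ 2 := by
      have : g ^ 2 = a ^ k * (b * a ^ k * b⁻¹) * (b * b) := by
        rw [hg_eq, pow_two]; simp only [mul_assoc, inv_mul_cancel_left]
      rw [this, hbc, pow_two]; simp
    have e4 : g ^ 4 = (g ^ 2) ^ 2 := by rw [← pow_mul]
    rw [e4, hg2, hb2, ← pow_mul]
    have e5 : 2 ^ (n - 2) * 2 = 2 ^ (n - 1) := by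
      have : n - 1 = (n - 2) + 1 := by omega
      rw [this, pow_succ]
    rw [e5, ← hoa]; exact pow_orderOf_eq_one a
  have ha4 : a ^ 4 ≠ 1 := by
    intro h
    have hd := orderOf_dvd_of_pow_eq_one h
    rw [hoa] at hd
    have h8 : 2 ^ 3 ≤ 2 ^ (n - 1) := Nat.pow_le_pow_right (by norm_num) (by omega)
    have := Nat.le_of_dvd (by norm_num) hd
    omega
  obtain ⟨A, hA⟩ : ∃ A : Subgroup G, A = Subgroup.zpowers (a : G) := ⟨_, rfl⟩
  have hAD : A ≤ D := by rw [hA, Subgroup.zpowers_le]; exact a.2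
  have hmemA : ∀ g : D, (g : G) ∈ A ↔ g ∈ Subgroup.zpowers a := by
    intro g
    rw [hA, Subgroup.mem_zpowers_iff, Subgroup.mem_zpowers_iff]
    constructor
    · rintro ⟨k, hk⟩
      exact ⟨k, Subtype.ext (by rw [Subgroup.coe_zpow]; exact hk)⟩
    · rintro ⟨k, hk⟩
      refine ⟨k, ?_⟩
      rw [← hk, Subgroup.coe_zpow]
  have htaA : t * (a : G) * t⁻¹ ∈ A := by
    have hmem : (⟨t * (a : G) * t⁻¹, hn a a.2⟩ : D) ∈ Subgroup.zpowers a := by
      by_contra hnot
      have h4 := h1 _ hnot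
      have h4' : (t * (a : G) * t⁻¹) ^ 4 = 1 := congrArg Subtype.val h4
      rw [conj_pow] at h4'
      apply ha4
      apply Subtype.ext
      rw [Subgroup.coe_pow]
      have : (a : G) ^ 4 = t⁻¹ * (t * (a : G) ^ 4 * t⁻¹) * t := by group
      rw [this, h4']; simp
    exact (hmemA _).mpr hmem
  have hnA : ∀ c ∈ A, t * c * t⁻¹ ∈ A := by
    intro c hc
    rw [hA] at hc
    obtain ⟨k, rfl⟩ := Subgroup.mem_zpowers_iff.mp hc
    have := map_zpow (MulAut.conj t) (a : G) k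
    simp only [MulAut.conj_apply] at this
    rw [this]
    exact A.zpow_mem htaA k
  have hA2' : IsPGroup 2 A := hD.to_le hAD
  have hAab : ∀ x ∈ A, ∀ y ∈ A, x * y = y * x := by
    intro x hx y hy
    rw [hA] at hx hy
    obtain ⟨i, rfl⟩ := Subgroup.mem_zpowers_iff.mp hx
    obtain ⟨j, rfl⟩ := Subgroup.mem_zpowers_iff.mp hy
    exact zpow_mul_comm _ i j
  have hcA : ∀ c ∈ A, t * c * t⁻¹ = c := by
    refine Cfsg.Agent.Lib.Helper24.odd_centralizes_abelian_two_group hodd A hA2' hAab hnA ?_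
    intro x hx hox
    apply hfixinv x (hAD hx)
    rw [← pow_two, ← hox]; exact pow_orderOf_eq_one x
  have hidx' : ∀ g ∈ D, ∀ h ∈ D, g ∉ A → h ∉ A → g⁻¹ * h ∈ A := by
    intro g hg h hh hgA hhA
    have h1' : (⟨g, hg⟩ : D) ∉ Subgroup.zpowers a := fun hm => hgA ((hmemA ⟨g, hg⟩).mpr hm)
    have h2' : (⟨h, hh⟩ : D) ∉ Subgroup.zpowers a := fun hm => hhA ((hmemA ⟨h, hh⟩).mpr hm)
    have h3 : (⟨g, hg⟩ : D)⁻¹ * ⟨h, hh⟩ ∈ Subgroup.zpowers a := by
      rw [Subgroup.mul_mem_iff_of_index_two hidx]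
      constructor
      · intro hm; exact absurd ((Subgroup.inv_mem_iff _).mp hm) h1'
      · intro hm; exact absurd hm h2'
    exact (hmemA _).mpr h3
  have hA2 : ∀ c ∈ A, ∃ j : ℕ, c ^ (2 ^ j) = 1 := by
    intro c hc
    obtain ⟨j, hj⟩ := hA2' ⟨c, hc⟩
    exact ⟨j, congrArg Subtype.val hj⟩
  have hall := q8_coset_fix hAD hidx' hodd hn hcA hA2
  obtain ⟨d, hd, hdne⟩ := hnc
  exact hdne (hall d hd)

end Q8Quat
end Cfsg.Agent.Lib.Helper20
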