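import Mathlib
import Cfsg.Agent.Lib.Helper24.OddAct
import Cfsg.Agent.Lib.Helper12.Generation
import Cfsg.Agent.Lib.Helper20.Q8Like
import Cfsg.Agent.Lib.Helper20.Q8Quat
import Cfsg.Agent.Lib.Helper20.Q8Induct

set_option linter.style.haveILetI false
set_option linter.unusedVariables false
set_option linter.unusedSectionVars false
set_option autoImplicit false

namespace Cfsg.Agent.Lib.Helper20
open scoped commutatorElement
open Subgroup

section Q8Top
variable {G : Type*} [Group G]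

theorem q8_card_sup_comm [Finite G] (H K : Subgroup G)
    (hc : ∀ h ∈ H, ∀ k ∈ K, h * k = k * h) :
    Nat.card (H ⊔ K : Subgroup G) * Nat.card (H ⊓ K : Subgroup G) = Nat.card H * Nat.card K := by
  obtain ⟨f, hf⟩ : ∃ f : H × K →* G, f = MonoidHom.noncommCoprod H.subtype K.subtype
      (fun h k => (show Commute (H.subtype h) (K.subtype k) from hc h h.2 k k.2)) := ⟨_, rfl⟩
  have hr : f.range = H ⊔ K := by
    rw [hf, MonoidHom.noncommCoprod_range, Subgroup.range_subtype, Subgroup.range_subtype]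
  have h1 : Nat.card f.ker * Nat.card f.range = Nat.card (H × K) := by
    rw [← Subgroup.index_ker, Subgroup.card_mul_index]
  have hker : ∀ a : H × K, a ∈ f.ker ↔ (a.1 : G) * (a.2 : G) = 1 := by
    intro a
    rw [MonoidHom.mem_ker, hf, MonoidHom.noncommCoprod_apply]
    rfl
  have h2 : Nat.card f.ker = Nat.card (H ⊓ K : Subgroup G) := by
    refine Nat.card_congr (Equiv.ofBijective
      (fun a : f.ker => (⟨(a.1.1 : G), ?_⟩ : (H ⊓ K : Subgroup G))) ⟨?_, ?_⟩)
    · have h3 := (hker a.1).mp a.2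
      refine Subgroup.mem_inf.mpr ⟨a.1.1.2, ?_⟩
      have : (a.1.1 : G) = (a.1.2 : G)⁻¹ := eq_inv_of_mul_eq_one_left h3
      rw [this]; exact K.inv_mem a.1.2.2
    · intro a b hab
      have h1 : (a.1.1 : G) = b.1.1 :=
        congrArg (fun w : (H ⊓ K : Subgroup G) => (w : G)) hab
      have ha := (hker a.1).mp a.2
      have hb := (hker b.1).mp b.2
      apply Subtype.ext
      apply Prod.ext
      · exact Subtype.ext h1
      · apply Subtype.ext
        have e1 : (a.1.2 : G) = (a.1.1 : G)⁻¹ := eq_inv_of_mul_eq_one_right ha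
        have e2 : (b.1.2 : G) = (b.1.1 : G)⁻¹ := eq_inv_of_mul_eq_one_right hb
        rw [e1, e2, h1]
    · intro g
      have hg := Subgroup.mem_inf.mp g.2
      refine ⟨⟨(⟨g, hg.1⟩, ⟨g⁻¹, K.inv_mem hg.2⟩), ?_⟩, ?_⟩
      · rw [hker]; simp
      · rfl
  rw [Nat.card_prod, hr, h2] at h1
  rw [← h1, mul_comm]

/-- squares in `Z` -/
def q8SQ (U Z : Subgroup G) (h3 : ∀ u ∈ U, ∀ w ∈ U, ⁅u, w⁆ ∈ Z) : Subgroup G where
  carrier := {u | u ∈ U ∧ u * u ∈ Z}
  one_mem' := ⟨U.one_mem, by rw [mul_one]; exact Z.one_mem⟩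
  mul_mem' := by
    rintro a b ⟨haU, ha⟩ ⟨hbU, hb⟩
    refine ⟨U.mul_mem haU hbU, ?_⟩
    have e : (a * b) * (a * b) = (a * a) * ⁅a⁻¹, b⁆ * (b * b) := by
      simp only [commutatorElement_def]; group
    rw [e]
    exact Z.mul_mem (Z.mul_mem ha (h3 _ (U.inv_mem haU) _ hbU)) hb
  inv_mem' := by
    rintro a ⟨haU, ha⟩
    refine ⟨U.inv_mem haU, ?_⟩
    have e : a⁻¹ * a⁻¹ = (a * a)⁻¹ := by group
    rw [e]; exact Z.inv_mem ha

theorem ln3_comm {x y s : G} (hx : x * s = s * x) (hy : y * s = s * y) (i : Fin 4) :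
    ln3 x y i * s = s * ln3 x y i :=
  Subgroup.mem_centralizer_singleton_iff.mp
    (ln3_mem (Subgroup.centralizer {s}) (Subgroup.mem_centralizer_singleton_iff.mpr hx)
      (Subgroup.mem_centralizer_singleton_iff.mpr hy) i)

/-- the output package -/
structure Q8Out (x y : G) (U : Subgroup G) (z : G) : Prop where
  zU : z ∈ U
  zne : z ≠ 1
  zsq : z * z = 1
  zc : ∀ u ∈ U, u * z = z * u
  cen : ∀ u ∈ U, (∀ w ∈ U, u * w = w * u) → u = 1 ∨ u = z
  comm : ∀ u ∈ U, ∀ w ∈ U, ⁅u, w⁆ = 1 ∨ ⁅u, w⁆ = z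
  sq : ∀ u ∈ U, u * u = 1 ∨ u * u = z
  excomm : ∃ a ∈ U, ∃ b ∈ U, ⁅a, b⁆ = z
  card : Nat.card U = 2 ^ 5 ∨ Nat.card U = 2 ^ 7 ∨ Nat.card U = 2 ^ 9
  meet : ∀ u ∈ U, u * x = x * u → u * y = y * u → u = 1 ∨ u = z
  two : ∃ i j : Fin 4, i ≠ j ∧ QL (U ⊓ centralizer {ln3 x y i}) z ∧
      QL (U ⊓ centralizer {ln3 x y j}) z ∧
      ∀ c ∈ U ⊓ centralizer {ln3 x y i}, ∀ d ∈ U ⊓ centralizer {ln3 x y j}, c * d = d * c

theorem q8_top [Finite G] {p : ℕ} [Fact p.Prime] (hp : p ≠ 2) (U A : Subgroup G)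
    (hU : IsPGroup 2 U) {x y : G} (hxU : x ∈ normalizer (U : Set G))
    (hyU : y ∈ normalizer (U : Set G)) (hxy : x * y = y * x)
    (hxp : x ^ p = 1) (hyp : y ^ p = 1) (hxA : x ∈ A) (hyA : y ∈ A) (hx1 : x ≠ 1)
    (hyx : y ∉ zpowers x)
    (hline : ∀ t ∈ A, t ≠ 1 → ∀ u ∈ U ⊓ centralizer {t}, ∀ v ∈ U ⊓ centralizer {t},
      u * u = 1 → v * v = 1 → u ≠ 1 → v ≠ 1 → u = v)
    (hfaith : ∀ t ∈ A, t ≠ 1 → ¬ U ≤ centralizer {t}) :
    p = 3 ∧ ∃ z, Q8Out x y U z := by
  have hpp : p.Prime := Fact.out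
  haveI : Fact (Nat.Prime 2) := ⟨Nat.prime_two⟩
  have hex : ∃ i : ZMod p, ¬ (U ⊓ centralizer {x ^ i.val * y} ≤ centralizer {x}) := by
    by_contra hcon
    push Not at hcon
    have hcop : (Nat.card U).Coprime p := by
      obtain ⟨n, hn⟩ := IsPGroup.iff_card.mp hU
      rw [hn]
      apply Nat.Coprime.pow_left
      rw [Nat.coprime_primes Nat.prime_two hpp]; exact fun h => hp h.symm
    have := Cfsg.Agent.Lib.Helper12.le_gen_of_coprime U hcop x y hxU hyU hxy hxp hyp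
      (centralizer {x}) inf_le_right hcon
    exact hfaith x hxA hx1 this
  obtain ⟨i₁, hi₁⟩ := hex
  obtain ⟨t₁, ht₁⟩ : ∃ t₁ : G, t₁ = x ^ i₁.val * y := ⟨_, rfl⟩
  rw [← ht₁] at hi₁
  have ht₁A : t₁ ∈ A := by rw [ht₁]; exact A.mul_mem (A.pow_mem hxA _) hyA
  have ht₁ne : t₁ ≠ 1 := by
    intro h
    apply hyx
    rw [ht₁] at h
    have : y = (x ^ i₁.val)⁻¹ := eq_inv_of_mul_eq_one_right h
    rw [this]; exact (zpowers x).inv_mem ((zpowers x).pow_mem (mem_zpowers x) _)
  have hcxy : Commute x y := hxy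
  have hxt₁ : x * t₁ = t₁ * x := by
    rw [ht₁]; exact (((Commute.refl x).pow_right _).mul_right hcxy).eq
  have hyt₁ : y * t₁ = t₁ * y := by
    rw [ht₁]; exact ((hcxy.symm.pow_right _).mul_right (Commute.refl y)).eq
  obtain ⟨D₁, hD₁⟩ : ∃ D₁ : Subgroup G, D₁ = U ⊓ centralizer {t₁} := ⟨_, rfl⟩
  obtain ⟨d₁, hd₁D, hd₁x⟩ := SetLike.not_le_iff_exists.mp hi₁
  have hxD₁ : ∀ d ∈ D₁, x * d * x⁻¹ ∈ D₁ := by
    intro d hd; rw [hD₁] at hd ⊢; exact q8_cen_conj_mem hxU hxt₁ hd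
  have hyD₁ : ∀ d ∈ D₁, y * d * y⁻¹ ∈ D₁ := by
    intro d hd; rw [hD₁] at hd ⊢; exact q8_cen_conj_mem hyU hyt₁ hd
  have hncx : ∃ d ∈ D₁, x * d * x⁻¹ ≠ d := by
    refine ⟨d₁, by rw [hD₁]; exact hd₁D, fun h => hd₁x ?_⟩
    rw [mem_centralizer_singleton_iff]
    rw [mul_inv_eq_iff_eq_mul] at h; exact h.symm
  have hoddx : Odd (orderOf x) := by
    have hd := orderOf_dvd_of_pow_eq_one hxp
    rcases (Nat.dvd_prime hpp).mp hd with h1 | h1
    · rw [h1]; exact ⟨0, by norm_num⟩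
    · rw [h1]; exact hpp.odd_of_ne_two hp
  have hD₁2 : IsPGroup 2 D₁ := hU.to_le (by rw [hD₁]; exact inf_le_left)
  have hu₁ : ∀ u ∈ D₁, ∀ v ∈ D₁, u * u = 1 → v * v = 1 → u ≠ 1 → v ≠ 1 → u = v := by
    intro u hu v hv; rw [hD₁] at hu hv; exact hline t₁ ht₁A ht₁ne u hu v hv
  obtain ⟨hc8, hnonab⟩ := q8_card_eight hD₁2 hu₁ hoddx hxD₁ hncx
  obtain ⟨z', hz'⟩ := exists_prime_orderOf_dvd_card' 2 (G := D₁) (by rw [hc8]; norm_num)
  obtain ⟨z, hz⟩ : ∃ z : G, z = (z' : G) := ⟨_, rfl⟩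
  have hzD₁ : z ∈ D₁ := by rw [hz]; exact z'.2
  have hoz : orderOf z = 2 := by rw [hz, Subgroup.orderOf_coe]; exact hz'
  have hzne : z ≠ 1 := by intro h; rw [h, orderOf_one] at hoz; norm_num at hoz
  have hzz : z * z = 1 := by rw [← pow_two, ← hoz]; exact pow_orderOf_eq_one z
  have hQL₁ : QL D₁ z := ⟨hc8, hzD₁, hzne, hzz, fun u hu huu => by
      by_cases h1 : u = 1
      · left; exact h1
      · right; exact hu₁ u hu z hzD₁ huu hzz h1 hzne, hnonab⟩
  obtain ⟨hp3, hfix₁⟩ := hQL₁.fix_of_prime hp hxp hxD₁ hncx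
  subst hp3
  refine ⟨rfl, z, ?_⟩
  have hzU : z ∈ U := by have := hzD₁; rw [hD₁] at this; exact (mem_inf.mp this).1
  have hxz : x * z = z * x := by
    have := hQL₁.conj_z (hxD₁ z hzD₁); rw [mul_inv_eq_iff_eq_mul] at this; exact this
  have hyz : y * z = z * y := by
    have := hQL₁.conj_z (hyD₁ z hzD₁); rw [mul_inv_eq_iff_eq_mul] at this; exact this
  have hmeet : ∀ u ∈ U, u * x = x * u → u * y = y * u → u = 1 ∨ u = z := by
    intro u hu hux huy
    have huD₁ : u ∈ D₁ := by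
      rw [hD₁]; refine mem_inf.mpr ⟨hu, ?_⟩
      rw [mem_centralizer_singleton_iff, ht₁]
      exact (((show Commute u x from hux).pow_right _).mul_right huy).eq
    apply hfix₁ u huD₁
    rw [mul_inv_eq_iff_eq_mul]; exact hux.symm
  have hlA : ∀ i, ln3 x y i ∈ A := ln3_mem A hxA hyA
  have hlne : ∀ i, ln3 x y i ≠ 1 := by
    intro i
    fin_cases i
    · exact hx1
    · show y ≠ 1
      intro h; apply hyx; rw [h]; exact one_mem _
    · show x * y ≠ 1
      intro h; apply hyx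
      have : y = x⁻¹ := eq_inv_of_mul_eq_one_right h
      rw [this]; exact inv_mem (mem_zpowers x)
    · show x ^ 2 * y ≠ 1
      intro h; apply hyx
      have : y = (x ^ 2)⁻¹ := eq_inv_of_mul_eq_one_right h
      rw [this]; exact inv_mem (pow_mem (mem_zpowers x) 2)
  have hzDi : ∀ i, z ∈ U ⊓ centralizer {ln3 x y i} := fun i =>
    mem_inf.mpr ⟨hzU, by rw [mem_centralizer_singleton_iff]; exact (ln3_comm hxz hyz i).symm⟩
  have huniq : ∀ i, ∀ u ∈ U ⊓ centralizer {ln3 x y i}, u * u = 1 → u = 1 ∨ u = z := by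
    intro i u hu huu
    by_cases h1 : u = 1
    · left; exact h1
    · right; exact hline _ (hlA i) (hlne i) u hu z (hzDi i) huu hzz h1 hzne
  have hzc : ∀ u ∈ U, u * z = z * u := by
    have : U ≤ centralizer {z} := by
      apply q8_gen3 hxy hxp hyp U hU hxU hyU
      intro i d hd
      rw [mem_centralizer_singleton_iff]
      have hdzd : d * z * d⁻¹ ∈ U ⊓ centralizer {ln3 x y i} :=
        mul_mem (mul_mem hd (hzDi i)) (inv_mem hd)
      have hsq : (d * z * d⁻¹) * (d * z * d⁻¹) = 1 := by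
        have : (d * z * d⁻¹) * (d * z * d⁻¹) = d * (z * z) * d⁻¹ := by group
        rw [this, hzz]; group
      rcases huniq i _ hdzd hsq with h1 | h1
      · exfalso; apply hzne
        have : z = d⁻¹ * (d * z * d⁻¹) * d := by group
        rw [this, h1]; group
      · rw [mul_inv_eq_iff_eq_mul] at h1; exact h1
    intro u hu
    exact mem_centralizer_singleton_iff.mp (this hu)
  have hZle : ∀ w : G, w = 1 ∨ w = z → w ∈ zpowers z := by
    rintro w (h | h) <;> rw [h]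
    · exact one_mem _
    · exact mem_zpowers z
  have hlineG : ∀ i : Fin 4, U ⊓ centralizer {ln3 x y i} ≤ zpowers z ∨
      QL (U ⊓ centralizer {ln3 x y i}) z := by
    intro i
    obtain ⟨Di, hDi⟩ : ∃ Di : Subgroup G, Di = U ⊓ centralizer {ln3 x y i} := ⟨_, rfl⟩
    rw [← hDi]
    by_cases hcen : ∀ d ∈ Di, x * d * x⁻¹ = d ∧ y * d * y⁻¹ = d
    · left
      intro d hd
      obtain ⟨h1, h2⟩ := hcen d hd
      apply hZle
      apply hmeet d (by rw [hDi] at hd; exact (mem_inf.mp hd).1)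
      · rw [mul_inv_eq_iff_eq_mul] at h1; exact h1.symm
      · rw [mul_inv_eq_iff_eq_mul] at h2; exact h2.symm
    · right
      push Not at hcen
      obtain ⟨d, hd, hdne⟩ := hcen
      have hext : ∃ t : G, t ^ 3 = 1 ∧ t ∈ normalizer (U : Set G) ∧
          t * ln3 x y i = ln3 x y i * t ∧ t * d * t⁻¹ ≠ d := by
        by_cases hx' : x * d * x⁻¹ = d
        · exact ⟨y, hyp, hyU, (ln3_comm hxy (rfl : y * y = y * y) i).symm, hdne hx'⟩
        · exact ⟨x, hxp, hxU, (ln3_comm (rfl : x * x = x * x) hxy.symm i).symm, hx'⟩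
      obtain ⟨t, ht3, htU, htl, htd⟩ := hext
      have htDi : ∀ e ∈ Di, t * e * t⁻¹ ∈ Di := by
        intro e he; rw [hDi] at he ⊢; exact q8_cen_conj_mem htU htl he
      have hDi2 : IsPGroup 2 Di := hU.to_le (by rw [hDi]; exact inf_le_left)
      have hui : ∀ u ∈ Di, ∀ v ∈ Di, u * u = 1 → v * v = 1 → u ≠ 1 → v ≠ 1 → u = v := by
        intro u hu v hv; rw [hDi] at hu hv; exact hline _ (hlA i) (hlne i) u hu v hv
      obtain ⟨hc8', hnonab'⟩ :=
        q8_card_eight hDi2 hui (q8_odd_of_pow_three ht3) htDi ⟨d, hd, htd⟩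
      exact ⟨hc8', by rw [hDi]; exact hzDi i, hzne, hzz,
        fun u hu huu => by rw [hDi] at hu; exact huniq i u hu huu, hnonab'⟩
  have hGood : Good x y z U :=
    ⟨hU, hxU, hyU, hzU, hzc, hlineG, fun u hu h1 h2 => hZle u (hmeet u hu h1 h2)⟩
  have hcomm := q8_comm_main hxy hxp hyp hzne hzz hxz hyz (Nat.card U) U rfl hGood
  have hZsub := fun c (hc : c ∈ zpowers z) => q8_mem_zpowers_inv hzz hc
  have hcen : ∀ u ∈ U, (∀ w ∈ U, u * w = w * u) → u = 1 ∨ u = z := by
    intro u hu huc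
    have hK : U ⊓ centralizer (U : Set G) ≤ zpowers z := by
      apply q8_gen3 hxy hxp hyp _ (hU.to_le inf_le_left)
        (q8_inf_centralizer_normalizer hxU hxU) (q8_inf_centralizer_normalizer hyU hyU)
      intro i w hw
      have hw2 := mem_inf.mp hw
      have hw3 := mem_inf.mp hw2.1
      have hwDi : w ∈ U ⊓ centralizer {ln3 x y i} := mem_inf.mpr ⟨hw3.1, hw2.2⟩
      rcases hlineG i with h1 | h1
      · exact h1 hwDi
      · apply hZle
        apply h1.center_sub hwDi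
        intro e he
        exact (mem_centralizer_iff.mp hw3.2 e (mem_inf.mp he).1).symm
    apply hZsub
    apply hK
    refine mem_inf.mpr ⟨hu, ?_⟩
    rw [mem_centralizer_iff]
    intro w hw; exact (huc w hw).symm
  have hZc : ∀ u ∈ U, ∀ c ∈ zpowers z, u * c = c * u := by
    intro u hu c hc
    obtain ⟨k, rfl⟩ := mem_zpowers_iff.mp hc
    exact ((show Commute u z from hzc u hu).zpow_right k).eq
  have hA : ∀ i j : Fin 4, U ⊓ centralizer {ln3 x y i} ≤
      q8YS U (U ⊓ centralizer {ln3 x y j}) (zpowers z) hZc := by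
    intro i j d hd
    refine ⟨(mem_inf.mp hd).1, fun e he => ?_⟩
    by_cases hij : i = j
    · subst hij
      rcases hlineG i with h1 | h1
      · have : ⁅d, e⁆ = 1 := by
          rw [commutatorElement_eq_one_iff_mul_comm]
          exact (hZc e (mem_inf.mp he).1 d (h1 hd)).symm
        rw [this]; exact one_mem _
      · exact hZle _ (h1.comm_mem hd he)
    · have : ⁅d, e⁆ = 1 := by
        rw [commutatorElement_eq_one_iff_mul_comm]
        exact hcomm i j hij d hd e he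
      rw [this]; exact one_mem _
  have hB : ∀ j : Fin 4, U ≤ q8YS U (U ⊓ centralizer {ln3 x y j}) (zpowers z) hZc := fun j =>
    q8_gen3 hxy hxp hyp U hU hxU hyU _ (fun i => hA i j)
  have hC : ∀ j : Fin 4, U ⊓ centralizer {ln3 x y j} ≤ q8YS U U (zpowers z) hZc := by
    intro j d hd
    refine ⟨(mem_inf.mp hd).1, fun w hw => ?_⟩
    have := (hB j hw).2 d hd
    rw [← commutatorElement_inv]
    exact inv_mem this
  have hDD : U ≤ q8YS U U (zpowers z) hZc := q8_gen3 hxy hxp hyp U hU hxU hyU _ hC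
  have h3 : ∀ u ∈ U, ∀ w ∈ U, ⁅u, w⁆ ∈ zpowers z := fun u hu w hw => (hDD hu).2 w hw
  have hsq : ∀ u ∈ U, u * u ∈ zpowers z := by
    have : U ≤ q8SQ U (zpowers z) h3 := by
      apply q8_gen3 hxy hxp hyp U hU hxU hyU
      intro i d hd
      refine ⟨(mem_inf.mp hd).1, ?_⟩
      rcases hlineG i with h1 | h1
      · exact mul_mem (h1 hd) (h1 hd)
      · by_cases hd1 : d = 1
        · rw [hd1, mul_one]; exact one_mem _
        · by_cases hdz : d = z
          · rw [hdz, hzz]; exact one_mem _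
          · rw [h1.sq hd hd1 hdz]; exact mem_zpowers z
    intro u hu; exact (this hu).2
  have hia : ∃ ia : Fin 4, t₁ = ln3 x y ia := by
    have hi : i₁.val = 0 ∨ i₁.val = 1 ∨ i₁.val = 2 := by
      have := ZMod.val_lt i₁; omega
    rcases hi with h | h | h
    · exact ⟨1, by rw [ht₁, h, pow_zero, one_mul]; rfl⟩
    · exact ⟨2, by rw [ht₁, h, pow_one]; rfl⟩
    · exact ⟨3, by rw [ht₁, h]; rfl⟩
  obtain ⟨ia, hia⟩ := hia
  have hQLa : QL (U ⊓ centralizer {ln3 x y ia}) z := by rw [← hia, ← hD₁]; exact hQL₁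
  have hexb : ∃ ib : Fin 4, ¬ (U ⊓ centralizer {ln3 x y ib} ≤ U ⊓ centralizer {ln3 x y ia}) := by
    by_contra hcon
    push Not at hcon
    have := q8_gen3 hxy hxp hyp U hU hxU hyU _ hcon
    exact hfaith _ (hlA ia) (hlne ia) (fun u hu => (mem_inf.mp (this hu)).2)
  obtain ⟨ib, hib⟩ := hexb
  have hba : ib ≠ ia := fun h => hib (by rw [h])
  have hQLb : QL (U ⊓ centralizer {ln3 x y ib}) z := by
    rcases hlineG ib with h1 | h1
    · exfalso; apply hib
      intro d hd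
      rcases hZsub _ (h1 hd) with h | h
      · rw [h]; exact one_mem _
      · rw [h]; exact hzDi ia
    · exact h1
  have hcardDi : ∀ i, Nat.card (U ⊓ centralizer {ln3 x y i} : Subgroup G) = 2 ∨
      Nat.card (U ⊓ centralizer {ln3 x y i} : Subgroup G) = 8 := by
    intro i
    rcases hlineG i with h1 | h1
    · left
      have : U ⊓ centralizer {ln3 x y i} = zpowers z :=
        le_antisymm h1 (by rw [zpowers_le]; exact hzDi i)
      rw [this, Nat.card_zpowers, hoz]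
    · right; exact h1.card
  have hZcard : Nat.card (zpowers z) = 2 := by rw [Nat.card_zpowers, hoz]
  have hstep : ∀ (H : Subgroup G) (j : Fin 4), zpowers z ≤ H →
      H ≤ centralizer ((U ⊓ centralizer {ln3 x y j} : Subgroup G) : Set G) →
      Nat.card (H ⊔ (U ⊓ centralizer {ln3 x y j}) : Subgroup G) * 2 =
        Nat.card H * Nat.card (U ⊓ centralizer {ln3 x y j} : Subgroup G) := by
    intro H j hZH hHc
    have hinf : H ⊓ (U ⊓ centralizer {ln3 x y j}) = zpowers z := by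
      apply le_antisymm
      · intro w hw
        have hw2 := mem_inf.mp hw
        rcases hlineG j with h1 | h1
        · exact h1 hw2.2
        · apply hZle
          apply h1.center_sub hw2.2
          intro e he
          exact (mem_centralizer_iff.mp (hHc hw2.1) e he).symm
      · exact le_inf hZH (by rw [zpowers_le]; exact hzDi j)
    have := q8_card_sup_comm H (U ⊓ centralizer {ln3 x y j})
      (fun h hh k hk => (mem_centralizer_iff.mp (hHc hh) k hk).symm)
    rw [hinf, hZcard] at this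
    exact this
  have hDc : ∀ i j : Fin 4, i ≠ j → U ⊓ centralizer {ln3 x y i} ≤
      centralizer ((U ⊓ centralizer {ln3 x y j} : Subgroup G) : Set G) := by
    intro i j hij d hd
    rw [mem_centralizer_iff]
    intro e he
    exact (hcomm i j hij d hd e he).symm
  have hZD : ∀ i : Fin 4, zpowers z ≤ U ⊓ centralizer {ln3 x y i} := fun i => by
    rw [zpowers_le]; exact hzDi i
  have s1 := hstep (U ⊓ centralizer {ln3 x y 0}) 1 (hZD 0) (hDc 0 1 (by decide))
  have s2 := hstep (U ⊓ centralizer {ln3 x y 0} ⊔ U ⊓ centralizer {ln3 x y 1}) 2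
    (le_sup_of_le_left (hZD 0)) (sup_le (hDc 0 2 (by decide)) (hDc 1 2 (by decide)))
  have s3 := hstep (U ⊓ centralizer {ln3 x y 0} ⊔ U ⊓ centralizer {ln3 x y 1} ⊔
      U ⊓ centralizer {ln3 x y 2}) 3
    (le_sup_of_le_left (le_sup_of_le_left (hZD 0)))
    (sup_le (sup_le (hDc 0 3 (by decide)) (hDc 1 3 (by decide))) (hDc 2 3 (by decide)))
  have hUeq : U ⊓ centralizer {ln3 x y 0} ⊔ U ⊓ centralizer {ln3 x y 1} ⊔
      U ⊓ centralizer {ln3 x y 2} ⊔ U ⊓ centralizer {ln3 x y 3} = U := by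
    apply le_antisymm
    · exact sup_le (sup_le (sup_le inf_le_left inf_le_left) inf_le_left) inf_le_left
    · apply q8_gen3 hxy hxp hyp U hU hxU hyU
      intro i
      fin_cases i
      · exact le_sup_of_le_left (le_sup_of_le_left le_sup_left)
      · exact le_sup_of_le_left (le_sup_of_le_left le_sup_right)
      · exact le_sup_of_le_left le_sup_right
      · exact le_sup_right
  rw [hUeq] at s3
  have h32 : 32 ≤ Nat.card U := by
    have s := hstep (U ⊓ centralizer {ln3 x y ia}) ib (hZD ia) (hDc ia ib hba.symm)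
    rw [hQLa.card, hQLb.card] at s
    have hle : Nat.card (U ⊓ centralizer {ln3 x y ia} ⊔ U ⊓ centralizer {ln3 x y ib} : Subgroup G)
        ≤ Nat.card U := Subgroup.card_le_of_le (sup_le inf_le_left inf_le_left)
    omega
  have hcU : Nat.card U = 2 ^ 5 ∨ Nat.card U = 2 ^ 7 ∨ Nat.card U = 2 ^ 9 := by
    have : Nat.card U = 32 ∨ Nat.card U = 128 ∨ Nat.card U = 512 := by
      rcases hcardDi 0 with h0 | h0 <;> rcases hcardDi 1 with h1 | h1 <;>
      rcases hcardDi 2 with h2 | h2 <;> rcases hcardDi 3 with h3' | h3' <;>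
      rw [h0, h1] at s1 <;> rw [h2] at s2 <;> rw [h3'] at s3 <;> omega
    rcases this with h | h | h <;> rw [h] <;> norm_num
  exact
    { zU := hzU
      zne := hzne
      zsq := hzz
      zc := hzc
      cen := hcen
      comm := fun u hu w hw => hZsub _ (h3 u hu w hw)
      sq := fun u hu => hZsub _ (hsq u hu)
      excomm := by
        obtain ⟨a, ha, b, hb, hab⟩ := hQL₁.exists_comm
        rw [hD₁] at ha hb
        exact ⟨a, (mem_inf.mp ha).1, b, (mem_inf.mp hb).1, hab⟩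
      card := hcU
      meet := hmeet
      two := ⟨ia, ib, hba.symm, hQLa, hQLb, hcomm ia ib hba.symm⟩ }

end Q8Top
end Cfsg.Agent.Lib.Helper20
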