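import Mathlib
import Cfsg.Agent.Lib.Helper20.Q8Like
import Cfsg.Agent.Lib.Helper20.Q8Induct
import Cfsg.Agent.Lib.Helper20.Q8Top

set_option linter.style.haveILetI false
set_option linter.unusedVariables false
set_option linter.unusedSectionVars false
set_option autoImplicit false

namespace Cfsg.Agent.Lib.Helper20
open scoped commutatorElement
open Subgroup

section Q8Ord
variable {G : Type*} [Group G]

theorem QL.cen_of_fix {D : Subgroup G} {z : G} (h : QL D z) {n : ℕ} {g : G}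
    (hg : g ^ (3 ^ n) = 1) (hn : ∀ d ∈ D, g * d * g⁻¹ ∈ D) {u : G} (hu : u ∈ D) (hu1 : u ≠ 1)
    (huz : u ≠ z) (hfix : g * u * g⁻¹ = u) : ∀ d ∈ D, g * d * g⁻¹ = d := by
  haveI := h.finite
  haveI : Fact (Nat.Prime 3) := ⟨Nat.prime_three⟩
  obtain ⟨F, hF⟩ : ∃ F : Subgroup G, F = D ⊓ centralizer {g} := ⟨_, rfl⟩
  have hmod : Nat.card D ≡ Nat.card F [MOD 3] := by
    rw [hF]; exact q8_card_modEq_fix (p := 3) (n := n) D g hg hn
  have hFD : F ≤ D := by rw [hF]; exact inf_le_left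
  have huF : u ∈ F := by
    rw [hF]; refine mem_inf.mpr ⟨hu, ?_⟩
    rw [mem_centralizer_singleton_iff]
    rw [mul_inv_eq_iff_eq_mul] at hfix; exact hfix.symm
  have h4 : 4 ∣ Nat.card F := by
    have := Subgroup.orderOf_dvd_natCard F huF
    rwa [h.orderOf_four hu hu1 huz] at this
  have hdvd : Nat.card F ∣ 8 := by rw [← h.card]; exact Subgroup.card_dvd_of_le hFD
  rw [h.card] at hmod
  have hF8 : Nat.card F = 8 := by
    have hle : Nat.card F ≤ 8 := Nat.le_of_dvd (by norm_num) hdvd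
    have hmod' : 8 % 3 = Nat.card F % 3 := hmod
    obtain ⟨m, hm⟩ := h4
    omega
  have hFeq : F = D := Subgroup.eq_of_le_of_card_ge hFD (by rw [hF8, h.card])
  intro d hd
  have hdF : d ∈ F := by rw [hFeq]; exact hd
  rw [hF] at hdF
  have := mem_centralizer_singleton_iff.mp (mem_inf.mp hdF).2
  rw [mul_inv_eq_iff_eq_mul]; exact this.symm

theorem q8_card_le_nine [Finite G] (U A : Subgroup G) (hA : IsPGroup 3 A) {x y z : G}
    (hAU : ∀ f ∈ A, f ∈ normalizer (U : Set G)) (hAx : ∀ f ∈ A, f * x = x * f)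
    (hAy : ∀ f ∈ A, f * y = y * f)
    (hline : ∀ t ∈ A, t ≠ 1 → ∀ u ∈ U ⊓ centralizer {t}, ∀ v ∈ U ⊓ centralizer {t},
      u * u = 1 → v * v = 1 → u ≠ 1 → v ≠ 1 → u = v)
    (hout : Q8Out x y U z) : Nat.card A ≤ 9 := by
  haveI : Fact (Nat.Prime 3) := ⟨Nat.prime_three⟩
  obtain ⟨i, j, hij, hQi, hQj, hcomm⟩ := hout.two
  obtain ⟨Di, hDi⟩ : ∃ Di : Subgroup G, Di = U ⊓ centralizer {ln3 x y i} := ⟨_, rfl⟩
  obtain ⟨Dj, hDj⟩ : ∃ Dj : Subgroup G, Dj = U ⊓ centralizer {ln3 x y j} := ⟨_, rfl⟩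
  rw [← hDi] at hQi
  rw [← hDj] at hQj
  rw [← hDi, ← hDj] at hcomm
  have hexu : ∀ {D : Subgroup G}, QL D z → ∃ u ∈ D, u ≠ 1 ∧ u ≠ z := by
    intro D hQ
    obtain ⟨a, ha, b, hb, hab⟩ := hQ.nonab
    refine ⟨a, ha, ?_, ?_⟩
    · intro h; apply hab; rw [h]; simp
    · intro h; apply hab; rw [h]; exact (hQ.zcomm hb).symm
  obtain ⟨u, hu, hu1, huz⟩ := hexu hQi
  obtain ⟨v, hv, hv1, hvz⟩ := hexu hQj
  have hADi : ∀ f ∈ A, ∀ d ∈ Di, f * d * f⁻¹ ∈ Di := by
    intro f hf d hd; rw [hDi] at hd ⊢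
    exact q8_cen_conj_mem (hAU f hf) (ln3_comm (hAx f hf).symm (hAy f hf).symm i).symm hd
  have hADj : ∀ f ∈ A, ∀ d ∈ Dj, f * d * f⁻¹ ∈ Dj := by
    intro f hf d hd; rw [hDj] at hd ⊢
    exact q8_cen_conj_mem (hAU f hf) (ln3_comm (hAx f hf).symm (hAy f hf).symm j).symm hd
  have hApow : ∀ f ∈ A, ∃ n : ℕ, f ^ (3 ^ n) = 1 := by
    intro f hf
    obtain ⟨n, hn⟩ := hA ⟨f, hf⟩
    exact ⟨n, congrArg Subtype.val hn⟩
  have hkey : ∀ g ∈ A, g * u * g⁻¹ = u → g * v * g⁻¹ = v → g = 1 := by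
    intro g hg hgu hgv
    by_contra hg1
    obtain ⟨n, hn⟩ := hApow g hg
    have hci := hQi.cen_of_fix hn (hADi g hg) hu hu1 huz hgu
    have hcj := hQj.cen_of_fix hn (hADj g hg) hv hv1 hvz hgv
    have huU : u ∈ U := by rw [hDi] at hu; exact (mem_inf.mp hu).1
    have hvU : v ∈ U := by rw [hDj] at hv; exact (mem_inf.mp hv).1
    have huv : u * v = v * u := hcomm u hu v hv
    have hgz : z * g = g * z := by
      have := hci z hQi.zmem; rw [mul_inv_eq_iff_eq_mul] at this; exact this.symm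
    have hguv : (u * v) * g = g * (u * v) := by
      have h1 : g * u = u * g := by rw [mul_inv_eq_iff_eq_mul] at hgu; exact hgu
      have h2 : g * v = v * g := by rw [mul_inv_eq_iff_eq_mul] at hgv; exact hgv
      calc u * v * g = u * (v * g) := mul_assoc _ _ _
        _ = u * (g * v) := by rw [h2]
        _ = (u * g) * v := (mul_assoc _ _ _).symm
        _ = (g * u) * v := by rw [h1]
        _ = g * (u * v) := mul_assoc _ _ _
    have hzm : z ∈ U ⊓ centralizer {g} :=
      mem_inf.mpr ⟨hout.zU, mem_centralizer_singleton_iff.mpr hgz⟩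
    have huvm : u * v ∈ U ⊓ centralizer {g} :=
      mem_inf.mpr ⟨U.mul_mem huU hvU, mem_centralizer_singleton_iff.mpr hguv⟩
    have huvsq : (u * v) * (u * v) = 1 := by
      have e1 : (u * v) * (u * v) = u * (v * u) * v := by group
      rw [e1, ← huv]
      have e2 : u * (u * v) * v = (u * u) * (v * v) := by group
      rw [e2, hQi.sq hu hu1 huz, hQj.sq hv hv1 hvz, hout.zsq]
    have hvc : ∀ w ∈ Di, w ∈ Dj → w = 1 ∨ w = z := by
      intro w hwi hwj
      apply hQj.center_sub hwj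
      intro e he
      exact hcomm w hwi e he
    have huv1 : u * v ≠ 1 := by
      intro h
      have : v = u⁻¹ := eq_inv_of_mul_eq_one_right h
      have hvi : v ∈ Di := by rw [this]; exact Di.inv_mem hu
      rcases hvc v hvi hv with h' | h'
      · exact hv1 h'
      · exact hvz h'
    have huvz : u * v ≠ z := by
      intro h
      have : v = u⁻¹ * z := by rw [← h]; group
      have hvi : v ∈ Di := by rw [this]; exact Di.mul_mem (Di.inv_mem hu) hQi.zmem
      rcases hvc v hvi hv with h' | h'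
      · exact hv1 h'
      · exact hvz h'
    have := hline g hg hg1 z hzm (u * v) huvm hout.zsq huvsq hout.zne huv1
    exact huvz this.symm
  letI : MulAction A G := MulAction.compHom G ((MulAut.conj : G →* MulAut G).comp A.subtype)
  have hsmul : ∀ (f : A) (g : G), f • g = (f : G) * g * (f : G)⁻¹ := fun f g => rfl
  have horb : ∀ (D : Subgroup G) (w : G), QL D z → w ∈ D →
      (∀ f ∈ A, ∀ d ∈ D, f * d * f⁻¹ ∈ D) → Nat.card (MulAction.orbit A w) ≤ 3 := by
    intro D w hQ hw hAD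
    obtain ⟨n, hn⟩ := hA.card_orbit w
    have hsub : MulAction.orbit A w ⊆ (D : Set G) := by
      rintro _ ⟨f, rfl⟩
      show f • w ∈ D
      rw [hsmul]; exact hAD f f.2 w hw
    have hle : Nat.card (MulAction.orbit A w) ≤ 8 := by
      rw [← hQ.card]
      exact Nat.card_mono (Set.toFinite _) hsub
    rw [hn] at hle ⊢
    have hn1 : n ≤ 1 := by
      by_contra h
      have h2 : 2 ≤ n := by omega
      have : 3 ^ 2 ≤ 3 ^ n := Nat.pow_le_pow_right (by norm_num) h2
      omega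
    interval_cases n <;> norm_num
  have hinj : Function.Injective (fun f : A =>
      ((⟨f • u, MulAction.mem_orbit u f⟩ : MulAction.orbit A u),
        (⟨f • v, MulAction.mem_orbit v f⟩ : MulAction.orbit A v))) := by
    intro f f' hff
    have h1 : f • u = f' • u := congrArg (fun q => (q.1 : G)) hff
    have h2 : f • v = f' • v := congrArg (fun q => (q.2 : G)) hff
    rw [hsmul, hsmul] at h1 h2
    have hg : (f' : G)⁻¹ * f ∈ A := A.mul_mem (A.inv_mem f'.2) f.2
    have h3 : (f' : G)⁻¹ * f = 1 := by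
      apply hkey _ hg
      · have e : (f' : G)⁻¹ * f * u * ((f' : G)⁻¹ * f)⁻¹ =
            (f' : G)⁻¹ * ((f : G) * u * (f : G)⁻¹) * f' := by group
        rw [e, h1]; group
      · have e : (f' : G)⁻¹ * f * v * ((f' : G)⁻¹ * f)⁻¹ =
            (f' : G)⁻¹ * ((f : G) * v * (f : G)⁻¹) * f' := by group
        rw [e, h2]; group
    apply Subtype.ext
    exact (inv_mul_eq_one.mp h3).symm
  have hcard := Nat.card_le_card_of_injective _ hinj
  rw [Nat.card_prod] at hcard
  calc Nat.card A ≤ Nat.card (MulAction.orbit A u) * Nat.card (MulAction.orbit A v) := hcard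
    _ ≤ 3 * 3 := Nat.mul_le_mul (horb Di u hQi hu hADi) (horb Dj v hQj hv hADj)

end Q8Ord
end Cfsg.Agent.Lib.Helper20
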