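import Mathlib
import Cfsg.Prelude.Def_Transfer
import Cfsg.Agent.Lib.Helper16.Frattini2
import Cfsg.Agent.Lib.Helper4.CoprimeDerived
import Cfsg.Agent.Lib.Helper12.Generation
import Cfsg.Agent.Lib.Helper20.Q8Top
import Cfsg.Agent.Lib.Helper20.Q8Ord

set_option linter.style.haveILetI false
set_option linter.unusedVariables false
set_option linter.unusedSectionVars false
set_option autoImplicit false

namespace Cfsg.Agent.Lib.Helper20
open scoped commutatorElement
open Subgroup

section Q8Hol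
variable {W : Type*} [Group W]

/-- the holomorph of `W` -/
abbrev Q8Hol (W : Type*) [Group W] := W ⋊[MonoidHom.id (MulAut W)] MulAut W

def q8inl : W →* Q8Hol W := SemidirectProduct.inl
def q8inr : MulAut W →* Q8Hol W := SemidirectProduct.inr

theorem q8inl_injective : Function.Injective (q8inl : W →* Q8Hol W) :=
  SemidirectProduct.inl_injective

theorem q8inr_injective : Function.Injective (q8inr : MulAut W →* Q8Hol W) :=
  SemidirectProduct.inr_injective

theorem q8_conj (e : MulAut W) (w : W) :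
    q8inr e * q8inl w * (q8inr e)⁻¹ = q8inl (e w) := by
  rw [← map_inv]
  exact (SemidirectProduct.inl_aut (φ := MonoidHom.id (MulAut W)) e w).symm

theorem q8_comm_iff (e : MulAut W) (w : W) :
    q8inl w * q8inr e = q8inr e * q8inl w ↔ e w = w := by
  constructor
  · intro h
    apply q8inl_injective
    rw [← q8_conj, ← h, mul_inv_cancel_right]
  · intro h
    have := q8_conj e w
    rw [h, mul_inv_eq_iff_eq_mul] at this
    exact this.symm

/-- the element-level description of an extraspecial 2-group with centre `⟨z₀⟩` -/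
structure Q8W (W : Type*) [Group W] (z₀ : W) : Prop where
  zne : z₀ ≠ 1
  zsq : z₀ * z₀ = 1
  zc : ∀ w : W, w * z₀ = z₀ * w
  cen : ∀ w : W, (∀ w' : W, w * w' = w' * w) → w = 1 ∨ w = z₀
  comm : ∀ w w' : W, ⁅w, w'⁆ = 1 ∨ ⁅w, w'⁆ = z₀
  sq : ∀ w : W, w * w = 1 ∨ w * w = z₀
  excomm : ∃ a b : W, ⁅a, b⁆ = z₀
  card : Nat.card W = 2 ^ 5 ∨ Nat.card W = 2 ^ 7 ∨ Nat.card W = 2 ^ 9

theorem q8_hol [Finite W] (hW : IsPGroup 2 W) {p : ℕ} [Fact p.Prime] (hp : p ≠ 2)
    (E : Subgroup (MulAut W)) (hE : IsPGroup p E) (hab : ∀ a ∈ E, ∀ b ∈ E, a * b = b * a)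
    (hnc : ¬ IsCyclic E)
    (hfix : ∀ e ∈ E, e ≠ 1 → ∀ x y : W, orderOf x = 2 → orderOf y = 2 → e x = x → e y = y →
      x = y) :
    Nat.card E = 9 ∧ ∃ z₀ : W, Q8W W z₀ ∧ ∀ w : W, (∀ e ∈ E, e w = w) → w = 1 ∨ w = z₀ := by
  classical
  have hpp : p.Prime := Fact.out
  haveI : Finite (Q8Hol W) := Finite.of_equiv _ SemidirectProduct.equivProd.symm
  -- two independent elements of order p
  obtain ⟨f₁, f₂, hf₁E, hf₂E, hf₁p, hf₂p, hf₁ne, hindep⟩ : ∃ f₁ f₂ : MulAut W, f₁ ∈ E ∧ f₂ ∈ E ∧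
      f₁ ^ p = 1 ∧ f₂ ^ p = 1 ∧ f₁ ≠ 1 ∧ ∀ k : ℤ, f₁ ^ k ≠ f₂ := by
    letI : CommGroup E :=
      { (inferInstance : Group E) with mul_comm := fun a b => Subtype.ext (hab a a.2 b b.2) }
    obtain ⟨p', hp', e₁, e₂, h1, h2, h3, h4⟩ :=
      Cfsg.Agent.Lib.Helper12.exists_rank_two (H := E) hnc
    have h1' : (e₁ : MulAut W) ^ p' = 1 := congrArg Subtype.val h1
    have h2' : (e₂ : MulAut W) ^ p' = 1 := congrArg Subtype.val h2
    have h3' : (e₁ : MulAut W) ≠ 1 := fun h => h3 (Subtype.ext h)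
    haveI : Fact p'.Prime := ⟨hp'⟩
    have ho : orderOf (e₁ : MulAut W) = p' := orderOf_eq_prime h1' h3'
    obtain ⟨k, hk⟩ := hE e₁
    have hk' : (e₁ : MulAut W) ^ (p ^ k) = 1 := congrArg Subtype.val hk
    have hdvd : p' ∣ p ^ k := by rw [← ho]; exact orderOf_dvd_of_pow_eq_one hk'
    have hpp' : p' = p := (Nat.prime_dvd_prime_iff_eq hp' hpp).mp (hp'.dvd_of_dvd_pow hdvd)
    subst hpp'
    refine ⟨e₁, e₂, e₁.2, e₂.2, h1', h2', h3', ?_⟩
    intro k hk
    apply h4
    rw [Subgroup.mem_zpowers_iff]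
    exact ⟨k, Subtype.ext hk⟩
  obtain ⟨x, hx⟩ : ∃ x : Q8Hol W, x = q8inr f₁ := ⟨_, rfl⟩
  obtain ⟨y, hy⟩ : ∃ y : Q8Hol W, y = q8inr f₂ := ⟨_, rfl⟩
  obtain ⟨U, hUdef⟩ : ∃ U : Subgroup (Q8Hol W), U = (q8inl : W →* Q8Hol W).range := ⟨_, rfl⟩
  obtain ⟨A, hAdef⟩ : ∃ A : Subgroup (Q8Hol W), A = E.map q8inr := ⟨_, rfl⟩
  have hmemU : ∀ u, u ∈ U ↔ ∃ w : W, q8inl w = u := by
    intro u; rw [hUdef]; exact MonoidHom.mem_range
  have hmemA : ∀ t, t ∈ A ↔ ∃ e ∈ E, q8inr e = t := by
    intro t; rw [hAdef]; exact Subgroup.mem_map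
  have hU : IsPGroup 2 U := by
    rw [hUdef]
    exact IsPGroup.of_surjective hW (q8inl : W →* Q8Hol W).rangeRestrict
      (q8inl : W →* Q8Hol W).rangeRestrict_surjective
  have hnormU : ∀ e : MulAut W, q8inr e ∈ normalizer (U : Set (Q8Hol W)) := by
    intro e
    apply Subgroup.mem_normalizer_fintype
    intro n hn
    obtain ⟨w, rfl⟩ := (hmemU n).mp hn
    rw [q8_conj]
    exact (hmemU _).mpr ⟨_, rfl⟩
  have hxU : x ∈ normalizer (U : Set (Q8Hol W)) := by rw [hx]; exact hnormU f₁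
  have hyU : y ∈ normalizer (U : Set (Q8Hol W)) := by rw [hy]; exact hnormU f₂
  have hxy : x * y = y * x := by
    rw [hx, hy, ← map_mul, ← map_mul, hab f₁ hf₁E f₂ hf₂E]
  have hxp : x ^ p = 1 := by rw [hx, ← map_pow, hf₁p, map_one]
  have hyp : y ^ p = 1 := by rw [hy, ← map_pow, hf₂p, map_one]
  have hxA : x ∈ A := (hmemA x).mpr ⟨f₁, hf₁E, hx.symm⟩
  have hyA : y ∈ A := (hmemA y).mpr ⟨f₂, hf₂E, hy.symm⟩
  have hx1 : x ≠ 1 := by
    intro h
    apply hf₁ne
    apply q8inr_injective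
    rw [← hx, h, map_one]
  have hyx : y ∉ zpowers x := by
    intro h
    obtain ⟨k, hk⟩ := mem_zpowers_iff.mp h
    apply hindep k
    apply q8inr_injective
    rw [map_zpow, ← hx, ← hy]; exact hk
  have hline : ∀ t ∈ A, t ≠ 1 → ∀ u ∈ U ⊓ centralizer {t}, ∀ v ∈ U ⊓ centralizer {t},
      u * u = 1 → v * v = 1 → u ≠ 1 → v ≠ 1 → u = v := by
    intro t ht ht1 u hu v hv huu hvv hu1 hv1
    obtain ⟨e, heE, rfl⟩ := (hmemA t).mp ht
    have hene : e ≠ 1 := by
      intro h; apply ht1; rw [h, map_one]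
    have hu' := mem_inf.mp hu
    have hv' := mem_inf.mp hv
    obtain ⟨w₁, rfl⟩ := (hmemU u).mp hu'.1
    obtain ⟨w₂, rfl⟩ := (hmemU v).mp hv'.1
    have hf1 : e w₁ = w₁ := (q8_comm_iff e w₁).mp (mem_centralizer_singleton_iff.mp hu'.2)
    have hf2 : e w₂ = w₂ := (q8_comm_iff e w₂).mp (mem_centralizer_singleton_iff.mp hv'.2)
    haveI : Fact (Nat.Prime 2) := ⟨Nat.prime_two⟩
    have ho : ∀ w : W, (q8inl w : Q8Hol W) * q8inl w = 1 → (q8inl w : Q8Hol W) ≠ 1 →
        orderOf w = 2 := by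
      intro w hww hw1
      apply orderOf_eq_prime
      · apply q8inl_injective
        rw [map_pow, map_one, pow_two]; exact hww
      · intro h; apply hw1; rw [h, map_one]
    rw [hfix e heE hene w₁ w₂ (ho w₁ huu hu1) (ho w₂ hvv hv1) hf1 hf2]
  have hfaith : ∀ t ∈ A, t ≠ 1 → ¬ U ≤ centralizer {t} := by
    intro t ht ht1 hle
    obtain ⟨e, heE, rfl⟩ := (hmemA t).mp ht
    apply ht1
    have : e = 1 := by
      apply MulEquiv.ext
      intro w
      have h1 := hle ((hmemU (q8inl w)).mpr ⟨w, rfl⟩)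
      exact (q8_comm_iff e w).mp (mem_centralizer_singleton_iff.mp h1)
    rw [this, map_one]
  obtain ⟨hp3, z, hout⟩ :=
    q8_top hp U A hU hxU hyU hxy hxp hyp hxA hyA hx1 hyx hline hfaith
  subst hp3
  obtain ⟨z₀, hz₀⟩ := (hmemU z).mp hout.zU
  have hinl1 : ∀ w : W, (q8inl w : Q8Hol W) = 1 → w = 1 := by
    intro w h; apply q8inl_injective; rw [h, map_one]
  have hcases : ∀ w : W, ((q8inl w : Q8Hol W) = 1 ∨ (q8inl w : Q8Hol W) = z) → w = 1 ∨ w = z₀ := by
    rintro w (h | h)
    · left; exact hinl1 w h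
    · right; apply q8inl_injective; rw [h, hz₀]
  have hinlU : ∀ w : W, (q8inl w : Q8Hol W) ∈ U := fun w => (hmemU _).mpr ⟨w, rfl⟩
  -- order of E
  have hcardE : Nat.card E = 9 := by
    have hA3 : IsPGroup 3 A := by rw [hAdef]; exact hE.map q8inr
    have hAU : ∀ f ∈ A, f ∈ normalizer (U : Set (Q8Hol W)) := by
      intro f hf
      obtain ⟨e, heE, rfl⟩ := (hmemA f).mp hf
      exact hnormU e
    have hAx : ∀ f ∈ A, f * x = x * f := by
      intro f hf
      obtain ⟨e, heE, rfl⟩ := (hmemA f).mp hf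
      rw [hx, ← map_mul, ← map_mul, hab e heE f₁ hf₁E]
    have hAy : ∀ f ∈ A, f * y = y * f := by
      intro f hf
      obtain ⟨e, heE, rfl⟩ := (hmemA f).mp hf
      rw [hy, ← map_mul, ← map_mul, hab e heE f₂ hf₂E]
    have hle9 := q8_card_le_nine U A hA3 hAU hAx hAy hline hout
    have hAE : Nat.card A = Nat.card E := by
      rw [hAdef]; exact Subgroup.card_map_of_injective q8inr_injective
    rw [hAE] at hle9
    obtain ⟨k, hk⟩ := IsPGroup.iff_card.mp hE
    have hk2 : 2 ≤ k := by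
      by_contra hlt
      apply hnc
      have hk01 : k = 0 ∨ k = 1 := by omega
      rcases hk01 with h0 | h1
      · rw [h0, pow_zero] at hk
        haveI : Subsingleton E := (Nat.card_eq_one_iff_unique.mp hk).1
        exact isCyclic_of_subsingleton
      · rw [h1, pow_one] at hk
        exact isCyclic_of_prime_card hk
    have : 3 ^ 2 ≤ 3 ^ k := Nat.pow_le_pow_right (by norm_num) hk2
    omega
  refine ⟨hcardE, z₀, ?_, ?_⟩
  · exact
    { zne := by
        intro h; apply hout.zne; rw [← hz₀, h, map_one]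
      zsq := by
        apply q8inl_injective
        rw [map_mul, map_one, hz₀]; exact hout.zsq
      zc := by
        intro w
        apply q8inl_injective
        rw [map_mul, map_mul, hz₀]; exact hout.zc _ (hinlU w)
      cen := by
        intro w hw
        apply hcases
        apply hout.cen _ (hinlU w)
        intro u hu
        obtain ⟨w', rfl⟩ := (hmemU u).mp hu
        rw [← map_mul, ← map_mul, hw w']
      comm := by
        intro w w'
        apply hcases
        rw [map_commutatorElement]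
        exact hout.comm _ (hinlU w) _ (hinlU w')
      sq := by
        intro w
        apply hcases
        rw [map_mul]
        exact hout.sq _ (hinlU w)
      excomm := by
        obtain ⟨a, ha, b, hb, hab'⟩ := hout.excomm
        obtain ⟨a', rfl⟩ := (hmemU a).mp ha
        obtain ⟨b', rfl⟩ := (hmemU b).mp hb
        refine ⟨a', b', ?_⟩
        apply q8inl_injective
        rw [map_commutatorElement, hab', hz₀]
      card := by
        have : Nat.card W = Nat.card U := by
          rw [hUdef]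
          exact Nat.card_congr (MonoidHom.ofInjective q8inl_injective).toEquiv
        rw [this]; exact hout.card }
  · intro w hw
    apply hcases
    apply hout.meet _ (hinlU w)
    · rw [hx]; exact (q8_comm_iff f₁ w).mpr (hw f₁ hf₁E)
    · rw [hy]; exact (q8_comm_iff f₂ w).mpr (hw f₂ hf₂E)

theorem q8_extraspecial [Finite W] (hW : IsPGroup 2 W) {z₀ : W} (h : Q8W W z₀) :
    Cfsg.IsExtraspecial 2 W ∧ Subgroup.center W = zpowers z₀ := by
  haveI : Fact (Nat.Prime 2) := ⟨Nat.prime_two⟩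
  have hmemZ : ∀ w : W, w ∈ zpowers z₀ ↔ w = 1 ∨ w = z₀ := by
    intro w
    constructor
    · exact q8_mem_zpowers_inv h.zsq
    · rintro (h1 | h1) <;> rw [h1]
      · exact one_mem _
      · exact mem_zpowers z₀
  have hcenter : Subgroup.center W = zpowers z₀ := by
    apply le_antisymm
    · intro w hw
      rw [hmemZ]
      apply h.cen
      intro w'
      exact ((Subgroup.mem_center_iff.mp hw) w').symm
    · rw [zpowers_le, Subgroup.mem_center_iff]
      intro g; exact h.zc g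
  have hoz : orderOf z₀ = 2 := orderOf_eq_prime (by rw [pow_two]; exact h.zsq) h.zne
  have hcomm : commutator W = zpowers z₀ := by
    apply le_antisymm
    · rw [commutator_def, Subgroup.commutator_le]
      intro a _ b _
      rw [hmemZ]; exact h.comm a b
    · rw [zpowers_le]
      obtain ⟨a, b, hab⟩ := h.excomm
      rw [← hab, commutator_def]
      exact Subgroup.commutator_mem_commutator (mem_top a) (mem_top b)
  have hfrat : frattini W = zpowers z₀ := by
    apply le_antisymm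
    · apply Cfsg.Agent.Lib.Helper16.frattini_le_of_forall (p := 2) (zpowers z₀)
      · intro a b; rw [hmemZ]; exact h.comm a b
      · intro a; rw [hmemZ, pow_two]; exact h.sq a
    · rw [← hcomm]
      exact Cfsg.Agent.Lib.Helper4.commutator_le_frattini hW
  refine ⟨⟨⟨hW, ?_, ?_⟩, ?_⟩, hcenter⟩
  · rw [hfrat, hcenter]
  · rw [hcomm, hcenter]
  · rw [hcenter, Nat.card_zpowers, hoz]

end Q8Hol
end Cfsg.Agent.Lib.Helper20
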