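import Mathlib

/-!
Combinatorial Schur-ring argument for permutation groups of `ZMod n` containing all translations:
Burnside–Schur: if such a group is primitive and `n` is composite, it is doubly transitive.
-/

namespace Cfsg.Agent.Lib.Helper20

namespace SR

open scoped Classical
open AddMonoidAlgebra

variable {n : ℕ} [NeZero n]

/-- the group contains all translations -/
def HasTrans (G : Subgroup (Equiv.Perm (ZMod n))) : Prop :=
  ∀ a : ZMod n, Equiv.addLeft a ∈ G

/-- the orbit relation of the stabilizer of `0` -/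
def Rel (G : Subgroup (Equiv.Perm (ZMod n))) (x y : ZMod n) : Prop :=
  ∃ g ∈ G, g 0 = 0 ∧ g x = y

variable {G : Subgroup (Equiv.Perm (ZMod n))}

theorem Rel.refl (x : ZMod n) : Rel G x x := ⟨1, G.one_mem, rfl, rfl⟩

theorem Rel.symm {x y : ZMod n} (h : Rel G x y) : Rel G y x := by
  obtain ⟨g, hg, h0, hx⟩ := h
  refine ⟨g⁻¹, G.inv_mem hg, ?_, ?_⟩
  · rw [Equiv.Perm.inv_eq_iff_eq]; exact h0.symm
  · rw [Equiv.Perm.inv_eq_iff_eq]; exact hx.symm

theorem Rel.trans {x y z : ZMod n} (h1 : Rel G x y) (h2 : Rel G y z) : Rel G x z := by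
  obtain ⟨g, hg, h0, hx⟩ := h1
  obtain ⟨g', hg', h0', hx'⟩ := h2
  refine ⟨g' * g, G.mul_mem hg' hg, ?_, ?_⟩
  · rw [Equiv.Perm.mul_apply, h0, h0']
  · rw [Equiv.Perm.mul_apply, hx, hx']

theorem Rel.zero_left {y : ZMod n} (h : Rel G 0 y) : y = 0 := by
  obtain ⟨g, -, h0, hx⟩ := h
  rw [← hx, h0]

theorem Rel.zero_right {x : ZMod n} (h : Rel G x 0) : x = 0 := h.symm.zero_left

/-- orbitals are translation invariant -/
theorem rel_sub (hG : HasTrans G) {g : Equiv.Perm (ZMod n)} (hg : g ∈ G) (x y : ZMod n) :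
    Rel G (y - x) (g y - g x) := by
  refine ⟨Equiv.addLeft (-(g x)) * g * Equiv.addLeft x,
    G.mul_mem (G.mul_mem (hG _) hg) (hG _), ?_, ?_⟩
  · simp
  · simp only [Equiv.Perm.mul_apply, Equiv.coe_addLeft]
    rw [add_sub_cancel]
    ring

/-- invariant sets (unions of basic sets) -/
def InvSet (G : Subgroup (Equiv.Perm (ZMod n))) (T : Finset (ZMod n)) : Prop :=
  ∀ x ∈ T, ∀ y, Rel G x y → y ∈ T

/-- the basic set of `x` -/
noncomputable def cls (G : Subgroup (Equiv.Perm (ZMod n))) (x : ZMod n) : Finset (ZMod n) :=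
  Finset.univ.filter (fun y => Rel G x y)

theorem mem_cls {x y : ZMod n} : y ∈ cls G x ↔ Rel G x y := by
  simp [cls]

theorem self_mem_cls (x : ZMod n) : x ∈ cls G x := mem_cls.mpr (Rel.refl x)

theorem invSet_cls (x : ZMod n) : InvSet G (cls G x) := by
  intro y hy z hyz
  rw [mem_cls] at hy ⊢
  exact hy.trans hyz

theorem cls_subset {T : Finset (ZMod n)} (hT : InvSet G T) {x : ZMod n} (hx : x ∈ T) :
    cls G x ⊆ T := by
  intro y hy
  exact hT x hx y (mem_cls.mp hy)

theorem cls_zero : cls G (0 : ZMod n) = {0} := by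
  ext y
  rw [mem_cls, Finset.mem_singleton]
  constructor
  · intro h; exact h.zero_left
  · rintro rfl; exact Rel.refl 0

theorem cls_eq_of_rel {x y : ZMod n} (h : Rel G x y) : cls G x = cls G y := by
  ext z
  rw [mem_cls, mem_cls]
  exact ⟨fun hz => h.symm.trans hz, fun hz => h.trans hz⟩

theorem zero_notMem_cls {x : ZMod n} (hx : x ≠ 0) : (0 : ZMod n) ∉ cls G x := by
  intro h
  exact hx (mem_cls.mp h).zero_right

/-- structure constants are constant on basic sets (one inequality) -/
theorem card_filter_le (hG : HasTrans G) {S T : Finset (ZMod n)} (hS : InvSet G S)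
    (hT : InvSet G T) {s s' : ZMod n} (h : Rel G s s') :
    (S.filter (fun a => s - a ∈ T)).card ≤ (S.filter (fun a => s' - a ∈ T)).card := by
  obtain ⟨g, hg, h0, hs⟩ := h
  apply Finset.card_le_card_of_injOn (fun a => g a)
  · intro a ha
    have ha' := Finset.mem_coe.mp ha
    rw [Finset.mem_filter] at ha'
    apply Finset.mem_coe.mpr
    rw [Finset.mem_filter]
    refine ⟨hS a ha'.1 _ ⟨g, hg, h0, rfl⟩, ?_⟩
    have := rel_sub hG hg a s
    rw [hs] at this
    exact hT _ ha'.2 _ this
  · intro a _ b _ hab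
    exact g.injective hab

theorem card_filter_eq (hG : HasTrans G) {S T : Finset (ZMod n)} (hS : InvSet G S)
    (hT : InvSet G T) {s s' : ZMod n} (h : Rel G s s') :
    (S.filter (fun a => s - a ∈ T)).card = (S.filter (fun a => s' - a ∈ T)).card :=
  le_antisymm (card_filter_le hG hS hT h) (card_filter_le hG hS hT h.symm)

section frob

variable (q : ℕ) [hq : Fact q.Prime]

theorem charP_alg : CharP ((ZMod q)[ZMod n]) q :=
  charP_of_injective_ringHom (f := (singleZeroRingHom : ZMod q →+* (ZMod q)[ZMod n]))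
    (fun a b h => single_right_injective (M := ZMod n) (R := ZMod q) (m := (0 : ZMod n)) h) q

/-- invariant elements of the group algebra -/
def InvEl (G : Subgroup (Equiv.Perm (ZMod n))) (f : (ZMod q)[ZMod n]) : Prop :=
  ∀ x y, Rel G x y → f.coeff x = f.coeff y

/-- indicator element -/
noncomputable def ind (T : Finset (ZMod n)) : (ZMod q)[ZMod n] := ∑ t ∈ T, single t 1

theorem coeff_ind (T : Finset (ZMod n)) (s : ZMod n) :
    (ind q T).coeff s = if s ∈ T then 1 else 0 := by
  unfold ind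
  rw [coeff_sum, Finsupp.finset_sum_apply]
  simp only [coeff_single, Finsupp.single_apply]
  rw [Finset.sum_ite_eq']

theorem coeff_mul_univ (x y : (ZMod q)[ZMod n]) (s : ZMod n) :
    (x * y).coeff s = ∑ h : ZMod n, x.coeff h * y.coeff (-h + s) := by
  rw [coeff_mul_apply_left, Finsupp.sum_fintype]
  intro i
  rw [zero_mul]

variable {q}

theorem InvEl.mul (hG : HasTrans G) {x y : (ZMod q)[ZMod n]} (hx : InvEl q G x)
    (hy : InvEl q G y) : InvEl q G (x * y) := by
  intro s s' h
  obtain ⟨g, hg, h0, hs⟩ := h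
  rw [coeff_mul_univ, coeff_mul_univ]
  rw [← Equiv.sum_comp g (fun h => x.coeff h * y.coeff (-h + s'))]
  apply Finset.sum_congr rfl
  intro a _
  have h1 : x.coeff a = x.coeff (g a) := hx _ _ ⟨g, hg, h0, rfl⟩
  have h2 : y.coeff (-a + s) = y.coeff (-(g a) + s') := by
    apply hy
    have := rel_sub hG hg a s
    rw [hs] at this
    rw [neg_add_eq_sub, neg_add_eq_sub]
    exact this
  rw [h1, h2]

theorem InvEl.one : InvEl q G (1 : (ZMod q)[ZMod n]) := by
  intro x y h
  rw [one_def, coeff_single, Finsupp.single_apply, Finsupp.single_apply]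
  by_cases hx : x = 0
  · rw [hx] at h
    rw [hx, h.zero_left]
  · have hy : y ≠ 0 := fun e => hx (by rw [e] at h; exact h.zero_right)
    rw [if_neg (Ne.symm hx), if_neg (Ne.symm hy)]

theorem InvEl.pow (hG : HasTrans G) {x : (ZMod q)[ZMod n]} (hx : InvEl q G x) (k : ℕ) :
    InvEl q G (x ^ k) := by
  induction k with
  | zero => rw [pow_zero]; exact InvEl.one
  | succ k ih => rw [pow_succ]; exact ih.mul hG hx

theorem invEl_ind {T : Finset (ZMod n)} (hT : InvSet G T) : InvEl q G (ind q T) := by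
  intro x y h
  rw [coeff_ind, coeff_ind]
  by_cases hx : x ∈ T
  · rw [if_pos hx, if_pos (hT x hx y h)]
  · have hy : y ∉ T := fun hy => hx (hT y hy x h.symm)
    rw [if_neg hx, if_neg hy]

/-- Frobenius: the coefficient of `s` in `(ind T)^q` counts the `t ∈ T` with `q • t = s`. -/
theorem coeff_ind_pow (T : Finset (ZMod n)) (s : ZMod n) :
    ((ind q T) ^ q).coeff s = ((T.filter (fun t => q • t = s)).card : ZMod q) := by
  haveI := charP_alg (n := n) q
  unfold ind
  rw [sum_pow_char]
  simp only [single_pow, one_pow]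
  rw [coeff_sum, Finsupp.finset_sum_apply]
  simp only [coeff_single, Finsupp.single_apply]
  rw [Finset.card_filter, Nat.cast_sum]
  apply Finset.sum_congr rfl
  intro t _
  by_cases h : q • t = s
  · rw [if_pos h, if_pos h, Nat.cast_one]
  · rw [if_neg h, if_neg h, Nat.cast_zero]

/-- Schur's lemma: the counts `#{t ∈ T : q t = s}` mod `q` are constant on basic sets. -/
theorem count_mod_const (hG : HasTrans G) {T : Finset (ZMod n)} (hT : InvSet G T)
    {s s' : ZMod n} (h : Rel G s s') :
    ((T.filter (fun t => q • t = s)).card : ZMod q) =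
      ((T.filter (fun t => q • t = s')).card : ZMod q) := by
  rw [← coeff_ind_pow, ← coeff_ind_pow]
  exact (invEl_ind hT).pow hG q s s' h

end frob

section mult

/-- multiplication of a set by a natural number -/
noncomputable def mulN (k : ℕ) (T : Finset (ZMod n)) : Finset (ZMod n) :=
  T.image (fun t => (k : ZMod n) * t)

theorem mem_mulN {k : ℕ} {T : Finset (ZMod n)} {y : ZMod n} :
    y ∈ mulN k T ↔ ∃ t ∈ T, (k : ZMod n) * t = y := by
  simp [mulN]

theorem mul_injective_of_coprime {k : ℕ} (hk : k.Coprime n) :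
    Function.Injective (fun t : ZMod n => (k : ZMod n) * t) := by
  have hu : IsUnit (k : ZMod n) := (ZMod.isUnit_iff_coprime k n).mpr hk
  intro a b hab
  exact hu.mul_left_cancel hab

theorem card_mulN {k : ℕ} (hk : k.Coprime n) (T : Finset (ZMod n)) :
    (mulN k T).card = T.card :=
  Finset.card_image_of_injective _ (mul_injective_of_coprime hk)

theorem invSet_mulN_prime (hG : HasTrans G) {q : ℕ} [Fact q.Prime] (hq : q.Coprime n)
    {T : Finset (ZMod n)} (hT : InvSet G T) : InvSet G (mulN q T) := by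
  intro x hx y hxy
  rw [mem_mulN] at hx ⊢
  obtain ⟨t₀, ht₀, rfl⟩ := hx
  have h1 : (T.filter (fun t => q • t = (q : ZMod n) * t₀)) = {t₀} := by
    ext t
    rw [Finset.mem_filter, Finset.mem_singleton, nsmul_eq_mul]
    constructor
    · rintro ⟨_, h⟩
      exact mul_injective_of_coprime hq h
    · rintro rfl
      exact ⟨ht₀, rfl⟩
  have h2 := count_mod_const (q := q) hG hT hxy
  rw [h1, Finset.card_singleton, Nat.cast_one] at h2
  have h3 : (T.filter (fun t => q • t = y)).card ≠ 0 := by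
    intro e
    rw [e, Nat.cast_zero] at h2
    exact one_ne_zero h2
  obtain ⟨t, ht⟩ := Finset.card_pos.mp (Nat.pos_of_ne_zero h3)
  rw [Finset.mem_filter, nsmul_eq_mul] at ht
  exact ⟨t, ht.1, ht.2⟩

theorem invSet_mulN (hG : HasTrans G) : ∀ (k : ℕ), k.Coprime n →
    ∀ {T : Finset (ZMod n)}, InvSet G T → InvSet G (mulN k T) := by
  intro k
  induction k using Nat.strong_induction_on with
  | _ k ih =>
    intro hk T hT
    rcases Nat.lt_or_ge k 2 with hlt | hge
    · interval_cases k
      · have hn1 : n = 1 := by simpa using hk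
        subst hn1
        intro x hx y _
        have : y = x := Subsingleton.elim _ _
        rw [this]
        exact hx
      · have : mulN 1 T = T := by
          ext y
          rw [mem_mulN]
          simp
        rw [this]
        exact hT
    · have hne : k ≠ 1 := by omega
      obtain ⟨q, hq⟩ : ∃ q, q = k.minFac := ⟨_, rfl⟩
      have hqp : q.Prime := by rw [hq]; exact Nat.minFac_prime hne
      have hqk : q ∣ k := by rw [hq]; exact Nat.minFac_dvd k
      obtain ⟨k', hk'⟩ := hqk
      have hqn : q.Coprime n := Nat.Coprime.coprime_dvd_left ⟨k', hk'⟩ hk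
      have hk'n : k'.Coprime n :=
        Nat.Coprime.coprime_dvd_left ⟨q, by rw [hk']; ring⟩ hk
      have hk'pos : 0 < k' := by
        rcases Nat.eq_zero_or_pos k' with h | h
        · rw [h, mul_zero] at hk'
          omega
        · exact h
      have hk'lt : k' < k := by
        rw [hk']
        nlinarith [hqp.two_le]
      have h1 := ih k' hk'lt hk'n hT
      haveI : Fact q.Prime := ⟨hqp⟩
      have h2 := invSet_mulN_prime hG hqn h1
      have h3 : mulN k T = mulN q (mulN k' T) := by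
        ext y
        rw [mem_mulN, mem_mulN]
        constructor
        · rintro ⟨t, ht, rfl⟩
          refine ⟨(k' : ZMod n) * t, mem_mulN.mpr ⟨t, ht, rfl⟩, ?_⟩
          rw [hk', Nat.cast_mul, mul_assoc]
        · rintro ⟨a, ha, rfl⟩
          obtain ⟨t, ht, rfl⟩ := mem_mulN.mp ha
          refine ⟨t, ht, ?_⟩
          rw [hk', Nat.cast_mul, mul_assoc]
      rw [h3]
      exact h2

/-- a multiplier fixing an element of a basic set fixes the basic set -/
theorem mulN_cls_eq (hG : HasTrans G) {k : ℕ} (hk : k.Coprime n) {x u : ZMod n}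
    (hu : u ∈ cls G x) (hku : (k : ZMod n) * u = u) : mulN k (cls G x) = cls G x := by
  have hinv := invSet_mulN hG k hk (invSet_cls (G := G) x)
  have hmem : u ∈ mulN k (cls G x) := mem_mulN.mpr ⟨u, hu, hku⟩
  have hsub : cls G x ⊆ mulN k (cls G x) := by
    have h1 : cls G x = cls G u := cls_eq_of_rel (mem_cls.mp hu)
    have h2 : cls G u ⊆ mulN k (cls G x) := cls_subset hinv hmem
    rw [← h1] at h2
    exact h2
  exact (Finset.eq_of_subset_of_card_le hsub (le_of_eq (card_mulN hk _))).symm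

end mult

section blocks

theorem card_filter_le' (hG : HasTrans G) {S T : Finset (ZMod n)} (hS : InvSet G S)
    (hT : InvSet G T) {s s' : ZMod n} (h : Rel G s s') :
    (S.filter (fun a => a - s ∈ T)).card ≤ (S.filter (fun a => a - s' ∈ T)).card := by
  obtain ⟨g, hg, h0, hs⟩ := h
  apply Finset.card_le_card_of_injOn (fun a => g a)
  · intro a ha
    have ha' := Finset.mem_coe.mp ha
    rw [Finset.mem_filter] at ha'
    apply Finset.mem_coe.mpr
    rw [Finset.mem_filter]
    refine ⟨hS a ha'.1 _ ⟨g, hg, h0, rfl⟩, ?_⟩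
    have := rel_sub hG hg s a
    rw [hs] at this
    exact hT _ ha'.2 _ this
  · intro a _ b _ hab
    exact g.injective hab

theorem card_filter_eq' (hG : HasTrans G) {S T : Finset (ZMod n)} (hS : InvSet G S)
    (hT : InvSet G T) {s s' : ZMod n} (h : Rel G s s') :
    (S.filter (fun a => a - s ∈ T)).card = (S.filter (fun a => a - s' ∈ T)).card :=
  le_antisymm (card_filter_le' hG hS hT h) (card_filter_le' hG hS hT h.symm)

theorem closure_sub_mem (hG : HasTrans G) {T : Finset (ZMod n)} (hT : InvSet G T)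
    {g : Equiv.Perm (ZMod n)} (hg : g ∈ G) :
    ∀ d ∈ AddSubgroup.closure (T : Set (ZMod n)), ∀ x : ZMod n,
      g (x + d) - g x ∈ AddSubgroup.closure (T : Set (ZMod n)) := by
  intro d hd
  induction hd using AddSubgroup.closure_induction with
  | mem d hd =>
    intro x
    apply AddSubgroup.subset_closure
    have := rel_sub hG hg x (x + d)
    rw [add_sub_cancel_left] at this
    exact Finset.mem_coe.mpr (hT d (Finset.mem_coe.mp hd) _ this)
  | zero =>
    intro x
    rw [add_zero, sub_self]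
    exact AddSubgroup.zero_mem _
  | add d e _ _ hd he =>
    intro x
    have := AddSubgroup.add_mem _ (he (x + d)) (hd x)
    rw [sub_add_sub_cancel, add_assoc] at this
    exact this
  | neg d _ hd =>
    intro x
    have := AddSubgroup.neg_mem _ (hd (x + -d))
    rw [neg_add_cancel_right, neg_sub] at this
    exact this

theorem isBlock_closure (hG : HasTrans G) {T : Finset (ZMod n)} (hT : InvSet G T) :
    MulAction.IsBlock G
      ((AddSubgroup.closure (T : Set (ZMod n)) : AddSubgroup (ZMod n)) : Set (ZMod n)) := by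
  obtain ⟨K, hK⟩ : ∃ K : AddSubgroup (ZMod n), K = AddSubgroup.closure (T : Set (ZMod n)) :=
    ⟨_, rfl⟩
  rw [← hK]
  have key : ∀ (h : Equiv.Perm (ZMod n)), h ∈ G → ∀ a ∈ K, h a ∈ K → ∀ d ∈ K, h d ∈ K := by
    intro h hh a ha hha d hd
    have h1 := closure_sub_mem hG hT hh (d - a) (by rw [← hK]; exact K.sub_mem hd ha) a
    rw [add_sub_cancel, ← hK] at h1
    have := K.add_mem h1 hha
    rwa [sub_add_cancel] at this
  rw [MulAction.isBlock_iff_smul_eq_of_mem]
  intro g a ha hga
  have ha' : a ∈ K := ha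
  have hga' : (g : Equiv.Perm (ZMod n)) a ∈ K := hga
  apply Set.Subset.antisymm
  · rintro _ ⟨d, hd, rfl⟩
    exact key g g.2 a ha' hga' d hd
  · intro d hd
    refine ⟨((g : Equiv.Perm (ZMod n))⁻¹) d, ?_, ?_⟩
    · apply key ((g : Equiv.Perm (ZMod n))⁻¹) (G.inv_mem g.2) ((g : Equiv.Perm (ZMod n)) a) hga'
        _ d hd
      rw [Equiv.Perm.inv_def, Equiv.symm_apply_apply]
      exact ha'
    · show (g : Equiv.Perm (ZMod n)) (((g : Equiv.Perm (ZMod n))⁻¹) d) = d
      rw [Equiv.Perm.inv_def, Equiv.apply_symm_apply]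

theorem closure_eq_top (hG : HasTrans G) (hprim : MulAction.IsPreprimitive G (ZMod n))
    {T : Finset (ZMod n)} (hT : InvSet G T) {x : ZMod n} (hx : x ∈ T) (hx0 : x ≠ 0) :
    AddSubgroup.closure (T : Set (ZMod n)) = ⊤ := by
  have hb := isBlock_closure hG hT
  rcases hprim.isTrivialBlock_of_isBlock hb with h | h
  · exfalso
    have h1 : x ∈ ((AddSubgroup.closure (T : Set (ZMod n)) : AddSubgroup (ZMod n)) :
        Set (ZMod n)) := AddSubgroup.subset_closure (Finset.mem_coe.mpr hx)
    have h2 : (0 : ZMod n) ∈ ((AddSubgroup.closure (T : Set (ZMod n)) :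
        AddSubgroup (ZMod n)) : Set (ZMod n)) := AddSubgroup.zero_mem _
    exact hx0 (h h1 h2)
  · exact AddSubgroup.coe_eq_univ.mp h

/-- a nonempty invariant set avoiding `0` is not stable under a nonzero translation -/
theorem no_translation_stable (hG : HasTrans G) (hprim : MulAction.IsPreprimitive G (ZMod n))
    {T : Finset (ZMod n)} (hT : InvSet G T) (hne : T.Nonempty) (h0 : (0 : ZMod n) ∉ T)
    {u : ZMod n} (hu0 : u ≠ 0) (hu : ∀ a ∈ T, a - u ∈ T) : False := by
  obtain ⟨S, hS⟩ : ∃ S : Finset (ZMod n),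
      S = Finset.univ.filter (fun x => ∀ a ∈ T, a - x ∈ T) := ⟨_, rfl⟩
  have hmemS : ∀ x, x ∈ S ↔ ∀ a ∈ T, a - x ∈ T := by
    intro x
    rw [hS, Finset.mem_filter]
    simp
  have hSinv : InvSet G S := by
    intro x hx y hxy
    rw [hmemS] at hx ⊢
    have h1 : (T.filter (fun a => a - x ∈ T)).card = T.card := by
      rw [Finset.filter_true_of_mem hx]
    have h2 := card_filter_eq' hG hT hT hxy
    rw [h1] at h2
    have h3 : T.filter (fun a => a - y ∈ T) = T :=
      Finset.eq_of_subset_of_card_le (Finset.filter_subset _ _) (le_of_eq h2)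
    intro a ha
    rw [← h3] at ha
    exact (Finset.mem_filter.mp ha).2
  have huS : u ∈ S := (hmemS u).mpr hu
  have htop := closure_eq_top hG hprim hSinv huS hu0
  have hall : ∀ z ∈ AddSubgroup.closure (S : Set (ZMod n)),
      ∀ a ∈ T, a - z ∈ T ∧ a + z ∈ T := by
    intro z hz
    induction hz using AddSubgroup.closure_induction with
    | mem z hz =>
      have hz' := (hmemS z).mp (Finset.mem_coe.mp hz)
      intro a ha
      refine ⟨hz' a ha, ?_⟩
      have himg : T.image (fun b => b - z) = T := by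
        apply Finset.eq_of_subset_of_card_le
        · intro c hc
          obtain ⟨b, hb, rfl⟩ := Finset.mem_image.mp hc
          exact hz' b hb
        · rw [Finset.card_image_of_injective _ (sub_left_injective)]
      rw [← himg] at ha
      obtain ⟨b, hb, hba⟩ := Finset.mem_image.mp ha
      have : b = a + z := by rw [← hba]; ring
      rw [← this]
      exact hb
    | zero =>
      intro a ha
      rw [sub_zero, add_zero]
      exact ⟨ha, ha⟩
    | add z w _ _ hz hw =>
      intro a ha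
      constructor
      · have := (hw (a - z) (hz a ha).1).1
        rwa [sub_sub] at this
      · have := (hw (a + z) (hz a ha).2).2
        rwa [add_assoc] at this
    | neg z _ hz =>
      intro a ha
      constructor
      · rw [sub_neg_eq_add]
        exact (hz a ha).2
      · rw [← sub_eq_add_neg]
        exact (hz a ha).1
  obtain ⟨a₀, ha₀⟩ := hne
  have := (hall a₀ (by rw [htop]; exact AddSubgroup.mem_top _) a₀ ha₀).1
  rw [sub_self] at this
  exact h0 this

end blocks

section zmodfacts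

variable {p : ℕ}

/-- an element of order `p` -/
noncomputable def u0 (n p : ℕ) : ZMod n := ((n / p : ℕ) : ZMod n)

theorem p_mul_u0 (hpn : p ∣ n) : (p : ZMod n) * u0 n p = 0 := by
  unfold u0
  rw [← Nat.cast_mul, Nat.mul_div_cancel' hpn, ZMod.natCast_self]

theorem u0_ne_zero (hp : p.Prime) (hpn : p ∣ n) : u0 n p ≠ 0 := by
  unfold u0
  rw [Ne, ZMod.natCast_eq_zero_iff]
  intro h
  have hnpos : 0 < n := Nat.pos_of_ne_zero (NeZero.ne n)
  have h1 : 0 < n / p := Nat.div_pos (Nat.le_of_dvd hnpos hpn) hp.pos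
  have h2 : n / p < n := Nat.div_lt_self hnpos hp.one_lt
  exact absurd (Nat.le_of_dvd h1 h) (not_le.mpr h2)

theorem ker_p (hp : p.Prime) (hpn : p ∣ n) {x : ZMod n} (hx : (p : ZMod n) * x = 0) :
    ∃ j < p, x = (j : ZMod n) * u0 n p := by
  have hnpos : 0 < n := Nat.pos_of_ne_zero (NeZero.ne n)
  obtain ⟨n', hn'⟩ := hpn
  have hxv : ((p * x.val : ℕ) : ZMod n) = 0 := by
    rw [Nat.cast_mul, ZMod.natCast_zmod_val]
    exact hx
  rw [ZMod.natCast_eq_zero_iff] at hxv
  obtain ⟨c, hc⟩ := hxv
  have e1 : n * c = p * n' * c := congrArg (· * c) hn'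
  have e2 : p * x.val = p * (n' * c) := by rw [hc, e1, mul_assoc]
  have e3 : x.val = n' * c := Nat.eq_of_mul_eq_mul_left hp.pos e2
  have hn'pos : 0 < n' := by
    rcases Nat.eq_zero_or_pos n' with h | h
    · rw [h, mul_zero] at hn'
      omega
    · exact h
  have hdiv : n / p = n' := Nat.div_eq_of_eq_mul_right hp.pos hn'
  have hlt : x.val < n := ZMod.val_lt x
  have hcp : c < p := by
    by_contra hcon
    push Not at hcon
    have : p * n' ≤ n' * c := by
      rw [mul_comm]
      exact Nat.mul_le_mul_left n' hcon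
    omega
  refine ⟨c, hcp, ?_⟩
  unfold u0
  rw [hdiv, ← Nat.cast_mul, mul_comm c n', ← e3, ZMod.natCast_zmod_val]

theorem one_notMem_range_p (hp : p.Prime) (hpn : p ∣ n) (w : ZMod n) :
    (p : ZMod n) * w ≠ 1 := by
  intro h
  have hu : IsUnit (p : ZMod n) := IsUnit.of_mul_eq_one _ h
  rw [ZMod.isUnit_iff_coprime] at hu
  have : p ∣ Nat.gcd p n := Nat.dvd_gcd dvd_rfl hpn
  rw [hu] at this
  exact hp.one_lt.ne' (Nat.dvd_one.mp this)

theorem natCast_mul_eq_of_modEq {r a b : ℕ} (h : a ≡ b [MOD r]) {w : ZMod n}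
    (hw : (r : ZMod n) * w = 0) : (a : ZMod n) * w = (b : ZMod n) * w := by
  have key : ∀ c : ℕ, (c : ZMod n) * w = ((c % r : ℕ) : ZMod n) * w := by
    intro c
    have h1 : ((r * (c / r) + c % r : ℕ) : ZMod n) = (c : ZMod n) := by
      rw [Nat.div_add_mod]
    rw [← h1, Nat.cast_add, Nat.cast_mul, add_mul, mul_right_comm, hw, zero_mul, zero_add]
  rw [key a, key b]
  have : a % r = b % r := h
  rw [this]

/-- the key consequence of Schur's `p`-th power lemma -/
theorem sub_u0_mem (hG : HasTrans G) (hprim : MulAction.IsPreprimitive G (ZMod n))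
    [hpf : Fact p.Prime] (hpn : p ∣ n) {T : Finset (ZMod n)} (hT : InvSet G T) {a : ZMod n}
    (ha : a ∈ T) (hpa : (p : ZMod n) * a ≠ 0) : a - u0 n p ∈ T := by
  have hp : p.Prime := hpf.out
  obtain ⟨s, hs⟩ : ∃ s, s = (p : ZMod n) * a := ⟨_, rfl⟩
  have hs0 : s ≠ 0 := by rw [hs]; exact hpa
  have hex : ∃ s' ∈ cls G s, ∀ w : ZMod n, (p : ZMod n) * w ≠ s' := by
    by_contra hcon
    push Not at hcon
    have hle : AddSubgroup.closure ((cls G s : Finset (ZMod n)) : Set (ZMod n)) ≤
        (AddMonoidHom.mulLeft (p : ZMod n)).range := by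
      rw [AddSubgroup.closure_le]
      intro y hy
      obtain ⟨w, hw⟩ := hcon y (Finset.mem_coe.mp hy)
      exact ⟨w, hw⟩
    have htop := closure_eq_top hG hprim (invSet_cls (G := G) s) (self_mem_cls s) hs0
    rw [htop] at hle
    obtain ⟨w, hw⟩ := hle (AddSubgroup.mem_top (1 : ZMod n))
    exact one_notMem_range_p hp hpn w hw
  obtain ⟨s', hs', hs'not⟩ := hex
  have hcount0 : (T.filter (fun t => p • t = s')).card = 0 := by
    rw [Finset.card_eq_zero, Finset.filter_eq_empty_iff]
    intro t _ h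
    rw [nsmul_eq_mul] at h
    exact hs'not t h
  have hmod := count_mod_const (q := p) hG hT (mem_cls.mp hs')
  rw [hcount0, Nat.cast_zero, ZMod.natCast_eq_zero_iff] at hmod
  obtain ⟨W, hW⟩ : ∃ W, W = T.filter (fun t => p • t = s) := ⟨_, rfl⟩
  rw [← hW] at hmod
  have haW : a ∈ W := by
    rw [hW, Finset.mem_filter, nsmul_eq_mul]
    exact ⟨ha, hs.symm⟩
  obtain ⟨F, hF⟩ : ∃ F, F = (Finset.range p).image
      (fun j : ℕ => a + (j : ZMod n) * u0 n p) := ⟨_, rfl⟩
  have hWF : W ⊆ F := by
    intro t ht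
    rw [hW, Finset.mem_filter, nsmul_eq_mul] at ht
    have : (p : ZMod n) * (t - a) = 0 := by rw [mul_sub, ht.2, hs, sub_self]
    obtain ⟨j, hj, hje⟩ := ker_p hp hpn this
    rw [hF, Finset.mem_image]
    refine ⟨j, Finset.mem_range.mpr hj, ?_⟩
    rw [← hje]
    ring
  have hFcard : F.card ≤ p := by
    rw [hF]
    exact (Finset.card_image_le).trans (le_of_eq (Finset.card_range p))
  have hWpos : 0 < W.card := Finset.card_pos.mpr ⟨a, haW⟩
  have hWp : p ≤ W.card := Nat.le_of_dvd hWpos hmod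
  have hWF' : W = F := Finset.eq_of_subset_of_card_le hWF (hFcard.trans hWp)
  have hmem : a - u0 n p ∈ F := by
    rw [hF, Finset.mem_image]
    refine ⟨p - 1, Finset.mem_range.mpr (Nat.sub_lt hp.pos one_pos), ?_⟩
    have h1 : ((p - 1 : ℕ) : ZMod n) = (p : ZMod n) - 1 := by
      rw [Nat.cast_sub hp.one_lt.le, Nat.cast_one]
    rw [h1, sub_mul, p_mul_u0 hpn, one_mul]
    ring
  rw [← hWF', hW, Finset.mem_filter] at hmem
  exact hmem.1

theorem sub_mul_u0_mem (hG : HasTrans G) (hprim : MulAction.IsPreprimitive G (ZMod n))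
    [hpf : Fact p.Prime] (hpn : p ∣ n) {T : Finset (ZMod n)} (hT : InvSet G T) {a : ZMod n}
    (ha : a ∈ T) (hpa : (p : ZMod n) * a ≠ 0) (j : ℕ) : a - (j : ZMod n) * u0 n p ∈ T := by
  induction j with
  | zero =>
    rw [Nat.cast_zero, zero_mul, sub_zero]
    exact ha
  | succ j ih =>
    have hpa' : (p : ZMod n) * (a - (j : ZMod n) * u0 n p) ≠ 0 := by
      rw [mul_sub, mul_left_comm, p_mul_u0 hpn, mul_zero, sub_zero]
      exact hpa
    have := sub_u0_mem hG hprim hpn hT ih hpa'
    rw [Nat.cast_succ, add_mul, one_mul, ← sub_sub]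
    exact this

theorem sub_mem_of_ker (hG : HasTrans G) (hprim : MulAction.IsPreprimitive G (ZMod n))
    [hpf : Fact p.Prime] (hpn : p ∣ n) {T : Finset (ZMod n)} (hT : InvSet G T) {a : ZMod n}
    (ha : a ∈ T) (hpa : (p : ZMod n) * a ≠ 0) {u : ZMod n} (hu : (p : ZMod n) * u = 0) :
    a - u ∈ T := by
  obtain ⟨j, -, rfl⟩ := ker_p hpf.out hpn hu
  exact sub_mul_u0_mem hG hprim hpn hT ha hpa j

/-- every nontrivial basic set contains an element of order `p` -/
theorem exists_mem_cls_ker (hG : HasTrans G) (hprim : MulAction.IsPreprimitive G (ZMod n))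
    [hpf : Fact p.Prime] (hpn : p ∣ n) {x : ZMod n} (hx : x ≠ 0) :
    ∃ u ∈ cls G x, (p : ZMod n) * u = 0 := by
  by_contra hcon
  push Not at hcon
  apply no_translation_stable hG hprim (invSet_cls (G := G) x) ⟨x, self_mem_cls x⟩
    (zero_notMem_cls hx) (u0_ne_zero hpf.out hpn)
  intro a ha
  exact sub_u0_mem hG hprim hpn (invSet_cls (G := G) x) ha (hcon a ha)

end zmodfacts

section thmB

theorem exists_multiplier {p r : ℕ} (hp : p.Prime) (hr : r.Prime) (hpr : p ≠ r) (hpn : p ∣ n)
    (hrn : r ∣ n) {j j' : ℕ} (hj : ¬ p ∣ j) (hj' : ¬ p ∣ j') :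
    ∃ k : ℕ, k.Coprime n ∧ k ≡ 1 [MOD r] ∧ k * j ≡ j' [MOD p] := by
  have hn0 : n ≠ 0 := NeZero.ne n
  obtain ⟨P, hP⟩ : ∃ P, P = ordProj[p] n := ⟨_, rfl⟩
  obtain ⟨m, hm⟩ : ∃ m, m = ordCompl[p] n := ⟨_, rfl⟩
  have hPm : P * m = n := by rw [hP, hm]; exact Nat.ordProj_mul_ordCompl_eq_self n p
  have hcop_pm : p.Coprime m := by rw [hm]; exact Nat.coprime_ordCompl hp hn0
  have hcop : P.Coprime m := by rw [hP]; exact Nat.Coprime.pow_left _ hcop_pm
  have hpP : p ∣ P := by
    rw [hP]
    exact dvd_pow_self p (hp.factorization_pos_of_dvd hn0 hpn).ne'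
  have hrm : r ∣ m := by
    have h1 : r ∣ P * m := by rw [hPm]; exact hrn
    have h2 : r.Coprime P := by
      rw [hP]
      exact Nat.Coprime.pow_right _ ((Nat.coprime_primes hr hp).mpr hpr.symm)
    exact h2.dvd_of_dvd_mul_left h1
  have hjc : j.Coprime p := ((Nat.Prime.coprime_iff_not_dvd hp).mpr hj).symm
  obtain ⟨v, -, hv⟩ := Nat.exists_mul_mod_eq_one_of_coprime hjc hp.one_lt
  have hv' : j * v ≡ 1 [MOD p] := by
    unfold Nat.ModEq
    rw [hv, Nat.mod_eq_of_lt hp.one_lt]
  obtain ⟨k, hk1, hk2⟩ := Nat.chineseRemainder hcop (v * j') 1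
  have hkp : k ≡ v * j' [MOD p] := Nat.ModEq.of_dvd hpP hk1
  have hkj : k * j ≡ j' [MOD p] := by
    calc k * j ≡ v * j' * j [MOD p] := Nat.ModEq.mul_right j hkp
      _ = j' * (j * v) := by ring
      _ ≡ j' * 1 [MOD p] := Nat.ModEq.mul_left j' hv'
      _ = j' := mul_one _
  have hpk : ¬ p ∣ k := by
    intro h
    have h1 : p ∣ k * j := Dvd.dvd.mul_right h j
    exact hj' ((Nat.ModEq.dvd_iff hkj dvd_rfl).mp h1)
  have hkP : k.Coprime P := by
    rw [hP]
    exact Nat.Coprime.pow_right _ ((Nat.Prime.coprime_iff_not_dvd hp).mpr hpk).symm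
  have hkm : k.Coprime m := by
    unfold Nat.Coprime
    rw [hk2.gcd_eq]
    exact Nat.gcd_one_left m
  refine ⟨k, ?_, Nat.ModEq.of_dvd hrm hk2, hkj⟩
  rw [← hPm]
  exact Nat.Coprime.mul_right hkP hkm

/-- Schur: a primitive group containing a regular cyclic group whose order is not a prime
power (and not `1`) is doubly transitive. -/
theorem rel_of_not_isPrimePow (hG : HasTrans G) (hprim : MulAction.IsPreprimitive G (ZMod n))
    (hnpp : ¬ IsPrimePow n) {x y : ZMod n} (hx : x ≠ 0) (hy : y ≠ 0) : Rel G x y := by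
  have hn0 : n ≠ 0 := NeZero.ne n
  have hn1 : n ≠ 1 := by
    intro e
    have : Subsingleton (ZMod n) := by
      rw [e]
      infer_instance
    exact hx (Subsingleton.elim _ _)
  obtain ⟨p, hpdef⟩ : ∃ p, p = n.minFac := ⟨_, rfl⟩
  have hp : p.Prime := by rw [hpdef]; exact Nat.minFac_prime hn1
  have hpn : p ∣ n := by rw [hpdef]; exact Nat.minFac_dvd n
  have hm1 : ordCompl[p] n ≠ 1 := by
    intro e
    have h1 := Nat.ordProj_mul_ordCompl_eq_self n p
    rw [e, mul_one] at h1
    apply hnpp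
    rw [isPrimePow_nat_iff]
    exact ⟨p, n.factorization p, hp, hp.factorization_pos_of_dvd hn0 hpn, h1⟩
  obtain ⟨r, hrdef⟩ : ∃ r, r = (ordCompl[p] n).minFac := ⟨_, rfl⟩
  have hr : r.Prime := by rw [hrdef]; exact Nat.minFac_prime hm1
  have hrm : r ∣ ordCompl[p] n := by rw [hrdef]; exact Nat.minFac_dvd _
  have hrn : r ∣ n := hrm.trans (Nat.ordCompl_dvd n p)
  have hpr : p ≠ r := by
    intro e
    rw [← e] at hrm
    exact Nat.not_dvd_ordCompl hp hn0 hrm
  haveI : Fact p.Prime := ⟨hp⟩
  haveI : Fact r.Prime := ⟨hr⟩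
  obtain ⟨u, hu, hpu⟩ := exists_mem_cls_ker (p := p) hG hprim hpn hx
  obtain ⟨u', hu', hpu'⟩ := exists_mem_cls_ker (p := p) hG hprim hpn hy
  obtain ⟨w, hw, hrw⟩ := exists_mem_cls_ker (p := r) hG hprim hrn hx
  have hu0 : u ≠ 0 := fun e => zero_notMem_cls (G := G) hx (e ▸ hu)
  have hu'0 : u' ≠ 0 := fun e => zero_notMem_cls (G := G) hy (e ▸ hu')
  obtain ⟨j, hjp, hju⟩ := ker_p hp hpn hpu
  obtain ⟨j', hj'p, hju'⟩ := ker_p hp hpn hpu'
  have hj : ¬ p ∣ j := by
    intro h
    have : j = 0 := Nat.eq_zero_of_dvd_of_lt h hjp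
    rw [this, Nat.cast_zero, zero_mul] at hju
    exact hu0 hju
  have hj' : ¬ p ∣ j' := by
    intro h
    have : j' = 0 := Nat.eq_zero_of_dvd_of_lt h hj'p
    rw [this, Nat.cast_zero, zero_mul] at hju'
    exact hu'0 hju'
  obtain ⟨k, hkn, hkr, hkj⟩ := exists_multiplier hp hr hpr hpn hrn hj hj'
  have hkw : (k : ZMod n) * w = w := by
    have := natCast_mul_eq_of_modEq hkr hrw
    rw [Nat.cast_one, one_mul] at this
    exact this
  have h1 : mulN k (cls G x) = cls G x := mulN_cls_eq hG hkn hw hkw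
  have h2 : (k : ZMod n) * u = u' := by
    rw [hju, hju', ← mul_assoc, ← Nat.cast_mul]
    exact natCast_mul_eq_of_modEq hkj (p_mul_u0 hpn)
  have h3 : u' ∈ cls G x := by
    rw [← h1]
    exact mem_mulN.mpr ⟨u, hu, h2⟩
  exact (mem_cls.mp h3).trans (mem_cls.mp hu').symm

end thmB

section thmA

variable {p : ℕ}

theorem natCast_mul_u0_inj (hp : p.Prime) (hpn : p ∣ n) {j j' : ℕ} (hj : j < p) (hj' : j' < p)
    (h : (j : ZMod n) * u0 n p = (j' : ZMod n) * u0 n p) : j = j' := by
  have hnpos : 0 < n := Nat.pos_of_ne_zero (NeZero.ne n)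
  have h1 : 0 < n / p := Nat.div_pos (Nat.le_of_dvd hnpos hpn) hp.pos
  unfold u0 at h
  rw [← Nat.cast_mul, ← Nat.cast_mul, ZMod.natCast_eq_natCast_iff'] at h
  have hlt : ∀ i, i < p → i * (n / p) < n := by
    intro i hi
    calc i * (n / p) < p * (n / p) := Nat.mul_lt_mul_of_pos_right hi h1
      _ = n := Nat.mul_div_cancel' hpn
  rw [Nat.mod_eq_of_lt (hlt j hj), Nat.mod_eq_of_lt (hlt j' hj')] at h
  exact Nat.eq_of_mul_eq_mul_right h1 h

theorem sum_card_filter_sub (T : Finset (ZMod n)) :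
    ∑ s : ZMod n, (T.filter (fun a => a - s ∈ T)).card = T.card * T.card := by
  have h1 : ∀ s : ZMod n, (T.filter (fun a => a - s ∈ T)).card =
      ∑ a ∈ T, if a - s ∈ T then 1 else 0 := fun s => Finset.card_filter _ _
  simp_rw [h1]
  rw [Finset.sum_comm]
  have h2 : ∀ a ∈ T, (∑ s : ZMod n, if a - s ∈ T then 1 else 0) = T.card := by
    intro a _
    rw [← Finset.card_filter]
    apply Finset.card_bij (fun s _ => a - s)
    · intro s hs
      exact (Finset.mem_filter.mp hs).2
    · intro s _ s' _ h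
      exact sub_right_injective h
    · intro b hb
      refine ⟨a - b, Finset.mem_filter.mpr ⟨Finset.mem_univ _, ?_⟩, sub_sub_cancel a b⟩
      rw [sub_sub_cancel]
      exact hb
  rw [Finset.sum_congr rfl h2, Finset.sum_const, smul_eq_mul]

theorem rel_of_composite_aux (hG : HasTrans G) (hprim : MulAction.IsPreprimitive G (ZMod n))
    [hpf : Fact p.Prime] (hpn : p ∣ n) (hne : p ≠ n) {x y : ZMod n} (hx : x ≠ 0) (hy : y ≠ 0)
    (hle : (cls G x).card ≤ (cls G y).card) : Rel G x y := by
  by_contra hnr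
  have hp : p.Prime := hpf.out
  obtain ⟨T, hTdef⟩ : ∃ T, T = cls G x := ⟨_, rfl⟩
  have hT : InvSet G T := by rw [hTdef]; exact invSet_cls x
  have hxT : x ∈ T := by rw [hTdef]; exact self_mem_cls x
  have h0T : (0 : ZMod n) ∉ T := by rw [hTdef]; exact zero_notMem_cls hx
  have hp0 : (p : ZMod n) ≠ 0 := by
    rw [Ne, ZMod.natCast_eq_zero_iff]
    intro h
    exact hne (Nat.dvd_antisymm hpn h)
  have hex : ∃ t₀ ∈ T, (p : ZMod n) * t₀ ≠ 0 := by
    by_contra hcon
    push Not at hcon
    have hle' : AddSubgroup.closure (T : Set (ZMod n)) ≤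
        (AddMonoidHom.mulLeft (p : ZMod n)).ker := by
      rw [AddSubgroup.closure_le]
      intro t ht
      rw [SetLike.mem_coe, AddMonoidHom.mem_ker]
      exact hcon t (Finset.mem_coe.mp ht)
    rw [closure_eq_top hG hprim hT hxT hx] at hle'
    have h1 := hle' (AddSubgroup.mem_top (1 : ZMod n))
    rw [AddMonoidHom.mem_ker] at h1
    have h2 : (p : ZMod n) * 1 = 0 := h1
    rw [mul_one] at h2
    exact hp0 h2
  obtain ⟨t₀, ht₀, hpt₀⟩ := hex
  obtain ⟨U, hU⟩ : ∃ U, U = T.filter (fun a => (p : ZMod n) * a = 0) := ⟨_, rfl⟩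
  obtain ⟨D, hD⟩ : ∃ D, D = T.filter (fun a => ¬ (p : ZMod n) * a = 0) := ⟨_, rfl⟩
  have hUD : U.card + D.card = T.card := by
    rw [hU, hD]
    exact Finset.card_filter_add_card_filter_not _
  have hUle : U.card + 1 ≤ p := by
    have hsub : U ⊆ ((Finset.range p).erase 0).image
        (fun j : ℕ => (j : ZMod n) * u0 n p) := by
      intro a ha
      rw [hU, Finset.mem_filter] at ha
      obtain ⟨j, hj, hje⟩ := ker_p hp hpn ha.2
      rw [Finset.mem_image]
      refine ⟨j, ?_, hje.symm⟩
      rw [Finset.mem_erase, Finset.mem_range]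
      refine ⟨?_, hj⟩
      intro hj0
      rw [hj0, Nat.cast_zero, zero_mul] at hje
      exact h0T (hje ▸ ha.1)
    have h1 := (Finset.card_le_card hsub).trans Finset.card_image_le
    rw [Finset.card_erase_of_mem (Finset.mem_range.mpr hp.pos), Finset.card_range] at h1
    have h2 := hp.one_lt
    omega
  have hDge : p ≤ D.card := by
    have hinj : Set.InjOn (fun j : ℕ => t₀ - (j : ZMod n) * u0 n p)
        (Finset.range p : Set ℕ) := by
      intro j hj j' hj' h
      have h' : (j : ZMod n) * u0 n p = (j' : ZMod n) * u0 n p := sub_right_injective h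
      exact natCast_mul_u0_inj hp hpn (Finset.mem_range.mp (Finset.mem_coe.mp hj))
        (Finset.mem_range.mp (Finset.mem_coe.mp hj')) h'
    have hmaps : Set.MapsTo (fun j : ℕ => t₀ - (j : ZMod n) * u0 n p)
        (Finset.range p : Set ℕ) (D : Set (ZMod n)) := by
      intro j _
      apply Finset.mem_coe.mpr
      rw [hD, Finset.mem_filter]
      refine ⟨sub_mul_u0_mem hG hprim hpn hT ht₀ hpt₀ j, ?_⟩
      rw [mul_sub, mul_left_comm, p_mul_u0 hpn, mul_zero, sub_zero]
      exact hpt₀
    have h1 := Finset.card_le_card_of_injOn _ hmaps hinj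
    rwa [Finset.card_range] at h1
  have hlam : ∀ s : ZMod n, s ≠ 0 → D.card ≤ (T.filter (fun a => a - s ∈ T)).card := by
    intro s hs
    obtain ⟨v, hv, hpv⟩ := exists_mem_cls_ker (p := p) hG hprim hpn hs
    rw [card_filter_eq' hG hT hT (mem_cls.mp hv)]
    apply Finset.card_le_card
    intro a ha
    rw [hD, Finset.mem_filter] at ha
    rw [Finset.mem_filter]
    exact ⟨ha.1, sub_mem_of_ker hG hprim hpn hT ha.1 ha.2 hpv⟩
  have hsum := sum_card_filter_sub T
  obtain ⟨Y, hYdef⟩ : ∃ Y, Y = cls G y := ⟨_, rfl⟩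
  have h0Y : (0 : ZMod n) ∉ Y := by rw [hYdef]; exact zero_notMem_cls hy
  have hdisj : Disjoint T Y := by
    rw [Finset.disjoint_left]
    intro a haT haY
    rw [hTdef] at haT
    rw [hYdef] at haY
    exact hnr ((mem_cls.mp haT).trans (mem_cls.mp haY).symm)
  have h0TY : (0 : ZMod n) ∉ T ∪ Y := by
    rw [Finset.mem_union]
    push Not
    exact ⟨h0T, h0Y⟩
  have hlow : (insert (0 : ZMod n) (T ∪ Y)).sum
      (fun s => (T.filter (fun a => a - s ∈ T)).card) ≤ T.card * T.card := by
    rw [← hsum]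
    exact Finset.sum_le_sum_of_subset (Finset.subset_univ _)
  rw [Finset.sum_insert h0TY, Finset.sum_union hdisj] at hlow
  have hl0 : (T.filter (fun a => a - (0 : ZMod n) ∈ T)).card = T.card := by
    congr 1
    rw [Finset.filter_eq_self]
    intro a ha
    rw [sub_zero]
    exact ha
  have hlT : T.card * D.card ≤ ∑ s ∈ T, (T.filter (fun a => a - s ∈ T)).card := by
    have h1 := Finset.card_nsmul_le_sum T (fun s => (T.filter (fun a => a - s ∈ T)).card)
      D.card (fun s hs => hlam s (fun e => h0T (e ▸ hs)))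
    rwa [smul_eq_mul] at h1
  have hlY : Y.card * D.card ≤ ∑ s ∈ Y, (T.filter (fun a => a - s ∈ T)).card := by
    have h1 := Finset.card_nsmul_le_sum Y (fun s => (T.filter (fun a => a - s ∈ T)).card)
      D.card (fun s hs => hlam s (fun e => h0Y (e ▸ hs)))
    rwa [smul_eq_mul] at h1
  have hTY : T.card ≤ Y.card := by
    rw [hTdef, hYdef]
    exact hle
  have hkpos : 0 < T.card := Finset.card_pos.mpr ⟨x, hxT⟩
  have hTY' : T.card * D.card ≤ Y.card * D.card := Nat.mul_le_mul_right _ hTY
  have h2 : T.card * (1 + 2 * D.card) ≤ T.card * T.card := by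
    rw [hl0] at hlow
    have e : T.card * (1 + 2 * D.card) = T.card + T.card * D.card + T.card * D.card := by ring
    rw [e]
    linarith
  have h3 : 1 + 2 * D.card ≤ T.card := Nat.le_of_mul_le_mul_left h2 hkpos
  omega

/-- Schur: a primitive permutation group containing a regular cyclic subgroup of composite
order is doubly transitive. -/
theorem rel_of_composite (hG : HasTrans G) (hprim : MulAction.IsPreprimitive G (ZMod n))
    {p : ℕ} (hp : p.Prime) (hpn : p ∣ n) (hne : p ≠ n) {x y : ZMod n} (hx : x ≠ 0)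
    (hy : y ≠ 0) : Rel G x y := by
  haveI : Fact p.Prime := ⟨hp⟩
  rcases le_total (cls G x).card (cls G y).card with h | h
  · exact rel_of_composite_aux hG hprim hpn hne hx hy h
  · exact (rel_of_composite_aux hG hprim hpn hne hy hx h).symm

end thmA

end SR

end Cfsg.Agent.Lib.Helper20
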