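import Cfsg.Agent.Lib.Helper20.SchurRing

/-!
# Transporting Schur's theorem on regular cyclic subgroups to abstract actions
-/

namespace Cfsg.Agent.Lib.Helper20

namespace SR

open scoped Classical Pointwise

section transport

variable {H : Type*} {Ω : Type*} [Group H] [MulAction H Ω] {n : ℕ} [NeZero n]

/-- the orbit map of a cyclic group -/
noncomputable def orbMap (n : ℕ) (c : H) (ω₀ : Ω) : ZMod n → Ω := fun k => c ^ k.val • ω₀

theorem orbMap_add {c : H} {ω₀ : Ω} (hper : MulAction.period c ω₀ = n) (a k : ZMod n) :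
    orbMap n c ω₀ (a + k) = c ^ a.val • orbMap n c ω₀ k := by
  unfold orbMap
  rw [ZMod.val_add, ← mul_smul, ← pow_add]
  have h := MulAction.pow_mod_period_smul (a.val + k.val) (m := c) (a := ω₀)
  rw [hper] at h
  exact h

theorem orbMap_injective {c : H} {ω₀ : Ω} (hper : MulAction.period c ω₀ = n) :
    Function.Injective (orbMap n c ω₀) := by
  have key : ∀ i j : ℕ, i ≤ j → j < n → c ^ i • ω₀ = c ^ j • ω₀ → i = j := by
    intro i j hij hj h
    have h1 : c ^ (j - i) • ω₀ = ω₀ := by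
      have e : c ^ j = c ^ i * c ^ (j - i) := by rw [← pow_add, Nat.add_sub_cancel' hij]
      rw [e, mul_smul] at h
      exact (MulAction.injective (c ^ i) h).symm
    rw [MulAction.pow_smul_eq_iff_period_dvd, hper] at h1
    have h2 : j - i = 0 := Nat.eq_zero_of_dvd_of_lt h1 (by omega)
    omega
  intro a b hab
  unfold orbMap at hab
  apply ZMod.val_injective n
  rcases le_total a.val b.val with h | h
  · exact key _ _ h (ZMod.val_lt b) hab
  · exact (key _ _ h (ZMod.val_lt a) hab.symm).symm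

theorem orbMap_bijective [Finite Ω] {c : H} {ω₀ : Ω} (hper : MulAction.period c ω₀ = n)
    (hcard : Nat.card Ω = n) : Function.Bijective (orbMap n c ω₀) := by
  apply (orbMap_injective hper).bijective_of_nat_card_le
  rw [hcard, Nat.card_zmod]

/-- the orbit map as an equivalence -/
noncomputable def orbEquiv [Finite Ω] {c : H} {ω₀ : Ω} (hper : MulAction.period c ω₀ = n)
    (hcard : Nat.card Ω = n) : ZMod n ≃ Ω :=
  Equiv.ofBijective _ (orbMap_bijective hper hcard)

theorem orbEquiv_apply [Finite Ω] {c : H} {ω₀ : Ω} (hper : MulAction.period c ω₀ = n)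
    (hcard : Nat.card Ω = n) (k : ZMod n) : orbEquiv hper hcard k = orbMap n c ω₀ k := rfl

/-- the action transported to `ZMod n` -/
noncomputable def conjHom (e : ZMod n ≃ Ω) : H →* Equiv.Perm (ZMod n) :=
  (e.symm.permCongrHom).toMonoidHom.comp (MulAction.toPermHom H Ω)

theorem conjHom_apply (e : ZMod n ≃ Ω) (h : H) (k : ZMod n) :
    conjHom e h k = e.symm (h • e k) := rfl

theorem hasTrans_range [Finite Ω] {c : H} {ω₀ : Ω} (hper : MulAction.period c ω₀ = n)
    (hcard : Nat.card Ω = n) : HasTrans (conjHom (H := H) (orbEquiv hper hcard)).range := by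
  intro a
  refine ⟨c ^ a.val, ?_⟩
  apply Equiv.ext
  intro k
  rw [conjHom_apply, Equiv.coe_addLeft, Equiv.symm_apply_eq, orbEquiv_apply, orbEquiv_apply]
  exact (orbMap_add hper a k).symm

theorem isPreprimitive_range (e : ZMod n ≃ Ω) (hprim : MulAction.IsPreprimitive H Ω) :
    MulAction.IsPreprimitive (conjHom (H := H) e).range (ZMod n) := by
  let f : Ω →ₑ[(conjHom (H := H) e).rangeRestrict] ZMod n :=
    { toFun := e.symm
      map_smul' := by
        intro h ω
        show e.symm (h • ω) = (conjHom e h) (e.symm ω)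
        rw [conjHom_apply, Equiv.apply_symm_apply] }
  exact (MulAction.isPreprimitive_congr (f := f)
    (conjHom (H := H) e).rangeRestrict_surjective e.symm.bijective).mp hprim

theorem two_trans_of_rel (e : ZMod n ≃ Ω) (htr : MulAction.IsPretransitive H Ω)
    (hrel : ∀ x y : ZMod n, x ≠ 0 → y ≠ 0 → Rel (conjHom (H := H) e).range x y) :
    MulAction.IsMultiplyPretransitive H Ω 2 := by
  rw [MulAction.is_two_pretransitive_iff]
  intro a b c d hab hcd
  obtain ⟨g₁, hg₁⟩ := MulAction.exists_smul_eq H a (e 0)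
  obtain ⟨g₂, hg₂⟩ := MulAction.exists_smul_eq H c (e 0)
  have hx : e.symm (g₁ • b) ≠ 0 := by
    intro h
    rw [Equiv.symm_apply_eq, ← hg₁] at h
    exact hab (MulAction.injective g₁ h).symm
  have hy : e.symm (g₂ • d) ≠ 0 := by
    intro h
    rw [Equiv.symm_apply_eq, ← hg₂] at h
    exact hcd (MulAction.injective g₂ h).symm
  obtain ⟨σ, ⟨g, rfl⟩, h0, hxy⟩ := hrel _ _ hx hy
  rw [conjHom_apply, Equiv.symm_apply_eq] at h0
  rw [conjHom_apply, Equiv.apply_symm_apply, EmbeddingLike.apply_eq_iff_eq] at hxy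
  refine ⟨g₂⁻¹ * g * g₁, ?_, ?_⟩
  · rw [mul_smul, mul_smul, hg₁, h0, ← hg₂, inv_smul_smul]
  · rw [mul_smul, mul_smul, hxy, inv_smul_smul]

/-- Schur's theorem, for an abstract action: if `c` acts as a full cycle of composite length
and the action is primitive then it is doubly transitive. -/
theorem two_trans_of_cycle [Finite Ω] {c : H} {ω₀ : Ω} (hper : MulAction.period c ω₀ = n)
    (hcard : Nat.card Ω = n) {p : ℕ} (hp : p.Prime) (hpn : p ∣ n) (hne : p ≠ n)
    (hprim : MulAction.IsPreprimitive H Ω) : MulAction.IsMultiplyPretransitive H Ω 2 := by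
  apply two_trans_of_rel (orbEquiv hper hcard) hprim.toIsPretransitive
  intro x y hx hy
  exact rel_of_composite (hasTrans_range hper hcard) (isPreprimitive_range _ hprim) hp hpn hne
    hx hy

end transport

section regular

variable {H : Type*} {Ω : Type*} [Group H] [MulAction H Ω]

theorem two_trans_of_regular_cyclic [Finite Ω] (hn : 2 ≤ Nat.card Ω)
    (hnp : ¬ IsPrimePow (Nat.card Ω)) (C : Subgroup H) (hcyc : IsCyclic ↥C)
    (hCtr : MulAction.IsPretransitive ↥C Ω)
    (hCfree : ∀ a : Ω, MulAction.stabilizer ↥C a = ⊥)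
    (hprim : MulAction.IsPreprimitive H Ω) : MulAction.IsMultiplyPretransitive H Ω 2 := by
  haveI : NeZero (Nat.card Ω) := ⟨by omega⟩
  have hne : Nonempty Ω := by
    rcases isEmpty_or_nonempty Ω with h | h
    · rw [Nat.card_of_isEmpty] at hn
      omega
    · exact h
  obtain ⟨ω₀⟩ := hne
  obtain ⟨c₀, hc₀⟩ := hcyc.exists_generator
  have hcardC : Nat.card ↥C = Nat.card Ω := by
    apply Nat.card_eq_of_bijective (fun x : ↥C => x • ω₀)
    constructor
    · intro x y hxy
      have h1 : (y⁻¹ * x) • ω₀ = ω₀ := by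
        rw [mul_smul]
        show y⁻¹ • (x • ω₀) = ω₀
        have h2 : x • ω₀ = y • ω₀ := hxy
        rw [h2, inv_smul_smul]
      have h2 : y⁻¹ * x ∈ MulAction.stabilizer ↥C ω₀ := MulAction.mem_stabilizer_iff.mpr h1
      rw [hCfree ω₀, Subgroup.mem_bot] at h2
      exact (inv_mul_eq_one.mp h2).symm
    · intro ω
      exact hCtr.exists_smul_eq ω₀ ω
  have hord : orderOf (c₀ : H) = Nat.card Ω := by
    rw [Subgroup.orderOf_coe, orderOf_eq_card_of_forall_mem_zpowers hc₀, hcardC]
  have hper : MulAction.period (c₀ : H) ω₀ = Nat.card Ω := by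
    apply Nat.dvd_antisymm
    · rw [← hord]
      exact MulAction.period_dvd_orderOf _ _
    · rw [← hord, Subgroup.orderOf_coe]
      apply orderOf_dvd_of_pow_eq_one
      have h1 : (c₀ : H) ^ MulAction.period (c₀ : H) ω₀ • ω₀ = ω₀ :=
        MulAction.pow_period_smul _ _
      have h2 : c₀ ^ MulAction.period (c₀ : H) ω₀ ∈ MulAction.stabilizer ↥C ω₀ := by
        rw [MulAction.mem_stabilizer_iff]
        show ((c₀ ^ MulAction.period (c₀ : H) ω₀ : ↥C) : H) • ω₀ = ω₀
        rw [Subgroup.coe_pow]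
        exact h1
      rw [hCfree ω₀, Subgroup.mem_bot] at h2
      exact h2
  have hn1 : Nat.card Ω ≠ 1 := by omega
  have hp : (Nat.card Ω).minFac.Prime := Nat.minFac_prime hn1
  have hpn : (Nat.card Ω).minFac ∣ Nat.card Ω := Nat.minFac_dvd _
  have hpne : (Nat.card Ω).minFac ≠ Nat.card Ω := by
    intro e
    apply hnp
    rw [← e]
    exact hp.isPrimePow
  exact two_trans_of_cycle hper rfl hp hpn hpne hprim

end regular

section blocks2

variable {H : Type*} {Ω : Type*} [Group H] [MulAction H Ω]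

theorem exists_period_eq [FaithfulSMul H Ω] {c : H} {p m : ℕ} (hp : p.Prime) (hm : 1 ≤ m)
    (hord : orderOf c = p ^ m) : ∃ ω₀ : Ω, MulAction.period c ω₀ = p ^ m := by
  by_contra hcon
  push Not at hcon
  have h1 : ∀ ω : Ω, c ^ (p ^ (m - 1)) • ω = ω := by
    intro ω
    rw [MulAction.pow_smul_eq_iff_period_dvd]
    have hd := MulAction.period_dvd_orderOf c ω
    rw [hord] at hd
    obtain ⟨i, hi, hpi⟩ := (Nat.dvd_prime_pow hp).mp hd
    rw [hpi]
    have hne : i ≠ m := fun e => hcon ω (by rw [hpi, e])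
    exact pow_dvd_pow p (by omega)
  have h2 : c ^ (p ^ (m - 1)) = 1 := by
    apply FaithfulSMul.eq_of_smul_eq_smul (α := Ω)
    intro ω
    rw [h1 ω, one_smul]
  have h3 := orderOf_dvd_of_pow_eq_one h2
  rw [hord] at h3
  have h4 := (Nat.pow_dvd_pow_iff_le_right hp.one_lt).mp h3
  omega

/-- in a cyclic group of order `p ^ m`, every nontrivial subgroup contains the subgroup of
order `p` -/
theorem pow_mem_zpowers_pow {c : H} {p m : ℕ} (hp : p.Prime) (hord : orderOf c = p ^ m)
    {i : ℕ} (hi0 : 0 < i) (hi : i < p ^ m) :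
    c ^ (p ^ (m - 1)) ∈ Subgroup.zpowers (c ^ i) := by
  have hgle : Nat.gcd i (p ^ m) ≤ i := Nat.gcd_le_left _ hi0
  have hglt : Nat.gcd i (p ^ m) < p ^ m := lt_of_le_of_lt hgle hi
  obtain ⟨t, -, ht⟩ := Nat.exists_mul_mod_eq_gcd hglt
  obtain ⟨a, ha, hpa⟩ := (Nat.dvd_prime_pow hp).mp (Nat.gcd_dvd_right i (p ^ m))
  have ham : a < m := by
    by_contra hcon
    push Not at hcon
    have : a = m := le_antisymm ha hcon
    rw [hpa, this] at hglt
    exact lt_irrefl _ hglt
  have h1 : (c ^ i) ^ t = c ^ (p ^ a) := by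
    rw [← pow_mul, ← pow_mod_orderOf, hord, ht, hpa]
  have h2 : c ^ (p ^ (m - 1)) = (c ^ (p ^ a)) ^ (p ^ (m - 1 - a)) := by
    rw [← pow_mul, ← pow_add]
    congr 2
    omega
  rw [h2, ← h1]
  exact Subgroup.pow_mem _ (Subgroup.pow_mem _ (Subgroup.mem_zpowers _) t) _

theorem not_pretransitive_normalClosure [Finite Ω] {c : H} {ω₀ : Ω} {p m : ℕ} (hp : p.Prime)
    (hord : orderOf c = p ^ m) (hper : MulAction.period c ω₀ = p ^ m)
    (hcard : Nat.card Ω = p ^ m) (htr : MulAction.IsPretransitive H Ω)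
    (hnprim : ¬ MulAction.IsPreprimitive H Ω) :
    ¬ MulAction.IsPretransitive
      (Subgroup.normalClosure ({c ^ (p ^ (m - 1))} : Set H)) Ω := by
  haveI : NeZero (p ^ m) := ⟨pow_ne_zero _ hp.ne_zero⟩
  -- a nontrivial block
  have hexB : ∃ B : Set Ω, MulAction.IsBlock H B ∧ ¬ MulAction.IsTrivialBlock B := by
    by_contra hcon
    push Not at hcon
    exact hnprim { toIsPretransitive := htr, isTrivialBlock_of_isBlock := fun {B} hB => hcon B hB }
  obtain ⟨B, hB, hBnt⟩ := hexB
  unfold MulAction.IsTrivialBlock at hBnt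
  push Not at hBnt
  obtain ⟨hBns, hBnu⟩ := hBnt
  -- the cyclic group is transitive
  have hcyc : ∀ ω ω' : Ω, ∃ i : ℕ, c ^ i • ω = ω' := by
    have hsurj := (orbMap_bijective (n := p ^ m) hper hcard).2
    intro ω ω'
    obtain ⟨a, ha⟩ := hsurj ω
    obtain ⟨b, hb⟩ := hsurj ω'
    unfold orbMap at ha hb
    refine ⟨b.val + (p ^ m - a.val), ?_⟩
    rw [← ha, ← mul_smul, ← pow_add]
    have hlt : a.val < p ^ m := ZMod.val_lt a
    have e : b.val + (p ^ m - a.val) + a.val = b.val + p ^ m := by omega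
    have hcn : c ^ (p ^ m) = 1 := by
      rw [← hord]
      exact pow_orderOf_eq_one c
    rw [e, pow_add, hcn, mul_one]
    exact hb
  -- the kernel of the action on the block system
  obtain ⟨K, hK⟩ : ∃ K : Subgroup H, K = ⨅ k : H, MulAction.stabilizer H (k • B) := ⟨_, rfl⟩
  have hmemK : ∀ h : H, h ∈ K ↔ ∀ k : H, h • (k • B) = k • B := by
    intro h
    rw [hK, Subgroup.mem_iInf]
    exact forall_congr' (fun k => MulAction.mem_stabilizer_iff)
  haveI hKn : K.Normal := by
    constructor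
    intro h hh a
    rw [hmemK] at hh ⊢
    intro k
    have h1 := hh (a⁻¹ * k)
    calc (a * h * a⁻¹) • (k • B) = a • (h • ((a⁻¹ * k) • B)) := by
          rw [mul_smul, mul_smul, mul_smul]
      _ = a • ((a⁻¹ * k) • B) := by rw [h1]
      _ = k • B := by rw [← mul_smul, mul_inv_cancel_left]
  have hc0K : c ^ (p ^ (m - 1)) ∈ K := by
    rw [hmemK]
    intro k
    have hB1 : MulAction.IsBlock H (k • B) := hB.translate k
    obtain ⟨x₁, hx₁, x₂, hx₂, hx12⟩ := hBns
    obtain ⟨ω₁, hω₁, ω₂, hω₂, hne⟩ : ∃ ω₁ ∈ k • B, ∃ ω₂ ∈ k • B, ω₁ ≠ ω₂ :=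
      ⟨k • x₁, Set.smul_mem_smul_set hx₁, k • x₂, Set.smul_mem_smul_set hx₂,
        fun h => hx12 (MulAction.injective k h)⟩
    obtain ⟨i, hi⟩ := hcyc ω₁ ω₂
    have hi' : c ^ (i % p ^ m) • ω₁ = ω₂ := by
      rw [← hord, pow_mod_orderOf]
      exact hi
    have hi0 : 0 < i % p ^ m := by
      rcases Nat.eq_zero_or_pos (i % p ^ m) with h | h
      · rw [h, pow_zero, one_smul] at hi'
        exact absurd hi' hne
      · exact h
    have hilt : i % p ^ m < p ^ m := Nat.mod_lt _ (pow_pos hp.pos m)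
    have hstab : c ^ (i % p ^ m) ∈ MulAction.stabilizer H (k • B) := by
      rw [MulAction.mem_stabilizer_iff]
      apply hB1.smul_eq_of_nonempty
      refine ⟨ω₂, ?_, hω₂⟩
      rw [← hi']
      exact Set.smul_mem_smul_set hω₁
    have hle : Subgroup.zpowers (c ^ (i % p ^ m)) ≤ MulAction.stabilizer H (k • B) :=
      (Subgroup.zpowers_le).mpr hstab
    exact MulAction.mem_stabilizer_iff.mp (hle (pow_mem_zpowers_pow hp hord hi0 hilt))
  have hNK : Subgroup.normalClosure ({c ^ (p ^ (m - 1))} : Set H) ≤ K := by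
    apply Subgroup.normalClosure_le_normal
    intro x hx
    rw [Set.mem_singleton_iff] at hx
    rw [hx]
    exact hc0K
  intro htrN
  obtain ⟨ω₁, hω₁, -, -, -⟩ := hBns
  obtain ⟨ω₃, hω₃⟩ : ∃ ω₃, ω₃ ∉ B := by
    by_contra hcon
    push Not at hcon
    exact hBnu (Set.eq_univ_of_forall hcon)
  obtain ⟨h, hh⟩ := htrN.exists_smul_eq ω₁ ω₃
  have hhK : (h : H) ∈ K := hNK h.2
  rw [hmemK] at hhK
  have h1 := hhK 1
  rw [one_smul] at h1
  apply hω₃
  rw [← hh, ← h1]
  exact Set.smul_mem_smul_set hω₁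

end blocks2

end SR

end Cfsg.Agent.Lib.Helper20
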