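import Cfsg.Agent.Lib.Helper20.Bender
import Cfsg.Agent.Lib.Helper20.Layer
import Cfsg.Agent.Lib.Helper20.PComponents
import Cfsg.Prelude.Def_SubgroupEmbedding

set_option linter.style.haveILetI false
set_option linter.unusedVariables false
set_option linter.unusedSectionVars false
set_option autoImplicit false

namespace Cfsg.Agent.Lib.Helper20

open scoped commutatorElement
open Cfsg

/-- elementwise form of `IsElementaryAbelian 2` -/
theorem elemAb2_iff {G : Type*} [Group G] (V : Subgroup G) :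
    Cfsg.IsElementaryAbelian 2 V ↔
      (∀ a ∈ V, ∀ b ∈ V, a * b = b * a) ∧ ∀ a ∈ V, a * a = 1 := by
  constructor
  · rintro ⟨hc, hs⟩
    refine ⟨fun a ha b hb => ?_, fun a ha => ?_⟩
    · have := hc.is_comm.comm (⟨a, ha⟩ : ↥V) ⟨b, hb⟩
      exact congrArg Subtype.val this
    · have := hs a ha
      rwa [pow_two] at this
  · rintro ⟨hc, hs⟩
    refine ⟨⟨⟨?_⟩⟩, fun a ha => ?_⟩
    · rintro ⟨a, ha⟩ ⟨b, hb⟩
      exact Subtype.ext (hc a ha b hb)
    · rw [pow_two]; exact hs a ha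

theorem inv_eq_self_of_mul_self {G : Type*} [Group G] {v : G} (hv : v * v = 1) : v⁻¹ = v :=
  inv_eq_of_mul_eq_one_left hv

theorem pow_two_mul_pow_eq {Q : Type*} [Group Q] (z : Q) (c : ℕ) (hz : z ^ (2 * c) = z) (a : ℕ) :
    z ^ ((2 * c) ^ a) = z := by
  induction a with
  | zero => simp
  | succ a ih => rw [pow_succ, pow_mul, ih, hz]

/-- lifting an inverted odd-order element through a quotient -/
theorem sidki_lift {G : Type*} [Group G] [Finite G] (N : Subgroup G) [N.Normal] (v : G)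
    (hv : v * v = 1) (hbar : G ⧸ N) (hodd : Odd (orderOf hbar))
    (hinv : (QuotientGroup.mk' N v) * hbar * (QuotientGroup.mk' N v)⁻¹ = hbar⁻¹) :
    ∃ h : G, Odd (orderOf h) ∧ v * h * v⁻¹ = h⁻¹ ∧ QuotientGroup.mk' N h = hbar := by
  obtain ⟨m, hm⟩ := hodd
  set c := m + 1 with hc
  have hz : hbar ^ (2 * c) = hbar := by
    have : 2 * c = orderOf hbar + 1 := by omega
    rw [this, pow_succ, pow_orderOf_eq_one, one_mul]
  set kbar := hbar ^ c with hkbar
  have hk2 : kbar * kbar = hbar := by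
    rw [hkbar, ← pow_add, ← two_mul, hz]
  have hkinv : (QuotientGroup.mk' N v) * kbar * (QuotientGroup.mk' N v)⁻¹ = kbar⁻¹ := by
    rw [hkbar, ← conj_pow, hinv, inv_pow]
  obtain ⟨k, hk⟩ := QuotientGroup.mk'_surjective N kbar
  have hv' : v⁻¹ = v := inv_eq_self_of_mul_self hv
  set x := k * v * k⁻¹ * v⁻¹ with hx
  have hxinv : v * x * v⁻¹ = x⁻¹ := by
    rw [hx, hv']
    have h1 : ∀ y : G, v * (v * y) = y := fun y => by rw [← mul_assoc, hv, one_mul]
    simp only [mul_inv_rev, hv', mul_assoc, h1, hv, mul_one, inv_inv]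
  have hxbar : QuotientGroup.mk' N x = hbar := by
    rw [hx]
    simp only [map_mul, map_inv, hk]
    have : kbar * (QuotientGroup.mk' N v) * kbar⁻¹ * ((QuotientGroup.mk' N) v)⁻¹ =
        kbar * ((QuotientGroup.mk' N v) * kbar * (QuotientGroup.mk' N v)⁻¹)⁻¹ := by group
    rw [this, hkinv, inv_inv, hk2]
  obtain ⟨a, b, hb, hab⟩ := Nat.exists_eq_two_pow_mul_odd (Nat.card_pos (α := G)).ne'
  refine ⟨x ^ (2 ^ a * c ^ a), ?_, ?_, ?_⟩
  · have h1 : (x ^ (2 ^ a * c ^ a)) ^ b = 1 := by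
      rw [← pow_mul]
      have : 2 ^ a * c ^ a * b = Nat.card G * c ^ a := by rw [hab]; ring
      rw [this, pow_mul, pow_card_eq_one', one_pow]
    exact Odd.of_dvd_nat hb (orderOf_dvd_of_pow_eq_one h1)
  · rw [← conj_pow, hxinv, inv_pow]
  · rw [map_pow, hxbar, ← mul_pow]
    exact pow_two_mul_pow_eq hbar c hz a

end Cfsg.Agent.Lib.Helper20
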