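import Cfsg.Agent.Lib.Helper20.Sidki1
import Cfsg.Agent.Lib.Helper20.FstarComm2
import Cfsg.Agent.Lib.Helper20.PLocal
import Cfsg.Agent.Lib.Helper16.Subnormal

set_option linter.style.haveILetI false
set_option linter.unusedVariables false
set_option linter.unusedSectionVars false
set_option autoImplicit false

namespace Cfsg.Agent.Lib.Helper20

open scoped commutatorElement
open Cfsg

universe u

theorem elemAb2_map {G Q : Type*} [Group G] [Group Q] (f : G →* Q) (V : Subgroup G)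
    (hV : Cfsg.IsElementaryAbelian 2 V) : Cfsg.IsElementaryAbelian 2 (V.map f) := by
  rw [elemAb2_iff] at hV ⊢
  refine ⟨?_, ?_⟩
  · rintro _ ⟨a, ha, rfl⟩ _ ⟨b, hb, rfl⟩
    rw [← map_mul, ← map_mul, hV.1 a ha b hb]
  · rintro _ ⟨a, ha, rfl⟩
    rw [← map_mul, hV.2 a ha, map_one]

theorem elemAb2_of_le {G : Type*} [Group G] {U V : Subgroup G} (hUV : U ≤ V)
    (hV : Cfsg.IsElementaryAbelian 2 V) : Cfsg.IsElementaryAbelian 2 U := by
  rw [elemAb2_iff] at hV ⊢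
  exact ⟨fun a ha b hb => hV.1 a (hUV ha) b (hUV hb), fun a ha => hV.2 a (hUV ha)⟩

/-- quotient of a Sidki pair by a normal subgroup meeting `V` trivially -/
theorem sidki_quotient {G : Type*} [Group G] [Finite G] (V N : Subgroup G) [N.Normal]
    (hV : Cfsg.IsElementaryAbelian 2 V) (hS : Cfsg.IsSidkiPair V) (hVN : V ⊓ N = ⊥) :
    Cfsg.IsSidkiPair (V.map (QuotientGroup.mk' N)) := by
  intro hbar vbar hvbar hodd hinv
  obtain ⟨v, hvV, rfl⟩ := hvbar
  have hv2 := ((elemAb2_iff V).mp hV).2 v hvV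
  obtain ⟨h, hho, hhinv, rfl⟩ := sidki_lift N v hv2 hbar hodd hinv
  obtain ⟨w, hwV, hw1, hwc⟩ := hS h v hvV hho hhinv
  refine ⟨QuotientGroup.mk' N w, Subgroup.mem_map_of_mem _ hwV, ?_, ?_⟩
  · intro h1
    have h2 : w ∈ N := (QuotientGroup.eq_one_iff w).mp h1
    have h3 : w ∈ V ⊓ N := ⟨hwV, h2⟩
    rw [hVN] at h3
    exact hw1 (Subgroup.mem_bot.mp h3)
  · rw [← map_mul, ← map_mul, hwc]

theorem map_mk'_ne_bot_of_inf_eq_bot {G : Type*} [Group G] (V N : Subgroup G) [N.Normal]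
    (hV1 : V ≠ ⊥) (hVN : V ⊓ N = ⊥) : V.map (QuotientGroup.mk' N) ≠ ⊥ := by
  intro h
  apply hV1
  rw [eq_bot_iff, ← hVN]
  intro v hv
  refine ⟨hv, ?_⟩
  have : QuotientGroup.mk' N v ∈ V.map (QuotientGroup.mk' N) := Subgroup.mem_map_of_mem _ hv
  rw [h, Subgroup.mem_bot] at this
  exact (QuotientGroup.eq_one_iff v).mp this

theorem pCore_quotient_self_eq_bot {G : Type*} [Group G] [Finite G] (p : ℕ) [Fact p.Prime]
    (N : Subgroup G) [N.Normal] (hN : N = pCore p G) : pCore p (G ⧸ N) = ⊥ := by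
  have hXn := pCore_normal' (K := G ⧸ N) p
  have hXp := pCore_isPGroup' (G := G ⧸ N) p
  have hYn : ((pCore p (G ⧸ N)).comap (QuotientGroup.mk' N)).Normal := hXn.comap _
  have hYp : IsPGroup p ↥((pCore p (G ⧸ N)).comap (QuotientGroup.mk' N)) := by
    apply hXp.comap_of_ker_isPGroup
    rw [QuotientGroup.ker_mk', hN]
    exact pCore_isPGroup' p
  have hY : (pCore p (G ⧸ N)).comap (QuotientGroup.mk' N) ≤ N :=
    (le_pCore' hYn hYp).trans (le_of_eq hN.symm)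
  rw [eq_bot_iff]
  intro x hx
  obtain ⟨g, rfl⟩ := QuotientGroup.mk'_surjective N x
  have : g ∈ N := hY hx
  rw [Subgroup.mem_bot]
  exact (QuotientGroup.eq_one_iff g).mpr this

/-- the minimality hypothesis on `G` -/
def SidkiMinG (G : Type u) [Group G] : Prop :=
  ∀ (H : Type u) [Group H] [Finite H] (W : Subgroup H), Nat.card H < Nat.card G →
    Cfsg.IsElementaryAbelian 2 W → W ≠ ⊥ → Cfsg.IsSidkiPair W → W ⊓ Cfsg.pCore 2 H ≠ ⊥

theorem sidki_pCore_eq_bot {G : Type u} [Group G] [Finite G] (V : Subgroup G)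
    (hV : Cfsg.IsElementaryAbelian 2 V) (hV1 : V ≠ ⊥) (hS : Cfsg.IsSidkiPair V)
    (hVO : V ⊓ Cfsg.pCore 2 G = ⊥) (hminG : SidkiMinG G) : Cfsg.pCore 2 G = ⊥ := by
  by_contra hne
  haveI : Fact (Nat.Prime 2) := ⟨Nat.prime_two⟩
  obtain ⟨N, hN⟩ : ∃ N, N = pCore 2 G := ⟨_, rfl⟩
  haveI : N.Normal := by rw [hN]; exact pCore_normal' 2
  have hNne : N ≠ ⊥ := by rw [hN]; exact hne
  have hcard : Nat.card (G ⧸ N) < Nat.card G := by
    rw [← Subgroup.index_eq_card, ← Subgroup.card_mul_index N]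
    have h1 : 1 < Nat.card N := by
      rw [Subgroup.one_lt_card_iff_ne_bot]; exact hNne
    have h2 : 0 < N.index := Nat.pos_of_ne_zero Subgroup.index_ne_zero_of_finite
    nlinarith
  have hVN : V ⊓ N = ⊥ := by rw [hN]; exact hVO
  have := hminG (G ⧸ N) (V.map (QuotientGroup.mk' N)) hcard (elemAb2_map _ V hV)
    (map_mk'_ne_bot_of_inf_eq_bot V N hV1 hVN) (sidki_quotient V N hV hS hVN)
  apply this
  rw [pCore_quotient_self_eq_bot 2 N hN, inf_bot_eq]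

/-- the minimality hypothesis applied to a proper subgroup `H` and a subgroup `U ≤ H` satisfying
the Sidki condition relative to `H` -/
theorem sidki_min_apply {G : Type u} [Group G] [Finite G] (hminG : SidkiMinG G)
    (H U : Subgroup G) (hUH : U ≤ H) (hH : H ≠ ⊤) (hU : Cfsg.IsElementaryAbelian 2 U)
    (hU1 : U ≠ ⊥)
    (hSU : ∀ h ∈ H, ∀ v ∈ U, Odd (orderOf h) → v * h * v⁻¹ = h⁻¹ →
      ∃ w ∈ U, w ≠ 1 ∧ w * h = h * w) :
    ∃ u ∈ U, u ≠ 1 ∧ ∃ hu : u ∈ H, (⟨u, hu⟩ : ↥H) ∈ Cfsg.pCore 2 ↥H := by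
  have hcard : Nat.card ↥H < Nat.card G := card_lt_of_lt_top (lt_top_iff_ne_top.mpr hH)
  have hW : Cfsg.IsElementaryAbelian 2 (U.subgroupOf H) := by
    rw [elemAb2_iff] at hU ⊢
    refine ⟨?_, ?_⟩
    · rintro ⟨a, haH⟩ ha ⟨b, hbH⟩ hb
      rw [Subgroup.mem_subgroupOf] at ha hb
      exact Subtype.ext (hU.1 a ha b hb)
    · rintro ⟨a, haH⟩ ha
      rw [Subgroup.mem_subgroupOf] at ha
      exact Subtype.ext (hU.2 a ha)
  have hW1 : U.subgroupOf H ≠ ⊥ := by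
    intro h
    apply hU1
    rw [eq_bot_iff]
    intro u hu
    have : (⟨u, hUH hu⟩ : ↥H) ∈ U.subgroupOf H := by rw [Subgroup.mem_subgroupOf]; exact hu
    rw [h, Subgroup.mem_bot] at this
    rw [Subgroup.mem_bot]
    exact congrArg Subtype.val this
  have hWS : Cfsg.IsSidkiPair (U.subgroupOf H) := by
    rintro ⟨h, hh⟩ ⟨v, hvH⟩ hv hodd hinv
    rw [Subgroup.mem_subgroupOf] at hv
    have hodd' : Odd (orderOf h) := by
      have : orderOf (⟨h, hh⟩ : ↥H) = orderOf h := by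
        rw [← Subgroup.orderOf_coe]
      rwa [this] at hodd
    have hinv' : v * h * v⁻¹ = h⁻¹ := congrArg Subtype.val hinv
    obtain ⟨w, hw, hw1, hwc⟩ := hSU h hh v hv hodd' hinv'
    refine ⟨⟨w, hUH hw⟩, ?_, ?_, ?_⟩
    · rw [Subgroup.mem_subgroupOf]; exact hw
    · intro h1; exact hw1 (congrArg Subtype.val h1)
    · exact Subtype.ext hwc
  have := hminG ↥H (U.subgroupOf H) hcard hW hW1 hWS
  rw [Subgroup.ne_bot_iff_exists_ne_one] at this
  obtain ⟨⟨⟨u, huH⟩, hu1, hu2⟩, hne⟩ := this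
  have hu1' : (⟨u, huH⟩ : ↥H) ∈ U.subgroupOf H := hu1
  rw [Subgroup.mem_subgroupOf] at hu1'
  refine ⟨u, hu1', ?_, huH, hu2⟩
  intro h1
  apply hne
  apply Subtype.ext
  apply Subtype.ext
  exact h1

/-- a normal `2`-subgroup of `H ≥ X` centralizes the normal subgroup `X` of `G` when `O_2(G) = 1` -/
theorem pCore_two_centralizes_normal {G : Type*} [Group G] [Finite G]
    (hO : Cfsg.pCore 2 G = ⊥) (X H : Subgroup G) [hX : X.Normal] (hXH : X ≤ H)
    (u : G) (hu : u ∈ H) (huO : (⟨u, hu⟩ : ↥H) ∈ Cfsg.pCore 2 ↥H) :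
    u ∈ Subgroup.centralizer (X : Set G) := by
  haveI : Fact (Nat.Prime 2) := ⟨Nat.prime_two⟩
  obtain ⟨R, hR⟩ : ∃ R, R = (pCore 2 ↥H).map H.subtype := ⟨_, rfl⟩
  have hRp : IsPGroup 2 ↥R := by rw [hR]; exact (pCore_isPGroup' 2).map _
  have hRH : R ≤ H := by rw [hR]; exact Subgroup.map_subtype_le _
  have hn := pCore_normal' (K := ↥H) 2
  have hHR : H ≤ Subgroup.normalizer (R : Set G) := by
    intro g hg
    rw [Subgroup.mem_normalizer_iff]
    intro r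
    rw [hR]
    constructor
    · rintro ⟨r', hr', rfl⟩
      exact ⟨⟨g, hg⟩ * r' * (⟨g, hg⟩ : ↥H)⁻¹, hn.conj_mem r' hr' _, by simp⟩
    · rintro ⟨r', hr', hr''⟩
      have h2 := hn.conj_mem r' hr' (⟨g, hg⟩ : ↥H)⁻¹
      refine ⟨(⟨g, hg⟩ : ↥H)⁻¹ * r' * (⟨g, hg⟩ : ↥H)⁻¹⁻¹, h2, ?_⟩
      simp only [inv_inv, Subgroup.subtype_apply, Subgroup.coe_mul, Subgroup.coe_inv]
      have : (r' : G) = g * r * g⁻¹ := hr''
      rw [this]; group
  have hXR : X ≤ Subgroup.normalizer (R : Set G) := hXH.trans hHR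
  have hXX : X ≤ Subgroup.normalizer (X : Set G) := Subgroup.le_normalizer
  have hD : X ≤ Subgroup.normalizer ((R ⊓ X : Subgroup G) : Set G) := le_normalizer_inf' hXR hXX
  have hDsn : (R ⊓ X).IsSubnormal := by
    apply Subgroup.IsSubnormal.trans (inf_le_right : R ⊓ X ≤ X)
    · exact ((Subgroup.normal_subgroupOf_iff_le_normalizer inf_le_right).mpr hD).isSubnormal
    · exact hX.isSubnormal
  have hDp : IsPGroup 2 ↥(R ⊓ X : Subgroup G) := hRp.to_le inf_le_left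
  have hD0 : R ⊓ X = ⊥ := by
    rw [eq_bot_iff, ← hO]
    exact Cfsg.Agent.Lib.Helper16.le_pCore_of_isSubnormal_of_isPGroup 2 hDsn hDp
  have huR : u ∈ R := by rw [hR]; exact ⟨⟨u, hu⟩, huO, rfl⟩
  rw [Subgroup.mem_centralizer_iff]
  intro x hx
  have hxX : x ∈ X := hx
  have h1 : u * x * u⁻¹ * x⁻¹ ∈ R ⊓ X := by
    refine ⟨?_, ?_⟩
    · have h2 : x * u⁻¹ * x⁻¹ ∈ R :=
        ((Subgroup.mem_normalizer_iff.mp (hXR hxX)) u⁻¹).mp (R.inv_mem huR)
      have : u * x * u⁻¹ * x⁻¹ = u * (x * u⁻¹ * x⁻¹) := by group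
      rw [this]; exact R.mul_mem huR h2
    · exact X.mul_mem (hX.conj_mem x hxX u) (X.inv_mem hxX)
  rw [hD0, Subgroup.mem_bot] at h1
  have : u * x = x * u := by
    have h2 : u * x * u⁻¹ * x⁻¹ * x * u = x * u := by rw [h1, one_mul]
    rw [← h2]; group
  exact this.symm

end Cfsg.Agent.Lib.Helper20
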