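import Cfsg.Agent.Lib.Helper20.Sidki2

set_option linter.style.haveILetI false
set_option linter.unusedVariables false
set_option linter.unusedSectionVars false
set_option autoImplicit false

namespace Cfsg.Agent.Lib.Helper20

open scoped commutatorElement
open Cfsg

universe u

/-- with `O_2(G) = 1`, an abelian normal subgroup has no involutions -/
theorem involution_in_abelian_normal_eq_one {G : Type*} [Group G] [Finite G]
    (hO : Cfsg.pCore 2 G = ⊥) (A : Subgroup G) [hA : A.Normal]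
    (hAc : ∀ a ∈ A, ∀ b ∈ A, a * b = b * a) (u : G) (huA : u ∈ A) (hu2 : u * u = 1) : u = 1 := by
  let T : Subgroup G :=
    { carrier := {z | z ∈ A ∧ z * z = 1}
      mul_mem' := by
        rintro a b ⟨ha, ha2⟩ ⟨hb, hb2⟩
        refine ⟨A.mul_mem ha hb, ?_⟩
        have : a * b * (a * b) = a * (b * a) * b := by group
        rw [this, ← hAc a ha b hb]
        have : a * (a * b) * b = (a * a) * (b * b) := by group
        rw [this, ha2, hb2, one_mul]
      one_mem' := ⟨A.one_mem, by simp⟩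
      inv_mem' := by
        rintro a ⟨ha, ha2⟩
        refine ⟨A.inv_mem ha, ?_⟩
        rw [← mul_inv_rev, ha2, inv_one] }
  have hTn : T.Normal := by
    refine ⟨?_⟩
    rintro a ⟨ha, ha2⟩ g
    refine ⟨hA.conj_mem a ha g, ?_⟩
    have : g * a * g⁻¹ * (g * a * g⁻¹) = g * (a * a) * g⁻¹ := by group
    rw [this, ha2]; group
  have hTp : IsPGroup 2 ↥T := by
    rintro ⟨a, ha, ha2⟩
    refine ⟨1, ?_⟩
    apply Subtype.ext
    simp only [pow_one, Subgroup.coe_pow, Subgroup.coe_one]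
    rw [pow_two]; exact ha2
  have hT : T ≤ ⊥ := by rw [← hO]; exact le_pCore' hTn hTp
  have : u ∈ T := ⟨huA, hu2⟩
  exact Subgroup.mem_bot.mp (hT this)

theorem exists_minimal_normal_le {G : Type*} [Group G] [Finite G] (Z : Subgroup G) [hZ : Z.Normal]
    (hZ1 : Z ≠ ⊥) :
    ∃ N : Subgroup G, N.Normal ∧ N ≠ ⊥ ∧ N ≤ Z ∧
      ∀ M : Subgroup G, M.Normal → M ≤ N → M = ⊥ ∨ M = N := by
  obtain ⟨N, hN, hmin⟩ := WellFounded.has_min (wellFounded_lt (α := Subgroup G))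
    {N : Subgroup G | N.Normal ∧ N ≠ ⊥ ∧ N ≤ Z} ⟨Z, hZ, hZ1, le_rfl⟩
  refine ⟨N, hN.1, hN.2.1, hN.2.2, ?_⟩
  intro M hMn hMN
  by_cases hM : M = ⊥
  · exact Or.inl hM
  · right
    by_contra hne
    exact hmin M ⟨hMn, hM, hMN.trans hN.2.2⟩ (lt_of_le_of_ne hMN hne)

theorem pow_odd_of_mul_self {Q : Type*} [Group Q] (z : Q) (hz : z * z = 1) (m : ℕ) (hm : Odd m) :
    z ^ m = z := by
  obtain ⟨k, rfl⟩ := hm
  rw [pow_succ, pow_mul, pow_two, hz, one_pow, one_mul]

/-- odd-order elements of `C ⊔ U` (`C` normal, `U` of exponent 2) lie in `C` -/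
theorem mem_of_odd_of_mem_sup_two {G : Type*} [Group G] (C U : Subgroup G) [hC : C.Normal]
    (hU : ∀ a ∈ U, a * a = 1) (h : G) (hh : h ∈ C ⊔ U) (hodd : Odd (orderOf h)) : h ∈ C := by
  have h1 : QuotientGroup.mk' C h ∈ (C ⊔ U).map (QuotientGroup.mk' C) :=
    Subgroup.mem_map_of_mem _ hh
  rw [Subgroup.map_sup, QuotientGroup.map_mk'_self, bot_sup_eq] at h1
  obtain ⟨u, hu, hu'⟩ := h1
  have h2 : (QuotientGroup.mk' C u) * (QuotientGroup.mk' C u) = 1 := by
    rw [← map_mul, hU u hu, map_one]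
  have h3 : (QuotientGroup.mk' C u) ^ (orderOf h) = QuotientGroup.mk' C u :=
    pow_odd_of_mul_self _ h2 _ hodd
  have h4 : (QuotientGroup.mk' C u) ^ (orderOf h) = 1 := by
    rw [hu', ← map_pow, pow_orderOf_eq_one, map_one]
  rw [h3, hu'] at h4
  exact (QuotientGroup.eq_one_iff h).mp h4

/-- the same for `C` merely normalized by `U` -/
theorem mem_of_odd_of_mem_sup_two' {G : Type*} [Group G] (C U : Subgroup G)
    (hUC : U ≤ Subgroup.normalizer (C : Set G))
    (hU : ∀ a ∈ U, a * a = 1) (h : G) (hh : h ∈ C ⊔ U) (hodd : Odd (orderOf h)) : h ∈ C := by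
  obtain ⟨M, hM⟩ : ∃ M, M = Subgroup.normalizer (C : Set G) := ⟨_, rfl⟩
  have hCM : C ≤ M := by rw [hM]; exact Subgroup.le_normalizer
  have hUM : U ≤ M := by rw [hM]; exact hUC
  have hhM : h ∈ M := (sup_le hCM hUM) hh
  haveI : (C.subgroupOf M).Normal := by
    rw [hM]; exact Subgroup.normal_in_normalizer
  have h1 : (⟨h, hhM⟩ : ↥M) ∈ C.subgroupOf M ⊔ U.subgroupOf M := by
    rw [← Subgroup.subgroupOf_sup hCM hUM, Subgroup.mem_subgroupOf]
    exact hh
  have h2 : ∀ a ∈ U.subgroupOf M, a * a = 1 := by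
    rintro ⟨a, haM⟩ ha
    rw [Subgroup.mem_subgroupOf] at ha
    exact Subtype.ext (hU a ha)
  have h3 : Odd (orderOf (⟨h, hhM⟩ : ↥M)) := by
    have : orderOf (⟨h, hhM⟩ : ↥M) = orderOf h := by rw [← Subgroup.orderOf_coe]
    rwa [this]
  have := mem_of_odd_of_mem_sup_two (C.subgroupOf M) (U.subgroupOf M) h2 _ h1 h3
  rwa [Subgroup.mem_subgroupOf] at this

theorem odd_orderOf_mul_of_commute {G : Type*} [Group G] {a b : G} (hab : a * b = b * a)
    (ha : Odd (orderOf a)) (hb : Odd (orderOf b)) : Odd (orderOf (a * b)) := by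
  have h1 : (a * b) ^ (orderOf a * orderOf b) = 1 := by
    have hc : Commute a b := hab
    rw [hc.mul_pow, pow_mul, pow_orderOf_eq_one, one_pow, one_mul, mul_comm, pow_mul,
      pow_orderOf_eq_one, one_pow]
  exact Odd.of_dvd_nat (ha.mul hb) (orderOf_dvd_of_pow_eq_one h1)

/-- generalization of `pCore_two_centralizes_normal` to subnormal `X` normalized by `H` -/
theorem pCore_two_centralizes_subnormal {G : Type*} [Group G] [Finite G]
    (hO : Cfsg.pCore 2 G = ⊥) (X H : Subgroup G) (hX : X.IsSubnormal) (hXH : X ≤ H)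
    (hHX : H ≤ Subgroup.normalizer (X : Set G))
    (u : G) (hu : u ∈ H) (huO : (⟨u, hu⟩ : ↥H) ∈ Cfsg.pCore 2 ↥H) :
    u ∈ Subgroup.centralizer (X : Set G) := by
  haveI : Fact (Nat.Prime 2) := ⟨Nat.prime_two⟩
  obtain ⟨R, hR⟩ : ∃ R, R = (pCore 2 ↥H).map H.subtype := ⟨_, rfl⟩
  have hRp : IsPGroup 2 ↥R := by rw [hR]; exact (pCore_isPGroup' 2).map _
  have hRH : R ≤ H := by rw [hR]; exact Subgroup.map_subtype_le _
  have hn := pCore_normal' (K := ↥H) 2
  have hHR : H ≤ Subgroup.normalizer (R : Set G) := by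
    intro g hg
    rw [Subgroup.mem_normalizer_iff]
    intro r
    rw [hR]
    constructor
    · rintro ⟨r', hr', rfl⟩
      exact ⟨⟨g, hg⟩ * r' * (⟨g, hg⟩ : ↥H)⁻¹, hn.conj_mem r' hr' _, by simp⟩
    · rintro ⟨r', hr', hr''⟩
      have h2 := hn.conj_mem r' hr' (⟨g, hg⟩ : ↥H)⁻¹
      refine ⟨(⟨g, hg⟩ : ↥H)⁻¹ * r' * (⟨g, hg⟩ : ↥H)⁻¹⁻¹, h2, ?_⟩
      simp only [inv_inv, Subgroup.subtype_apply, Subgroup.coe_mul, Subgroup.coe_inv]
      have : (r' : G) = g * r * g⁻¹ := hr''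
      rw [this]; group
  have hXR : X ≤ Subgroup.normalizer (R : Set G) := hXH.trans hHR
  have hXX : X ≤ Subgroup.normalizer (X : Set G) := Subgroup.le_normalizer
  have hD : X ≤ Subgroup.normalizer ((R ⊓ X : Subgroup G) : Set G) := le_normalizer_inf' hXR hXX
  have hDsn : (R ⊓ X).IsSubnormal := by
    apply Subgroup.IsSubnormal.trans (inf_le_right : R ⊓ X ≤ X)
    · exact ((Subgroup.normal_subgroupOf_iff_le_normalizer inf_le_right).mpr hD).isSubnormal
    · exact hX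
  have hDp : IsPGroup 2 ↥(R ⊓ X : Subgroup G) := hRp.to_le inf_le_left
  have hD0 : R ⊓ X = ⊥ := by
    rw [eq_bot_iff, ← hO]
    exact Cfsg.Agent.Lib.Helper16.le_pCore_of_isSubnormal_of_isPGroup 2 hDsn hDp
  have huR : u ∈ R := by rw [hR]; exact ⟨⟨u, hu⟩, huO, rfl⟩
  rw [Subgroup.mem_centralizer_iff]
  intro x hx
  have hxX : x ∈ X := hx
  have h1 : u * x * u⁻¹ * x⁻¹ ∈ R ⊓ X := by
    refine ⟨?_, ?_⟩
    · have h2 : x * u⁻¹ * x⁻¹ ∈ R :=
        ((Subgroup.mem_normalizer_iff.mp (hXR hxX)) u⁻¹).mp (R.inv_mem huR)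
      have : u * x * u⁻¹ * x⁻¹ = u * (x * u⁻¹ * x⁻¹) := by group
      rw [this]; exact R.mul_mem huR h2
    · have h3 : u * x * u⁻¹ ∈ X := ((Subgroup.mem_normalizer_iff.mp (hHX hu)) x).mp hxX
      exact X.mul_mem h3 (X.inv_mem hxX)
  rw [hD0, Subgroup.mem_bot] at h1
  have : u * x = x * u := by
    have h2 : u * x * u⁻¹ * x⁻¹ * x * u = x * u := by rw [h1, one_mul]
    rw [← h2]; group
  exact this.symm

/-- `O_2` of a normal subgroup is trivial when `O_2(G) = 1` -/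
theorem mem_pCore_two_of_normal_eq_one {G : Type*} [Group G] [Finite G]
    (hO : Cfsg.pCore 2 G = ⊥) (H : Subgroup G) [hH : H.Normal]
    (u : G) (hu : u ∈ H) (huO : (⟨u, hu⟩ : ↥H) ∈ Cfsg.pCore 2 ↥H) : u = 1 := by
  have h1 := pCore_two_centralizes_subnormal hO H H hH.isSubnormal le_rfl Subgroup.le_normalizer
    u hu huO
  haveI : Fact (Nat.Prime 2) := ⟨Nat.prime_two⟩
  obtain ⟨R, hR⟩ : ∃ R, R = (pCore 2 ↥H).map H.subtype := ⟨_, rfl⟩
  have hRp : IsPGroup 2 ↥R := by rw [hR]; exact (pCore_isPGroup' 2).map _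
  have hRH : R ≤ H := by rw [hR]; exact Subgroup.map_subtype_le _
  have hn := pCore_normal' (K := ↥H) 2
  have hRn : (R.subgroupOf H).Normal := by
    have : R.subgroupOf H = pCore 2 ↥H := by
      rw [hR]
      ext x
      rw [Subgroup.mem_subgroupOf]
      constructor
      · rintro ⟨y, hy, hxy⟩
        have : y = x := Subtype.ext hxy
        rwa [← this]
      · intro hx
        exact ⟨x, hx, rfl⟩
    rw [this]; exact hn
  have hRsn : R.IsSubnormal :=
    Subgroup.IsSubnormal.trans hRH hRn.isSubnormal hH.isSubnormal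
  have hR0 : R ≤ ⊥ := by
    rw [← hO]
    exact Cfsg.Agent.Lib.Helper16.le_pCore_of_isSubnormal_of_isPGroup 2 hRsn hRp
  have huR : u ∈ R := by rw [hR]; exact ⟨⟨u, hu⟩, huO, rfl⟩
  exact Subgroup.mem_bot.mp (hR0 huR)

end Cfsg.Agent.Lib.Helper20
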