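import Cfsg.Agent.Lib.Helper20.Sidki3

set_option linter.style.haveILetI false
set_option linter.unusedVariables false
set_option linter.unusedSectionVars false
set_option autoImplicit false

namespace Cfsg.Agent.Lib.Helper20

open scoped commutatorElement
open Cfsg

universe u

/-- the minimality hypothesis on `V` -/
def SidkiMinV {G : Type*} [Group G] (V : Subgroup G) : Prop :=
  ∀ W : Subgroup G, Nat.card W < Nat.card V → Cfsg.IsElementaryAbelian 2 W → W ≠ ⊥ →
    Cfsg.IsSidkiPair W → W ⊓ Cfsg.pCore 2 G ≠ ⊥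

theorem sidki_normalClosure {G : Type u} [Group G] [Finite G] (V : Subgroup G)
    (hV : Cfsg.IsElementaryAbelian 2 V) (hV1 : V ≠ ⊥) (hS : Cfsg.IsSidkiPair V)
    (hO : Cfsg.pCore 2 G = ⊥) (hminG : SidkiMinG G) :
    Subgroup.normalClosure (V : Set G) = ⊤ := by
  by_contra hne
  obtain ⟨u, huV, hu1, huH, huO⟩ := sidki_min_apply hminG (Subgroup.normalClosure (V : Set G)) V
    Subgroup.le_normalClosure hne hV hV1 (fun h _ v hv => hS h v hv)
  exact hu1 (mem_pCore_two_of_normal_eq_one hO _ u huH huO)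

theorem sidki_F5 {G : Type*} [Group G] [Finite G] (V : Subgroup G)
    (hV : Cfsg.IsElementaryAbelian 2 V) (hO : Cfsg.pCore 2 G = ⊥) (hminV : SidkiMinV V)
    (W : Subgroup G) (hWV : W ≤ V) (hne : W ≠ V) :
    ∃ w ∈ W, ∃ h : G, Odd (orderOf h) ∧ w * h * w⁻¹ = h⁻¹ ∧ ∀ u ∈ W, u ≠ 1 → u * h ≠ h * u := by
  by_cases hW1 : W = ⊥
  · refine ⟨1, W.one_mem, 1, by simp, by simp, ?_⟩
    intro u hu hu1
    rw [hW1, Subgroup.mem_bot] at hu
    exact absurd hu hu1
  · have hcard : Nat.card W < Nat.card V := by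
      by_contra hge
      exact hne (Subgroup.eq_of_le_of_card_ge hWV (not_lt.mp hge))
    have hnS : ¬ Cfsg.IsSidkiPair W := by
      intro hSW
      have := hminV W hcard (elemAb2_of_le hWV hV) hW1 hSW
      rw [hO, inf_bot_eq] at this
      exact this rfl
    unfold Cfsg.IsSidkiPair at hnS
    push Not at hnS
    obtain ⟨h, w, hw, hodd, hinv, hno⟩ := hnS
    exact ⟨w, hw, h, hodd, hinv, hno⟩

/-- `O_2(G / N)` contains no image of an involution when `N` is central and `O_2(G) = 1` -/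
theorem pCore_two_quotient_central {G : Type*} [Group G] [Finite G] (hO : Cfsg.pCore 2 G = ⊥)
    (N : Subgroup G) [hN : N.Normal] (hNc : N ≤ Subgroup.center G) (v : G) (hv2 : v * v = 1)
    (hvO : QuotientGroup.mk' N v ∈ Cfsg.pCore 2 (G ⧸ N)) : v = 1 := by
  haveI : Fact (Nat.Prime 2) := ⟨Nat.prime_two⟩
  obtain ⟨T, hT⟩ : ∃ T, T = (pCore 2 (G ⧸ N)).comap (QuotientGroup.mk' N) := ⟨_, rfl⟩
  have hTn : T.Normal := by rw [hT]; exact (pCore_normal' 2).comap _
  have hvT : v ∈ T := by rw [hT]; exact hvO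
  have hmemT : ∀ t : ↥T, QuotientGroup.mk' N (t : G) ∈ pCore 2 (G ⧸ N) := by
    intro t
    have hle : T ≤ (pCore 2 (G ⧸ N)).comap (QuotientGroup.mk' N) := le_of_eq hT
    exact hle t.2
  let f : ↥T →* ↥(pCore 2 (G ⧸ N)) :=
    ((QuotientGroup.mk' N).comp T.subtype).codRestrict _ hmemT
  have hker : f.ker ≤ Subgroup.center ↥T := by
    intro t ht
    rw [MonoidHom.mem_ker] at ht
    have h1 : QuotientGroup.mk' N (t : G) = 1 := congrArg Subtype.val ht
    have h2 : (t : G) ∈ N := (QuotientGroup.eq_one_iff _).mp h1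
    have h3 := hNc h2
    rw [Subgroup.mem_center_iff] at h3 ⊢
    intro g
    exact Subtype.ext (h3 (g : G))
  haveI : Group.IsNilpotent ↥(pCore 2 (G ⧸ N)) := (pCore_isPGroup' 2).isNilpotent
  haveI hTnil : Group.IsNilpotent ↥T := Subgroup.isNilpotent_of_ker_le_center f hker
  obtain ⟨P⟩ : Nonempty (Sylow 2 ↥T) := inferInstance
  have hPn : (P : Subgroup ↥T).Normal := inferInstance
  obtain ⟨R, hR⟩ : ∃ R, R = (P : Subgroup ↥T).map T.subtype := ⟨_, rfl⟩
  have hRp : IsPGroup 2 ↥R := by rw [hR]; exact P.isPGroup'.map _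
  have hRT : R ≤ T := by rw [hR]; exact Subgroup.map_subtype_le _
  have hRn : (R.subgroupOf T).Normal := by
    have : R.subgroupOf T = (P : Subgroup ↥T) := by
      rw [hR]
      ext x
      rw [Subgroup.mem_subgroupOf]
      constructor
      · rintro ⟨y, hy, hxy⟩
        have : y = x := Subtype.ext hxy
        rwa [← this]
      · intro hx
        exact ⟨x, hx, rfl⟩
    rw [this]; exact hPn
  have hRsn : R.IsSubnormal :=
    Subgroup.IsSubnormal.trans hRT hRn.isSubnormal hTn.isSubnormal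
  have hR0 : R ≤ ⊥ := by
    rw [← hO]
    exact Cfsg.Agent.Lib.Helper16.le_pCore_of_isSubnormal_of_isPGroup 2 hRsn hRp
  have hP0 : (P : Subgroup ↥T) = ⊥ := by
    rw [eq_bot_iff]
    intro x hx
    have : (x : G) ∈ R := by rw [hR]; exact ⟨x, hx, rfl⟩
    have := Subgroup.mem_bot.mp (hR0 this)
    rw [Subgroup.mem_bot]
    exact Subtype.ext this
  -- so `T` has odd order
  have hcard := P.card_eq_multiplicity
  rw [hP0, Subgroup.card_bot] at hcard
  have hnd : ¬ 2 ∣ Nat.card ↥T := by
    intro hd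
    have hpos : 0 < (Nat.card ↥T).factorization 2 :=
      Nat.Prime.factorization_pos_of_dvd Nat.prime_two Nat.card_pos.ne' hd
    have : 2 ^ (Nat.card ↥T).factorization 2 ≠ 1 := by
      have := Nat.one_lt_two_pow hpos.ne'
      omega
    exact this hcard.symm
  by_contra hv1
  have hord : orderOf (⟨v, hvT⟩ : ↥T) = 2 := by
    apply orderOf_eq_prime
    · rw [pow_two]; exact Subtype.ext hv2
    · intro h; exact hv1 (congrArg Subtype.val h)
  exact hnd (hord ▸ orderOf_dvd_natCard _)

/-- every element of `V` centralizes or inverts an abelian minimal normal subgroup `N` with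
`G = C_G(N) V` -/
theorem centralizes_or_inverts {G : Type*} [Group G] (V : Subgroup G)
    (hV : Cfsg.IsElementaryAbelian 2 V) (N : Subgroup G) [hN : N.Normal]
    (hNab : ∀ a ∈ N, ∀ b ∈ N, a * b = b * a)
    (hNmin : ∀ M : Subgroup G, M.Normal → M ≤ N → M = ⊥ ∨ M = N)
    (hG : Subgroup.centralizer (N : Set G) ⊔ V = ⊤) (u : G) (hu : u ∈ V) :
    (∀ n ∈ N, u * n * u⁻¹ = n) ∨ (∀ n ∈ N, u * n * u⁻¹ = n⁻¹) := by
  rw [elemAb2_iff] at hV
  have hu2 := hV.2 u hu
  have hu' : u⁻¹ = u := inv_eq_self_of_mul_self hu2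
  let M : Subgroup G :=
    { carrier := {n | n ∈ N ∧ u * n * u⁻¹ = n⁻¹}
      mul_mem' := by
        rintro a b ⟨ha, ha2⟩ ⟨hb, hb2⟩
        refine ⟨N.mul_mem ha hb, ?_⟩
        have : u * (a * b) * u⁻¹ = (u * a * u⁻¹) * (u * b * u⁻¹) := by group
        rw [this, ha2, hb2, mul_inv_rev]
        exact hNab _ (N.inv_mem ha) _ (N.inv_mem hb)
      one_mem' := ⟨N.one_mem, by simp⟩
      inv_mem' := by
        rintro a ⟨ha, ha2⟩
        refine ⟨N.inv_mem ha, ?_⟩
        have : u * a⁻¹ * u⁻¹ = (u * a * u⁻¹)⁻¹ := by group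
        rw [this, ha2] }
  have hMN : M ≤ N := fun n hn => hn.1
  have hMn : M.Normal := by
    have : Subgroup.normalizer (M : Set G) = ⊤ := by
      rw [eq_top_iff, ← hG]
      apply sup_le
      · intro c hc
        rw [Subgroup.mem_normalizer_iff]
        intro n
        have key : ∀ m ∈ N, c * m * c⁻¹ = m := by
          intro m hm
          have := (Subgroup.mem_centralizer_iff.mp hc) m hm
          rw [← this]; group
        constructor
        · rintro ⟨hn, hn2⟩
          rw [key n hn]; exact ⟨hn, hn2⟩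
        · rintro ⟨hn, hn2⟩
          have hnN : n ∈ N := by
            have := hN.conj_mem _ hn c⁻¹
            simpa [mul_assoc] using this
          rw [key n hnN] at hn2
          exact ⟨hnN, hn2⟩
      · intro v hv
        have hcomm : ∀ v ∈ V, ∀ n : G, u * (v * n * v⁻¹) * u⁻¹ = v * (u * n * u⁻¹) * v⁻¹ := by
          intro v hv n
          have h1 : u * v = v * u := hV.1 u hu v hv
          have h2 : v⁻¹ * u⁻¹ = u⁻¹ * v⁻¹ := by
            rw [← mul_inv_rev, ← mul_inv_rev, h1]
          calc u * (v * n * v⁻¹) * u⁻¹ = (u * v) * n * (v⁻¹ * u⁻¹) := by group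
            _ = (v * u) * n * (u⁻¹ * v⁻¹) := by rw [h1, h2]
            _ = v * (u * n * u⁻¹) * v⁻¹ := by group
        have key : ∀ v ∈ V, ∀ n ∈ M, v * n * v⁻¹ ∈ M := by
          rintro v hv n ⟨hn, hn2⟩
          refine ⟨hN.conj_mem n hn v, ?_⟩
          rw [hcomm v hv n, hn2]; group
        rw [Subgroup.mem_normalizer_iff]
        intro n
        constructor
        · exact key v hv n
        · intro hn
          have := key v⁻¹ (V.inv_mem hv) _ hn
          simpa [mul_assoc] using this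
    exact Subgroup.normalizer_eq_top_iff.mp this
  rcases hNmin M hMn hMN with h | h
  · left
    intro n hn
    have hmem : n⁻¹ * (u * n * u⁻¹) ∈ M := by
      refine ⟨N.mul_mem (N.inv_mem hn) (hN.conj_mem n hn u), ?_⟩
      have hm : u * (u * n * u⁻¹) * u⁻¹ = n := by
        rw [hu']
        calc u * (u * n * u) * u = (u * u) * n * (u * u) := by group
          _ = n := by rw [hu2]; simp
      have h1 : u * (n⁻¹ * (u * n * u⁻¹)) * u⁻¹ =
          (u * n⁻¹ * u⁻¹) * (u * (u * n * u⁻¹) * u⁻¹) := by group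
      rw [h1, hm]; group
    rw [h, Subgroup.mem_bot] at hmem
    have : u * n * u⁻¹ = n * (n⁻¹ * (u * n * u⁻¹)) := by group
    rw [this, hmem, mul_one]
  · right
    intro n hn
    have : n ∈ M := by rw [h]; exact hn
    exact this.2

end Cfsg.Agent.Lib.Helper20
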