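import Cfsg.Agent.Lib.Helper20.Sidki4

set_option linter.style.haveILetI false
set_option linter.unusedVariables false
set_option linter.unusedSectionVars false
set_option autoImplicit false

namespace Cfsg.Agent.Lib.Helper20

open scoped commutatorElement
open Cfsg

universe u

theorem genFitting_normal'' {G : Type*} [Group G] :
    (Cfsg.generalizedFittingSubgroup G).Normal := by
  have hFn : (fittingSubgroup G).Normal := fittingSubgroup_normal'
  unfold Cfsg.generalizedFittingSubgroup
  infer_instance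

theorem card_quotient_lt_of_ne_bot {G : Type*} [Group G] [Finite G] (N : Subgroup G) [N.Normal]
    (hN : N ≠ ⊥) : Nat.card (G ⧸ N) < Nat.card G := by
  rw [← Subgroup.index_eq_card, ← Subgroup.card_mul_index N]
  have h1 : 1 < Nat.card N := by
    rw [Subgroup.one_lt_card_iff_ne_bot]; exact hN
  have h2 : 0 < N.index := Nat.pos_of_ne_zero Subgroup.index_ne_zero_of_finite
  nlinarith

/-- Step 2: `G = F*(G) V` -/
theorem sidki_genFitting_sup {G : Type u} [Group G] [Finite G] (V : Subgroup G)
    (hV : Cfsg.IsElementaryAbelian 2 V) (hV1 : V ≠ ⊥) (hS : Cfsg.IsSidkiPair V)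
    (hO : Cfsg.pCore 2 G = ⊥) (hminG : SidkiMinG G) :
    Cfsg.generalizedFittingSubgroup G ⊔ V = ⊤ := by
  by_contra hne
  haveI hXn : (Cfsg.generalizedFittingSubgroup G).Normal := genFitting_normal''
  obtain ⟨u, huV, hu1, huH, huO⟩ := sidki_min_apply hminG _ V le_sup_right hne hV hV1
    (fun h _ v hv => hS h v hv)
  have hc := pCore_two_centralizes_normal hO (Cfsg.generalizedFittingSubgroup G) _ le_sup_left
    u huH huO
  have huX := centralizer_genFitting_le hc
  have hA : ∀ a ∈ Cfsg.generalizedFittingSubgroup G ⊓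
      Subgroup.centralizer (Cfsg.generalizedFittingSubgroup G : Set G),
      ∀ b ∈ Cfsg.generalizedFittingSubgroup G ⊓
      Subgroup.centralizer (Cfsg.generalizedFittingSubgroup G : Set G), a * b = b * a := by
    rintro a ⟨haX, haC⟩ b ⟨hbX, hbC⟩
    exact (Subgroup.mem_centralizer_iff.mp hbC) a haX
  have := involution_in_abelian_normal_eq_one hO _ hA u ⟨huX, hc⟩
    (((elemAb2_iff V).mp hV).2 u huV)
  exact hu1 this

/-- Step 4: no abelian minimal normal subgroup `N` with `G = C_G(N) V` -/
theorem sidki_no_abelian_minimal {G : Type u} [Group G] [Finite G] (V : Subgroup G)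
    (hV : Cfsg.IsElementaryAbelian 2 V) (hV1 : V ≠ ⊥) (hS : Cfsg.IsSidkiPair V)
    (hO : Cfsg.pCore 2 G = ⊥) (hminG : SidkiMinG G) (hminV : SidkiMinV V)
    (N : Subgroup G) [hN : N.Normal] (hN1 : N ≠ ⊥) (hNab : ∀ a ∈ N, ∀ b ∈ N, a * b = b * a)
    (hNmin : ∀ M : Subgroup G, M.Normal → M ≤ N → M = ⊥ ∨ M = N)
    (hG : Subgroup.centralizer (N : Set G) ⊔ V = ⊤) : False := by
  have hV' := (elemAb2_iff V).mp hV
  have hinvN : ∀ n ∈ N, n * n = 1 → n = 1 := fun n hn h2 =>
    involution_in_abelian_normal_eq_one hO N hNab n hn h2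
  have hoddN : ∀ n ∈ N, Odd (orderOf n) := by
    intro n hn
    by_contra hnodd
    rw [Nat.not_odd_iff_even] at hnodd
    obtain ⟨k, hk⟩ := hnodd
    have h1 : (n ^ k) * (n ^ k) = 1 := by rw [← pow_add, ← hk, pow_orderOf_eq_one]
    have h2 := hinvN _ (N.pow_mem hn k) h1
    have h3 : orderOf n ∣ k := orderOf_dvd_of_pow_eq_one h2
    have h4 : 0 < orderOf n := orderOf_pos n
    have h5 : 0 < k := by omega
    have := Nat.le_of_dvd h5 h3
    omega
  have hdich := centralizes_or_inverts V hV N hNab hNmin hG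
  have hcentr_of : ∀ u : G, (∀ n ∈ N, u * n * u⁻¹ = n) → u ∈ Subgroup.centralizer (N : Set G) := by
    intro u hu
    rw [Subgroup.mem_centralizer_iff]
    intro n hn
    have := hu n hn
    calc n * u = (u * n * u⁻¹) * u := by rw [this]
      _ = u * n := by group
  have hconj_of : ∀ u ∈ Subgroup.centralizer (N : Set G), ∀ n ∈ N, u * n * u⁻¹ = n := by
    intro u hu n hn
    have := (Subgroup.mem_centralizer_iff.mp hu) n hn
    rw [← this]; group
  by_cases hWV : V ⊓ Subgroup.centralizer (N : Set G) = V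
  · -- `N` is central
    have hVC : V ≤ Subgroup.centralizer (N : Set G) := by rw [← hWV]; exact inf_le_right
    have hCtop : Subgroup.centralizer (N : Set G) = ⊤ := by
      rw [eq_top_iff, ← hG]; exact sup_le le_rfl hVC
    have hNc : N ≤ Subgroup.center G := by
      intro n hn
      rw [Subgroup.mem_center_iff]
      intro g
      have hg : g ∈ Subgroup.centralizer (N : Set G) := by rw [hCtop]; exact Subgroup.mem_top g
      exact ((Subgroup.mem_centralizer_iff.mp hg) n hn).symm
    have hVN : V ⊓ N = ⊥ := by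
      rw [eq_bot_iff]
      rintro x ⟨hxV, hxN⟩
      exact Subgroup.mem_bot.mpr (hinvN x hxN (hV'.2 x hxV))
    have hcard := card_quotient_lt_of_ne_bot N hN1
    have := hminG (G ⧸ N) (V.map (QuotientGroup.mk' N)) hcard (elemAb2_map _ V hV)
      (map_mk'_ne_bot_of_inf_eq_bot V N hV1 hVN) (sidki_quotient V N hV hS hVN)
    rw [Subgroup.ne_bot_iff_exists_ne_one] at this
    obtain ⟨⟨x, ⟨v, hvV, rfl⟩, hxO⟩, hne⟩ := this
    have hv1 := pCore_two_quotient_central hO N hNc v (hV'.2 v hvV) hxO
    apply hne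
    apply Subtype.ext
    simp [hv1]
  · obtain ⟨w, hwW, h, hodd, hinv, hno⟩ := sidki_F5 V hV hO hminV _ inf_le_left hWV
    have hhC : h ∈ Subgroup.centralizer (N : Set G) :=
      mem_of_odd_of_mem_sup_two _ V hV'.2 h (by rw [hG]; exact Subgroup.mem_top h) hodd
    obtain ⟨t0, ht0V, ht01, ht0c⟩ := hS h w hwW.1 hodd hinv
    have ht0i : ∀ n ∈ N, t0 * n * t0⁻¹ = n⁻¹ := by
      rcases hdich t0 ht0V with hc | hi
      · exact absurd ht0c (hno t0 ⟨ht0V, hcentr_of t0 hc⟩ ht01)
      · exact hi
    obtain ⟨n, hnN, hn1⟩ : ∃ n ∈ N, n ≠ 1 := by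
      by_contra hcon
      push Not at hcon
      exact hN1 (by rw [eq_bot_iff]; intro x hx; exact Subgroup.mem_bot.mpr (hcon x hx))
    have hhn : h * n = n * h := ((Subgroup.mem_centralizer_iff.mp hhC) n hnN).symm
    have hwn : w * n * w⁻¹ = n := hconj_of w hwW.2 n hnN
    have ht0h : t0 * h * t0⁻¹ = h := by rw [ht0c]; group
    have hvinv : (w * t0) * (h * n) * (w * t0)⁻¹ = (h * n)⁻¹ := by
      have h1 : (w * t0) * (h * n) * (w * t0)⁻¹ =
          w * ((t0 * h * t0⁻¹) * (t0 * n * t0⁻¹)) * w⁻¹ := by group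
      rw [h1, ht0h, ht0i n hnN]
      have h2 : w * (h * n⁻¹) * w⁻¹ = (w * h * w⁻¹) * (w * n * w⁻¹)⁻¹ := by group
      rw [h2, hinv, hwn, hhn, mul_inv_rev]
    have hgodd : Odd (orderOf (h * n)) := odd_orderOf_mul_of_commute hhn hodd (hoddN n hnN)
    obtain ⟨u, huV, hu1, huc⟩ := hS (h * n) (w * t0) (V.mul_mem hwW.1 ht0V) hgodd hvinv
    rcases hdich u huV with hc | hi'
    · have hun : u * n = n * u := by
        have := hc n hnN
        calc u * n = (u * n * u⁻¹) * u := by group
          _ = n * u := by rw [this]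
      have huh : u * h = h * u := by
        have h1 : u * h * n = h * u * n := by
          calc u * h * n = u * (h * n) := by group
            _ = (h * n) * u := huc
            _ = h * (n * u) := by group
            _ = h * (u * n) := by rw [hun]
            _ = h * u * n := by group
        exact mul_right_cancel h1
      exact hno u ⟨huV, hcentr_of u hc⟩ hu1 huh
    · have huh : u * h * u⁻¹ = h * n * n := by
        have h1 : u * (h * n) * u⁻¹ = h * n := by rw [huc]; group
        have h2 : u * (h * n) * u⁻¹ = (u * h * u⁻¹) * (u * n * u⁻¹) := by group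
        rw [h2, hi' n hnN] at h1
        calc u * h * u⁻¹ = (u * h * u⁻¹ * n⁻¹) * n := by group
          _ = h * n * n := by rw [h1]
      have hu'N : ∀ m ∈ N, (u * t0) * m * (u * t0)⁻¹ = m := by
        intro m hm
        have h1 : (u * t0) * m * (u * t0)⁻¹ = u * (t0 * m * t0⁻¹) * u⁻¹ := by group
        rw [h1, ht0i m hm]
        have h2 : u * m⁻¹ * u⁻¹ = (u * m * u⁻¹)⁻¹ := by group
        rw [h2, hi' m hm, inv_inv]
      have hu'h : (u * t0) * h * (u * t0)⁻¹ = h * n * n := by
        have h1 : (u * t0) * h * (u * t0)⁻¹ = u * (t0 * h * t0⁻¹) * u⁻¹ := by group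
        rw [h1, ht0h, huh]
      have hu'2 : (u * t0) * (u * t0) = 1 := hV'.2 _ (V.mul_mem huV ht0V)
      have h3 : (u * t0) * ((u * t0) * h * (u * t0)⁻¹) * (u * t0)⁻¹ = h := by
        have : (u * t0) * ((u * t0) * h * (u * t0)⁻¹) * (u * t0)⁻¹ =
            ((u * t0) * (u * t0)) * h * ((u * t0) * (u * t0))⁻¹ := by group
        rw [this, hu'2]; group
      rw [hu'h] at h3
      have h4 : (u * t0) * (h * n * n) * (u * t0)⁻¹ =
          ((u * t0) * h * (u * t0)⁻¹) * ((u * t0) * n * (u * t0)⁻¹) *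
            ((u * t0) * n * (u * t0)⁻¹) := by group
      rw [h4, hu'h, hu'N n hnN] at h3
      have h5 : (n * n) * (n * n) = 1 := by
        have : h * n * n * n * n = h * ((n * n) * (n * n)) := by group
        rw [this] at h3
        exact mul_left_cancel (a := h) (by rw [h3, mul_one])
      have h6 := hinvN _ (N.mul_mem hnN hnN) h5
      exact hn1 (hinvN n hnN h6)

end Cfsg.Agent.Lib.Helper20
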