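import Cfsg.Agent.Lib.Helper20.Sidki5

set_option linter.style.haveILetI false
set_option linter.unusedVariables false
set_option linter.unusedSectionVars false
set_option autoImplicit false

namespace Cfsg.Agent.Lib.Helper20

open scoped commutatorElement
open Cfsg

universe u

/-- `C_G(F*(G)) = 1` in a minimal counterexample -/
theorem sidki_centralizer_genFitting_eq_bot {G : Type u} [Group G] [Finite G] (V : Subgroup G)
    (hV : Cfsg.IsElementaryAbelian 2 V) (hV1 : V ≠ ⊥) (hS : Cfsg.IsSidkiPair V)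
    (hO : Cfsg.pCore 2 G = ⊥) (hminG : SidkiMinG G) (hminV : SidkiMinV V) :
    Subgroup.centralizer (Cfsg.generalizedFittingSubgroup G : Set G) = ⊥ := by
  by_contra hZ
  haveI hXn : (Cfsg.generalizedFittingSubgroup G).Normal := genFitting_normal''
  obtain ⟨N, hNn, hN1, hNZ, hNmin⟩ := exists_minimal_normal_le
    (Subgroup.centralizer (Cfsg.generalizedFittingSubgroup G : Set G)) hZ
  haveI := hNn
  have hNab : ∀ a ∈ N, ∀ b ∈ N, a * b = b * a := by
    intro a ha b hb
    have hbX : b ∈ Cfsg.generalizedFittingSubgroup G := centralizer_genFitting_le (hNZ hb)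
    exact ((Subgroup.mem_centralizer_iff.mp (hNZ ha)) b hbX).symm
  have hXC : Cfsg.generalizedFittingSubgroup G ≤ Subgroup.centralizer (N : Set G) :=
    Subgroup.le_centralizer_iff.mp hNZ
  have hG : Subgroup.centralizer (N : Set G) ⊔ V = ⊤ := by
    rw [eq_top_iff, ← sidki_genFitting_sup V hV hV1 hS hO hminG]
    exact sup_le_sup_right hXC V
  exact sidki_no_abelian_minimal V hV hV1 hS hO hminG hminV N hN1 hNab hNmin hG

theorem sidki_fitting_eq_bot {G : Type u} [Group G] [Finite G] (V : Subgroup G)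
    (hV : Cfsg.IsElementaryAbelian 2 V) (hV1 : V ≠ ⊥) (hS : Cfsg.IsSidkiPair V)
    (hO : Cfsg.pCore 2 G = ⊥) (hminG : SidkiMinG G) (hminV : SidkiMinV V) :
    fittingSubgroup G = ⊥ := by
  by_contra hF
  have hZ := sidki_centralizer_genFitting_eq_bot V hV hV1 hS hO hminG hminV
  haveI : Group.IsNilpotent ↥(fittingSubgroup G) := fittingSubgroup_isNilpotent'
  haveI : Nontrivial ↥(fittingSubgroup G) := (Subgroup.nontrivial_iff_ne_bot _).mpr hF
  have hc := Group.IsNilpotent.center_ne_bot (G := ↥(fittingSubgroup G))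
  rw [Subgroup.ne_bot_iff_exists_ne_one] at hc
  obtain ⟨⟨z, hz⟩, hz1⟩ := hc
  have hzC : (z : G) ∈ Subgroup.centralizer (Cfsg.generalizedFittingSubgroup G : Set G) := by
    have hle : Cfsg.generalizedFittingSubgroup G ≤ Subgroup.centralizer ({(z : G)} : Set G) := by
      unfold Cfsg.generalizedFittingSubgroup
      apply sup_le
      · intro e he
        have := layer_le_centralizer_fitting he
        rw [Subgroup.mem_centralizer_singleton_iff]
        exact ((Subgroup.mem_centralizer_iff.mp this) (z : G) z.2).symm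
      · intro f hf
        rw [Subgroup.mem_centralizer_singleton_iff]
        have := (Subgroup.mem_center_iff.mp hz) ⟨f, hf⟩
        exact congrArg Subtype.val this
    rw [Subgroup.mem_centralizer_iff]
    intro x hx
    have := hle hx
    rw [Subgroup.mem_centralizer_singleton_iff] at this
    exact this
  rw [hZ, Subgroup.mem_bot] at hzC
  apply hz1
  apply Subtype.ext
  apply Subtype.ext
  exact hzC

/-- Step 5: a normal subgroup `N` with trivial centre such that all odd-order elements lie in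
`N C_G(N)` satisfies `G = N V` -/
theorem sidki_normal_sup {G : Type u} [Group G] [Finite G] (V : Subgroup G)
    (hV : Cfsg.IsElementaryAbelian 2 V) (hV1 : V ≠ ⊥) (hS : Cfsg.IsSidkiPair V)
    (hO : Cfsg.pCore 2 G = ⊥) (hminG : SidkiMinG G) (hminV : SidkiMinV V)
    (N : Subgroup G) [hN : N.Normal] (hN1 : N ≠ ⊥)
    (hNC : N ⊓ Subgroup.centralizer (N : Set G) = ⊥)
    (hodd : ∀ h : G, Odd (orderOf h) → h ∈ N ⊔ Subgroup.centralizer (N : Set G)) :
    N ⊔ V = ⊤ := by
  by_contra hH
  have hV' := (elemAb2_iff V).mp hV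
  have hconj_of : ∀ u ∈ Subgroup.centralizer (N : Set G), ∀ n ∈ N, u * n * u⁻¹ = n := by
    intro u hu n hn
    have := (Subgroup.mem_centralizer_iff.mp hu) n hn
    rw [← this]; group
  have hWV : V ⊓ Subgroup.centralizer (N : Set G) ≠ V := by
    intro hEq
    have hVC : V ≤ Subgroup.centralizer (N : Set G) := by rw [← hEq]; exact inf_le_right
    have hncl := sidki_normalClosure V hV hV1 hS hO hminG
    have hle : Subgroup.normalClosure (V : Set G) ≤ Subgroup.centralizer (N : Set G) :=
      Subgroup.normalClosure_le_normal hVC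
    rw [hncl, top_le_iff] at hle
    apply hN1
    rw [eq_bot_iff, ← hNC, hle]
    exact le_inf le_rfl le_top
  obtain ⟨w, hwW, h, hodd_h, hinv, hno⟩ := sidki_F5 V hV hO hminV _ inf_le_left hWV
  -- `h` centralizes `N`
  have hhC : h ∈ Subgroup.centralizer (N : Set G) := by
    have hmem := hodd h hodd_h
    rw [← SetLike.mem_coe, Subgroup.normal_mul] at hmem
    obtain ⟨a, ha, b, hb, hab⟩ := Set.mem_mul.mp hmem
    have haN : a ∈ N := ha
    have hbC : b ∈ Subgroup.centralizer (N : Set G) := hb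
    have hcomm : a * b = b * a := (Subgroup.mem_centralizer_iff.mp hbC) a haN
    have hwa : w * a * w⁻¹ = a := hconj_of w hwW.2 a haN
    have hwb : w * b * w⁻¹ ∈ Subgroup.centralizer (N : Set G) :=
      (inferInstance : (Subgroup.centralizer (N : Set G)).Normal).conj_mem b hbC w
    have haa : a * a ∈ Subgroup.centralizer (N : Set G) := by
      have h1 : w * (a * b) * w⁻¹ = (a * b)⁻¹ := by rw [hab]; exact hinv
      have h2 : w * (a * b) * w⁻¹ = (w * a * w⁻¹) * (w * b * w⁻¹) := by group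
      rw [h2, hwa, hcomm, mul_inv_rev] at h1
      have h3 : a * a = b⁻¹ * (w * b * w⁻¹)⁻¹ := by
        have : a * a = a * (a * (w * b * w⁻¹)) * (w * b * w⁻¹)⁻¹ := by group
        rw [this, h1]; group
      rw [h3]
      exact Subgroup.mul_mem _ (Subgroup.inv_mem _ hbC) (Subgroup.inv_mem _ hwb)
    have haa1 : a * a = 1 := by
      have : a * a ∈ N ⊓ Subgroup.centralizer (N : Set G) := ⟨N.mul_mem haN haN, haa⟩
      rw [hNC] at this
      exact Subgroup.mem_bot.mp this
    have ham : a ^ orderOf h = 1 := by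
      have hc : Commute a b := hcomm
      have h1 : (a * b) ^ orderOf h = 1 := by rw [hab]; exact pow_orderOf_eq_one h
      rw [hc.mul_pow] at h1
      have h2 : a ^ orderOf h = (b ^ orderOf h)⁻¹ := eq_inv_of_mul_eq_one_left h1
      have : a ^ orderOf h ∈ N ⊓ Subgroup.centralizer (N : Set G) :=
        ⟨N.pow_mem haN _, by rw [h2]; exact Subgroup.inv_mem _ (Subgroup.pow_mem _ hbC _)⟩
      rw [hNC] at this
      exact Subgroup.mem_bot.mp this
    have ha1 : a = 1 := by
      rw [← pow_odd_of_mul_self a haa1 _ hodd_h]; exact ham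
    rw [← hab, ha1, one_mul]; exact hbC
  obtain ⟨t0, ht0V, ht01, ht0c⟩ := hS h w hwW.1 hodd_h hinv
  obtain ⟨U, hU⟩ : ∃ U, U = V ⊓ Subgroup.centralizer ({h} : Set G) := ⟨_, rfl⟩
  have hUV : U ≤ V := by rw [hU]; exact inf_le_left
  have hUh : ∀ u ∈ U, u * h = h * u := by
    intro u hu
    rw [hU] at hu
    exact Subgroup.mem_centralizer_singleton_iff.mp hu.2
  have hU1 : U ≠ ⊥ := by
    intro hb
    have : t0 ∈ U := by
      rw [hU]; exact ⟨ht0V, Subgroup.mem_centralizer_singleton_iff.mpr ht0c⟩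
    rw [hb, Subgroup.mem_bot] at this
    exact ht01 this
  have hUW : ∀ u ∈ U, u ∈ Subgroup.centralizer (N : Set G) → u = 1 := by
    intro u hu huC
    by_contra hne
    exact hno u ⟨hUV hu, huC⟩ hne (hUh u hu)
  have hH' : N ⊔ U ≠ ⊤ := by
    intro h'
    apply hH
    rw [eq_top_iff, ← h']
    exact sup_le_sup_left hUV N
  by_cases hrel : ∀ g ∈ N ⊔ U, ∀ v ∈ U, Odd (orderOf g) → v * g * v⁻¹ = g⁻¹ →
      ∃ w' ∈ U, w' ≠ 1 ∧ w' * g = g * w'
  · obtain ⟨u, huU, hu1, huH, huO⟩ := sidki_min_apply hminG (N ⊔ U) U le_sup_right hH'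
      (elemAb2_of_le hUV hV) hU1 hrel
    have huC := pCore_two_centralizes_normal hO N (N ⊔ U) le_sup_left u huH huO
    exact hu1 (hUW u huU huC)
  · push Not at hrel
    obtain ⟨g, hgH, u1, hu1U, hgodd, hginv, hgno⟩ := hrel
    have hgN : g ∈ N :=
      mem_of_odd_of_mem_sup_two N U (fun a ha => hV'.2 a (hUV ha)) g hgH hgodd
    have hhg : h * g = g * h := ((Subgroup.mem_centralizer_iff.mp hhC) g hgN).symm
    have hu1h : u1 * h * u1⁻¹ = h := by rw [hUh u1 hu1U]; group
    have hwg : w * g * w⁻¹ = g := hconj_of w hwW.2 g hgN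
    have hvinv : (w * u1) * (h * g) * (w * u1)⁻¹ = (h * g)⁻¹ := by
      have h1 : (w * u1) * (h * g) * (w * u1)⁻¹ =
          w * ((u1 * h * u1⁻¹) * (u1 * g * u1⁻¹)) * w⁻¹ := by group
      rw [h1, hu1h, hginv]
      have h2 : w * (h * g⁻¹) * w⁻¹ = (w * h * w⁻¹) * (w * g * w⁻¹)⁻¹ := by group
      rw [h2, hinv, hwg, hhg, mul_inv_rev]
    obtain ⟨u, huV, hu1, huc⟩ := hS (h * g) (w * u1) (V.mul_mem hwW.1 (hUV hu1U))
      (odd_orderOf_mul_of_commute hhg hodd_h hgodd) hvinv
    have h1 : (u * h * u⁻¹) * (u * g * u⁻¹) = h * g := by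
      have : (u * h * u⁻¹) * (u * g * u⁻¹) = u * (h * g) * u⁻¹ := by group
      rw [this, huc]; group
    have h2 : h⁻¹ * (u * h * u⁻¹) = g * (u * g * u⁻¹)⁻¹ := by
      have : h⁻¹ * (u * h * u⁻¹) =
          h⁻¹ * ((u * h * u⁻¹) * (u * g * u⁻¹)) * (u * g * u⁻¹)⁻¹ := by group
      rw [this, h1]; group
    have hCn : (Subgroup.centralizer (N : Set G)).Normal := inferInstance
    have h3 : h⁻¹ * (u * h * u⁻¹) ∈ N ⊓ Subgroup.centralizer (N : Set G) := by
      refine ⟨?_, ?_⟩
      · rw [h2]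
        exact N.mul_mem hgN (N.inv_mem (hN.conj_mem g hgN u))
      · exact Subgroup.mul_mem _ (Subgroup.inv_mem _ hhC) (hCn.conj_mem h hhC u)
    rw [hNC, Subgroup.mem_bot] at h3
    have huh : u * h = h * u := by
      have : u * h * u⁻¹ = h := by
        calc u * h * u⁻¹ = h * (h⁻¹ * (u * h * u⁻¹)) := by group
          _ = h := by rw [h3, mul_one]
      calc u * h = (u * h * u⁻¹) * u := by group
        _ = h * u := by rw [this]
    have hug : u * g = g * u := by
      have h4 : g * (u * g * u⁻¹)⁻¹ = 1 := by rw [← h2, h3]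
      have : u * g * u⁻¹ = g := by
        have h5 : g = u * g * u⁻¹ := by
          have := mul_eq_one_iff_eq_inv.mp h4
          rw [inv_inv] at this
          exact this
        exact h5.symm
      calc u * g = (u * g * u⁻¹) * u := by group
        _ = g * u := by rw [this]
    have huU : u ∈ U := by
      rw [hU]; exact ⟨huV, Subgroup.mem_centralizer_singleton_iff.mpr huh⟩
    exact hgno u huU hu1 hug

end Cfsg.Agent.Lib.Helper20
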