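import Cfsg.Agent.Lib.Helper20.Sidki6
import Cfsg.Agent.Lib.Helper16.WeaklyClosed

set_option linter.style.haveILetI false
set_option linter.unusedVariables false
set_option linter.unusedSectionVars false
set_option autoImplicit false

namespace Cfsg.Agent.Lib.Helper20

open scoped commutatorElement
open Cfsg

universe u

theorem mem_map_conj_iff' {G : Type*} [Group G] (K : Subgroup G) (a y : G) :
    y ∈ K.map (MulAut.conj a).toMonoidHom ↔ a⁻¹ * y * a ∈ K := by
  constructor
  · rintro ⟨k, hk, rfl⟩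
    simp only [MulEquiv.coe_toMonoidHom, MulAut.conj_apply]
    have : a⁻¹ * (a * k * a⁻¹) * a = k := by group
    rw [this]; exact hk
  · intro h
    refine ⟨a⁻¹ * y * a, h, ?_⟩
    simp only [MulEquiv.coe_toMonoidHom, MulAut.conj_apply]
    group

theorem components_commute_elem {G : Type*} [Group G] [Finite G] (J L : Subgroup G)
    (hJ : Cfsg.IsComponent J) (hL : Cfsg.IsComponent L) (hne : J ≠ L) :
    ∀ a ∈ J, ∀ b ∈ L, a * b = b * a := by
  intro a ha b hb
  have := components_commute J L hJ hL hne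
  rw [Subgroup.commutator_eq_bot_iff_le_centralizer] at this
  exact ((Subgroup.mem_centralizer_iff.mp (this ha)) b hb).symm

/-- a nontrivial odd-order element exists in a quasisimple group -/
theorem exists_odd_of_isQuasisimple {G : Type*} [Group G] [Finite G] (K : Subgroup G)
    (hK : Cfsg.IsQuasisimple ↥K) : ∃ x ∈ K, x ≠ 1 ∧ Odd (orderOf x) := by
  rcases Nat.eq_two_pow_or_exists_odd_prime_and_dvd (Nat.card ↥K) with ⟨k, hk⟩ | ⟨r, hr, hrd, hro⟩
  · exfalso
    haveI : Fact (Nat.Prime 2) := ⟨Nat.prime_two⟩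
    have hp : IsPGroup 2 ↥K := IsPGroup.of_card hk
    haveI : Group.IsNilpotent ↥K := hp.isNilpotent
    exact isQuasisimple_not_isSolvable hK inferInstance
  · haveI : Fact r.Prime := ⟨hr⟩
    obtain ⟨x, hx⟩ := exists_prime_orderOf_dvd_card' r hrd
    refine ⟨(x : G), x.2, ?_, ?_⟩
    · intro h1
      have : x = 1 := Subtype.ext h1
      rw [this, orderOf_one] at hx
      exact hr.one_lt.ne hx
    · rw [Subgroup.orderOf_coe, hx]; exact hro

/-- Step 6: `V` normalizes the component `K` -/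
theorem sidki_component_normalized {G : Type u} [Group G] [Finite G] (V : Subgroup G)
    (hV : Cfsg.IsElementaryAbelian 2 V) (hV1 : V ≠ ⊥) (hS : Cfsg.IsSidkiPair V)
    (hO : Cfsg.pCore 2 G = ⊥) (hminG : SidkiMinG G)
    (K : Subgroup G) (hK : Cfsg.IsComponent K)
    (hKZ : K ⊓ Subgroup.centralizer (K : Set G) = ⊥)
    (hCN : ∀ u ∈ V, (∀ v' ∈ V, ∀ k ∈ K, u * (v' * k * v'⁻¹) = (v' * k * v'⁻¹) * u) → u = 1) :
    V ≤ Subgroup.normalizer (K : Set G) := by
  have hV' := (elemAb2_iff V).mp hV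
  intro v hvV
  by_contra hvK
  have hv2 : v * v = 1 := hV'.2 v hvV
  have hvi : v⁻¹ = v := inv_eq_self_of_mul_self hv2
  -- conjugates of K
  have hconj : ∀ a : G, Cfsg.IsComponent (K.map (MulAut.conj a).toMonoidHom) :=
    fun a => isComponent_map_mulEquiv (MulAut.conj a) K hK
  have hnorm_iff : ∀ a : G, K.map (MulAut.conj a).toMonoidHom = K ↔
      a ∈ Subgroup.normalizer (K : Set G) := fun a =>
    Cfsg.Agent.Lib.Helper16.map_conj_eq_self_iff K a
  -- a component different from K meets K trivially and commutes with it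
  have hmeet : ∀ J : Subgroup G, Cfsg.IsComponent J → J ≠ K → ∀ y ∈ K, y ∈ J → y = 1 := by
    intro J hJ hne y hyK hyJ
    have : y ∈ K ⊓ Subgroup.centralizer (K : Set G) := by
      refine Subgroup.mem_inf.mpr ⟨hyK, ?_⟩
      rw [Subgroup.mem_centralizer_iff]
      intro k hk
      exact (components_commute_elem J K hJ hK hne y hyJ k hk).symm
    rw [hKZ] at this
    exact Subgroup.mem_bot.mp this
  have hK'ne : K.map (MulAut.conj v).toMonoidHom ≠ K := fun h => hvK ((hnorm_iff v).mp h)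
  -- Claim A
  have claimA : ∀ x ∈ K, x ≠ 1 → Odd (orderOf x) →
      ∃ w' ∈ V, w' ∈ Subgroup.normalizer (K : Set G) ∧ w' ≠ 1 ∧ w' * x = x * w' := by
    intro x hxK hx1 hxodd
    have hx'K' : v * x * v⁻¹ ∈ K.map (MulAut.conj v).toMonoidHom := ⟨x, hxK, rfl⟩
    have hcomm' : ∀ k ∈ K, k * (v * x * v⁻¹) = (v * x * v⁻¹) * k := fun k hk =>
      (components_commute_elem _ K (hconj v) hK hK'ne _ hx'K' k hk).symm
    have hvx' : v * (v * x * v⁻¹) * v⁻¹ = x := by
      have : v * (v * x * v⁻¹) * v⁻¹ = (v * v) * x * (v * v)⁻¹ := by group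
      rw [this, hv2]; group
    have hinv : v * (x⁻¹ * (v * x * v⁻¹)) * v⁻¹ = (x⁻¹ * (v * x * v⁻¹))⁻¹ := by
      have : v * (x⁻¹ * (v * x * v⁻¹)) * v⁻¹ = (v * x * v⁻¹)⁻¹ * (v * (v * x * v⁻¹) * v⁻¹) := by
        group
      rw [this, hvx']; group
    have hodd_h : Odd (orderOf (x⁻¹ * (v * x * v⁻¹))) := by
      apply odd_orderOf_mul_of_commute (hcomm' x⁻¹ (K.inv_mem hxK))
      · rw [orderOf_inv]; exact hxodd
      · have : orderOf (v * x * v⁻¹) = orderOf x := (MulAut.conj v).orderOf_eq x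
        rw [this]; exact hxodd
    obtain ⟨w, hwV, hw1, hwc⟩ := hS _ v hvV hodd_h hinv
    have hwv : w * v = v * w := hV'.1 w hwV v hvV
    -- key relation
    have hrel : (w * x⁻¹ * w⁻¹) * (w * (v * x * v⁻¹) * w⁻¹) = x⁻¹ * (v * x * v⁻¹) := by
      have : (w * x⁻¹ * w⁻¹) * (w * (v * x * v⁻¹) * w⁻¹) = w * (x⁻¹ * (v * x * v⁻¹)) * w⁻¹ := by
        group
      rw [this, hwc]; group
    have haKw : w * x⁻¹ * w⁻¹ ∈ K.map (MulAut.conj w).toMonoidHom := ⟨x⁻¹, K.inv_mem hxK, rfl⟩
    have hb_eq : w * (v * x * v⁻¹) * w⁻¹ = v * (w * x * w⁻¹) * v⁻¹ := by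
      have h1 : w * (v * x * v⁻¹) * w⁻¹ = (w * v) * x * (w * v)⁻¹ := by group
      have h2 : v * (w * x * w⁻¹) * v⁻¹ = (v * w) * x * (v * w)⁻¹ := by group
      rw [h1, h2, hwv]
    have hwxKw : w * x * w⁻¹ ∈ K.map (MulAut.conj w).toMonoidHom := ⟨x, hxK, rfl⟩
    by_cases h1 : K.map (MulAut.conj w).toMonoidHom = K
    · -- w normalizes K
      have hwN := (hnorm_iff w).mp h1
      have haK : w * x⁻¹ * w⁻¹ ∈ K := by rw [← h1]; exact haKw
      have hbK' : w * (v * x * v⁻¹) * w⁻¹ ∈ K.map (MulAut.conj v).toMonoidHom := by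
        rw [hb_eq]
        exact ⟨w * x * w⁻¹, by rw [← h1]; exact hwxKw, rfl⟩
      have hxa : x * (w * x⁻¹ * w⁻¹) = (v * x * v⁻¹) * (w * (v * x * v⁻¹) * w⁻¹)⁻¹ := by
        have : x * (w * x⁻¹ * w⁻¹) = x * ((w * x⁻¹ * w⁻¹) * (w * (v * x * v⁻¹) * w⁻¹)) *
            (w * (v * x * v⁻¹) * w⁻¹)⁻¹ := by group
        rw [this, hrel]; group
      have h2 : x * (w * x⁻¹ * w⁻¹) = 1 := by
        apply hmeet _ (hconj v) hK'ne _ (K.mul_mem hxK haK)
        rw [hxa]
        exact Subgroup.mul_mem _ hx'K' (Subgroup.inv_mem _ hbK')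
      refine ⟨w, hwV, hwN, hw1, ?_⟩
      have h3 : w * x⁻¹ * w⁻¹ = x⁻¹ := by
        calc w * x⁻¹ * w⁻¹ = x⁻¹ * (x * (w * x⁻¹ * w⁻¹)) := by group
          _ = x⁻¹ := by rw [h2, mul_one]
      have h4 : w * x * w⁻¹ = x := by
        have : w * x * w⁻¹ = (w * x⁻¹ * w⁻¹)⁻¹ := by group
        rw [this, h3, inv_inv]
      calc w * x = (w * x * w⁻¹) * w := by group
        _ = x * w := by rw [h4]
    · by_cases h2 : K.map (MulAut.conj w).toMonoidHom = K.map (MulAut.conj v).toMonoidHom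
      · -- w maps K to K'
        have haK' : w * x⁻¹ * w⁻¹ ∈ K.map (MulAut.conj v).toMonoidHom := by rw [← h2]; exact haKw
        have hbK : w * (v * x * v⁻¹) * w⁻¹ ∈ K := by
          rw [hb_eq]
          have h3 : w * x * w⁻¹ ∈ K.map (MulAut.conj v).toMonoidHom := by rw [← h2]; exact hwxKw
          obtain ⟨k, hk, hk'⟩ := h3
          have hk'' : v * k * v⁻¹ = w * x * w⁻¹ := hk'
          rw [← hk'']
          have : v * (v * k * v⁻¹) * v⁻¹ = (v * v) * k * (v * v)⁻¹ := by group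
          rw [this, hv2]
          simpa using hk
        have hab : (w * x⁻¹ * w⁻¹) * (w * (v * x * v⁻¹) * w⁻¹) =
            (w * (v * x * v⁻¹) * w⁻¹) * (w * x⁻¹ * w⁻¹) :=
          components_commute_elem _ K (hconj v) hK hK'ne _ haK' _ hbK
        have hxb : x * (w * (v * x * v⁻¹) * w⁻¹) = (v * x * v⁻¹) * (w * x⁻¹ * w⁻¹)⁻¹ := by
          have : x * (w * (v * x * v⁻¹) * w⁻¹) = x * ((w * (v * x * v⁻¹) * w⁻¹) *
              (w * x⁻¹ * w⁻¹)) * (w * x⁻¹ * w⁻¹)⁻¹ := by group
          rw [this, ← hab, hrel]; group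
        have h3 : x * (w * (v * x * v⁻¹) * w⁻¹) = 1 := by
          apply hmeet _ (hconj v) hK'ne _ (K.mul_mem hxK hbK)
          rw [hxb]
          exact Subgroup.mul_mem _ hx'K' (Subgroup.inv_mem _ haK')
        have h4 : (w * v) * x * (w * v)⁻¹ = x⁻¹ := by
          have : (w * v) * x * (w * v)⁻¹ = w * (v * x * v⁻¹) * w⁻¹ := by group
          rw [this]
          calc w * (v * x * v⁻¹) * w⁻¹ = x⁻¹ * (x * (w * (v * x * v⁻¹) * w⁻¹)) := by group
            _ = x⁻¹ := by rw [h3, mul_one]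
        obtain ⟨w2, hw2V, hw21, hw2c⟩ := hS x (w * v) (V.mul_mem hwV hvV) hxodd h4
        refine ⟨w2, hw2V, ?_, hw21, hw2c⟩
        by_contra hw2N
        have hne : K.map (MulAut.conj w2).toMonoidHom ≠ K := fun h => hw2N ((hnorm_iff w2).mp h)
        apply hx1
        apply hmeet _ (hconj w2) hne x hxK
        refine ⟨x, hxK, ?_⟩
        simp only [MulEquiv.coe_toMonoidHom, MulAut.conj_apply]
        rw [hw2c]; group
      · -- neither: contradiction
        exfalso
        have hL : K.map (MulAut.conj (w * v)).toMonoidHom =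
            (K.map (MulAut.conj w).toMonoidHom).map (MulAut.conj v).toMonoidHom := by
          rw [hwv, Subgroup.map_map]
          congr 1
          ext y
          simp only [MonoidHom.coe_comp, MulEquiv.coe_toMonoidHom, Function.comp_apply,
            MulAut.conj_apply]
          group
        have hLK : K.map (MulAut.conj (w * v)).toMonoidHom ≠ K := by
          intro h
          apply h2
          have h3 : (K.map (MulAut.conj (w * v)).toMonoidHom).map (MulAut.conj v).toMonoidHom =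
              K.map (MulAut.conj v).toMonoidHom := by rw [h]
          rw [hL, Subgroup.map_map] at h3
          have h4 : ((MulAut.conj v).toMonoidHom.comp (MulAut.conj v).toMonoidHom) =
              MonoidHom.id G := by
            ext y
            simp only [MonoidHom.coe_comp, MulEquiv.coe_toMonoidHom, Function.comp_apply,
              MulAut.conj_apply, MonoidHom.id_apply]
            have : v * (v * y * v⁻¹) * v⁻¹ = (v * v) * y * (v * v)⁻¹ := by group
            rw [this, hv2]; group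
          rw [h4, Subgroup.map_id] at h3
          exact h3
        have hLK' : K.map (MulAut.conj (w * v)).toMonoidHom ≠
            K.map (MulAut.conj v).toMonoidHom := by
          intro h
          apply h1
          rw [hL] at h
          exact Subgroup.map_injective (MulAut.conj v).injective h
        have hbL : w * (v * x * v⁻¹) * w⁻¹ ∈ K.map (MulAut.conj (w * v)).toMonoidHom := by
          refine ⟨x, hxK, ?_⟩
          simp only [MulEquiv.coe_toMonoidHom, MulAut.conj_apply]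
          group
        -- x is central in K
        apply hx1
        have : x ∈ K ⊓ Subgroup.centralizer (K : Set G) := by
          refine Subgroup.mem_inf.mpr ⟨hxK, ?_⟩
          rw [Subgroup.mem_centralizer_iff]
          intro k hk
          have e1 : k * (w * x⁻¹ * w⁻¹) = (w * x⁻¹ * w⁻¹) * k :=
            (components_commute_elem _ K (hconj w) hK h1 _ haKw k hk).symm
          have e2 : k * (w * (v * x * v⁻¹) * w⁻¹) = (w * (v * x * v⁻¹) * w⁻¹) * k :=
            (components_commute_elem _ K (hconj (w * v)) hK hLK _ hbL k hk).symm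
          have e3 : k * (v * x * v⁻¹) = (v * x * v⁻¹) * k := hcomm' k hk
          have hxinv : x⁻¹ = (w * x⁻¹ * w⁻¹) * (w * (v * x * v⁻¹) * w⁻¹) * (v * x * v⁻¹)⁻¹ := by
            rw [hrel]; group
          have e4 : k * x⁻¹ = x⁻¹ * k := by
            have e3' : k * (v * x * v⁻¹)⁻¹ = (v * x * v⁻¹)⁻¹ * k := by
              have : k * (v * x * v⁻¹)⁻¹ = (v * x * v⁻¹)⁻¹ * ((v * x * v⁻¹) * k) *
                  (v * x * v⁻¹)⁻¹ := by group
              rw [this, ← e3]; group
            rw [hxinv]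
            calc k * ((w * x⁻¹ * w⁻¹) * (w * (v * x * v⁻¹) * w⁻¹) * (v * x * v⁻¹)⁻¹)
                = (k * (w * x⁻¹ * w⁻¹)) * (w * (v * x * v⁻¹) * w⁻¹) * (v * x * v⁻¹)⁻¹ := by group
              _ = (w * x⁻¹ * w⁻¹) * (k * (w * (v * x * v⁻¹) * w⁻¹)) * (v * x * v⁻¹)⁻¹ := by
                  rw [e1]; group
              _ = (w * x⁻¹ * w⁻¹) * (w * (v * x * v⁻¹) * w⁻¹) * (k * (v * x * v⁻¹)⁻¹) := by
                  rw [e2]; group
              _ = (w * x⁻¹ * w⁻¹) * (w * (v * x * v⁻¹) * w⁻¹) * (v * x * v⁻¹)⁻¹ * k := by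
                  rw [e3']; group
          have : k * x = x * (x⁻¹ * k) * x := by group
          rw [this, ← e4]; group
        rw [hKZ] at this
        exact Subgroup.mem_bot.mp this
  -- Claim B
  obtain ⟨x0, hx0K, hx01, hx0odd⟩ := exists_odd_of_isQuasisimple K hK.2
  obtain ⟨w0, hw0V, hw0N, hw01, hw0c⟩ := claimA x0 hx0K hx01 hx0odd
  obtain ⟨V1, hV1def⟩ : ∃ V1, V1 = V ⊓ Subgroup.normalizer (K : Set G) := ⟨_, rfl⟩
  have hV1V : V1 ≤ V := by rw [hV1def]; exact inf_le_left
  have hV1N : V1 ≤ Subgroup.normalizer (K : Set G) := by rw [hV1def]; exact inf_le_right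
  have hV1ne : V1 ≠ ⊥ := by
    intro hb
    have : w0 ∈ V1 := by rw [hV1def]; exact ⟨hw0V, hw0N⟩
    rw [hb, Subgroup.mem_bot] at this
    exact hw01 this
  have hHN : K ⊔ V1 ≤ Subgroup.normalizer (K : Set G) := sup_le Subgroup.le_normalizer hV1N
  have hHne : K ⊔ V1 ≠ ⊤ := by
    intro h
    apply hvK
    apply hHN
    rw [h]; exact Subgroup.mem_top v
  have hrel : ∀ g ∈ K ⊔ V1, ∀ w ∈ V1, Odd (orderOf g) → w * g * w⁻¹ = g⁻¹ →
      ∃ w' ∈ V1, w' ≠ 1 ∧ w' * g = g * w' := by
    intro g hg w hw hgodd hginv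
    have hgK : g ∈ K :=
      mem_of_odd_of_mem_sup_two' K V1 hV1N (fun a ha => hV'.2 a (hV1V ha)) g hg hgodd
    by_cases hg1 : g = 1
    · refine ⟨w0, by rw [hV1def]; exact ⟨hw0V, hw0N⟩, hw01, by rw [hg1]; simp⟩
    · obtain ⟨w', hw'V, hw'N, hw'1, hw'c⟩ := claimA g hgK hg1 hgodd
      exact ⟨w', by rw [hV1def]; exact ⟨hw'V, hw'N⟩, hw'1, hw'c⟩
  obtain ⟨u, huV1, hu1, huH, huO⟩ := sidki_min_apply hminG (K ⊔ V1) V1 le_sup_right hHne
    (elemAb2_of_le hV1V hV) hV1ne hrel
  have huC := pCore_two_centralizes_subnormal hO K (K ⊔ V1) hK.1 le_sup_left hHN u huH huO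
  apply hu1
  apply hCN u (hV1V huV1)
  intro v' hv' k hk
  have huv' : u * v' = v' * u := hV'.1 u (hV1V huV1) v' hv'
  have huk : u * k = k * u := ((Subgroup.mem_centralizer_iff.mp huC) k hk).symm
  have huv'i : u * v'⁻¹ = v'⁻¹ * u := by
    have : u * v'⁻¹ = v'⁻¹ * (v' * u) * v'⁻¹ := by group
    rw [this, ← huv']; group
  calc u * (v' * k * v'⁻¹) = (u * v') * k * v'⁻¹ := by group
    _ = v' * (u * k) * v'⁻¹ := by rw [huv']; group
    _ = v' * k * (u * v'⁻¹) := by rw [huk]; group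
    _ = (v' * k * v'⁻¹) * u := by rw [huv'i]; group

end Cfsg.Agent.Lib.Helper20
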