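import Cfsg.Agent.Lib.Helper20.Sidki7

set_option linter.style.haveILetI false
set_option linter.unusedVariables false
set_option linter.unusedSectionVars false
set_option autoImplicit false

namespace Cfsg.Agent.Lib.Helper20

open scoped commutatorElement
open Cfsg

universe u

open scoped IsMulCommutative in
theorem isNilpotent_of_comm_elems {G : Type*} [Group G] (A : Subgroup G)
    (h : ∀ a ∈ A, ∀ b ∈ A, a * b = b * a) : Group.IsNilpotent ↥A := by
  haveI : IsMulCommutative ↥A := ⟨⟨fun a b => Subtype.ext (h a a.2 b b.2)⟩⟩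
  infer_instance

/-- a minimal counterexample to the Sidki pair theorem is almost simple -/
theorem sidki_main {G : Type u} [Group G] [Finite G] (V : Subgroup G)
    (hV : Cfsg.IsElementaryAbelian 2 V) (hV1 : V ≠ ⊥) (hS : Cfsg.IsSidkiPair V)
    (hVO : V ⊓ Cfsg.pCore 2 G = ⊥) (hminG : SidkiMinG G) (hminV : SidkiMinV V) :
    IsSimpleGroup ↥(Cfsg.generalizedFittingSubgroup G) ∧
      ¬ IsMulCommutative ↥(Cfsg.generalizedFittingSubgroup G) ∧
      V ⊔ Cfsg.generalizedFittingSubgroup G = ⊤ := by
  have hV' := (elemAb2_iff V).mp hV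
  have hO := sidki_pCore_eq_bot V hV hV1 hS hVO hminG
  have hXV := sidki_genFitting_sup V hV hV1 hS hO hminG
  have hZ := sidki_centralizer_genFitting_eq_bot V hV hV1 hS hO hminG hminV
  have hF := sidki_fitting_eq_bot V hV hV1 hS hO hminG hminV
  have hXL : Cfsg.generalizedFittingSubgroup G = Cfsg.layer G := by
    unfold Cfsg.generalizedFittingSubgroup
    rw [hF, sup_bot_eq]
  haveI hXn : (Cfsg.generalizedFittingSubgroup G).Normal := genFitting_normal''
  have hX1 : Cfsg.generalizedFittingSubgroup G ≠ ⊥ := by
    intro h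
    obtain ⟨v, hvV, hv1⟩ : ∃ v ∈ V, v ≠ 1 := by
      by_contra hcon
      push Not at hcon
      exact hV1 (by rw [eq_bot_iff]; intro x hx; exact Subgroup.mem_bot.mpr (hcon x hx))
    have : v ∈ Subgroup.centralizer (Cfsg.generalizedFittingSubgroup G : Set G) := by
      rw [Subgroup.mem_centralizer_iff]
      intro x hx
      have hx' : x ∈ Cfsg.generalizedFittingSubgroup G := hx
      rw [h, Subgroup.mem_bot] at hx'
      rw [hx']; simp
    rw [hZ, Subgroup.mem_bot] at this
    exact hv1 this
  obtain ⟨N, hNn, hN1, hNX, hNmin⟩ := exists_minimal_normal_le _ hX1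
  haveI := hNn
  have hCnorm : (Subgroup.centralizer (N : Set G)).Normal := inferInstance
  have hNC : N ⊓ Subgroup.centralizer (N : Set G) = ⊥ := by
    have hAn : (N ⊓ Subgroup.centralizer (N : Set G)).Normal := inferInstance
    have hAc : ∀ a ∈ N ⊓ Subgroup.centralizer (N : Set G),
        ∀ b ∈ N ⊓ Subgroup.centralizer (N : Set G), a * b = b * a := by
      intro a ha b hb
      exact (Subgroup.mem_centralizer_iff.mp (Subgroup.mem_inf.mp hb).2) a (Subgroup.mem_inf.mp ha).1
    have := le_fittingSubgroup' hAn (isNilpotent_of_comm_elems _ hAc)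
    rw [hF] at this
    exact eq_bot_iff.mpr this
  have hcomp : ∀ J : Subgroup G, Cfsg.IsComponent J →
      J ≤ N ∨ J ≤ Subgroup.centralizer (N : Set G) := by
    intro J hJ
    rcases component_le_or_commutes J N hJ hNn.isSubnormal with h | h
    · exact Or.inl h
    · right
      rwa [Subgroup.commutator_eq_bot_iff_le_centralizer] at h
  have hodd : ∀ h : G, Odd (orderOf h) → h ∈ N ⊔ Subgroup.centralizer (N : Set G) := by
    intro h hh
    have h1 : h ∈ Cfsg.generalizedFittingSubgroup G :=
      mem_of_odd_of_mem_sup_two _ V hV'.2 h (by rw [hXV]; exact Subgroup.mem_top h) hh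
    have h2 : Cfsg.generalizedFittingSubgroup G ≤ N ⊔ Subgroup.centralizer (N : Set G) := by
      rw [hXL]
      apply sSup_le
      intro J hJ
      rcases hcomp J hJ with h | h
      · exact h.trans le_sup_left
      · exact h.trans le_sup_right
    exact h2 h1
  have hNV := sidki_normal_sup V hV hV1 hS hO hminG hminV N hN1 hNC hodd
  -- `C_G(N) = 1`
  have hCN0 : Subgroup.centralizer (N : Set G) = ⊥ := by
    have hsq : ∀ c ∈ Subgroup.centralizer (N : Set G), c * c = 1 := by
      intro c hc
      have h1 : QuotientGroup.mk' N c ∈ (N ⊔ V).map (QuotientGroup.mk' N) :=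
        Subgroup.mem_map_of_mem _ (by rw [hNV]; exact Subgroup.mem_top c)
      rw [Subgroup.map_sup, QuotientGroup.map_mk'_self, bot_sup_eq] at h1
      obtain ⟨v', hv', hv'c⟩ := h1
      have h2 : QuotientGroup.mk' N (c * c) = 1 := by
        rw [map_mul, ← hv'c, ← map_mul, hV'.2 v' hv', map_one]
      have h3 : c * c ∈ N := (QuotientGroup.eq_one_iff _).mp h2
      have : c * c ∈ N ⊓ Subgroup.centralizer (N : Set G) :=
        Subgroup.mem_inf.mpr ⟨h3, Subgroup.mul_mem _ hc hc⟩
      rw [hNC] at this
      exact Subgroup.mem_bot.mp this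
    have hp : IsPGroup 2 ↥(Subgroup.centralizer (N : Set G)) := by
      rintro ⟨c, hc⟩
      refine ⟨1, ?_⟩
      apply Subtype.ext
      simp only [pow_one, Subgroup.coe_pow, Subgroup.coe_one]
      rw [pow_two]; exact hsq c hc
    have := le_pCore' hCnorm hp
    rw [hO] at this
    exact eq_bot_iff.mpr this
  -- a component
  have hcompN : ∀ J : Subgroup G, Cfsg.IsComponent J → J ≤ N := by
    intro J hJ
    rcases hcomp J hJ with h | h
    · exact h
    · exfalso
      rw [hCN0] at h
      exact isComponent_ne_bot hJ (eq_bot_iff.mpr h)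
  obtain ⟨K, hK⟩ : ∃ K : Subgroup G, Cfsg.IsComponent K := by
    by_contra hnone
    push Not at hnone
    apply hX1
    rw [hXL, eq_bot_iff]
    apply sSup_le
    intro J hJ
    exact absurd hJ (hnone J)
  have hKN : K ≤ N := hcompN K hK
  have hLN : Cfsg.layer G ≤ Subgroup.normalizer (K : Set G) := layer_le_normalizer_component K hK
  have hNL : N ≤ Cfsg.layer G := by rw [← hXL]; exact hNX
  have hKZ : K ⊓ Subgroup.centralizer (K : Set G) = ⊥ := by
    rw [eq_bot_iff]
    intro z hz
    obtain ⟨hzK, hzC⟩ := Subgroup.mem_inf.mp hz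
    have hle : Cfsg.layer G ≤ Subgroup.centralizer ({z} : Set G) := by
      apply sSup_le
      intro J hJ
      intro j hj
      rw [Subgroup.mem_centralizer_singleton_iff]
      by_cases hJK : J = K
      · rw [hJK] at hj
        exact (Subgroup.mem_centralizer_iff.mp hzC) j hj
      · exact components_commute_elem J K hJ hK hJK j hj z hzK
    have : z ∈ Subgroup.centralizer (Cfsg.generalizedFittingSubgroup G : Set G) := by
      rw [Subgroup.mem_centralizer_iff]
      intro x hx
      have hx' : x ∈ Cfsg.layer G := by rw [← hXL]; exact hx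
      exact Subgroup.mem_centralizer_singleton_iff.mp (hle hx')
    rw [hZ] at this
    exact this
  have hCNV : ∀ u ∈ V, (∀ v' ∈ V, ∀ k ∈ K, u * (v' * k * v'⁻¹) = (v' * k * v'⁻¹) * u) → u = 1 := by
    intro u hu hcomm
    have hMN : Subgroup.normalClosure (K : Set G) = N := by
      rcases hNmin (Subgroup.normalClosure (K : Set G)) inferInstance
        (Subgroup.normalClosure_le_normal hKN) with h | h
      · exfalso
        apply isComponent_ne_bot hK
        rw [eq_bot_iff, ← h]
        exact Subgroup.le_normalClosure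
      · exact h
    have hle : Subgroup.normalClosure (K : Set G) ≤ Subgroup.centralizer ({u} : Set G) := by
      unfold Subgroup.normalClosure
      rw [Subgroup.closure_le]
      intro x hx
      rw [Group.mem_conjugatesOfSet_iff] at hx
      obtain ⟨k, hk, hkx⟩ := hx
      rw [isConj_iff] at hkx
      obtain ⟨g, hg⟩ := hkx
      have hgmem : g ∈ N ⊔ V := by rw [hNV]; exact Subgroup.mem_top g
      rw [← SetLike.mem_coe, Subgroup.normal_mul] at hgmem
      obtain ⟨n, hn, v', hv', hnv⟩ := Set.mem_mul.mp hgmem
      have hnN : n ∈ N := hn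
      have hv'V : v' ∈ V := hv'
      -- n normalizes the component K^{v'}
      have hcomp' : Cfsg.IsComponent (K.map (MulAut.conj v').toMonoidHom) :=
        isComponent_map_mulEquiv (MulAut.conj v') K hK
      have hnnorm : n ∈ Subgroup.normalizer ((K.map (MulAut.conj v').toMonoidHom : Subgroup G) : Set G) :=
        layer_le_normalizer_component _ hcomp' (hNL hnN)
      have hmem : v' * k * v'⁻¹ ∈ K.map (MulAut.conj v').toMonoidHom := ⟨k, hk, rfl⟩
      have hx2 : x ∈ K.map (MulAut.conj v').toMonoidHom := by
        have h1 : x = n * (v' * k * v'⁻¹) * n⁻¹ := by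
          rw [← hg, ← hnv]; group
        rw [h1]
        exact ((Subgroup.mem_normalizer_iff.mp hnnorm) _).mp hmem
      obtain ⟨k', hk', hk'x⟩ := hx2
      have hk'x' : v' * k' * v'⁻¹ = x := hk'x
      show x ∈ Subgroup.centralizer ({u} : Set G)
      rw [Subgroup.mem_centralizer_singleton_iff, ← hk'x']
      exact (hcomm v' hv'V k' hk').symm
    have huC : u ∈ Subgroup.centralizer (N : Set G) := by
      rw [Subgroup.mem_centralizer_iff]
      intro n hn
      have hn' : n ∈ Subgroup.normalClosure (K : Set G) := by rw [hMN]; exact hn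
      exact Subgroup.mem_centralizer_singleton_iff.mp (hle hn')
    rw [hCN0] at huC
    exact Subgroup.mem_bot.mp huC
  have hVK := sidki_component_normalized V hV hV1 hS hO hminG K hK hKZ hCNV
  have hKn : K.Normal := by
    apply Subgroup.normalizer_eq_top_iff.mp
    rw [eq_top_iff, ← hNV]
    exact sup_le (hNL.trans hLN) hVK
  have hKeqN : K = N := by
    rcases hNmin K hKn hKN with h | h
    · exact absurd h (isComponent_ne_bot hK)
    · exact h
  have hXK : Cfsg.generalizedFittingSubgroup G = K := by
    apply le_antisymm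
    · rw [hXL, hKeqN]
      apply sSup_le
      intro J hJ
      exact hcompN J hJ
    · rw [hKeqN]; exact hNX
  have hcenter : Subgroup.center ↥K = ⊥ := by
    rw [eq_bot_iff]
    intro z hz
    have : (z : G) ∈ K ⊓ Subgroup.centralizer (K : Set G) := by
      refine Subgroup.mem_inf.mpr ⟨z.2, ?_⟩
      rw [Subgroup.mem_centralizer_iff]
      intro k hk
      have := (Subgroup.mem_center_iff.mp hz) ⟨k, hk⟩
      exact congrArg Subtype.val this
    rw [hKZ, Subgroup.mem_bot] at this
    rw [Subgroup.mem_bot]
    exact Subtype.ext this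
  have hperf : Group.IsPerfect ↥K := hK.2.1
  have hsimpleQ : IsSimpleGroup (↥K ⧸ Subgroup.center ↥K) := hK.2.2
  haveI : Nontrivial ↥K := isQuasisimple_nontrivial hK.2
  have hsimple : IsSimpleGroup ↥K := by
    let e : ↥K ⧸ Subgroup.center ↥K ≃* ↥K :=
      (QuotientGroup.quotientMulEquivOfEq hcenter).trans QuotientGroup.quotientBot
    exact IsSimpleGroup.isSimpleGroup_of_surjective e.toMonoidHom e.surjective
  have hnc : ¬ IsMulCommutative ↥K := Group.IsPerfect.not_isMulCommutative ↥K
  refine ⟨?_, ?_, ?_⟩
  · rw [hXK]; exact hsimple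
  · rw [hXK]; exact hnc
  · rw [sup_comm]; exact hXV

end Cfsg.Agent.Lib.Helper20
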