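import Cfsg.Agent.Lib.Helper20.SylowFix3

set_option linter.style.haveILetI false
set_option linter.unusedVariables false
set_option linter.unusedSectionVars false
set_option autoImplicit false
set_option maxRecDepth 4000

namespace Cfsg.Agent.Lib.Helper20

open scoped Classical

section o1440

variable {G : Type*} [Group G] [Finite G]

/-- The case `n_5 = 16` for order 1440: a `3`-element centralizing `P` fixes exactly one coset. -/
theorem sf_1440_fix_one [IsSimpleGroup G] [Fact (Nat.Prime 5)] (P : Sylow 5 G)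
    (hP : Nat.card ↥(P : Subgroup G) = 5)
    (hNtop : Subgroup.normalizer ((P : Subgroup G) : Set G) ≠ ⊤)
    (hn : (Subgroup.normalizer ((P : Subgroup G) : Set G)).index = 16)
    (y : G) (hyC : y ∈ Subgroup.centralizer ((P : Subgroup G) : Set G)) (hy1 : y ≠ 1)
    (hy9 : y ^ 9 = 1) :
    Nat.card (MulAction.fixedBy (G ⧸ Subgroup.normalizer ((P : Subgroup G) : Set G)) y) = 1 := by
  obtain ⟨N, hN⟩ : ∃ N : Subgroup G, N = Subgroup.normalizer ((P : Subgroup G) : Set G) :=
    ⟨_, rfl⟩
  haveI : Fact (Nat.Prime 3) := ⟨by norm_num⟩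
  -- elements of order three
  have h3 : ∀ z : G, z ∈ Subgroup.centralizer ((P : Subgroup G) : Set G) → z ≠ 1 → z ^ 3 = 1 →
      Nat.card (MulAction.fixedBy (G ⧸ N) z) = 1 := by
    intro z hzC hz1 hz3
    have h1 := sf_card_fixedBy_centralizer P hP z hzC
    rw [← hN] at h1
    have h2 := sf_card_fixedBy_modEq (α := G ⧸ N) z 3 hz3
    have hcardΩ : Nat.card (G ⧸ N) = 16 := by rw [hN]; exact hn
    rw [hcardΩ] at h2
    have hle : Nat.card (MulAction.fixedBy (G ⧸ N) z) ≤ 16 := by
      rw [← hcardΩ]
      exact Nat.card_le_card_of_injective _ Subtype.val_injective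
    have hne : Nat.card (MulAction.fixedBy (G ⧸ N) z) ≠ 16 := by
      intro hcon
      apply hz1
      apply sf_eq_one_of_card_fixedBy N (hN ▸ hNtop) z
      rw [hcon, hN, hn]
    unfold Nat.ModEq at h1 h2
    omega
  rw [← hN]
  by_cases hy3 : y ^ 3 = 1
  · exact h3 y hyC hy1 hy3
  · have hz := h3 (y ^ 3) (Subgroup.pow_mem _ hyC 3) hy3 (by rw [← pow_mul]; exact hy9)
    have hsub : Nat.card (MulAction.fixedBy (G ⧸ N) y) ≤
        Nat.card (MulAction.fixedBy (G ⧸ N) (y ^ 3)) := by
      apply Nat.card_le_card_of_injective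
        (fun ω : MulAction.fixedBy (G ⧸ N) y => (⟨ω.1, by
          have h := ω.2
          rw [MulAction.mem_fixedBy] at h ⊢
          rw [pow_succ, pow_succ, pow_one, mul_smul, mul_smul, h, h, h]⟩ :
          MulAction.fixedBy (G ⧸ N) (y ^ 3)))
      intro a b hab
      apply Subtype.ext
      have h5 : ((⟨a.1, _⟩ : MulAction.fixedBy (G ⧸ N) (y ^ 3)) : G ⧸ N) =
          ((⟨b.1, _⟩ : MulAction.fixedBy (G ⧸ N) (y ^ 3)) : G ⧸ N) := congrArg Subtype.val hab
      exact h5
    have h1 := sf_card_fixedBy_centralizer P hP y hyC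
    rw [← hN] at h1
    unfold Nat.ModEq at h1
    omega


theorem sf_not_simple_1440 [IsSimpleGroup G] : Nat.card G ≠ 1440 := by
  intro hG
  haveI : Fact (Nat.Prime 5) := ⟨by norm_num⟩
  obtain ⟨P⟩ : Nonempty (Sylow 5 G) := inferInstance
  have hP : Nat.card ↥(P : Subgroup G) = 5 := sf_sylow_card P 288 (by rw [hG]) (by norm_num)
  obtain ⟨hr, hcard, hmod, hdvd⟩ := sf_data P hP
  have hidx : (P : Subgroup G).index = 288 := by
    have := (P : Subgroup G).card_mul_index
    rw [hP, hG] at this
    omega
  rw [hidx] at hdvd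
  rw [hG] at hcard
  have hNtop := sf_normalizer_ne_top P (by rw [hP]; norm_num) (by rw [hP, hG]; norm_num)
  obtain ⟨n, hn⟩ : ∃ n : ℕ, n = (Subgroup.normalizer ((P : Subgroup G) : Set G)).index := ⟨_, rfl⟩
  obtain ⟨r, hr'⟩ : ∃ r : ℕ, r = (Subgroup.centralizer ((P : Subgroup G) : Set G)).relIndex
    (Subgroup.normalizer ((P : Subgroup G) : Set G)) := ⟨_, rfl⟩
  obtain ⟨c, hc⟩ : ∃ c : ℕ, c = Nat.card ↥(Subgroup.centralizer ((P : Subgroup G) : Set G)) :=
    ⟨_, rfl⟩
  rw [← hn] at hmod hdvd hcard
  rw [← hr'] at hr hcard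
  rw [← hc] at hcard
  have hr4 : r ∣ 4 := hr
  have hrpos : 0 < r := Nat.pos_of_dvd_of_pos hr4 (by norm_num)
  have hrle : r ≤ 4 := Nat.le_of_dvd (by norm_num) hr4
  have hn_cases : n = 1 ∨ n = 6 ∨ n = 16 ∨ n = 36 ∨ n = 96 := by
    have h1 : n ∈ (Nat.divisors 288).filter (fun d => d % 5 = 1) := by
      rw [Finset.mem_filter, Nat.mem_divisors]
      exact ⟨⟨hdvd, by norm_num⟩, hmod⟩
    have h2 : (Nat.divisors 288).filter (fun d => d % 5 = 1) = {1, 6, 16, 36, 96} := by decide
    rw [h2] at h1
    simpa using h1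
  rcases hn_cases with h | h | h | h | h
  · -- n = 1
    apply hNtop
    rw [← Subgroup.index_eq_one, ← hn, h]
  · -- n = 6
    have := sf_card_dvd_factorial _ hNtop
    rw [← hn, h, hG] at this
    norm_num [Nat.factorial] at this
  · -- n = 16
    rw [h] at hcard
    have h9 : 3 ^ 2 ∣ Nat.card ↥(Subgroup.centralizer ((P : Subgroup G) : Set G)) := by
      rw [← hc]
      interval_cases r
      · exact ⟨10, by omega⟩
      · exact ⟨5, by omega⟩
      · exfalso; omega
      · exfalso; omega
    haveI : Fact (Nat.Prime 3) := ⟨by norm_num⟩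
    obtain ⟨K, hK⟩ := Sylow.exists_subgroup_card_pow_prime 3 h9
    obtain ⟨Q, hQ⟩ : ∃ Q : Subgroup G, Q = K.map (Subgroup.subtype _) := ⟨_, rfl⟩
    have hQC : Q ≤ Subgroup.centralizer ((P : Subgroup G) : Set G) := by
      rw [hQ]; exact Subgroup.map_subtype_le K
    have hQcard : Nat.card ↥Q = 9 := by
      rw [hQ, Subgroup.card_map_of_injective (Subgroup.subtype_injective _), hK]
      norm_num
    obtain ⟨N, hN⟩ : ∃ N : Subgroup G, N = Subgroup.normalizer ((P : Subgroup G) : Set G) :=
      ⟨_, rfl⟩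
    haveI := Fintype.ofFinite ↥Q
    haveI := Fintype.ofFinite (G ⧸ N)
    have hB := MulAction.sum_card_fixedBy_eq_card_orbits_mul_card_group ↥Q (G ⧸ N)
    have hfix : ∀ a : ↥Q, a ≠ 1 → Fintype.card (MulAction.fixedBy (G ⧸ N) a) = 1 := by
      intro a ha
      have h1 := sf_1440_fix_one P hP hNtop (by rw [← hn, h]) (a : G) (hQC a.2)
        (fun hcon => ha (Subtype.ext hcon)) (by
          have := pow_card_eq_one' (G := ↥Q) (x := a)
          rw [hQcard] at this
          have h2 := congrArg Subtype.val this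
          simpa using h2)
      rw [← hN] at h1
      rw [← Nat.card_eq_fintype_card]
      exact h1
    have hone : Fintype.card (MulAction.fixedBy (G ⧸ N) (1 : ↥Q)) = 16 := by
      rw [← Nat.card_eq_fintype_card]
      have : Nat.card (G ⧸ N) = 16 := by rw [hN]; rw [← h, hn]; rfl
      rw [← this]
      apply Nat.card_congr
      exact (Equiv.subtypeUnivEquiv (fun x => by simp))
    rw [← Finset.add_sum_erase _ _ (Finset.mem_univ (1 : ↥Q)), hone,
      Finset.sum_congr rfl (fun a ha => hfix a (Finset.ne_of_mem_erase ha)), Finset.sum_const,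
      Finset.card_erase_of_mem (Finset.mem_univ _), Finset.card_univ, ← Nat.card_eq_fintype_card,
      ← Nat.card_eq_fintype_card] at hB
    rw [hQcard] at hB
    simp only [smul_eq_mul, mul_one] at hB
    omega
  · -- n = 36
    rw [h] at hcard
    have hceven : Even c := by
      interval_cases r <;> first | (exfalso; omega) | (rw [Nat.even_iff]; omega)
    have hodd := sf_odd_card_centralizer (by rw [hG]; norm_num) P hP hNtop 16
      (by
        intro f' h1 h2 h3
        rw [← hn, h] at h2 h3
        unfold Nat.ModEq at h1 h2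
        omega)
      (by rw [← hn, h]; norm_num)
      (by
        intro m k hmk hk
        rw [← hn, h, hG] at hmk
        rw [hG] at hk
        have h640 : m * k = 640 := by
          have : 36 * (m * k) = 36 * 640 := by rw [← mul_assoc, ← hmk]
          exact Nat.eq_of_mul_eq_mul_left (by norm_num) this
        have hk640 : k ∣ 640 := ⟨m, by rw [← h640, mul_comm]⟩
        have hk160 : k ∣ 160 := by
          have := Nat.dvd_gcd hk640 hk
          norm_num at this
          exact this
        obtain ⟨j, hj⟩ := hk160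
        have hkpos : 0 < k := by
          rcases Nat.eq_zero_or_pos k with h0 | h0
          · rw [h0] at h640; omega
          · exact h0
        refine ⟨2 * j, ?_⟩
        have : k * m = k * (2 * j + 2 * j) := by
          rw [mul_comm k m, h640]
          have : k * (2 * j + 2 * j) = 4 * (k * j) := by ring
          rw [this, ← hj]
        exact Nat.eq_of_mul_eq_mul_left hkpos this)
    rw [← hc] at hodd
    exact (Nat.not_even_iff_odd.mpr hodd) hceven
  · -- n = 96
    rw [h] at hcard
    have hr1 : r = 1 := by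
      interval_cases r <;> omega
    apply sf_burnside P _ (by rw [hP]; norm_num) (by rw [hP, hG]; norm_num)
    rw [← Subgroup.relIndex_eq_one, ← hr', hr1]

end o1440

end Cfsg.Agent.Lib.Helper20
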