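import Cfsg.Agent.Lib.Helper20.SylowFix3

set_option linter.style.haveILetI false
set_option linter.unusedVariables false
set_option linter.unusedSectionVars false
set_option autoImplicit false
set_option maxRecDepth 4000

namespace Cfsg.Agent.Lib.Helper20

open scoped Classical

section o2016

variable {G : Type*} [Group G] [Finite G]

theorem sf_not_simple_2016 [IsSimpleGroup G] : Nat.card G ≠ 2016 := by
  intro hG
  haveI : Fact (Nat.Prime 7) := ⟨by norm_num⟩
  obtain ⟨P⟩ : Nonempty (Sylow 7 G) := inferInstance
  have hP : Nat.card ↥(P : Subgroup G) = 7 := sf_sylow_card P 288 (by rw [hG]) (by norm_num)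
  obtain ⟨hr, hcard, hmod, hdvd⟩ := sf_data P hP
  have hidx : (P : Subgroup G).index = 288 := by
    have := (P : Subgroup G).card_mul_index
    rw [hP, hG] at this
    omega
  rw [hidx] at hdvd
  rw [hG] at hcard
  have hNtop := sf_normalizer_ne_top P (by rw [hP]; norm_num) (by rw [hP, hG]; norm_num)
  obtain ⟨n, hn⟩ : ∃ n : ℕ, n = (Subgroup.normalizer ((P : Subgroup G) : Set G)).index := ⟨_, rfl⟩
  obtain ⟨r, hr'⟩ : ∃ r : ℕ, r = (Subgroup.centralizer ((P : Subgroup G) : Set G)).relIndex
    (Subgroup.normalizer ((P : Subgroup G) : Set G)) := ⟨_, rfl⟩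
  obtain ⟨c, hc⟩ : ∃ c : ℕ, c = Nat.card ↥(Subgroup.centralizer ((P : Subgroup G) : Set G)) :=
    ⟨_, rfl⟩
  rw [← hn] at hmod hdvd hcard
  rw [← hr'] at hr hcard
  rw [← hc] at hcard
  have hr6 : r ∣ 6 := hr
  have hrpos : 0 < r := Nat.pos_of_dvd_of_pos hr6 (by norm_num)
  have hrle : r ≤ 6 := Nat.le_of_dvd (by norm_num) hr6
  have hn_cases : n = 1 ∨ n = 8 ∨ n = 36 ∨ n = 288 := by
    have h1 : n ∈ (Nat.divisors 288).filter (fun d => d % 7 = 1) := by
      rw [Finset.mem_filter, Nat.mem_divisors]
      exact ⟨⟨hdvd, by norm_num⟩, hmod⟩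
    have h2 : (Nat.divisors 288).filter (fun d => d % 7 = 1) = {1, 8, 36, 288} := by decide
    rw [h2] at h1
    simpa using h1
  rcases hn_cases with h | h | h | h
  · -- n = 1
    apply hNtop
    rw [← Subgroup.index_eq_one, ← hn, h]
  · -- n = 8
    rw [h] at hcard
    have hceven : Even c := by
      interval_cases r <;> first | (exfalso; omega) | (rw [Nat.even_iff]; omega)
    obtain ⟨s, hsC, hs2⟩ := sf_exists_involution _ (hc ▸ hceven)
    have h0 := sf_card_fixedBy_involution (by rw [hG]; norm_num) P hP hNtop 0
      (by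
        intro f' h1 h2 h3
        rw [← hn, h] at h2 h3
        unfold Nat.ModEq at h1 h2
        omega) s hsC hs2
    have h1 := sf_card_fixedBy_centralizer P hP s hsC
    rw [h0] at h1
    unfold Nat.ModEq at h1
    omega
  · -- n = 36
    rw [h] at hcard
    have hceven : Even c := by
      interval_cases r <;> first | (exfalso; omega) | (rw [Nat.even_iff]; omega)
    have hodd := sf_odd_card_centralizer (by rw [hG]; norm_num) P hP hNtop 8
      (by
        intro f' h1 h2 h3
        rw [← hn, h] at h2 h3
        unfold Nat.ModEq at h1 h2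
        omega)
      (by rw [← hn, h]; norm_num)
      (by
        intro m k hmk hk
        rw [← hn, h, hG] at hmk
        rw [hG] at hk
        have h448 : m * k = 448 := by
          have : 36 * (m * k) = 36 * 448 := by rw [← mul_assoc, ← hmk]
          exact Nat.eq_of_mul_eq_mul_left (by norm_num) this
        have hk448 : k ∣ 448 := ⟨m, by rw [← h448, mul_comm]⟩
        have hk224 : k ∣ 224 := by
          have := Nat.dvd_gcd hk448 hk
          norm_num at this
          exact this
        obtain ⟨j, hj⟩ := hk224
        have hkpos : 0 < k := by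
          rcases Nat.eq_zero_or_pos k with h0 | h0
          · rw [h0] at h448; omega
          · exact h0
        refine ⟨j, ?_⟩
        have : k * m = k * (j + j) := by
          rw [mul_comm k m, h448]
          have : k * (j + j) = 2 * (k * j) := by ring
          rw [this, ← hj]
        exact Nat.eq_of_mul_eq_mul_left hkpos this)
    rw [← hc] at hodd
    exact (Nat.not_even_iff_odd.mpr hodd) hceven
  · -- n = 288
    rw [h] at hcard
    have hr1 : r = 1 := by
      interval_cases r <;> omega
    apply sf_burnside P _ (by rw [hP]; norm_num) (by rw [hP, hG]; norm_num)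
    rw [← Subgroup.relIndex_eq_one, ← hr', hr1]

end o2016

end Cfsg.Agent.Lib.Helper20
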