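import Cfsg.Agent.Lib.Helper20.PLocal2
import Cfsg.Agent.Lib.Helper20.Signalizer

set_option autoImplicit false

namespace Cfsg.Agent.Lib.Helper20

open Cfsg

theorem pLayer_eq_bot_of_isSolvable {H : Type*} [Group H] [Finite H] (p : ℕ) [hp : Fact p.Prime]
    [hs : Group.IsSolvable H] : pLayer p H = ⊥ := by
  rw [← isPConstrained_iff_pLayer_eq_bot, isPConstrained_iff_layer_quotient_eq_bot,
    layer_eq_bot_iff']
  intro K hK
  apply isQuasisimple_not_isSolvable hK.2
  have hn : (pPrimeCore p H).Normal := pPrimeCore_normal' p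
  infer_instance

/-- In a `p`-constrained group, a `p'`-subgroup of `C_H(P)` normalized by `C_H(P)` lies in
`O_{p'}(H)`. -/
theorem le_pPrimeCore_of_normalized_by_centralizer {H : Type*} [Group H] [Finite H] (p : ℕ)
    [hp : Fact p.Prime] (hL : pLayer p H = ⊥) (P : Subgroup H) (hP : IsPGroup p P)
    (D : Subgroup H) (hDC : D ≤ Subgroup.centralizer (P : Set H))
    (hDn : Subgroup.centralizer (P : Set H) ≤ Subgroup.normalizer (D : Set H))
    (hDp : (Nat.card D).Coprime p) : D ≤ pPrimeCore p H := by
  have h1 := (pLayer_centralizer_eq_bot p hL P hP).2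
  have hn : (D.subgroupOf (Subgroup.centralizer (P : Set H))).Normal :=
    Subgroup.normal_subgroupOf_of_le_normalizer hDn
  have hc : (Nat.card (D.subgroupOf (Subgroup.centralizer (P : Set H)))).Coprime p := by
    rw [Nat.card_congr (Subgroup.subgroupOfEquivOfLe hDC).toEquiv]
    exact hDp
  have h2 := le_pPrimeCore' hn hc
  intro x hx
  apply h1
  exact ⟨⟨x, hDC hx⟩, h2 (show (⟨x, hDC hx⟩ : ↥(Subgroup.centralizer (P : Set H))) ∈
    D.subgroupOf (Subgroup.centralizer (P : Set H)) from hx), rfl⟩

theorem isPGroup_zpowers_of_pow_eq_one {H : Type*} [Group H] (p : ℕ) (a : H) (ha : a ^ p = 1) :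
    IsPGroup p ↥(Subgroup.zpowers a) := by
  rintro ⟨g, hg⟩
  obtain ⟨n, rfl⟩ := Subgroup.mem_zpowers_iff.mp hg
  refine ⟨1, Subtype.ext ?_⟩
  show (a ^ n) ^ (p ^ 1) = 1
  rw [pow_one, ← zpow_natCast, ← zpow_mul, mul_comm, zpow_mul, zpow_natCast, ha, one_zpow]

section Main

variable {G : Type*} [Group G] [Finite G] (p : ℕ) [hp : Fact p.Prime]

theorem centralizerPPrimeCore_le (a : G) :
    centralizerPPrimeCore p a ≤ Subgroup.centralizer ({a} : Set G) :=
  Subgroup.map_subtype_le _

theorem centralizerPPrimeCore_coprime (a : G) :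
    (Nat.card (centralizerPPrimeCore p a)).Coprime p := by
  unfold centralizerPPrimeCore
  rw [Subgroup.card_map_of_injective (Subgroup.subtype_injective _)]
  exact pPrimeCore_coprime' p

theorem centralizerPPrimeCore_conj_mem (a : G) {g x : G}
    (hg : g ∈ Subgroup.centralizer ({a} : Set G)) (hx : x ∈ centralizerPPrimeCore p a) :
    g * x * g⁻¹ ∈ centralizerPPrimeCore p a := by
  obtain ⟨y, hy, rfl⟩ := hx
  have hn : (pPrimeCore p ↥(Subgroup.centralizer ({a} : Set G))).Normal := pPrimeCore_normal' p
  exact ⟨⟨g, hg⟩ * y * ⟨g, hg⟩⁻¹, hn.conj_mem y hy ⟨g, hg⟩, rfl⟩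

theorem centralizerPPrimeCore_isSolvable (a : G)
    (hs : Group.IsSolvable ↥(Subgroup.centralizer ({a} : Set G))) :
    Group.IsSolvable ↥(centralizerPPrimeCore p a) := by
  unfold centralizerPPrimeCore
  exact Group.isSolvable_of_surjective
    (f := (Subgroup.centralizer ({a} : Set G)).subtype.subgroupMap
      (pPrimeCore p ↥(Subgroup.centralizer ({a} : Set G))))
    (MonoidHom.subgroupMap_surjective _ _)

/-- Balance for solvable centralizers. -/
theorem centralizerPPrimeCore_balance (a b : G) (hab : a * b = b * a) (hap : a ^ p = 1)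
    (hs : Group.IsSolvable ↥(Subgroup.centralizer ({b} : Set G))) :
    centralizerPPrimeCore p a ⊓ Subgroup.centralizer ({b} : Set G) ≤
      centralizerPPrimeCore p b := by
  have haH : a ∈ Subgroup.centralizer ({b} : Set G) := by
    rw [Subgroup.mem_centralizer_iff]
    intro y hy
    rw [Set.mem_singleton_iff] at hy
    subst hy
    exact hab.symm
  have hL : pLayer p ↥(Subgroup.centralizer ({b} : Set G)) = ⊥ := pLayer_eq_bot_of_isSolvable p
  have hP : IsPGroup p ↥(Subgroup.zpowers (⟨a, haH⟩ : ↥(Subgroup.centralizer ({b} : Set G)))) :=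
    isPGroup_zpowers_of_pow_eq_one p _ (Subtype.ext hap)
  have hcen : ∀ g : ↥(Subgroup.centralizer ({b} : Set G)),
      g ∈ Subgroup.centralizer ((Subgroup.zpowers
        (⟨a, haH⟩ : ↥(Subgroup.centralizer ({b} : Set G))) : Subgroup _) : Set _) ↔
      (g : G) ∈ Subgroup.centralizer ({a} : Set G) := by
    intro g
    rw [Subgroup.zpowers_eq_closure, Subgroup.centralizer_closure, Subgroup.mem_centralizer_iff,
      Subgroup.mem_centralizer_iff]
    constructor
    · intro h y hy
      rw [Set.mem_singleton_iff] at hy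
      subst hy
      exact congrArg Subtype.val (h ⟨y, haH⟩ rfl)
    · intro h y hy
      rw [Set.mem_singleton_iff] at hy
      subst hy
      exact Subtype.ext (h a rfl)
  have key := le_pPrimeCore_of_normalized_by_centralizer p hL
    (Subgroup.zpowers (⟨a, haH⟩ : ↥(Subgroup.centralizer ({b} : Set G)))) hP
    ((centralizerPPrimeCore p a).subgroupOf (Subgroup.centralizer ({b} : Set G)))
    (by
      intro x hx
      rw [hcen]
      exact centralizerPPrimeCore_le p a hx)
    (by
      intro g hg
      rw [hcen] at hg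
      apply mem_normalizer_of_invariant
        (A := Subgroup.centralizer ((Subgroup.zpowers
          (⟨a, haH⟩ : ↥(Subgroup.centralizer ({b} : Set G))) : Subgroup _) : Set _))
      · intro c hc u hu
        rw [hcen] at hc
        exact centralizerPPrimeCore_conj_mem p a hc hu
      · rw [hcen]; exact hg)
    (Nat.Coprime.coprime_dvd_left
      (Subgroup.card_comap_dvd_of_injective _ _ (Subgroup.subtype_injective _))
      (centralizerPPrimeCore_coprime p a))
  intro x hx
  obtain ⟨hx1, hx2⟩ := Subgroup.mem_inf.mp hx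
  exact ⟨⟨x, hx2⟩, key (show (⟨x, hx2⟩ : ↥(Subgroup.centralizer ({b} : Set G))) ∈
    (centralizerPPrimeCore p a).subgroupOf (Subgroup.centralizer ({b} : Set G)) from hx1), rfl⟩

/-- S1279. -/
theorem isSolvableSignalizerFunctor_centralizerPPrimeCore (A : Subgroup G)
    (hA : IsElementaryAbelian p A)
    (hsolv : ∀ a ∈ A, a ≠ 1 → Group.IsSolvable ↥(Subgroup.centralizer ({a} : Set G))) :
    IsSolvableSignalizerFunctor p A (fun a => centralizerPPrimeCore p a) := by
  have hcomm : ∀ a ∈ A, ∀ b ∈ A, a * b = b * a := by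
    intro a ha b hb
    have := hA.1
    exact congrArg Subtype.val (mul_comm' (⟨a, ha⟩ : ↥A) ⟨b, hb⟩)
  refine ⟨⟨?_, ?_, ?_, ?_⟩, ?_⟩
  · intro a _ _
    exact centralizerPPrimeCore_le p a
  · intro a _ _
    exact (Nat.Prime.coprime_iff_not_dvd hp.out).mp (centralizerPPrimeCore_coprime p a).symm
  · intro a ha _ b hb x hx
    apply centralizerPPrimeCore_conj_mem p a _ hx
    rw [Subgroup.mem_centralizer_iff]
    intro y hy
    rw [Set.mem_singleton_iff] at hy
    subst hy
    exact hcomm y ha b hb
  · intro a ha _ b hb hb1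
    exact centralizerPPrimeCore_balance p a b (hcomm a ha b hb) (hA.2 a ha) (hsolv b hb hb1)
  · intro a ha ha1
    exact centralizerPPrimeCore_isSolvable p a (hsolv a ha ha1)

end Main

end Cfsg.Agent.Lib.Helper20

namespace Cfsg.Agent.Lib.Helper20

open Cfsg

/-- S1958: balance for commuting elements of order `p` with solvable centralizers. -/
theorem centralizerPPrimeCore_inf_eq {G : Type*} [Group G] [Finite G] (p : ℕ) [hp : Fact p.Prime]
    (x y : G) (hx : orderOf x = p) (hy : orderOf y = p) (hxy : x * y = y * x)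
    (hCx : Group.IsSolvable ↥(Subgroup.centralizer ({x} : Set G)))
    (hCy : Group.IsSolvable ↥(Subgroup.centralizer ({y} : Set G))) :
    centralizerPPrimeCore p x ⊓ Subgroup.centralizer {y} =
      centralizerPPrimeCore p y ⊓ Subgroup.centralizer {x} := by
  have hxp : x ^ p = 1 := by rw [← hx]; exact pow_orderOf_eq_one x
  have hyp : y ^ p = 1 := by rw [← hy]; exact pow_orderOf_eq_one y
  apply le_antisymm
  · exact le_inf (centralizerPPrimeCore_balance p x y hxy hxp hCy)
      (inf_le_left.trans (centralizerPPrimeCore_le p x))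
  · exact le_inf (centralizerPPrimeCore_balance p y x hxy.symm hyp hCx)
      (inf_le_left.trans (centralizerPPrimeCore_le p y))

end Cfsg.Agent.Lib.Helper20
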