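import Mathlib

set_option linter.style.haveILetI false
set_option linter.unusedVariables false

namespace Cfsg.Agent.Lib.Helper20

open scoped commutatorElement

theorem sp4_elem_ab {N : Type*} [Group N] (σ τ : MulAut N)
    (hσ : ∀ n, n * σ n * σ (σ n) = 1)
    (h3 : ∀ n : N, n ^ 3 = 1 → n = 1)
    (hτσ : ∀ n, σ (τ (σ n)) = τ n)
    (hττ : ∀ n, τ (τ n) = n)
    (hsq : ∀ n, (n * τ n) ^ 2 = 1)
    (hcl : ∀ a b c : N, ⁅a, ⁅b, c⁆⁆ = 1) : ∀ n : N, n ^ 2 = 1 := by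
  -- basic facts on σ
  have q1 : ∀ n, σ n * σ (σ n) = n⁻¹ := by
    intro n
    have : n * (σ n * σ (σ n)) = 1 := by rw [← mul_assoc]; exact hσ n
    exact eq_inv_of_mul_eq_one_right this
  have s3 : ∀ n, σ (σ (σ n)) = n := by
    intro n
    have p2 := hσ (σ n)
    rw [q1] at p2
    exact (inv_mul_eq_one.1 p2).symm
  have q2 : ∀ n, σ (σ n) * σ n = n⁻¹ := by
    intro n
    have p := hσ n⁻¹
    simp only [map_inv] at p
    have : (n⁻¹ * (σ n)⁻¹ * (σ (σ n))⁻¹)⁻¹ = 1 := by rw [p, inv_one]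
    have e : (n⁻¹ * (σ n)⁻¹ * (σ (σ n))⁻¹)⁻¹ = σ (σ n) * σ n * n := by group
    rw [e] at this
    exact eq_inv_of_mul_eq_one_left this
  have τσ : ∀ n, τ (σ n) = σ (σ (τ n)) := by
    intro n
    have := hτσ n
    rw [← this, s3]
  -- centrality
  have Zcomm : ∀ b c m : N, m * ⁅b, c⁆ = ⁅b, c⁆ * m := by
    intro b c m
    exact commutatorElement_eq_one_iff_mul_comm.1 (hcl m b c)
  have Zaut : ∀ (φ : MulAut N) (z : N), (∀ m, m * z = z * m) → ∀ m, m * φ z = φ z * m := by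
    intro φ z hz m
    have h := hz (φ.symm m)
    have := congrArg φ h
    rw [map_mul, map_mul, MulEquiv.apply_symm_apply] at this
    exact this
  -- Step 0
  have step0 : ∀ z : N, (∀ m, m * z = z * m) → z ^ 2 = 1 := by
    intro z hz
    have a1 : ∀ z : N, (∀ m, m * z = z * m) → z ^ 2 * τ (z ^ 2) = 1 := by
      intro z hz
      have h := hsq z
      rw [map_pow]
      have e : (z * τ z) ^ 2 = z ^ 2 * (τ z) ^ 2 := by
        rw [pow_two, pow_two, pow_two]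
        calc z * τ z * (z * τ z) = z * (τ z * z) * τ z := by group
          _ = z * (z * τ z) * τ z := by rw [hz (τ z)]
          _ = z * z * (τ z * τ z) := by group
      rw [e] at h
      exact h
    obtain ⟨m, hm⟩ : ∃ m, m = z ^ 2 := ⟨_, rfl⟩
    have hmZ : ∀ k, k * m = m * k := by
      intro k
      rw [hm, pow_two]
      calc k * (z * z) = (k * z) * z := by group
        _ = (z * k) * z := by rw [hz k]
        _ = z * (k * z) := by group
        _ = z * (z * k) := by rw [hz k]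
        _ = z * z * k := by group
    have b1 : m * τ m = 1 := by rw [hm]; exact a1 z hz
    have b2 : σ m * τ (σ m) = 1 := by
      have := a1 (σ z) (Zaut σ z hz)
      rw [← map_pow, ← hm] at this
      exact this
    have b3 : τ m = m⁻¹ := eq_inv_of_mul_eq_one_right b1
    rw [τσ, b3, map_inv, map_inv, mul_inv_eq_one] at b2
    have b4 : m = σ m := σ.injective b2
    have b5 := hσ m
    rw [← b4, ← b4] at b5
    rw [← hm]
    have : m ^ 3 = 1 := by rw [pow_succ, pow_two]; exact b5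
    exact h3 m this
  -- commutators square to one
  have comm_sq : ∀ a b : N, ⁅a, b⁆ * ⁅a, b⁆ = 1 := by
    intro a b
    have := step0 ⁅a, b⁆ (Zcomm a b)
    rwa [pow_two] at this
  have comm_inv : ∀ a b : N, ⁅a, b⁆⁻¹ = ⁅a, b⁆ := by
    intro a b
    exact inv_eq_of_mul_eq_one_left (comm_sq a b)
  -- squares are central
  have sqZ : ∀ n m : N, m * n ^ 2 = n ^ 2 * m := by
    intro n m
    apply commutatorElement_eq_one_iff_mul_comm.1
    have e : ⁅m, n ^ 2⁆ = ⁅m, n⁆ * (n * ⁅m, n⁆ * n⁻¹) := by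
      rw [commutatorElement_def, commutatorElement_def, pow_two]; group
    rw [e, Zcomm m n n, mul_assoc, mul_inv_cancel, mul_one]
    exact comm_sq m n
  -- Step 2
  have step2 : ∀ c : N, (∀ m, m * (τ c * c⁻¹) = (τ c * c⁻¹) * m) → c ^ 2 = 1 := by
    intro c hc
    obtain ⟨z, hz⟩ : ∃ z, z = τ c * c⁻¹ := ⟨_, rfl⟩
    rw [← hz] at hc
    have hτc : τ c = z * c := by rw [hz]; group
    have hzz : ∀ m, m * σ (σ z) = σ (σ z) * m := Zaut σ _ (Zaut σ z hc)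
    have e1 : σ c * τ (σ c) = σ (σ z) * c⁻¹ := by
      rw [τσ, hτc, map_mul, map_mul]
      calc σ c * (σ (σ z) * σ (σ c)) = (σ c * σ (σ z)) * σ (σ c) := by group
        _ = (σ (σ z) * σ c) * σ (σ c) := by rw [hzz (σ c)]
        _ = σ (σ z) * (σ c * σ (σ c)) := by group
        _ = σ (σ z) * c⁻¹ := by rw [q1]
    have h := hsq (σ c)
    rw [e1, pow_two] at h
    have e2 : σ (σ z) * c⁻¹ * (σ (σ z) * c⁻¹) = (σ (σ z)) ^ 2 * (c⁻¹ * c⁻¹) := by
      rw [pow_two]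
      calc σ (σ z) * c⁻¹ * (σ (σ z) * c⁻¹) = σ (σ z) * (c⁻¹ * σ (σ z)) * c⁻¹ := by group
        _ = σ (σ z) * (σ (σ z) * c⁻¹) * c⁻¹ := by rw [hzz c⁻¹]
        _ = σ (σ z) * σ (σ z) * (c⁻¹ * c⁻¹) := by group
    rw [e2, step0 _ hzz, one_mul] at h
    have : (c ^ 2)⁻¹ = 1 := by rw [pow_two, mul_inv_rev]; exact h
    exact inv_eq_one.1 this
  -- Step 3
  have step3 : ∀ a b : N, (∀ m, m * (τ a * a⁻¹) = (τ a * a⁻¹) * m) →
      (∀ m, m * (τ b * b⁻¹) = (τ b * b⁻¹) * m) → a * b = b * a := by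
    intro a b ha hb
    have hab : ∀ m, m * (τ (a * b) * (a * b)⁻¹) = (τ (a * b) * (a * b)⁻¹) * m := by
      intro m
      have e : τ (a * b) * (a * b)⁻¹ = (τ a * a⁻¹) * (τ b * b⁻¹) := by
        rw [map_mul, mul_inv_rev]
        calc τ a * τ b * (b⁻¹ * a⁻¹) = τ a * (τ b * b⁻¹) * a⁻¹ := by group
          _ = τ a * (a⁻¹ * (τ b * b⁻¹)) := by rw [mul_assoc, hb a⁻¹]
          _ = (τ a * a⁻¹) * (τ b * b⁻¹) := by group
      rw [e]
      calc m * ((τ a * a⁻¹) * (τ b * b⁻¹)) = (m * (τ a * a⁻¹)) * (τ b * b⁻¹) := by group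
        _ = ((τ a * a⁻¹) * m) * (τ b * b⁻¹) := by rw [ha m]
        _ = (τ a * a⁻¹) * (m * (τ b * b⁻¹)) := by group
        _ = (τ a * a⁻¹) * ((τ b * b⁻¹) * m) := by rw [hb m]
        _ = (τ a * a⁻¹) * (τ b * b⁻¹) * m := by group
    have h1 := step2 a ha
    have h2 := step2 b hb
    have h3' := step2 (a * b) hab
    rw [pow_two] at h1 h2 h3'
    have ia : a⁻¹ = a := inv_eq_of_mul_eq_one_left h1
    have ib : b⁻¹ = b := inv_eq_of_mul_eq_one_left h2
    have : a * b = (a * b)⁻¹ := (inv_eq_of_mul_eq_one_left h3').symm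
    rw [this, mul_inv_rev, ia, ib]
  -- Step 5
  have step5a : ∀ a b : N, (∀ m, m * (τ a * a⁻¹) = (τ a * a⁻¹) * m) →
      (∀ m, m * (τ b * b⁻¹) = (τ b * b⁻¹) * m) → σ ⁅a, σ b⁆ = ⁅b, σ a⁆ := by
    intro a b ha hb
    have hb2 := step2 b hb
    rw [pow_two] at hb2
    have ib : b⁻¹ = b := inv_eq_of_mul_eq_one_left hb2
    have hsb2 : σ b * σ b = 1 := by rw [← map_mul, hb2, map_one]
    have isb : (σ b)⁻¹ = σ b := inv_eq_of_mul_eq_one_left hsb2
    have e1 : σ (σ b) = σ b * b := by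
      have := hσ b
      have h' : σ (σ b) = (b * σ b)⁻¹ := eq_inv_of_mul_eq_one_right this
      rw [h', mul_inv_rev, isb, ib]
    rw [map_commutatorElement, e1]
    have e2 : ⁅σ a, σ b * b⁆ = ⁅σ a, σ b⁆ * (σ b * ⁅σ a, b⁆ * (σ b)⁻¹) := by
      rw [commutatorElement_def, commutatorElement_def, commutatorElement_def]; group
    rw [e2, Zcomm (σ a) b (σ b), mul_assoc (⁅σ a, b⁆), mul_inv_cancel, mul_one]
    have e3 : ⁅σ a, σ b⁆ = 1 := by
      rw [← map_commutatorElement]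
      have : ⁅a, b⁆ = 1 := commutatorElement_eq_one_iff_mul_comm.2 (step3 a b ha hb)
      rw [this, map_one]
    rw [e3, one_mul, ← comm_inv, commutatorElement_inv]
  have step5 : ∀ a b : N, (∀ m, m * (τ a * a⁻¹) = (τ a * a⁻¹) * m) →
      (∀ m, m * (τ b * b⁻¹) = (τ b * b⁻¹) * m) → ⁅a, σ b⁆ = 1 := by
    intro a b ha hb
    obtain ⟨k, hk⟩ : ∃ k, k = ⁅a, σ b⁆ := ⟨_, rfl⟩
    have h1 : σ k = ⁅b, σ a⁆ := by rw [hk]; exact step5a a b ha hb
    have h2 : σ (σ k) = k := by rw [h1, hk]; exact step5a b a hb ha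
    have h3' : σ k = k := by
      have := congrArg σ h2
      rw [s3] at this
      exact this.symm
    have h4 := hσ k
    rw [h3', h3'] at h4
    rw [← hk]
    apply h3
    rw [pow_succ, pow_two]; exact h4
  -- Step 4
  intro n
  obtain ⟨b, hb⟩ : ∃ b, b = n * τ n := ⟨_, rfl⟩
  have hb2 : b * b = 1 := by
    have := hsq n
    rw [← hb, pow_two] at this
    exact this
  have ib : b⁻¹ = b := inv_eq_of_mul_eq_one_left hb2
  have hτb : τ b = τ n * n := by rw [hb, map_mul, hττ]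
  have hPb : ∀ m, m * (τ b * b⁻¹) = (τ b * b⁻¹) * m := by
    intro m
    have e : τ b * b⁻¹ = ⁅τ n, n⁆ := by
      rw [hτb, hb, commutatorElement_def]; group
    rw [e]; exact Zcomm _ _ m
  have hsb2 : σ b * σ b = 1 := by rw [← map_mul, hb2, map_one]
  have isb : (σ b)⁻¹ = σ b := inv_eq_of_mul_eq_one_left hsb2
  obtain ⟨a, ha⟩ : ∃ a, a = n * σ b := ⟨_, rfl⟩
  have hn : n = a * σ b := by rw [ha, mul_assoc, hsb2, mul_one]
  have hPa : ∀ m, m * (τ a * a⁻¹) = (τ a * a⁻¹) * m := by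
    obtain ⟨z₀, hz₀⟩ : ∃ z₀, z₀ = τ b * b⁻¹ := ⟨_, rfl⟩
    rw [← hz₀] at hPb
    have hτb' : τ b = z₀ * b := by rw [hz₀]; group
    have hzz : ∀ m, m * σ (σ z₀) = σ (σ z₀) * m := Zaut σ _ (Zaut σ z₀ hPb)
    have hτn2 : ∀ m, m * τ (n ^ 2) = τ (n ^ 2) * m := Zaut τ _ (sqZ n)
    have e : τ a * a⁻¹ = σ (σ z₀) * (⁅n, τ n⁆ * τ (n ^ 2)) := by
      rw [ha, map_mul, τσ, hτb', map_mul, map_mul, mul_inv_rev, isb]
      have e1 : τ n * (σ (σ z₀) * σ (σ b)) * (σ b * n⁻¹)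
          = (τ n * σ (σ z₀)) * (σ (σ b) * σ b) * n⁻¹ := by group
      rw [e1, hzz (τ n), q2, ib, hb, map_pow, commutatorElement_def, pow_two]
      have e2 : n * τ n * n⁻¹ * (τ n)⁻¹ * (τ n * τ n) = n * τ n * n⁻¹ * τ n := by group
      rw [e2]
      have e3 : n * τ n * n⁻¹ * τ n = ⁅n, τ n⁆ * (τ n * τ n) := by
        rw [commutatorElement_def]; group
      have e4 : σ (σ z₀) * τ n * (n * τ n) * n⁻¹ = σ (σ z₀) * (τ n * ⁅n, τ n⁆ * τ n) := by
        rw [commutatorElement_def]; group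
      rw [e4, Zcomm n (τ n) (τ n), e3]
      group
    intro m
    rw [e]
    calc m * (σ (σ z₀) * (⁅n, τ n⁆ * τ (n ^ 2)))
        = (m * σ (σ z₀)) * (⁅n, τ n⁆ * τ (n ^ 2)) := by group
      _ = (σ (σ z₀) * m) * (⁅n, τ n⁆ * τ (n ^ 2)) := by rw [hzz m]
      _ = σ (σ z₀) * ((m * ⁅n, τ n⁆) * τ (n ^ 2)) := by group
      _ = σ (σ z₀) * ((⁅n, τ n⁆ * m) * τ (n ^ 2)) := by rw [Zcomm n (τ n) m]
      _ = σ (σ z₀) * (⁅n, τ n⁆ * (m * τ (n ^ 2))) := by group
      _ = σ (σ z₀) * (⁅n, τ n⁆ * (τ (n ^ 2) * m)) := by rw [hτn2 m]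
      _ = σ (σ z₀) * (⁅n, τ n⁆ * τ (n ^ 2)) * m := by group
  have ha2 := step2 a hPa
  rw [pow_two] at ha2
  have ia : a⁻¹ = a := inv_eq_of_mul_eq_one_left ha2
  have hk := step5 a b hPa hPb
  rw [commutatorElement_def, ia, isb] at hk
  rw [pow_two, hn, ← mul_assoc]
  exact hk

end Cfsg.Agent.Lib.Helper20
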