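import Mathlib

set_option linter.style.haveILetI false
set_option linter.unusedVariables false
set_option linter.unusedSimpArgs false

namespace Cfsg.Agent.Lib.Helper20

open scoped commutatorElement

/-- ring lemma: nilpotent-square operators coming from a 2-Engel action anticommute -/
theorem sp4_ring_anticomm {R : Type*} [Ring R] (u v : R) (huu : u * u = 0) (hvv : v * v = 0)
    (h1 : (u * v + u + v) * (u * v + u + v) = 0) (h2 : (v * u + v + u) * (v * u + v + u) = 0) :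
    u * v + v * u = 0 ∧ u * v * u = 0 ∧ v * u * v = 0 := by
  have e1 : (u * v + u + v) * (u * v + u + v) = u * v * u * v + u * v * u + v * u * v + u * v + v * u
      + (u * (v * v) + (u * u) * v + u * u + v * v) := by noncomm_ring
  have e2 : (v * u + v + u) * (v * u + v + u) = v * u * v * u + v * u * v + u * v * u + v * u + u * v
      + (v * (u * u) + (v * v) * u + v * v + u * u) := by noncomm_ring
  have I1 : u * v * u * v + u * v * u + v * u * v + u * v + v * u = 0 := by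
    rw [e1, huu, hvv] at h1
    simpa using h1
  have I2 : v * u * v * u + v * u * v + u * v * u + v * u + u * v = 0 := by
    rw [e2, huu, hvv] at h2
    simpa using h2
  have A1 : u * v * u * v + u * v * u = 0 := by
    have : u * v * u * v + u * v * u
        = u * (u * v * u * v + u * v * u + v * u * v + u * v + v * u) - (u * u) * (v * u * v + v * u + v) := by
      noncomm_ring
    rw [this, I1, huu]; simp
  have A2 : v * u * v * u + v * u * v = 0 := by
    have : v * u * v * u + v * u * v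
        = v * (v * u * v * u + v * u * v + u * v * u + v * u + u * v) - (v * v) * (u * v * u + u * v + u) := by
      noncomm_ring
    rw [this, I2, hvv]; simp
  have B1 : v * u * v + u * v + v * u = 0 := by
    have : v * u * v + u * v + v * u
        = (u * v * u * v + u * v * u + v * u * v + u * v + v * u) - (u * v * u * v + u * v * u) := by
      noncomm_ring
    rw [this, I1, A1]; simp
  have B2 : u * v * u + v * u + u * v = 0 := by
    have : u * v * u + v * u + u * v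
        = (v * u * v * u + v * u * v + u * v * u + v * u + u * v) - (v * u * v * u + v * u * v) := by
      noncomm_ring
    rw [this, I2, A2]; simp
  have C : u * v * u = v * u * v := by
    have : u * v * u = (u * v * u + v * u + u * v) - (v * u * v + u * v + v * u) + v * u * v := by
      noncomm_ring
    rw [this, B1, B2]; simp
  have D : u * v * u * v = 0 := by
    have : u * v * u * v = u * (v * u * v) := by noncomm_ring
    rw [this, ← C]
    have : u * (u * v * u) = (u * u) * v * u := by noncomm_ring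
    rw [this, huu]; simp
  have E : u * v * u = 0 := by
    rw [D, zero_add] at A1; exact A1
  refine ⟨?_, E, ?_⟩
  · rw [E, zero_add] at B2
    rw [add_comm]; exact B2
  · rw [← C]; exact E

theorem sp4_ring_comm_formula {R : Type*} [Ring R] (u v : R) (huu : u * u = 0) (hvv : v * v = 0)
    (hac : u * v + v * u = 0) (h3 : u * v * u = 0) (h4 : v * u * v = 0) :
    (1 + u) * (1 + v) * (1 - u) * (1 - v) = 1 + (u * v + u * v) := by
  have e : (1 + u) * (1 + v) * (1 - u) * (1 - v)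
      = 1 + u * v - v * u - u * u + (u * u) * v - v * v + v * u * v - u * v * u - u * (v * v)
        + u * (v * u * v) := by noncomm_ring
  have hvu : v * u = - (u * v) := by
    have : v * u = (u * v + v * u) - u * v := by noncomm_ring
    rw [this, hac]; simp
  rw [e, huu, hvv, h3, h4, hvu]
  noncomm_ring

theorem sp4_r1 {R : Type*} [Ring R] (u v : R) : u * v + u + v = (1 + u) * (1 + v) - 1 := by
  noncomm_ring

theorem sp4_r2 {R : Type*} [Ring R] (u : R) (huu : u * u = 0) : (1 + u) * (1 - u) = 1 := by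
  have : (1 + u) * (1 - u) = 1 - u * u := by noncomm_ring
  rw [this, huu, sub_zero]

theorem sp4_r3 {R : Type*} [Ring R] (U u : R) (h : u = U - 1) : U = 1 + u := by
  rw [h]; abel

theorem sp4_r4 {R : Type*} [Ring R] (Ui U u : R) (hU : U = 1 + u) (huu : u * u = 0) (h : Ui * U = 1) :
    Ui = 1 - u := by
  calc Ui = Ui * ((1 + u) * (1 - u)) := by rw [sp4_r2 u huu, mul_one]
    _ = (Ui * U) * (1 - u) := by rw [hU, mul_assoc]
    _ = 1 - u := by rw [h, one_mul]

theorem sp4_r5 {R : Type*} [Ring R] (w : R) : (1 + w) - 1 = w := by abel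

/-- the additive endomorphism attached to an automorphism -/
noncomputable def sp4U {A : Type*} [CommGroup A] (φ : MulAut A) : AddMonoid.End (Additive A) :=
  MonoidHom.toAdditive φ.toMonoidHom

theorem sp4U_apply {A : Type*} [CommGroup A] (φ : MulAut A) (z : A) :
    sp4U φ (Additive.ofMul z) = Additive.ofMul (φ z) := rfl

theorem sp4U_mul {A : Type*} [CommGroup A] (φ ψ : MulAut A) : sp4U (φ * ψ) = sp4U φ * sp4U ψ := by
  ext z
  rfl

theorem sp4U_one {A : Type*} [CommGroup A] : sp4U (1 : MulAut A) = 1 := by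
  ext z
  rfl

theorem sp4_sub_one_apply {A : Type*} [CommGroup A] (φ : MulAut A) (z : A) :
    (sp4U φ - 1) (Additive.ofMul z) = Additive.ofMul (φ z * z⁻¹) := by
  show Additive.ofMul (φ z / z) = _
  rw [div_eq_mul_inv]

theorem sp4_mul_apply {A : Type*} [CommGroup A] (f g : AddMonoid.End (Additive A)) (y : Additive A) :
    (f * g) y = f (g y) := rfl

theorem sp4_add_apply {A : Type*} [CommGroup A] (f g : AddMonoid.End (Additive A)) (y : Additive A) :
    (f + g) y = f y + g y := rfl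

theorem sp4_engel_aux {A : Type*} [CommGroup A] {E : Type*} [Group E] (ρ : E →* MulAut A)
    (h2E : ∀ (g : E) (z : A), ρ g (ρ g z) * z = ρ g z * ρ g z) (g h : E) (z : A) :
    (ρ g (ρ h z * z⁻¹) * (ρ h z * z⁻¹)⁻¹) * (ρ h (ρ g z * z⁻¹) * (ρ g z * z⁻¹)⁻¹) = 1 ∧
    ρ (g * h * g⁻¹ * h⁻¹) z * z⁻¹ = (ρ g (ρ h z * z⁻¹) * (ρ h z * z⁻¹)⁻¹) ^ 2 := by
  have hsq : ∀ k : E, (sp4U (ρ k) - 1) * (sp4U (ρ k) - 1) = 0 := by
    intro k
    refine DFunLike.ext _ _ (fun y0 => ?_)
    obtain ⟨y, hy⟩ : ∃ y' : A, y0 = Additive.ofMul y' := ⟨Additive.toMul y0, rfl⟩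
    rw [hy, sp4_mul_apply, sp4_sub_one_apply, sp4_sub_one_apply]
    show Additive.ofMul _ = Additive.ofMul 1
    congr 1
    have := h2E k y
    rw [map_mul, map_inv]
    calc ρ k (ρ k y) * (ρ k y)⁻¹ * (ρ k y * y⁻¹)⁻¹
        = (ρ k (ρ k y) * y) * ((ρ k y)⁻¹ * (ρ k y)⁻¹) := by
          rw [mul_inv_rev, inv_inv]
          simp only [mul_comm, mul_left_comm, mul_assoc]
      _ = 1 := by rw [this]; simp [mul_comm, mul_left_comm, mul_assoc]
  obtain ⟨u, hu⟩ : ∃ u, u = sp4U (ρ g) - 1 := ⟨_, rfl⟩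
  obtain ⟨v, hv⟩ : ∃ v, v = sp4U (ρ h) - 1 := ⟨_, rfl⟩
  have hUg : sp4U (ρ g) = 1 + u := sp4_r3 _ _ hu
  have hUh : sp4U (ρ h) = 1 + v := sp4_r3 _ _ hv
  have huu : u * u = 0 := by rw [hu]; exact hsq g
  have hvv : v * v = 0 := by rw [hv]; exact hsq h
  have h1 : (u * v + u + v) * (u * v + u + v) = 0 := by
    have : u * v + u + v = sp4U (ρ (g * h)) - 1 := by
      rw [map_mul, sp4U_mul, hUg, hUh]; exact sp4_r1 u v
    rw [this]; exact hsq (g * h)
  have h2 : (v * u + v + u) * (v * u + v + u) = 0 := by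
    have : v * u + v + u = sp4U (ρ (h * g)) - 1 := by
      rw [map_mul, sp4U_mul, hUg, hUh]; exact sp4_r1 v u
    rw [this]; exact hsq (h * g)
  obtain ⟨hac, h3, h4⟩ := sp4_ring_anticomm u v huu hvv h1 h2
  have hform := sp4_ring_comm_formula u v huu hvv hac h3 h4
  have hUginv : sp4U (ρ g⁻¹) = 1 - u := by
    refine sp4_r4 _ _ _ hUg huu ?_
    rw [← sp4U_mul, ← map_mul, inv_mul_cancel, map_one, sp4U_one]
  have hUhinv : sp4U (ρ h⁻¹) = 1 - v := by
    refine sp4_r4 _ _ _ hUh hvv ?_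
    rw [← sp4U_mul, ← map_mul, inv_mul_cancel, map_one, sp4U_one]
  have huv_apply : (u * v) (Additive.ofMul z)
      = Additive.ofMul (ρ g (ρ h z * z⁻¹) * (ρ h z * z⁻¹)⁻¹) := by
    rw [sp4_mul_apply, hv, sp4_sub_one_apply, hu, sp4_sub_one_apply]
  have hvu_apply : (v * u) (Additive.ofMul z)
      = Additive.ofMul (ρ h (ρ g z * z⁻¹) * (ρ g z * z⁻¹)⁻¹) := by
    rw [sp4_mul_apply, hu, sp4_sub_one_apply, hv, sp4_sub_one_apply]
  constructor
  · have := congrArg (fun f : AddMonoid.End (Additive A) => f (Additive.ofMul z)) hac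
    simp only [sp4_add_apply, huv_apply, hvu_apply] at this
    exact this
  · have hcomm : sp4U (ρ (g * h * g⁻¹ * h⁻¹)) - 1 = u * v + u * v := by
      rw [map_mul, map_mul, map_mul, sp4U_mul, sp4U_mul, sp4U_mul, hUg, hUh, hUginv, hUhinv, hform]
      exact sp4_r5 _
    have := congrArg (fun f : AddMonoid.End (Additive A) => f (Additive.ofMul z)) hcomm
    simp only [sp4_add_apply, huv_apply, sp4_sub_one_apply] at this
    rw [pow_two]
    exact this

theorem sp4_engel_grp {A : Type*} [Group A] (hcomm : ∀ a b : A, a * b = b * a) {E : Type*} [Group E]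
    (ρ : E →* MulAut A)
    (h2E : ∀ (g : E) (z : A), ρ g (ρ g z) * z = ρ g z * ρ g z) (g h : E) (z : A) :
    (ρ g (ρ h z * z⁻¹) * (ρ h z * z⁻¹)⁻¹) * (ρ h (ρ g z * z⁻¹) * (ρ g z * z⁻¹)⁻¹) = 1 ∧
    ρ (g * h * g⁻¹ * h⁻¹) z * z⁻¹ = (ρ g (ρ h z * z⁻¹) * (ρ h z * z⁻¹)⁻¹) ^ 2 := by
  letI : CommGroup A := { ‹Group A› with mul_comm := hcomm }
  exact sp4_engel_aux ρ h2E g h z

theorem sp4_normalClosure_comm {N : Type*} [Group N] (hE : ∀ a y : N, Commute a (y * a * y⁻¹)) (w : N) :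
    ∀ a b : Subgroup.normalClosure ({w} : Set N), a * b = b * a := by
  have hK : ∀ x ∈ Group.conjugatesOfSet ({w} : Set N), ∀ y ∈ Group.conjugatesOfSet ({w} : Set N),
      x * y = y * x := by
    intro x hx y hy
    rw [Group.mem_conjugatesOfSet_iff] at hx hy
    obtain ⟨b, hb, hbx⟩ := hx
    obtain ⟨b', hb', hby⟩ := hy
    rw [Set.mem_singleton_iff] at hb hb'
    rw [hb] at hbx
    rw [hb'] at hby
    rw [isConj_iff] at hbx hby
    obtain ⟨c, rfl⟩ := hbx
    obtain ⟨d, rfl⟩ := hby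
    have h := (hE (c * w * c⁻¹) (d * c⁻¹)).eq
    have e : d * c⁻¹ * (c * w * c⁻¹) * (d * c⁻¹)⁻¹ = d * w * d⁻¹ := by group
    rw [e] at h
    exact h
  have h1 : Subgroup.closure (Group.conjugatesOfSet ({w} : Set N))
      ≤ Subgroup.centralizer (Group.conjugatesOfSet ({w} : Set N)) := by
    rw [Subgroup.closure_le]
    intro x hx
    rw [SetLike.mem_coe, Subgroup.mem_centralizer_iff]
    intro y hy
    exact hK y hy x hx
  have h2 : Subgroup.closure (Group.conjugatesOfSet ({w} : Set N))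
      ≤ Subgroup.centralizer (Subgroup.closure (Group.conjugatesOfSet ({w} : Set N)) : Set N) := by
    rw [Subgroup.closure_le]
    intro x hx
    rw [SetLike.mem_coe, Subgroup.mem_centralizer_iff]
    intro y hy
    have := Subgroup.mem_centralizer_iff.1 (h1 hy) x hx
    exact this.symm
  intro a b
  have ha : (a : N) ∈ Subgroup.closure (Group.conjugatesOfSet ({w} : Set N)) := a.2
  have hb : (b : N) ∈ Subgroup.closure (Group.conjugatesOfSet ({w} : Set N)) := b.2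
  have := Subgroup.mem_centralizer_iff.1 (h2 hb) a ha
  exact Subtype.ext this

theorem sp4_engel_sq {N : Type*} [Group N] (hE : ∀ a y : N, Commute a (y * a * y⁻¹)) (k z : N) :
    k * (k * z * k⁻¹) * k⁻¹ * z = (k * z * k⁻¹) * (k * z * k⁻¹) := by
  have hd' : k * (z * k⁻¹ * z⁻¹) = (z * k⁻¹ * z⁻¹) * k := by
    have e : (z * k * z⁻¹)⁻¹ = z * k⁻¹ * z⁻¹ := by group
    rw [← e]
    exact ((hE k z).inv_right).eq
  have hc : z * (k * z * k⁻¹) = (k * z * k⁻¹) * z := (hE z k).eq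
  calc k * (k * z * k⁻¹) * k⁻¹ * z = k * (k * (z * k⁻¹ * z⁻¹)) * (z * k⁻¹) * z := by group
    _ = k * ((z * k⁻¹ * z⁻¹) * k) * (z * k⁻¹) * z := by rw [hd']
    _ = (k * z * k⁻¹) * z⁻¹ * ((k * z * k⁻¹) * z) := by group
    _ = (k * z * k⁻¹) * z⁻¹ * (z * (k * z * k⁻¹)) := by rw [hc]
    _ = (k * z * k⁻¹) * (k * z * k⁻¹) := by group

theorem sp4_engel_key {N : Type*} [Group N] (hE : ∀ a y : N, Commute a (y * a * y⁻¹)) (g h w : N) :
    ⁅g, ⁅h, w⁆⁆ * ⁅h, ⁅g, w⁆⁆ = 1 ∧ ⁅⁅g, h⁆, w⁆ = ⁅g, ⁅h, w⁆⁆ ^ 2 := by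
  have hcommA := sp4_normalClosure_comm hE w
  haveI : (Subgroup.normalClosure ({w} : Set N)).Normal := Subgroup.normalClosure_normal
  have hwA : w ∈ Subgroup.normalClosure ({w} : Set N) :=
    Subgroup.subset_normalClosure (Set.mem_singleton w)
  have h2E : ∀ (k : N) (z : Subgroup.normalClosure ({w} : Set N)),
      (MulAut.conjNormal k) ((MulAut.conjNormal k) z) * z
        = (MulAut.conjNormal k) z * (MulAut.conjNormal k) z := by
    intro k z
    apply Subtype.ext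
    simp only [Subgroup.coe_mul, MulAut.conjNormal_apply]
    exact sp4_engel_sq hE k z
  have := sp4_engel_grp hcommA (MulAut.conjNormal : N →* MulAut (Subgroup.normalClosure ({w} : Set N)))
    h2E g h ⟨w, hwA⟩
  obtain ⟨t1, t2⟩ := this
  constructor
  · have e := congrArg Subtype.val t1
    simp only [Subgroup.coe_mul, Subgroup.coe_inv, MulAut.conjNormal_apply, Subgroup.coe_one] at e
    rw [commutatorElement_def, commutatorElement_def, commutatorElement_def, commutatorElement_def]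
    exact e
  · have e := congrArg Subtype.val t2
    simp only [Subgroup.coe_mul, Subgroup.coe_inv, MulAut.conjNormal_apply, Subgroup.coe_pow] at e
    rw [commutatorElement_def, commutatorElement_def, commutatorElement_def, commutatorElement_def]
    exact e

theorem sp4_engel_class2 {N : Type*} [Group N] (hE : ∀ a y : N, Commute a (y * a * y⁻¹))
    (h3 : ∀ n : N, n ^ 3 = 1 → n = 1) (g h w : N) : ⁅g, ⁅h, w⁆⁆ = 1 := by
  -- b commutes with ⁅a,b⁆
  have P1b : ∀ a b : N, Commute b ⁅a, b⁆ := by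
    intro a b
    have h1 : Commute b (a * b * a⁻¹) := hE b a
    have h2 : Commute b b⁻¹ := (Commute.refl b).inv_right
    have : ⁅a, b⁆ = (a * b * a⁻¹) * b⁻¹ := by rw [commutatorElement_def]
    rw [this]
    exact h1.mul_right h2
  have hS : ∀ g h w : N, ⁅g, ⁅h, w⁆⁆ * ⁅g, ⁅w, h⁆⁆ = 1 := by
    intro g h w
    obtain ⟨y, hy⟩ : ∃ y, y = ⁅w, h⁆ := ⟨_, rfl⟩
    have hy' : ⁅h, w⁆ = y⁻¹ := by rw [hy, commutatorElement_inv]
    rw [hy', ← hy]
    have hc : y * ⁅g, y⁆ = ⁅g, y⁆ * y := (P1b g y).eq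
    have e1 : ⁅g, y⁻¹⁆ = y⁻¹ * (⁅g, y⁆)⁻¹ * y := by
      rw [commutatorElement_def, commutatorElement_def]; group
    rw [e1]
    calc y⁻¹ * (⁅g, y⁆)⁻¹ * y * ⁅g, y⁆ = y⁻¹ * (⁅g, y⁆)⁻¹ * (y * ⁅g, y⁆) := by group
      _ = y⁻¹ * (⁅g, y⁆)⁻¹ * (⁅g, y⁆ * y) := by rw [hc]
      _ = 1 := by group
  have hR1 : ∀ g h w : N, ⁅g, ⁅h, w⁆⁆ * ⁅h, ⁅g, w⁆⁆ = 1 := fun g h w => (sp4_engel_key hE g h w).1
  have hR2 : ⁅⁅g, h⁆, w⁆ = ⁅g, ⁅h, w⁆⁆ ^ 2 := (sp4_engel_key hE g h w).2
  have hT : ⁅⁅g, h⁆, w⁆ = (⁅w, ⁅g, h⁆⁆)⁻¹ := by rw [commutatorElement_inv]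
  have hcyc : ⁅w, ⁅g, h⁆⁆ = ⁅g, ⁅h, w⁆⁆ := by
    have a1 := hR1 w g h
    have a2 := hS g h w
    have b1 : ⁅w, ⁅g, h⁆⁆ = (⁅g, ⁅w, h⁆⁆)⁻¹ := eq_inv_of_mul_eq_one_left a1
    have b2 : ⁅g, ⁅h, w⁆⁆ = (⁅g, ⁅w, h⁆⁆)⁻¹ := eq_inv_of_mul_eq_one_left a2
    rw [b1, b2]
  apply h3
  rw [hT, hcyc] at hR2
  have : ⁅g, ⁅h, w⁆⁆ ^ 3 = ⁅g, ⁅h, w⁆⁆ ^ 2 * ⁅g, ⁅h, w⁆⁆ := pow_succ _ 2
  rw [this, ← hR2, inv_mul_cancel]

theorem sp4_fpf3_class2 {N : Type*} [Group N] (σ : MulAut N)
    (hσ : ∀ y n : N, n * (y * σ n * y⁻¹) * (y * σ (y * σ n * y⁻¹) * y⁻¹) = 1)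
    (h3 : ∀ n : N, n ^ 3 = 1 → n = 1) (a b c : N) : ⁅a, ⁅b, c⁆⁆ = 1 := by
  have comm1 : ∀ y n : N, Commute n (y * σ n * y⁻¹) := by
    intro y n
    have p1 := hσ y n
    have p2 := hσ y n⁻¹
    have e1 : y * σ n⁻¹ * y⁻¹ = (y * σ n * y⁻¹)⁻¹ := by rw [map_inv]; group
    rw [e1] at p2
    have e2 : y * σ (y * σ n * y⁻¹)⁻¹ * y⁻¹ = (y * σ (y * σ n * y⁻¹) * y⁻¹)⁻¹ := by
      rw [map_inv]; group
    rw [e2] at p2
    obtain ⟨A, hA⟩ : ∃ A, A = y * σ n * y⁻¹ := ⟨_, rfl⟩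
    rw [← hA] at p1 p2 ⊢
    obtain ⟨B, hB⟩ : ∃ B, B = y * σ A * y⁻¹ := ⟨_, rfl⟩
    rw [← hB] at p1 p2
    -- p1 : n * A * B = 1, p2 : n⁻¹ * A⁻¹ * B⁻¹ = 1
    have q1 : n * A = B⁻¹ := eq_inv_of_mul_eq_one_left p1
    have q2 : B * A * n = 1 := by
      have : (n⁻¹ * A⁻¹ * B⁻¹)⁻¹ = 1 := by rw [p2, inv_one]
      rw [← this]; group
    have q3 : A * n = B⁻¹ := by
      have : B * (A * n) = 1 := by rw [← mul_assoc]; exact q2
      exact (eq_inv_of_mul_eq_one_right this)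
    show n * A = A * n
    rw [q1, q3]
  have s3 : ∀ n : N, σ (σ (σ n)) = n := by
    intro n
    have p1 := hσ 1 n
    have p2 := hσ 1 (σ n)
    simp only [one_mul, inv_one, mul_one] at p1 p2
    have q1 : σ n * σ (σ n) = n⁻¹ := by
      have : n * (σ n * σ (σ n)) = 1 := by rw [← mul_assoc]; exact p1
      exact eq_inv_of_mul_eq_one_right this
    rw [q1] at p2
    exact (inv_mul_eq_one.1 p2).symm
  have comm2 : ∀ y n : N, Commute n (y * σ (σ n) * y⁻¹) := by
    intro y n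
    have h := (comm1 y⁻¹ (σ (σ n))).eq
    rw [s3, inv_inv] at h
    show n * (y * σ (σ n) * y⁻¹) = (y * σ (σ n) * y⁻¹) * n
    calc n * (y * σ (σ n) * y⁻¹) = y * ((y⁻¹ * n * y) * σ (σ n)) * y⁻¹ := by group
      _ = y * (σ (σ n) * (y⁻¹ * n * y)) * y⁻¹ := by rw [h]
      _ = (y * σ (σ n) * y⁻¹) * n := by group
  have hE : ∀ a y : N, Commute a (y * a * y⁻¹) := by
    intro a y
    have p1 := hσ 1 a
    simp only [one_mul, inv_one, mul_one] at p1
    have q1 : σ a * σ (σ a) = a⁻¹ := by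
      have : a * (σ a * σ (σ a)) = 1 := by rw [← mul_assoc]; exact p1
      exact eq_inv_of_mul_eq_one_right this
    have c1 := comm1 y a
    have c2 := comm2 y a
    have c3 : Commute a ((y * σ a * y⁻¹) * (y * σ (σ a) * y⁻¹)) := c1.mul_right c2
    have e : (y * σ a * y⁻¹) * (y * σ (σ a) * y⁻¹) = (y * a * y⁻¹)⁻¹ := by
      have : (y * σ a * y⁻¹) * (y * σ (σ a) * y⁻¹) = y * (σ a * σ (σ a)) * y⁻¹ := by group
      rw [this, q1]; group
    rw [e] at c3
    have := c3.inv_right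
    rwa [inv_inv] at this
  exact sp4_engel_class2 hE h3 a b c

end Cfsg.Agent.Lib.Helper20
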