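import Mathlib
import Cfsg.Agent.Lib.Helper13.QuatLift

set_option linter.style.haveILetI false
set_option linter.unusedVariables false

namespace Cfsg.Agent.Lib.Helper20

open scoped commutatorElement

theorem sp4_quat {S : Type*} [Group S] [Finite S] (h4 : ∀ s : S, s ^ 4 = 1)
    (z : S) (hz1 : z ≠ 1) (hz2 : z ^ 2 = 1) (huniq : ∀ u : S, u ^ 2 = 1 → u = 1 ∨ u = z)
    (a : S) (ha : orderOf a = 4) :
    (IsCyclic S ∧ Nat.card S = 4) ∨ Nonempty (S ≃* QuaternionGroup 2) := by
  classical
  have ha4 : a ^ 4 = 1 := h4 a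
  have ha2ne : a ^ 2 ≠ 1 := by
    intro h
    have := orderOf_dvd_of_pow_eq_one h
    rw [ha] at this
    omega
  have haz : a ^ 2 = z := by
    have : (a ^ 2) ^ 2 = 1 := by rw [← pow_mul]; exact ha4
    rcases huniq _ this with h | h
    · exact absurd h ha2ne
    · exact h
  have hzinv : z⁻¹ = z := by
    rw [pow_two] at hz2
    exact inv_eq_of_mul_eq_one_left hz2
  have hsqz : ∀ s : S, s ≠ 1 → s ≠ z → s ^ 2 = z := by
    intro s h1 h2
    have : (s ^ 2) ^ 2 = 1 := by rw [← pow_mul]; exact h4 s
    rcases huniq _ this with h | h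
    · rcases huniq s h with h' | h'
      · exact absurd h' h1
      · exact absurd h' h2
    · exact h
  obtain ⟨H, hH⟩ : ∃ H : Subgroup S, H = Subgroup.zpowers a := ⟨_, rfl⟩
  have haH : a ∈ H := by rw [hH]; exact Subgroup.mem_zpowers a
  have hzH : z ∈ H := by rw [← haz]; exact H.pow_mem haH 2
  have hcardH : Nat.card H = 4 := by rw [hH, Nat.card_zpowers, ha]
  have ainv_ne : a⁻¹ ≠ a := by
    intro h
    have : a * a = 1 := by
      calc a * a = a⁻¹ * a := by rw [h]
        _ = 1 := inv_mul_cancel a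
    rw [← pow_two] at this
    exact ha2ne this
  -- every element outside H inverts a
  have hinv : ∀ c : S, c ∉ H → c * a * c⁻¹ = a⁻¹ := by
    intro c hc
    have hc1 : c ≠ 1 := fun h => hc (h ▸ H.one_mem)
    have hcz : c ≠ z := fun h => hc (h ▸ hzH)
    have hc2 : c ^ 2 = z := hsqz c hc1 hcz
    have hac : a * c ∉ H := fun h => hc ((Subgroup.mul_mem_cancel_left H haH).1 h)
    have hac1 : a * c ≠ 1 := fun h => hac (h ▸ H.one_mem)
    have hacz : a * c ≠ z := fun h => hac (h ▸ hzH)
    have hac2 : (a * c) ^ 2 = z := hsqz _ hac1 hacz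
    rw [pow_two] at hac2 hc2
    -- a c a c = z = a a  => c a c = a
    have e1 : c * a * c = a := by
      have : a * (c * a * c) = a * a := by
        calc a * (c * a * c) = a * c * (a * c) := by group
          _ = z := hac2
          _ = a * a := by rw [← haz, pow_two]
      exact mul_left_cancel this
    calc c * a * c⁻¹ = (c * a * c) * (c * c)⁻¹ := by group
      _ = a * z⁻¹ := by rw [e1, hc2]
      _ = a * a ^ 2 := by rw [hzinv, haz]
      _ = a⁻¹ := by
        have : a * a ^ 2 * a = 1 := by
          calc a * a ^ 2 * a = a ^ 4 := by group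
            _ = 1 := ha4
        exact eq_inv_of_mul_eq_one_left this
  have hprod : ∀ c d : S, c ∉ H → d ∉ H → c * d ∈ H := by
    intro c d hc hd
    by_contra hcd
    have h1 := hinv c hc
    have h2 := hinv d hd
    have h3 := hinv (c * d) hcd
    have : c * d * a * (c * d)⁻¹ = a := by
      calc c * d * a * (c * d)⁻¹ = c * (d * a * d⁻¹) * c⁻¹ := by group
        _ = c * a⁻¹ * c⁻¹ := by rw [h2]
        _ = (c * a * c⁻¹)⁻¹ := by group
        _ = a := by rw [h1, inv_inv]
    rw [this] at h3
    exact ainv_ne h3.symm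
  by_cases htop : H = ⊤
  · left
    have hc : Nat.card S = 4 := by
      rw [← hcardH, htop]; exact (Subgroup.card_top).symm
    refine ⟨?_, hc⟩
    exact isCyclic_of_orderOf_eq_card a (by rw [ha, hc])
  · right
    obtain ⟨b, hb⟩ : ∃ b : S, b ∉ H := by
      by_contra hcon
      push Not at hcon
      exact htop (eq_top_iff.2 (fun x _ => hcon x))
    have hb1 : b ≠ 1 := fun h => hb (h ▸ H.one_mem)
    have hbz : b ≠ z := fun h => hb (h ▸ hzH)
    have hb2 : b * b = a ^ 2 := by rw [haz, ← pow_two]; exact hsqz b hb1 hbz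
    have hbab := hinv b hb
    have hxy : a * b = b * a⁻¹ := by
      have : b * a⁻¹ * b⁻¹ = a := by
        calc b * a⁻¹ * b⁻¹ = (b * a * b⁻¹)⁻¹ := by group
          _ = a := by rw [hbab, inv_inv]
      calc a * b = (b * a⁻¹ * b⁻¹) * b := by rw [this]
        _ = b * a⁻¹ := by group
    obtain ⟨f, hfa, hfb⟩ := Cfsg.Agent.Lib.Helper13.exists_quaternionGroup_hom 2 a b
      (by simpa using ha4) hb2 hxy
    have hsurj : Function.Surjective f := by
      have haR : a ∈ f.range := ⟨_, hfa⟩
      have hbR : b ∈ f.range := ⟨_, hfb⟩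
      have hHR : H ≤ f.range := by
        rw [hH, Subgroup.zpowers_le]; exact haR
      intro c
      by_cases hc : c ∈ H
      · exact hHR hc
      · have h1 : b * c ∈ f.range := hHR (hprod b c hb hc)
        have h2 : b⁻¹ * (b * c) ∈ f.range := f.range.mul_mem (f.range.inv_mem hbR) h1
        rw [inv_mul_cancel_left] at h2
        exact h2
    have hidx : H.index = 2 := by
      rw [Subgroup.index_eq_two_iff']
      refine ⟨b, fun c => ?_⟩
      by_cases hc : c ∈ H
      · refine Or.inr ⟨hc, ?_⟩
        intro h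
        exact hb ((Subgroup.mul_mem_cancel_right H hc).1 h)
      · exact Or.inl ⟨hprod b c hb hc, hc⟩
    have hcardS : Nat.card S = 8 := by
      rw [← Subgroup.card_mul_index H, hcardH, hidx]
    have hcardQ : Nat.card (QuaternionGroup 2) = 8 := by
      rw [Nat.card_eq_fintype_card, QuaternionGroup.card]
    have hbij : Function.Bijective f :=
      (Nat.bijective_iff_surjective_and_card f).2 ⟨hsurj, by rw [hcardS, hcardQ]⟩
    exact ⟨(MulEquiv.ofBijective f hbij).symm⟩

end Cfsg.Agent.Lib.Helper20
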