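import Mathlib
import Cfsg.Prelude.Def_Transfer
import Cfsg.Agent.Lib.Helper20.Spec4Engel
import Cfsg.Agent.Lib.Helper20.Spec4Elem
import Cfsg.Agent.Lib.Helper20.Spec4Quat
import Cfsg.Agent.Lib.Helper4.BurnsidePQ
import Cfsg.Agent.Lib.Helper10.SolvableNormal

set_option linter.style.haveILetI false
set_option linter.unusedVariables false

namespace Cfsg.Agent.Lib.Helper20

open scoped commutatorElement

variable {G : Type*} [Group G]

theorem sp4_order_cases [Finite G] (hord : ∀ g : G, orderOf g ≤ 4) (g : G) :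
    orderOf g = 1 ∨ orderOf g = 2 ∨ orderOf g = 3 ∨ orderOf g = 4 := by
  have h1 : 0 < orderOf g := orderOf_pos g
  have h2 := hord g
  interval_cases (orderOf g) <;> simp

theorem sp4_pow_cases [Finite G] (hord : ∀ g : G, orderOf g ≤ 4) (g : G) :
    g ^ 4 = 1 ∨ (g ^ 3 = 1 ∧ g ≠ 1) := by
  rcases sp4_order_cases hord g with h | h | h | h
  · left; rw [orderOf_eq_one_iff] at h; rw [h, one_pow]
  · left
    have : g ^ 2 = 1 := by rw [← h]; exact pow_orderOf_eq_one g
    calc g ^ 4 = (g ^ 2) ^ 2 := by rw [← pow_mul]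
      _ = 1 := by rw [this, one_pow]
  · right
    refine ⟨by rw [← h]; exact pow_orderOf_eq_one g, ?_⟩
    intro h1
    rw [h1, orderOf_one] at h
    omega
  · left; rw [← h]; exact pow_orderOf_eq_one g

theorem sp4_no_six [Finite G] (hord : ∀ g : G, orderOf g ≤ 4) {a b : G} (hab : Commute a b)
    (ha : a ^ 4 = 1) (hb : b ^ 3 = 1) : a = 1 ∨ b = 1 := by
  by_contra hcon
  push Not at hcon
  obtain ⟨ha1, hb1⟩ := hcon
  have hoa : orderOf a ∣ 4 := orderOf_dvd_of_pow_eq_one ha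
  have hob : orderOf b ∣ 3 := orderOf_dvd_of_pow_eq_one hb
  have hob3 : orderOf b = 3 := by
    rcases (Nat.dvd_prime Nat.prime_three).1 hob with h | h
    · exact absurd (orderOf_eq_one_iff.1 h) hb1
    · exact h
  have hoa2 : 2 ≤ orderOf a := by
    have h0 : 0 < orderOf a := orderOf_pos a
    have h1 : orderOf a ≠ 1 := fun h => ha1 (orderOf_eq_one_iff.1 h)
    omega
  have hcop : Nat.Coprime (orderOf a) (orderOf b) := by
    have : Nat.Coprime 4 3 := by decide
    exact Nat.Coprime.coprime_dvd_left hoa (Nat.Coprime.coprime_dvd_right hob this)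
  have := hab.orderOf_mul_eq_mul_orderOf_of_coprime hcop
  have h4 := hord (a * b)
  rw [this, hob3] at h4
  omega

theorem sp4_eq_one_of_pow' {H : Type*} [Group H] {g : H} (h4 : g ^ 4 = 1) (h3 : g ^ 3 = 1) : g = 1 := by
  have : g ^ 4 = g ^ 3 * g := pow_succ g 3
  rw [h4, h3, one_mul] at this
  exact this.symm

theorem sp4_pow4_of_sq {H : Type*} [Group H] {u : H} (hu : u * u = 1) : u ^ 4 = 1 := by
  calc u ^ 4 = (u ^ 2) ^ 2 := by rw [← pow_mul]
    _ = 1 := by rw [pow_two u, hu, one_pow]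

theorem sp4_prime_dvd_card [Finite G] (hord : ∀ g : G, orderOf g ≤ 4) {r : ℕ} (hr : r.Prime)
    (h : r ∣ Nat.card G) : r = 2 ∨ r = 3 := by
  haveI : Fact r.Prime := ⟨hr⟩
  obtain ⟨g, hg⟩ := exists_prime_orderOf_dvd_card' r h
  have h1 := hord g
  rw [hg] at h1
  have h2 := hr.two_le
  have : r ≠ 4 := by
    intro h4; rw [h4] at hr; exact absurd hr (by decide)
  omega

theorem sp4_card_eq [Finite G] (hord : ∀ g : G, orderOf g ≤ 4) :
    ∃ a b, Nat.card G = 2 ^ a * 3 ^ b := by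
  have hpos : Nat.card G ≠ 0 := Nat.card_pos.ne'
  obtain ⟨a, m, hm2, hm⟩ := Nat.exists_eq_pow_mul_and_not_dvd hpos 2 (by norm_num)
  have hm0 : m ≠ 0 := by
    rintro rfl
    rw [mul_zero] at hm
    exact hpos hm
  obtain ⟨b, m', hm3, hm'⟩ := Nat.exists_eq_pow_mul_and_not_dvd hm0 3 (by norm_num)
  have : m' = 1 := by
    by_contra hne
    obtain ⟨r, hr, hrd⟩ := Nat.exists_prime_and_dvd hne
    have hrG : r ∣ Nat.card G := by
      rw [hm, hm']
      exact dvd_mul_of_dvd_right (dvd_mul_of_dvd_right hrd _) _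
    rcases sp4_prime_dvd_card hord hr hrG with rfl | rfl
    · exact hm2 (by rw [hm']; exact dvd_mul_of_dvd_right hrd _)
    · exact hm3 hrd
  exact ⟨a, b, by rw [hm, hm', this, mul_one]⟩

/-- a fixed-point-free involution inverts a finite normal subgroup -/
theorem sp4_inverts [Finite G] (A : Subgroup G) [hA : A.Normal] (u : G) (hu : u * u = 1)
    (hfpf : ∀ n ∈ A, u * n = n * u → n = 1) : ∀ n ∈ A, u * n * u⁻¹ = n⁻¹ := by
  have huinv : u⁻¹ = u := inv_eq_of_mul_eq_one_left hu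
  let f : A → A := fun n => ⟨(n : G)⁻¹ * (u * n * u⁻¹), A.mul_mem (A.inv_mem n.2) (hA.conj_mem n n.2 u)⟩
  have hinj : Function.Injective f := by
    intro n m hnm
    have h1 : (n : G)⁻¹ * (u * n * u⁻¹) = (m : G)⁻¹ * (u * m * u⁻¹) := congrArg Subtype.val hnm
    have h2 : u * ((m : G) * (n : G)⁻¹) = ((m : G) * (n : G)⁻¹) * u := by
      have h3 : (m : G) * (n : G)⁻¹ * (u * n * u⁻¹) = u * m * u⁻¹ := by
        rw [mul_assoc, h1, mul_inv_cancel_left]
      calc u * ((m : G) * (n : G)⁻¹) = (u * m * u⁻¹) * (u * (n : G)⁻¹ * u⁻¹) * u := by group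
        _ = ((m : G) * (n : G)⁻¹ * (u * n * u⁻¹)) * (u * (n : G)⁻¹ * u⁻¹) * u := by rw [h3]
        _ = ((m : G) * (n : G)⁻¹) * u := by group
    have h5 := hfpf _ (A.mul_mem m.2 (A.inv_mem n.2)) h2
    have : (m : G) = n := mul_inv_eq_one.mp h5
    exact Subtype.ext this.symm
  have hsurj : Function.Surjective f := Finite.surjective_of_injective hinj
  intro n hn
  obtain ⟨m, hm⟩ := hsurj ⟨n, hn⟩
  have hm' : (m : G)⁻¹ * (u * m * u⁻¹) = n := congrArg Subtype.val hm
  rw [← hm', huinv]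
  calc u * ((m : G)⁻¹ * (u * m * u)) * u = (u * (m : G)⁻¹ * u * m) * (u * u) := by group
    _ = u * (m : G)⁻¹ * u * m := by rw [hu, mul_one]
    _ = ((m : G)⁻¹ * (u * m * u))⁻¹ := by
        have : ((m : G)⁻¹ * (u * m * u))⁻¹ = u⁻¹ * (m : G)⁻¹ * u⁻¹ * m := by group
        rw [this, huinv]

theorem sp4_cube {H : Type*} [Group H] (g : H) : g * g * g = g ^ 3 := by
  rw [pow_succ, pow_two]

theorem sp4_nine_add {M : Type*} [AddCommGroup M] (x00 x10 x20 x01 x11 x21 x02 x12 x22 : M)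
    (h1 : x00 + x10 + x20 = 0) (h2 : x01 + x11 + x21 = 0) (h3 : x02 + x12 + x22 = 0)
    (h4 : x00 + x01 + x02 = 0) (h5 : x00 + x11 + x22 = 0) (h6 : x00 + x12 + x21 = 0) :
    3 • x00 = 0 := by
  have : 3 • x00 = (x00 + x01 + x02) + (x00 + x11 + x22) + (x00 + x12 + x21) + (x00 + x10 + x20)
      - ((x00 + x10 + x20) + (x01 + x11 + x21) + (x02 + x12 + x22)) := by abel
  rw [this, h1, h2, h3, h4, h5, h6]; simp

theorem sp4_nine {M : Type*} [CommGroup M] (x00 x10 x20 x01 x11 x21 x02 x12 x22 : M)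
    (h1 : x00 * x10 * x20 = 1) (h2 : x01 * x11 * x21 = 1) (h3 : x02 * x12 * x22 = 1)
    (h4 : x00 * x01 * x02 = 1) (h5 : x00 * x11 * x22 = 1) (h6 : x00 * x12 * x21 = 1) :
    x00 ^ 3 = 1 :=
  sp4_nine_add (M := Additive M) (Additive.ofMul x00) (Additive.ofMul x10) (Additive.ofMul x20)
    (Additive.ofMul x01) (Additive.ofMul x11) (Additive.ofMul x21) (Additive.ofMul x02)
    (Additive.ofMul x12) (Additive.ofMul x22) h1 h2 h3 h4 h5 h6

theorem sp4_nine_sub (A : Subgroup G) (hA : ∀ x ∈ A, ∀ y ∈ A, x * y = y * x)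
    (x00 x10 x20 x01 x11 x21 x02 x12 x22 : G)
    (m00 : x00 ∈ A) (m10 : x10 ∈ A) (m20 : x20 ∈ A) (m01 : x01 ∈ A) (m11 : x11 ∈ A) (m21 : x21 ∈ A)
    (m02 : x02 ∈ A) (m12 : x12 ∈ A) (m22 : x22 ∈ A)
    (h1 : x00 * x10 * x20 = 1) (h2 : x01 * x11 * x21 = 1) (h3 : x02 * x12 * x22 = 1)
    (h4 : x00 * x01 * x02 = 1) (h5 : x00 * x11 * x22 = 1) (h6 : x00 * x12 * x21 = 1) :
    x00 ^ 3 = 1 := by
  letI : CommGroup A :=
    { (inferInstance : Group A) with mul_comm := fun a b => Subtype.ext (hA a a.2 b b.2) }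
  have := sp4_nine (M := A) ⟨x00, m00⟩ ⟨x10, m10⟩ ⟨x20, m20⟩ ⟨x01, m01⟩ ⟨x11, m11⟩ ⟨x21, m21⟩
    ⟨x02, m02⟩ ⟨x12, m12⟩ ⟨x22, m22⟩ (Subtype.ext h1) (Subtype.ext h2) (Subtype.ext h3)
    (Subtype.ext h4) (Subtype.ext h5) (Subtype.ext h6)
  exact congrArg Subtype.val this

/-- exponent two implies commutative -/
theorem sp4_comm_of_sq (A : Subgroup G) (h2 : ∀ n ∈ A, n ^ 2 = 1) :
    ∀ a ∈ A, ∀ b ∈ A, a * b = b * a := by
  intro a ha b hb
  have hab := h2 (a * b) (A.mul_mem ha hb)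
  have haa := h2 a ha
  have hbb := h2 b hb
  rw [pow_two] at hab haa hbb
  have ia : a⁻¹ = a := inv_eq_of_mul_eq_one_left haa
  have ib : b⁻¹ = b := inv_eq_of_mul_eq_one_left hbb
  have : a * b = (a * b)⁻¹ := (inv_eq_of_mul_eq_one_left hab).symm
  rw [this, mul_inv_rev, ia, ib]

theorem sp4_fpfA [Finite G] (hord : ∀ g : G, orderOf g ≤ 4) (A : Subgroup G) [hAn : A.Normal]
    (hA2 : ∀ a ∈ A, a ^ 2 = 1) (g : G) (hg3 : g ^ 3 = 1) (hg1 : g ≠ 1) (a : G) (ha : a ∈ A) :
    a * (g * a * g⁻¹) * (g * (g * a * g⁻¹) * g⁻¹) = 1 := by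
  have hcomm := sp4_comm_of_sq A hA2
  obtain ⟨b, hb⟩ : ∃ b, b = g * a * g⁻¹ := ⟨_, rfl⟩
  obtain ⟨c, hc⟩ : ∃ c, c = g * b * g⁻¹ := ⟨_, rfl⟩
  have hbA : b ∈ A := by rw [hb]; exact hAn.conj_mem a ha g
  have hcA : c ∈ A := by rw [hc]; exact hAn.conj_mem b hbA g
  rw [← hb, ← hc]
  have hca : g * c * g⁻¹ = a := by
    rw [hc, hb]
    have : g * (g * (g * a * g⁻¹) * g⁻¹) * g⁻¹ = (g * g * g) * a * (g * g * g)⁻¹ := by group
    rw [this, sp4_cube, hg3]; group
  have hPA : a * b * c ∈ A := A.mul_mem (A.mul_mem ha hbA) hcA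
  have hconj : g * (a * b * c) * g⁻¹ = a * b * c := by
    calc g * (a * b * c) * g⁻¹ = (g * a * g⁻¹) * (g * b * g⁻¹) * (g * c * g⁻¹) := by group
      _ = b * c * a := by rw [← hb, ← hc, hca]
      _ = a * (b * c) := (hcomm a ha (b * c) (A.mul_mem hbA hcA)).symm
      _ = a * b * c := by group
  have hc' : Commute (a * b * c) g := by
    show a * b * c * g = g * (a * b * c)
    calc a * b * c * g = (g * (a * b * c) * g⁻¹) * g := by rw [hconj]
      _ = g * (a * b * c) := by group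
  have hP4 : (a * b * c) ^ 4 = 1 := by
    have := hA2 _ hPA
    calc (a * b * c) ^ 4 = ((a * b * c) ^ 2) ^ 2 := by rw [← pow_mul]
      _ = 1 := by rw [this, one_pow]
  rcases sp4_no_six hord hc' hP4 hg3 with h | h
  · exact h
  · exact absurd h hg1

theorem sp4_not_nine [Finite G] (hord : ∀ g : G, orderOf g ≤ 4) (A : Subgroup G) [hAn : A.Normal]
    (hA1 : A ≠ ⊥) (hA2 : ∀ a ∈ A, a ^ 2 = 1) : ¬ 3 ^ 2 ∣ Nat.card G := by
  intro h9
  have hcomm := sp4_comm_of_sq A hA2
  obtain ⟨a₀, ha₀, ha₀1⟩ : ∃ a ∈ A, a ≠ 1 := by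
    by_contra hcon
    push Not at hcon
    exact hA1 ((Subgroup.eq_bot_iff_forall A).2 hcon)
  obtain ⟨B, hB⟩ := Sylow.exists_subgroup_card_pow_prime 3 h9
  have hB3 : ∀ b ∈ B, b ^ 3 = 1 := by
    intro b hb
    rcases sp4_pow_cases hord b with h | h
    · have h1 : orderOf b ∣ 4 := orderOf_dvd_of_pow_eq_one h
      have h2 : orderOf b ∣ 3 ^ 2 := by
        have : orderOf (⟨b, hb⟩ : B) ∣ Nat.card B := orderOf_dvd_natCard _
        rw [hB] at this
        have e : orderOf (⟨b, hb⟩ : B) = orderOf b := by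
          rw [← Subgroup.orderOf_coe]
        rw [e] at this
        exact this
      have h3 : orderOf b ∣ Nat.gcd 4 (3 ^ 2) := Nat.dvd_gcd h1 h2
      have h4 : Nat.gcd 4 (3 ^ 2) = 1 := by norm_num
      rw [h4, Nat.dvd_one, orderOf_eq_one_iff] at h3
      rw [h3, one_pow]
    · exact h.1
  have hBc : IsMulCommutative B := IsPGroup.isMulCommutative_of_card_eq_prime_sq hB
  have hBcomm : ∀ a b : B, a * b = b * a := fun a b => hBc.is_comm.comm a b
  obtain ⟨c, hcB, hc1⟩ : ∃ c ∈ B, c ≠ 1 := by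
    by_contra hcon
    push Not at hcon
    have : B = ⊥ := (Subgroup.eq_bot_iff_forall B).2 hcon
    rw [this, Subgroup.card_bot] at hB
    norm_num at hB
  have hc3 := hB3 c hcB
  obtain ⟨d, hdB, hdc⟩ : ∃ d ∈ B, d ∉ Subgroup.zpowers c := by
    by_contra hcon
    push Not at hcon
    have hle : B ≤ Subgroup.zpowers c := hcon
    have h1 := Subgroup.card_le_of_le hle
    rw [hB, Nat.card_zpowers] at h1
    have h2 : orderOf c ≤ 4 := hord c
    omega
  have hd3 := hB3 d hdB
  have hcd : c * d = d * c := congrArg Subtype.val (hBcomm ⟨c, hcB⟩ ⟨d, hdB⟩)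
  have hd1 : d ≠ 1 := fun h => hdc (h ▸ (Subgroup.zpowers c).one_mem)
  have hdd : d⁻¹ = d * d := by
    have : d * d * d = 1 := by
      calc d * d * d = d ^ 3 := sp4_cube d
        _ = 1 := hd3
    exact inv_eq_of_mul_eq_one_left this
  have hcc : c⁻¹ = c * c := by
    have : c * c * c = 1 := by
      calc c * c * c = c ^ 3 := sp4_cube c
        _ = 1 := hc3
    exact inv_eq_of_mul_eq_one_left this
  -- the four generators
  have g3_1 : (c * d) ^ 3 = 1 := by
    rw [(show Commute c d from hcd).mul_pow, hc3, hd3, one_mul]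
  have g3_2 : (c * d * d) ^ 3 = 1 := by
    have hc2 : Commute (c * d) d := by
      show c * d * d = d * (c * d)
      rw [← mul_assoc, ← hcd]
    rw [hc2.mul_pow, g3_1, hd3, one_mul]
  have g1_1 : c * d ≠ 1 := by
    intro h
    apply hdc
    have : d = c⁻¹ := eq_inv_of_mul_eq_one_right h
    rw [this]; exact (Subgroup.zpowers c).inv_mem (Subgroup.mem_zpowers c)
  have g1_2 : c * d * d ≠ 1 := by
    intro h
    apply hdc
    have h1 : c = (d * d)⁻¹ := by
      rw [mul_assoc] at h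
      exact eq_inv_of_mul_eq_one_left h
    have h2 : (d * d)⁻¹ = d := by
      rw [← hdd, inv_inv]
    rw [h2] at h1
    rw [← h1]; exact Subgroup.mem_zpowers c
  -- the nine conjugates
  have F_mem : ∀ g : G, g * a₀ * g⁻¹ ∈ A := fun g => hAn.conj_mem a₀ ha₀ g
  have r1 := sp4_fpfA hord A hA2 c hc3 hc1 a₀ ha₀
  have r2 := sp4_fpfA hord A hA2 c hc3 hc1 (d * a₀ * d⁻¹) (F_mem d)
  have r3 := sp4_fpfA hord A hA2 c hc3 hc1 ((d * d) * a₀ * (d * d)⁻¹) (F_mem (d * d))
  have r4 := sp4_fpfA hord A hA2 d hd3 hd1 a₀ ha₀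
  have r5 := sp4_fpfA hord A hA2 (c * d) g3_1 g1_1 a₀ ha₀
  have r6 := sp4_fpfA hord A hA2 (c * d * d) g3_2 g1_2 a₀ ha₀
  have e1 : c * (c * a₀ * c⁻¹) * c⁻¹ = (c * c) * a₀ * (c * c)⁻¹ := by group
  have e2a : c * (d * a₀ * d⁻¹) * c⁻¹ = (c * d) * a₀ * (c * d)⁻¹ := by group
  have e2b : c * ((c * d) * a₀ * (c * d)⁻¹) * c⁻¹ = (c * c * d) * a₀ * (c * c * d)⁻¹ := by group
  have e3a : c * ((d * d) * a₀ * (d * d)⁻¹) * c⁻¹ = (c * d * d) * a₀ * (c * d * d)⁻¹ := by group
  have e3b : c * ((c * d * d) * a₀ * (c * d * d)⁻¹) * c⁻¹ = (c * c * d * d) * a₀ * (c * c * d * d)⁻¹ := by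
    group
  have e4 : d * (d * a₀ * d⁻¹) * d⁻¹ = (d * d) * a₀ * (d * d)⁻¹ := by group
  have e5 : (c * d) * ((c * d) * a₀ * (c * d)⁻¹) * (c * d)⁻¹ = (c * c * d * d) * a₀ * (c * c * d * d)⁻¹ := by
    have : (c * d) * (c * d) = c * c * d * d := by
      calc (c * d) * (c * d) = c * (d * c) * d := by group
        _ = c * (c * d) * d := by rw [← hcd]
        _ = c * c * d * d := by group
    calc (c * d) * ((c * d) * a₀ * (c * d)⁻¹) * (c * d)⁻¹
        = ((c * d) * (c * d)) * a₀ * ((c * d) * (c * d))⁻¹ := by group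
      _ = (c * c * d * d) * a₀ * (c * c * d * d)⁻¹ := by rw [this]
  have e6 : (c * d * d) * ((c * d * d) * a₀ * (c * d * d)⁻¹) * (c * d * d)⁻¹
      = (c * c * d) * a₀ * (c * c * d)⁻¹ := by
    have h1 : d * d * c = c * d * d := by
      calc d * d * c = d * (d * c) := by group
        _ = d * (c * d) := by rw [← hcd]
        _ = (d * c) * d := by group
        _ = (c * d) * d := by rw [← hcd]
    have h2 : d * d * d * d = d := by
      calc d * d * d * d = d ^ 3 * d := by rw [← sp4_cube]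
        _ = d := by rw [hd3, one_mul]
    have : (c * d * d) * (c * d * d) = c * c * d := by
      calc (c * d * d) * (c * d * d) = c * (d * d * c) * d * d := by group
        _ = c * (c * d * d) * d * d := by rw [h1]
        _ = c * c * (d * d * d * d) := by group
        _ = c * c * d := by rw [h2]
    calc (c * d * d) * ((c * d * d) * a₀ * (c * d * d)⁻¹) * (c * d * d)⁻¹
        = ((c * d * d) * (c * d * d)) * a₀ * ((c * d * d) * (c * d * d))⁻¹ := by group
      _ = (c * c * d) * a₀ * (c * c * d)⁻¹ := by rw [this]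
  rw [e1] at r1
  rw [e2a, e2b] at r2
  rw [e3a, e3b] at r3
  rw [e4] at r4
  rw [e5] at r5
  rw [e6] at r6
  have h3 := sp4_nine_sub A hcomm a₀ (c * a₀ * c⁻¹) ((c * c) * a₀ * (c * c)⁻¹)
    (d * a₀ * d⁻¹) ((c * d) * a₀ * (c * d)⁻¹) ((c * c * d) * a₀ * (c * c * d)⁻¹)
    ((d * d) * a₀ * (d * d)⁻¹) ((c * d * d) * a₀ * (c * d * d)⁻¹)
    ((c * c * d * d) * a₀ * (c * c * d * d)⁻¹)
    ha₀ (F_mem _) (F_mem _) (F_mem _) (F_mem _) (F_mem _) (F_mem _) (F_mem _) (F_mem _)
    r1 r2 r3 r4 r5 r6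
  have h2 := hA2 a₀ ha₀
  apply ha₀1
  have e : a₀ ^ 3 = a₀ ^ 2 * a₀ := pow_succ a₀ 2
  rw [h3, h2, one_mul] at e
  exact e.symm

theorem sp4_card_three (H : Subgroup G) (hH : Nat.card H = 3) (x : G) (hx : x ∈ H) (hx1 : x ≠ 1) :
    ∀ y ∈ H, y = 1 ∨ y = x ∨ y = x⁻¹ := by
  intro y hy
  haveI : Fact (Nat.Prime 3) := ⟨Nat.prime_three⟩
  have hx1' : (⟨x, hx⟩ : H) ≠ 1 := by
    intro h
    exact hx1 (congrArg Subtype.val h)
  have hmem : (⟨y, hy⟩ : H) ∈ Subgroup.zpowers (⟨x, hx⟩ : H) := mem_zpowers_of_prime_card hH hx1'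
  obtain ⟨k, hk⟩ := Subgroup.mem_zpowers_iff.1 hmem
  have hk' : x ^ k = y := by
    have := congrArg Subtype.val hk
    simpa using this
  haveI : Finite H := Nat.finite_of_card_ne_zero (by rw [hH]; norm_num)
  have hx3 : x ^ 3 = 1 := by
    have : (⟨x, hx⟩ : H) ^ 3 = 1 := by rw [← hH]; exact pow_card_eq_one'
    have := congrArg Subtype.val this
    simpa using this
  have ho : orderOf x = 3 := orderOf_eq_prime hx3 hx1
  have hmod := zpow_mod_orderOf x k
  rw [ho] at hmod
  obtain ⟨r, hr⟩ : ∃ r : ℤ, r = k % ((3 : ℕ) : ℤ) := ⟨_, rfl⟩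
  have hr0 : 0 ≤ r := by rw [hr]; exact Int.emod_nonneg _ (by norm_num)
  have hr3 : r < 3 := by rw [hr]; exact Int.emod_lt_of_pos _ (by norm_num)
  rw [← hr, hk'] at hmod
  interval_cases r
  · left; rw [← hmod, zpow_zero]
  · right; left; rw [← hmod, zpow_one]
  · right; right
    rw [← hmod]
    have : x ^ (2 : ℤ) * x = 1 := by
      have e : x ^ (2 : ℤ) * x = x ^ 3 := by
        rw [show (2 : ℤ) = ((2 : ℕ) : ℤ) from rfl, zpow_natCast, ← pow_succ]
      rw [e, hx3]
    exact eq_inv_of_mul_eq_one_left this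

theorem sp4_units_cube (u : ℤˣ) (h : u ^ 3 = 1) : u = 1 := by
  rcases Int.units_eq_one_or u with h1 | h1
  · exact h1
  · rw [h1] at h
    exact absurd h (by decide)

theorem sp4_case2 [Finite G] (hord : ∀ g : G, orderOf g ≤ 4)
    (x₀ : G) (hx₀ : orderOf x₀ = 3) (y : G) (hy : orderOf y = 4)
    (A : Subgroup G) [hAn : A.Normal] (hA1 : A ≠ ⊥) (hA2 : ∀ a ∈ A, a ^ 2 = 1) :
    ∃ (N : Subgroup G) (_ : N.Normal),
      (IsPGroup 2 ↥N ∧ Monoid.exponent ↥N = 4 ∧ Group.nilpotencyClass ↥N ≤ 2 ∧ N.index = 3) ∨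
      (Cfsg.IsElementaryAbelian 2 N ∧ Nonempty (G ⧸ N ≃* Equiv.Perm (Fin 3))) := by
  classical
  haveI : Fact (Nat.Prime 2) := ⟨Nat.prime_two⟩
  haveI : Fact (Nat.Prime 3) := ⟨Nat.prime_three⟩
  have h9 := sp4_not_nine hord A hA1 hA2
  obtain ⟨a, b, hcard⟩ := sp4_card_eq hord
  have h3dvd : 3 ∣ Nat.card G := by rw [← hx₀]; exact orderOf_dvd_natCard x₀
  have h3pow : ∀ k : ℕ, ¬ 3 ∣ 2 ^ k := by
    intro k h
    have := Nat.Prime.dvd_of_dvd_pow Nat.prime_three h
    have := Nat.le_of_dvd (by norm_num) this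
    omega
  have hb : b = 1 := by
    rcases Nat.lt_or_ge b 2 with h | h
    · have : b ≠ 0 := by
        rintro rfl
        rw [pow_zero, mul_one] at hcard
        rw [hcard] at h3dvd
        exact h3pow a h3dvd
      omega
    · exfalso; apply h9
      rw [hcard]
      exact dvd_mul_of_dvd_right (pow_dvd_pow 3 h) _
  rw [hb, pow_one] at hcard
  -- the Sylow 2-subgroup
  obtain ⟨S, -⟩ : ∃ S : Sylow 2 G, S = default := ⟨_, rfl⟩
  have hSidx : (S : Subgroup G).index = 3 := by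
    have h1 : (S : Subgroup G).index ∣ Nat.card G := Subgroup.index_dvd_card _
    have h2 : ¬ 2 ∣ (S : Subgroup G).index := S.not_dvd_index
    have hc : Nat.Coprime (S : Subgroup G).index (2 ^ a) :=
      Nat.Coprime.pow_right a ((Nat.Prime.coprime_iff_not_dvd Nat.prime_two).2 h2).symm
    rw [hcard, mul_comm] at h1
    have h3 : (S : Subgroup G).index ∣ 3 := hc.dvd_of_dvd_mul_right h1
    rcases (Nat.dvd_prime Nat.prime_three).1 h3 with h | h
    · exfalso
      have htop : (S : Subgroup G) = ⊤ := Subgroup.index_eq_one.1 h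
      have hx : x₀ ∈ (S : Subgroup G) := by rw [htop]; exact Subgroup.mem_top _
      obtain ⟨k, hk⟩ := S.isPGroup' ⟨x₀, hx⟩
      have hk' : x₀ ^ (2 ^ k) = 1 := by
        have := congrArg Subtype.val hk
        simpa using this
      have := orderOf_dvd_of_pow_eq_one hk'
      rw [hx₀] at this
      exact h3pow k this
    · exact h
  obtain ⟨φ, hφ⟩ : ∃ φ : G →* Equiv.Perm (G ⧸ (S : Subgroup G)),
      φ = MulAction.toPermHom G (G ⧸ (S : Subgroup G)) := ⟨_, rfl⟩
  have hNle : φ.ker ≤ (S : Subgroup G) := by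
    rw [hφ, ← Subgroup.normalCore_eq_ker]; exact Subgroup.normalCore_le _
  have hN2 : IsPGroup 2 φ.ker := S.isPGroup'.to_le hNle
  have hcardQ : Nat.card (G ⧸ (S : Subgroup G)) = 3 := by
    rw [← Subgroup.index_eq_card]; exact hSidx
  have hcardPerm : Nat.card (Equiv.Perm (G ⧸ (S : Subgroup G))) = 6 := by
    rw [Nat.card_perm, hcardQ]; rfl
  have hidx_range : φ.ker.index = Nat.card φ.range := by
    rw [Subgroup.index_eq_card]
    exact Nat.card_congr (QuotientGroup.quotientKerEquivRange φ).toEquiv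
  have hidx6 : φ.ker.index ∣ 6 := by
    rw [hidx_range, ← hcardPerm]; exact Subgroup.card_subgroup_dvd_card _
  have hidx3 : 3 ∣ φ.ker.index := by
    obtain ⟨k, hk⟩ := (IsPGroup.iff_card).1 hN2
    have h1 : Nat.card φ.ker * φ.ker.index = Nat.card G := Subgroup.card_mul_index _
    rw [hk] at h1
    have h2 : 3 ∣ 2 ^ k * φ.ker.index := by rw [h1]; exact h3dvd
    have hc : Nat.Coprime 3 (2 ^ k) :=
      Nat.Coprime.pow_right k (by decide)
    exact hc.dvd_of_dvd_mul_left h2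
  -- no 3-torsion in the kernel
  have h3N : ∀ n : G, n ∈ φ.ker → n ^ 3 = 1 → n = 1 := by
    intro n hn h3
    obtain ⟨k, hk⟩ := hN2 ⟨n, hn⟩
    have hk' : n ^ (2 ^ k) = 1 := by
      have := congrArg Subtype.val hk
      simpa using this
    have h1 : orderOf n ∣ 3 := orderOf_dvd_of_pow_eq_one h3
    have h2 : orderOf n ∣ 2 ^ k := orderOf_dvd_of_pow_eq_one hk'
    have h4 : orderOf n ∣ Nat.gcd 3 (2 ^ k) := Nat.dvd_gcd h1 h2
    have h5 : Nat.gcd 3 (2 ^ k) = 1 := Nat.Coprime.pow_right k (by decide)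
    rw [h5, Nat.dvd_one, orderOf_eq_one_iff] at h4
    exact h4
  have h4N : ∀ n : G, n ∈ φ.ker → n ^ 4 = 1 := by
    intro n hn
    rcases sp4_pow_cases hord n with h | h
    · exact h
    · exact absurd (h3N n hn h.1) h.2
  -- coset claim
  have hcoset : ∀ x : G, x ^ 3 = 1 → x ≠ 1 → ∀ m ∈ φ.ker, (m * x) ^ 3 = 1 := by
    intro x hx3 hx1 m hm
    rcases sp4_pow_cases hord (m * x) with h | h
    · exfalso
      have h1 : φ (m * x) = φ x := by
        rw [map_mul, (MonoidHom.mem_ker).1 hm, one_mul]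
      have h2 : (φ x) ^ 4 = 1 := by rw [← h1, ← map_pow, h, map_one]
      have h3 : (φ x) ^ 3 = 1 := by rw [← map_pow, hx3, map_one]
      have h4 : φ x = 1 := sp4_eq_one_of_pow' h2 h3
      exact hx1 (h3N x ((MonoidHom.mem_ker).2 h4) hx3)
    · exact h.1
  -- the basic identity
  have hident : ∀ g : G, g ^ 3 = 1 → g ≠ 1 → ∀ n ∈ φ.ker,
      n * (g * n * g⁻¹) * (g * (g * n * g⁻¹) * g⁻¹) = 1 := by
    intro g hg3 hg1 n hn
    have h1 := hcoset g hg3 hg1 n hn
    have e : (n * g) * (n * g) * (n * g)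
        = n * (g * n * g⁻¹) * (g * (g * n * g⁻¹) * g⁻¹) * (g * g * g) := by group
    rw [← sp4_cube, e, sp4_cube, hg3, mul_one] at h1
    exact h1
  -- class two
  have hx₀3 : x₀ ^ 3 = 1 := by rw [← hx₀]; exact pow_orderOf_eq_one x₀
  have hx₀1 : x₀ ≠ 1 := by
    intro h; rw [h, orderOf_one] at hx₀; omega
  have hclass : ∀ (x : G), x ^ 3 = 1 → x ≠ 1 → ∀ a b c : φ.ker, ⁅a, ⁅b, c⁆⁆ = 1 := by
    intro x hx3 hx1
    refine sp4_fpf3_class2 (MulAut.conjNormal x : MulAut φ.ker) ?_ ?_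
    · intro y n
      apply Subtype.ext
      simp only [Subgroup.coe_mul, Subgroup.coe_inv, MulAut.conjNormal_apply, Subgroup.coe_one]
      have hg3 : ((y : G) * x) ^ 3 = 1 := hcoset x hx3 hx1 y y.2
      have hg1 : (y : G) * x ≠ 1 := by
        intro h
        have : x = (y : G)⁻¹ := eq_inv_of_mul_eq_one_right h
        have hxk : x ∈ φ.ker := by rw [this]; exact φ.ker.inv_mem y.2
        exact hx1 (h3N x hxk hx3)
      have := hident ((y : G) * x) hg3 hg1 n n.2
      have e1 : (y : G) * (x * n * x⁻¹) * (y : G)⁻¹ = ((y : G) * x) * n * ((y : G) * x)⁻¹ := by group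
      have e2 : (y : G) * (x * ((y : G) * (x * n * x⁻¹) * (y : G)⁻¹) * x⁻¹) * (y : G)⁻¹
          = ((y : G) * x) * (((y : G) * x) * n * ((y : G) * x)⁻¹) * ((y : G) * x)⁻¹ := by group
      rw [e2, e1]
      exact this
    · intro n hn
      have := h3N n n.2 (by have := congrArg Subtype.val hn; simpa using this)
      exact Subtype.ext this
  have hidx_cases : φ.ker.index = 3 ∨ φ.ker.index = 6 := by
    have h1 : φ.ker.index ≤ 6 := Nat.le_of_dvd (by norm_num) hidx6
    have h2 : 0 < φ.ker.index := Nat.pos_of_ne_zero (Subgroup.index_ne_zero_of_finite)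
    obtain ⟨k, hk⟩ := hidx3
    rcases hidx6 with ⟨l, hl⟩
    omega
  refine ⟨φ.ker, inferInstance, ?_⟩
  rcases hidx_cases with hidx | hidx
  · -- index three
    left
    refine ⟨hN2, ?_, ?_, hidx⟩
    · -- exponent
      have hyN : y ∈ φ.ker := by
        have hy4 : y ^ 4 = 1 := by rw [← hy]; exact pow_orderOf_eq_one y
        have hc : Nat.card (G ⧸ φ.ker) = 3 := by rw [← Subgroup.index_eq_card]; exact hidx
        have h1 : ((QuotientGroup.mk' φ.ker) y) ^ 3 = 1 := by
          have h := pow_card_eq_one' (x := (QuotientGroup.mk' φ.ker) y)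
          rw [hc] at h
          exact h
        have h2 : ((QuotientGroup.mk' φ.ker) y) ^ 4 = 1 := by rw [← map_pow, hy4, map_one]
        have := sp4_eq_one_of_pow' h2 h1
        rw [QuotientGroup.mk'_apply, QuotientGroup.eq_one_iff] at this
        exact this
      apply Nat.dvd_antisymm
      · apply Monoid.exponent_dvd_of_forall_pow_eq_one
        intro n
        apply Subtype.ext
        have := h4N n n.2
        simpa using this
      · have h1 : orderOf (⟨y, hyN⟩ : φ.ker) = 4 := by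
          rw [← Subgroup.orderOf_coe]; exact hy
        rw [← h1]
        exact Monoid.order_dvd_exponent _
    · -- class
      haveI : Group.IsNilpotent φ.ker := hN2.isNilpotent
      apply Subgroup.upperCentralSeries_eq_top_iff_nilpotencyClass_le.1
      rw [eq_top_iff]
      intro u _
      change u ∈ Subgroup.upperCentralSeries (↥φ.ker) (1 + 1)
      rw [Subgroup.mem_upperCentralSeries_succ_iff]
      intro v
      rw [Subgroup.upperCentralSeries_one, Subgroup.mem_center_iff]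
      intro m
      have := hclass x₀ hx₀3 hx₀1 m u v
      rw [commutatorElement_eq_one_iff_mul_comm, commutatorElement_def] at this
      exact this
  · -- index six
    right
    have hsurj : Function.Surjective φ := by
      have : φ.range = ⊤ := by
        apply Subgroup.eq_top_of_card_eq
        rw [← hidx_range, hidx, hcardPerm]
      exact MonoidHom.range_eq_top.1 this
    obtain ⟨e, -⟩ : ∃ e : (G ⧸ (S : Subgroup G)) ≃ Fin 3, e = e := ⟨Finite.equivFinOfCardEq hcardQ, rfl⟩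
    refine ⟨?_, ⟨(QuotientGroup.quotientKerEquivOfSurjective φ hsurj).trans (Equiv.permCongrHom e)⟩⟩
    -- the sign homomorphism
    obtain ⟨ψ, hψ⟩ : ∃ ψ : G →* ℤˣ,
        ψ = Equiv.Perm.sign.comp ((Equiv.permCongrHom e).toMonoidHom.comp φ) := ⟨_, rfl⟩
    have hψker : ∀ n ∈ φ.ker, ψ n = 1 := by
      intro n hn
      rw [hψ, MonoidHom.comp_apply, MonoidHom.comp_apply, (MonoidHom.mem_ker).1 hn, map_one, map_one]
    have hψcube : ∀ g : G, g ^ 3 = 1 → ψ g = 1 := by
      intro g hg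
      apply sp4_units_cube
      rw [← map_pow, hg, map_one]
    obtain ⟨g₁, hg₁⟩ : ∃ g₁ : G, ψ g₁ = -1 := by
      obtain ⟨g₁, hg₁⟩ := hsurj ((Equiv.permCongrHom e).symm (Equiv.swap (0 : Fin 3) 1))
      refine ⟨g₁, ?_⟩
      rw [hψ, MonoidHom.comp_apply, MonoidHom.comp_apply, hg₁]
      simp only [MulEquiv.coe_toMonoidHom, MulEquiv.apply_symm_apply]
      exact Equiv.Perm.sign_swap (by decide)
    -- a Sylow 3-subgroup
    obtain ⟨P3, -⟩ : ∃ P3 : Sylow 3 G, P3 = default := ⟨_, rfl⟩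
    have hP3card : Nat.card (P3 : Subgroup G) = 3 := by
      obtain ⟨k, hk⟩ := (IsPGroup.iff_card).1 P3.isPGroup'
      have hk0 : k ≠ 0 := by
        rintro rfl
        rw [pow_zero] at hk
        have : (P3 : Subgroup G) = ⊥ := Subgroup.card_eq_one.1 hk
        exact P3.ne_bot_of_dvd_card h3dvd this
      have hk2 : k < 2 := by
        by_contra hge
        push Not at hge
        apply h9
        have h1 : 3 ^ 2 ∣ Nat.card (P3 : Subgroup G) := by rw [hk]; exact pow_dvd_pow 3 hge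
        exact h1.trans (Subgroup.card_subgroup_dvd_card _)
      have : k = 1 := by omega
      rw [hk, this, pow_one]
    obtain ⟨x, hxP, hx1⟩ : ∃ x ∈ (P3 : Subgroup G), x ≠ 1 := by
      by_contra hcon
      push Not at hcon
      exact P3.ne_bot_of_dvd_card h3dvd ((Subgroup.eq_bot_iff_forall _).2 hcon)
    have hP3cube : ∀ p ∈ (P3 : Subgroup G), p ^ 3 = 1 := by
      intro p hp
      have h := pow_card_eq_one' (x := (⟨p, hp⟩ : (P3 : Subgroup G)))
      rw [hP3card] at h
      have := congrArg Subtype.val h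
      simpa using this
    have hx3 : x ^ 3 = 1 := hP3cube x hxP
    have hP3K : (P3 : Subgroup G) ≤ ψ.ker := by
      intro p hp
      exact (MonoidHom.mem_ker).2 (hψcube p (hP3cube p hp))
    have hfrat : Subgroup.normalizer ((P3 : Subgroup G) : Set G) ⊔ ψ.ker = ⊤ :=
      Sylow.normalizer_sup_eq_top' P3 hP3K
    obtain ⟨t, htN, htK⟩ : ∃ t ∈ Subgroup.normalizer ((P3 : Subgroup G) : Set G), t ∉ ψ.ker := by
      by_contra hcon
      push Not at hcon
      have hle : Subgroup.normalizer ((P3 : Subgroup G) : Set G) ≤ ψ.ker := hcon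
      rw [sup_of_le_right hle] at hfrat
      have : g₁ ∈ ψ.ker := by rw [hfrat]; exact Subgroup.mem_top _
      rw [MonoidHom.mem_ker, hg₁] at this
      exact absurd this (by decide)
    have htψ : ψ t ≠ 1 := fun h => htK ((MonoidHom.mem_ker).2 h)
    have ht1 : t ≠ 1 := by
      intro h; rw [h, map_one] at htψ; exact htψ rfl
    have hnotK4 : ∀ g : G, ψ g ≠ 1 → g ^ 4 = 1 := by
      intro g hg
      rcases sp4_pow_cases hord g with h | h
      · exact h
      · exact absurd (hψcube g h.1) hg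
    have ht4 : t ^ 4 = 1 := hnotK4 t htψ
    have htx : t * x * t⁻¹ = x⁻¹ := by
      have hmem : t * x * t⁻¹ ∈ (P3 : Subgroup G) := (Subgroup.mem_normalizer_iff.1 htN x).1 hxP
      rcases sp4_card_three _ hP3card x hxP hx1 _ hmem with h | h | h
      · exfalso
        apply hx1
        calc x = t⁻¹ * (t * x * t⁻¹) * t := by group
          _ = 1 := by rw [h]; group
      · exfalso
        have hc : Commute t x := by
          show t * x = x * t
          calc t * x = (t * x * t⁻¹) * t := by group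
            _ = x * t := by rw [h]
        rcases sp4_no_six hord hc ht4 hx3 with h' | h'
        · exact ht1 h'
        · exact hx1 h'
      · exact h
    have htt : t * t = 1 := by
      have hc : Commute (t * t) x := by
        show t * t * x = x * (t * t)
        have : (t * t) * x * (t * t)⁻¹ = x := by
          calc (t * t) * x * (t * t)⁻¹ = t * (t * x * t⁻¹) * t⁻¹ := by group
            _ = t * x⁻¹ * t⁻¹ := by rw [htx]
            _ = (t * x * t⁻¹)⁻¹ := by group
            _ = x := by rw [htx, inv_inv]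
        calc t * t * x = ((t * t) * x * (t * t)⁻¹) * (t * t) := by group
          _ = x * (t * t) := by rw [this]
      have h4 : (t * t) ^ 4 = 1 := by
        rw [← pow_two, ← pow_mul, mul_comm, pow_mul, ht4, one_pow]
      rcases sp4_no_six hord hc h4 hx3 with h' | h'
      · exact h'
      · exact absurd h' hx1
    have htinv : t⁻¹ = t := inv_eq_of_mul_eq_one_left htt
    have hxtx : x * t * x = t := by
      calc x * t * x = x * (t * x * t⁻¹) * t := by group
        _ = t := by rw [htx]; group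
    -- apply the elementary abelian lemma
    have hsqall : ∀ n : φ.ker, n ^ 2 = 1 := by
      refine sp4_elem_ab (MulAut.conjNormal x : MulAut φ.ker) (MulAut.conjNormal t : MulAut φ.ker)
        ?_ ?_ ?_ ?_ ?_ (hclass x hx3 hx1)
      · intro n
        apply Subtype.ext
        simp only [Subgroup.coe_mul, MulAut.conjNormal_apply, Subgroup.coe_one]
        exact hident x hx3 hx1 n n.2
      · intro n hn
        have := h3N n n.2 (by have := congrArg Subtype.val hn; simpa using this)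
        exact Subtype.ext this
      · intro n
        apply Subtype.ext
        simp only [MulAut.conjNormal_apply]
        calc x * (t * (x * (n : G) * x⁻¹) * t⁻¹) * x⁻¹
            = (x * t * x) * n * (x * t * x)⁻¹ := by group
          _ = t * n * t⁻¹ := by rw [hxtx]
      · intro n
        apply Subtype.ext
        simp only [MulAut.conjNormal_apply]
        calc t * (t * (n : G) * t⁻¹) * t⁻¹ = (t * t) * n * (t * t)⁻¹ := by group
          _ = n := by rw [htt]; group
      · intro n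
        apply Subtype.ext
        simp only [Subgroup.coe_pow, Subgroup.coe_mul, MulAut.conjNormal_apply, Subgroup.coe_one]
        have hψnt : ψ ((n : G) * t) ≠ 1 := by
          rw [map_mul, hψker n n.2, one_mul]; exact htψ
        have h4 := hnotK4 _ hψnt
        have e : ((n : G) * t) ^ 2 = (n : G) * (t * n * t⁻¹) := by
          rw [pow_two]
          calc (n : G) * t * (n * t) = (n : G) * (t * n * t⁻¹) * (t * t) := by group
            _ = (n : G) * (t * n * t⁻¹) := by rw [htt, mul_one]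
        rw [← e, ← pow_mul]
        exact h4
    have hsq' : ∀ n ∈ φ.ker, n ^ 2 = 1 := by
      intro n hn
      have := congrArg Subtype.val (hsqall ⟨n, hn⟩)
      simpa using this
    have hcommN := sp4_comm_of_sq φ.ker hsq'
    exact ⟨⟨⟨fun a b => Subtype.ext (hcommN a a.2 b b.2)⟩⟩, hsq'⟩

/-- Case where the minimal normal subgroup is a 3-group -/
theorem sp4_case3 [Finite G] (hord : ∀ g : G, orderOf g ≤ 4)
    (z : G) (hz : orderOf z = 2) (y : G) (hy : orderOf y = 4)
    (A : Subgroup G) [hAn : A.Normal] (hA1 : A ≠ ⊥) (hA3 : ∀ a ∈ A, a ^ 3 = 1) :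
    ∃ (N : Subgroup G) (_ : N.Normal), Cfsg.IsElementaryAbelian 3 N ∧
      ((IsCyclic (G ⧸ N) ∧ N.index = 4) ∨ Nonempty (G ⧸ N ≃* QuaternionGroup 2)) := by
  classical
  obtain ⟨a₀, ha₀, ha₀1⟩ : ∃ a ∈ A, a ≠ 1 := by
    by_contra hcon
    push Not at hcon
    exact hA1 ((Subgroup.eq_bot_iff_forall A).2 hcon)
  have hz2 : z * z = 1 := by rw [← pow_two, ← hz]; exact pow_orderOf_eq_one z
  have hz1 : z ≠ 1 := by
    intro h; rw [h, orderOf_one] at hz; omega
  -- involutions invert A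
  have hinvA : ∀ u : G, u * u = 1 → u ≠ 1 → ∀ a ∈ A, u * a * u⁻¹ = a⁻¹ := by
    intro u hu hu1
    refine sp4_inverts A u hu ?_
    intro n hn hcomm
    have hu4 : u ^ 4 = 1 := sp4_pow4_of_sq hu
    rcases sp4_no_six hord (show Commute u n from hcomm) hu4 (hA3 n hn) with h | h
    · exact absurd h hu1
    · exact h
  -- an element both centralizing and inverting A is impossible
  have hnot : ∀ w : G, (∀ a ∈ A, w * a * w⁻¹ = a⁻¹) → (∀ a ∈ A, w * a * w⁻¹ = a) → False := by
    intro w h1 h2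
    have e1 := h1 a₀ ha₀
    rw [h2 a₀ ha₀] at e1
    have : a₀ ^ 2 = 1 := by
      rw [pow_two]
      calc a₀ * a₀ = a₀ * a₀⁻¹ := by rw [← e1]
        _ = 1 := mul_inv_cancel a₀
    have h3 := hA3 a₀ ha₀
    have : a₀ = 1 := by
      have e : a₀ ^ 3 = a₀ ^ 2 * a₀ := pow_succ a₀ 2
      rw [h3, this, one_mul] at e
      exact e.symm
    exact ha₀1 this
  obtain ⟨N, hN⟩ : ∃ N : Subgroup G, N = Subgroup.centralizer (A : Set G) := ⟨_, rfl⟩
  haveI hNn : N.Normal := by rw [hN]; infer_instance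
  have hmemN : ∀ g : G, g ∈ N ↔ ∀ a ∈ A, g * a * g⁻¹ = a := by
    intro g
    rw [hN, Subgroup.mem_centralizer_iff]
    constructor
    · intro h a ha
      rw [← h a ha]; group
    · intro h a ha
      have := h a ha
      calc a * g = (g * a * g⁻¹) * g := by rw [this]
        _ = g * a := by group
  -- elements of N have cube one
  have hN3 : ∀ g ∈ N, g ^ 3 = 1 := by
    intro g hg
    rcases sp4_pow_cases hord g with h | h
    · have hc : Commute g a₀ := by
        have := (hmemN g).1 hg a₀ ha₀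
        show g * a₀ = a₀ * g
        calc g * a₀ = (g * a₀ * g⁻¹) * g := by group
          _ = a₀ * g := by rw [this]
      rcases sp4_no_six hord hc h (hA3 a₀ ha₀) with h' | h'
      · rw [h', one_pow]
      · exact absurd h' ha₀1
    · exact h.1
  have hzN : z ∉ N := by
    intro h
    exact hnot z (hinvA z hz2 hz1) ((hmemN z).1 h)
  -- product of two inverting elements lies in N
  have hprodN : ∀ u v : G, (∀ a ∈ A, u * a * u⁻¹ = a⁻¹) → (∀ a ∈ A, v * a * v⁻¹ = a⁻¹) → u * v ∈ N := by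
    intro u v hu hv
    rw [hmemN]
    intro a ha
    calc u * v * a * (u * v)⁻¹ = u * (v * a * v⁻¹) * u⁻¹ := by group
      _ = u * a⁻¹ * u⁻¹ := by rw [hv a ha]
      _ = (u * a * u⁻¹)⁻¹ := by group
      _ = a := by rw [hu a ha, inv_inv]
  -- elements of cube one lie in N
  have hcubeN : ∀ g : G, g ^ 3 = 1 → g ∈ N := by
    intro g hg
    -- the commutator of g and z is in N
    have hc : g * z * g⁻¹ * z⁻¹ ∈ N := by
      have h1 : ∀ a ∈ A, (g * z * g⁻¹) * a * (g * z * g⁻¹)⁻¹ = a⁻¹ := by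
        refine hinvA _ ?_ ?_
        · calc g * z * g⁻¹ * (g * z * g⁻¹) = g * (z * z) * g⁻¹ := by group
            _ = 1 := by rw [hz2]; group
        · intro h
          apply hz1
          calc z = g⁻¹ * (g * z * g⁻¹) * g := by group
            _ = 1 := by rw [h]; group
      have h2 : ∀ a ∈ A, z⁻¹ * a * z⁻¹⁻¹ = a⁻¹ := by
        have : z⁻¹ = z := inv_eq_of_mul_eq_one_left hz2
        rw [this]; exact hinvA z hz2 hz1
      exact hprodN _ _ h1 h2
    have hcomm : Commute ((QuotientGroup.mk' N) g) ((QuotientGroup.mk' N) z) := by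
      have : (QuotientGroup.mk' N) (g * z * g⁻¹ * z⁻¹) = 1 := by
        rw [QuotientGroup.mk'_apply, QuotientGroup.eq_one_iff]; exact hc
      rw [map_mul, map_mul, map_mul, map_inv, map_inv] at this
      show (QuotientGroup.mk' N) g * (QuotientGroup.mk' N) z = (QuotientGroup.mk' N) z * (QuotientGroup.mk' N) g
      calc (QuotientGroup.mk' N) g * (QuotientGroup.mk' N) z
          = ((QuotientGroup.mk' N) g * (QuotientGroup.mk' N) z * ((QuotientGroup.mk' N) g)⁻¹ *
              ((QuotientGroup.mk' N) z)⁻¹) * ((QuotientGroup.mk' N) z * (QuotientGroup.mk' N) g) := by group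
        _ = (QuotientGroup.mk' N) z * (QuotientGroup.mk' N) g := by rw [this, one_mul]
    have hg3 : ((QuotientGroup.mk' N) g) ^ 3 = 1 := by rw [← map_pow, hg, map_one]
    have hzz : ((QuotientGroup.mk' N) z) ^ 2 = 1 := by rw [← map_pow, pow_two, hz2, map_one]
    rcases sp4_pow_cases hord (g * z) with h | h
    · -- (g z)^4 = 1
      have : ((QuotientGroup.mk' N) (g * z)) ^ 4 = 1 := by rw [← map_pow, h, map_one]
      rw [map_mul, hcomm.mul_pow] at this
      have e1 : ((QuotientGroup.mk' N) z) ^ 4 = 1 := by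
        calc ((QuotientGroup.mk' N) z) ^ 4 = (((QuotientGroup.mk' N) z) ^ 2) ^ 2 := by rw [← pow_mul]
          _ = 1 := by rw [hzz, one_pow]
      rw [e1, mul_one] at this
      have : (QuotientGroup.mk' N) g = 1 := sp4_eq_one_of_pow' this hg3
      rw [QuotientGroup.mk'_apply, QuotientGroup.eq_one_iff] at this
      exact this
    · exfalso
      have : ((QuotientGroup.mk' N) (g * z)) ^ 3 = 1 := by rw [← map_pow, h.1, map_one]
      rw [map_mul, hcomm.mul_pow, hg3, one_mul] at this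
      have e : ((QuotientGroup.mk' N) z) ^ 3 = ((QuotientGroup.mk' N) z) ^ 2 * (QuotientGroup.mk' N) z :=
        pow_succ _ 2
      rw [e, hzz, one_mul] at this
      rw [QuotientGroup.mk'_apply, QuotientGroup.eq_one_iff] at this
      exact hzN this
  -- N is elementary abelian
  have hNinv : ∀ n ∈ N, z * n * z⁻¹ = n⁻¹ := by
    refine sp4_inverts N z hz2 ?_
    intro n hn hcomm
    have hz4 : z ^ 4 = 1 := sp4_pow4_of_sq hz2
    rcases sp4_no_six hord (show Commute z n from hcomm) hz4 (hN3 n hn) with h | h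
    · exact absurd h hz1
    · exact h
  have hNcomm : ∀ a ∈ N, ∀ b ∈ N, a * b = b * a := by
    intro a ha b hb
    have h1 := hNinv (a * b) (N.mul_mem ha hb)
    have h2 : z * (a * b) * z⁻¹ = (z * a * z⁻¹) * (z * b * z⁻¹) := by group
    rw [h2, hNinv a ha, hNinv b hb] at h1
    have h3 : (a⁻¹ * b⁻¹)⁻¹ = ((a * b)⁻¹)⁻¹ := by rw [h1]
    rw [mul_inv_rev, inv_inv, inv_inv, inv_inv] at h3
    exact h3.symm
  refine ⟨N, hNn, ⟨⟨⟨fun a b => Subtype.ext (hNcomm a a.2 b b.2)⟩⟩, hN3⟩, ?_⟩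
  -- the quotient
  have hQ4 : ∀ q : G ⧸ N, q ^ 4 = 1 := by
    intro q
    obtain ⟨g, rfl⟩ := QuotientGroup.mk'_surjective N q
    rcases sp4_pow_cases hord g with h | h
    · rw [← map_pow, h, map_one]
    · have : g ∈ N := hcubeN g h.1
      have : (QuotientGroup.mk' N) g = 1 := by
        rw [QuotientGroup.mk'_apply, QuotientGroup.eq_one_iff]; exact this
      rw [this, one_pow]
  have hzbar1 : (QuotientGroup.mk' N) z ≠ 1 := by
    intro h
    rw [QuotientGroup.mk'_apply, QuotientGroup.eq_one_iff] at h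
    exact hzN h
  have hzbar2 : ((QuotientGroup.mk' N) z) ^ 2 = 1 := by rw [← map_pow, pow_two, hz2, map_one]
  have huniq : ∀ q : G ⧸ N, q ^ 2 = 1 → q = 1 ∨ q = (QuotientGroup.mk' N) z := by
    intro q hq
    obtain ⟨g, rfl⟩ := QuotientGroup.mk'_surjective N q
    by_cases hgN : g ∈ N
    · left
      rw [QuotientGroup.mk'_apply, QuotientGroup.eq_one_iff]; exact hgN
    · right
      have hg4 : g ^ 4 = 1 := by
        rcases sp4_pow_cases hord g with h | h
        · exact h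
        · exact absurd (hcubeN g h.1) hgN
      have hg2N : g ^ 2 ∈ N := by
        rw [← map_pow, QuotientGroup.mk'_apply, QuotientGroup.eq_one_iff] at hq
        exact hq
      have hg2 : g ^ 2 = 1 := by
        have h3 := hN3 _ hg2N
        have h4 : (g ^ 2) ^ 4 = 1 := by rw [← pow_mul, mul_comm, pow_mul, hg4, one_pow]
        exact sp4_eq_one_of_pow' h4 h3
      have hg1 : g ≠ 1 := fun h => hgN (h ▸ N.one_mem)
      rw [pow_two] at hg2
      have h1 := hinvA g hg2 hg1
      have h2 : ∀ a ∈ A, z⁻¹ * a * z⁻¹⁻¹ = a⁻¹ := by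
        have : z⁻¹ = z := inv_eq_of_mul_eq_one_left hz2
        rw [this]; exact hinvA z hz2 hz1
      have := hprodN g z⁻¹ h1 h2
      rw [QuotientGroup.mk'_apply, QuotientGroup.mk'_apply, QuotientGroup.eq]
      have e : g⁻¹ * z = (z⁻¹ * g)⁻¹ := by group
      rw [e]
      apply N.inv_mem
      -- z⁻¹ * g ∈ N
      exact hprodN z⁻¹ g h2 h1
  have hy4 : y ^ 4 = 1 := by rw [← hy]; exact pow_orderOf_eq_one y
  have hy2 : y ^ 2 ≠ 1 := by
    intro h
    have := orderOf_dvd_of_pow_eq_one h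
    rw [hy] at this; omega
  have hybar : orderOf ((QuotientGroup.mk' N) y) = 4 := by
    have h1 : ¬ ((QuotientGroup.mk' N) y) ^ 2 ^ 1 = 1 := by
      rw [pow_one, ← map_pow, QuotientGroup.mk'_apply, QuotientGroup.eq_one_iff]
      intro h
      have h3 := hN3 _ h
      have h4 : (y ^ 2) ^ 4 = 1 := by rw [← pow_mul, mul_comm, pow_mul, hy4, one_pow]
      exact hy2 (sp4_eq_one_of_pow' h4 h3)
    have h2 : ((QuotientGroup.mk' N) y) ^ 2 ^ (1 + 1) = 1 := by
      rw [← map_pow]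
      have : y ^ 2 ^ (1 + 1) = 1 := by
        calc y ^ 2 ^ (1 + 1) = y ^ 4 := by norm_num
          _ = 1 := hy4
      rw [this, map_one]
    have := orderOf_eq_prime_pow h1 h2
    rw [this]; norm_num
  rcases sp4_quat hQ4 _ hzbar1 hzbar2 huniq _ hybar with h | h
  · left
    refine ⟨h.1, ?_⟩
    rw [Subgroup.index_eq_card]; exact h.2
  · right; exact h

theorem sp4_main {G : Type*} [Group G] [Finite G]
    (h : Set.range (orderOf : G → ℕ) = {k : ℕ | 1 ≤ k ∧ k ≤ 4}) :
    ∃ (N : Subgroup G) (_ : N.Normal),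
      (IsPGroup 2 ↥N ∧ Monoid.exponent ↥N = 4 ∧ Group.nilpotencyClass ↥N ≤ 2 ∧ N.index = 3) ∨
      (Cfsg.IsElementaryAbelian 2 N ∧ Nonempty (G ⧸ N ≃* Equiv.Perm (Fin 3))) ∨
      (Cfsg.IsElementaryAbelian 3 N ∧ ((IsCyclic (G ⧸ N) ∧ N.index = 4) ∨
        Nonempty (G ⧸ N ≃* QuaternionGroup 2))) := by
  have hord : ∀ g : G, orderOf g ≤ 4 := by
    intro g
    have : orderOf g ∈ Set.range (orderOf : G → ℕ) := ⟨g, rfl⟩
    rw [h] at this
    exact this.2
  obtain ⟨z, hz⟩ : ∃ z : G, orderOf z = 2 := by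
    have : (2 : ℕ) ∈ {k : ℕ | 1 ≤ k ∧ k ≤ 4} := ⟨by norm_num, by norm_num⟩
    rw [← h] at this
    exact this
  obtain ⟨x₀, hx₀⟩ : ∃ x : G, orderOf x = 3 := by
    have : (3 : ℕ) ∈ {k : ℕ | 1 ≤ k ∧ k ≤ 4} := ⟨by norm_num, by norm_num⟩
    rw [← h] at this
    exact this
  obtain ⟨y, hy⟩ : ∃ y : G, orderOf y = 4 := by
    have : (4 : ℕ) ∈ {k : ℕ | 1 ≤ k ∧ k ≤ 4} := ⟨by norm_num, by norm_num⟩
    rw [← h] at this
    exact this
  obtain ⟨a, b, hcard⟩ := sp4_card_eq hord
  haveI hsolv : Group.IsSolvable G :=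
    Cfsg.Agent.Lib.Helper4.isSolvable_of_card_pq 2 3 a b Nat.prime_two Nat.prime_three hcard
  have hz1 : z ≠ 1 := by
    intro h1; rw [h1, orderOf_one] at hz; omega
  have htop : (⊤ : Subgroup G) ≠ ⊥ := by
    intro h1
    have : z ∈ (⊥ : Subgroup G) := by rw [← h1]; exact Subgroup.mem_top z
    exact hz1 (Subgroup.mem_bot.1 this)
  obtain ⟨V, p, hVn, hV1, hp, hVp⟩ :=
    Cfsg.Agent.Lib.Helper10.exists_normal_prime_exponent (⊤ : Subgroup G) htop inferInstance
  haveI := hVn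
  have hVp' : ∀ v ∈ V, v ^ p = 1 := by
    intro v hv
    have := congrArg Subtype.val (hVp ⟨v, hv⟩)
    simpa using this
  obtain ⟨v, hvV, hv1⟩ : ∃ v ∈ V, v ≠ 1 := by
    by_contra hcon
    push Not at hcon
    exact hV1 ((Subgroup.eq_bot_iff_forall V).2 hcon)
  have hp23 : p = 2 ∨ p = 3 := by
    haveI : Fact p.Prime := ⟨hp⟩
    have ho : orderOf v = p := orderOf_eq_prime (hVp' v hvV) hv1
    have h1 := hord v
    rw [ho] at h1
    have h2 := hp.two_le
    have : p ≠ 4 := by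
      intro h4; rw [h4] at hp; exact absurd hp (by decide)
    omega
  rcases hp23 with rfl | rfl
  · obtain ⟨N, hNn, hN⟩ := sp4_case2 hord x₀ hx₀ y hy V hV1 hVp'
    refine ⟨N, hNn, ?_⟩
    rcases hN with h1 | h1
    · exact Or.inl h1
    · exact Or.inr (Or.inl h1)
  · obtain ⟨N, hNn, hN⟩ := sp4_case3 hord z hz y hy V hV1 hVp'
    exact ⟨N, hNn, Or.inr (Or.inr hN)⟩

end Cfsg.Agent.Lib.Helper20
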