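import Mathlib
import Cfsg.Agent.S1018
import Cfsg.Agent.S1019
import Cfsg.Agent.Lib.Helper9.ClassSize

set_option linter.style.haveILetI false
set_option linter.unusedVariables false
set_option linter.unusedSectionVars false
set_option autoImplicit false

namespace Cfsg.Agent.Lib.Helper20

open scoped Classical

section general

variable {G : Type*} [Group G]

/-- Conjugate elements have the same number of fixed points. -/
theorem sf_card_fixedBy_conj {α : Type*} [MulAction G α] (g x : G) :
    Nat.card (MulAction.fixedBy α (g * x * g⁻¹)) = Nat.card (MulAction.fixedBy α x) := by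
  apply Nat.card_congr
  refine ⟨fun a => ⟨g⁻¹ • a.1, ?_⟩, fun a => ⟨g • a.1, ?_⟩, ?_, ?_⟩
  · have h := a.2
    rw [MulAction.mem_fixedBy] at h ⊢
    conv_rhs => rw [← h]
    simp only [mul_smul, inv_smul_smul]
  · have h := a.2
    rw [MulAction.mem_fixedBy] at h ⊢
    simp only [mul_smul, inv_smul_smul, h]
  · intro a
    apply Subtype.ext
    simp
  · intro a
    apply Subtype.ext
    simp

theorem sf_toPerm_pow {α : Type*} [MulAction G α] (t : G) (n : ℕ) :
    (MulAction.toPerm t : Equiv.Perm α) ^ n = MulAction.toPerm (t ^ n) := by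
  show (MulAction.toPermHom G α t) ^ n = MulAction.toPermHom G α (t ^ n)
  rw [map_pow]

theorem sf_card_fixedBy_eq {α : Type*} [MulAction G α] [Fintype α] (t : G) :
    Nat.card (MulAction.fixedBy α t) =
      Fintype.card (Function.fixedPoints (MulAction.toPerm t : Equiv.Perm α)) := by
  rw [← Nat.card_eq_fintype_card]
  rfl

theorem sf_card_fixedPoints_eq {α : Type*} [Fintype α] (σ : Equiv.Perm α) :
    Fintype.card (Function.fixedPoints σ) = σ.supportᶜ.card := by
  rw [← Fintype.card_coe]
  apply Fintype.card_congr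
  apply Equiv.subtypeEquivRight
  intro a
  simp [Function.IsFixedPt]

/-- For an element with `t ^ q = 1`, `q` prime, the number of fixed points is congruent to the
degree. -/
theorem sf_card_fixedBy_modEq {α : Type*} [MulAction G α] [Finite α] (t : G) (q : ℕ)
    [hq : Fact q.Prime] (ht : t ^ q = 1) :
    Nat.card α ≡ Nat.card (MulAction.fixedBy α t) [MOD q] := by
  haveI := Fintype.ofFinite α
  have h1 : (MulAction.toPerm t : Equiv.Perm α) ^ q ^ 1 = 1 := by
    rw [pow_one, sf_toPerm_pow, ht]
    exact map_one (MulAction.toPermHom G α)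
  have h := Equiv.Perm.card_compl_support_modEq h1
  rw [Nat.card_eq_fintype_card, sf_card_fixedBy_eq, sf_card_fixedPoints_eq]
  exact h.symm

/-- Sign of an involution in terms of fixed points. -/
theorem sf_sign_involution {α : Type*} [MulAction G α] [Fintype α] (t : G) (ht : t ^ 2 = 1) :
    Equiv.Perm.sign (MulAction.toPerm t : Equiv.Perm α) =
      (-1) ^ ((Fintype.card α - Nat.card (MulAction.fixedBy α t)) / 2) := by
  have h1 : (MulAction.toPerm t : Equiv.Perm α) ^ 2 = 1 := by
    rw [sf_toPerm_pow, ht]
    exact map_one (MulAction.toPermHom G α)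
  rw [Equiv.Perm.sign_of_pow_two_eq_one h1, sf_card_fixedBy_eq]

/-- In a simple group of order greater than two, every element acts as an even permutation. -/
theorem sf_sign_eq_one [Finite G] [IsSimpleGroup G] (hG : 2 < Nat.card G)
    {α : Type*} [MulAction G α] [Fintype α] (t : G) :
    Equiv.Perm.sign (MulAction.toPerm t : Equiv.Perm α) = 1 := by
  obtain ⟨φ, hφ⟩ : ∃ φ : G →* ℤˣ, φ = (Equiv.Perm.sign).comp (MulAction.toPermHom G α) := ⟨_, rfl⟩
  have hker : φ.ker = ⊤ := by
    rcases IsSimpleGroup.eq_bot_or_eq_top_of_normal φ.ker inferInstance with h | h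
    · exfalso
      have hinj : Function.Injective φ := (MonoidHom.ker_eq_bot_iff φ).mp h
      have hle := Nat.card_le_card_of_injective φ hinj
      have : Nat.card ℤˣ = 2 := by
        rw [Nat.card_eq_fintype_card]; rfl
      omega
    · exact h
  have : t ∈ φ.ker := by rw [hker]; trivial
  rw [MonoidHom.mem_ker, hφ] at this
  exact this

end general



section sylow

variable {G : Type*} [Group G] [Finite G] {p : ℕ} [hp : Fact p.Prime]

/-- Class equation in the form used by `S1019`. -/
theorem sf_card_conj_mul_card_centralizer (x : G) :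
    Nat.card {g : G // IsConj x g} * Nat.card (Subgroup.centralizer ({x} : Set G)) =
      Nat.card G := by
  rw [← Cfsg.Agent.Lib.Helper9.card_carrier_mul_card_centralizer x]
  congr 1

/-- The number of orbits of a Sylow subgroup of order `p` on the cosets of its normalizer. -/
theorem sf_card_orbits (P : Sylow p G) (hP : Nat.card ↥(P : Subgroup G) = p) :
    Nat.card (MulAction.orbitRel.Quotient ↥(P : Subgroup G)
      (G ⧸ Subgroup.normalizer ((P : Subgroup G) : Set G))) * p =
      (Subgroup.normalizer ((P : Subgroup G) : Set G)).index + (p - 1) := by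
  obtain ⟨N, hN⟩ : ∃ N : Subgroup G, N = Subgroup.normalizer ((P : Subgroup G) : Set G) :=
    ⟨_, rfl⟩
  rw [← hN]
  haveI := Fintype.ofFinite ↥(P : Subgroup G)
  haveI := Fintype.ofFinite (G ⧸ N)
  have hB := MulAction.sum_card_fixedBy_eq_card_orbits_mul_card_group ↥(P : Subgroup G) (G ⧸ N)
  have hfix : ∀ a : ↥(P : Subgroup G), a ≠ 1 → Fintype.card (MulAction.fixedBy (G ⧸ N) a) = 1 := by
    intro a ha
    have hord : orderOf (a : G) = p := by
      rw [Subgroup.orderOf_coe]
      have h1 : orderOf a ∣ p := by
        have h0 := orderOf_dvd_natCard a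
        rw [hP] at h0
        exact h0
      rcases (Nat.dvd_prime hp.out).mp h1 with h | h
      · exfalso; exact ha (orderOf_eq_one_iff.mp h)
      · exact h
    have := (Cfsg.Agent.S1018.result p P hP).1 (a : G) hord
    rw [← hN] at this
    rw [← Nat.card_eq_fintype_card]
    exact this
  have hone : Fintype.card (MulAction.fixedBy (G ⧸ N) (1 : ↥(P : Subgroup G))) = N.index := by
    rw [← Nat.card_eq_fintype_card, Subgroup.index]
    apply Nat.card_congr
    exact (Equiv.subtypeUnivEquiv (fun x => by simp))
  rw [← Finset.add_sum_erase _ _ (Finset.mem_univ (1 : ↥(P : Subgroup G))), hone,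
    Finset.sum_congr rfl (fun a ha => hfix a (Finset.ne_of_mem_erase ha)), Finset.sum_const,
    Finset.card_erase_of_mem (Finset.mem_univ _), Finset.card_univ, ← Nat.card_eq_fintype_card,
    ← Nat.card_eq_fintype_card] at hB
  rw [hP] at hB
  simp only [smul_eq_mul, mul_one] at hB
  rw [← hB]

end sylow



section sylow

variable {G : Type*} [Group G] [Finite G] {p : ℕ} [hp : Fact p.Prime]

theorem sf_centralizer_le_normalizer (H : Subgroup G) :
    Subgroup.centralizer (H : Set G) ≤ Subgroup.normalizer (H : Set G) := by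
  intro c hc
  rw [Subgroup.mem_normalizer_iff]
  intro h
  have key : ∀ x ∈ H, c * x * c⁻¹ = x := by
    intro x hx
    have := Subgroup.mem_centralizer_iff.mp hc x hx
    rw [← this]; group
  constructor
  · intro hh
    rw [key h hh]; exact hh
  · intro hh
    have h2 := key _ hh
    have h3 : c * h * c⁻¹ = h := by
      have : c * (c * h * c⁻¹) * c⁻¹ = c * h * c⁻¹ := h2
      have e : h = c⁻¹ * (c * h * c⁻¹) * c := by group
      calc c * h * c⁻¹ = c⁻¹ * (c * (c * h * c⁻¹) * c⁻¹) * c := by group
        _ = c⁻¹ * (c * h * c⁻¹) * c := by rw [this]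
        _ = h := by group
    rw [h3] at hh; exact hh

/-- An element centralizing a Sylow subgroup `P` of order `p` has `≡ 1 (mod p)` fixed points on
the cosets of `N(P)`. -/
theorem sf_card_fixedBy_centralizer (P : Sylow p G) (hP : Nat.card ↥(P : Subgroup G) = p)
    (t : G) (ht : t ∈ Subgroup.centralizer ((P : Subgroup G) : Set G)) :
    Nat.card (MulAction.fixedBy (G ⧸ Subgroup.normalizer ((P : Subgroup G) : Set G)) t) ≡ 1
      [MOD p] := by
  obtain ⟨N, hN⟩ : ∃ N : Subgroup G, N = Subgroup.normalizer ((P : Subgroup G) : Set G) :=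
    ⟨_, rfl⟩
  have htN : t ∈ N := hN ▸ sf_centralizer_le_normalizer _ ht
  have hPN : (P : Subgroup G) ≤ N := hN ▸ Subgroup.le_normalizer
  -- a generator
  have hne : ∃ y : G, y ∈ (P : Subgroup G) ∧ y ≠ 1 := by
    by_contra hcon
    push Not at hcon
    have : (P : Subgroup G) = ⊥ := by
      rw [Subgroup.eq_bot_iff_forall]; exact hcon
    rw [this, Subgroup.card_bot] at hP
    exact hp.out.one_lt.ne hP
  obtain ⟨y, hyP, hy1⟩ := hne
  have hyord : orderOf y = p := by
    have h0 : orderOf (⟨y, hyP⟩ : ↥(P : Subgroup G)) ∣ p := by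
      have := orderOf_dvd_natCard (⟨y, hyP⟩ : ↥(P : Subgroup G))
      rw [hP] at this; exact this
    have h1 : orderOf y ∣ p := by
      rw [← Subgroup.orderOf_mk y hyP]; exact h0
    rcases (Nat.dvd_prime hp.out).mp h1 with h | h
    · exfalso; exact hy1 (orderOf_eq_one_iff.mp h)
    · exact h
  have hcomm : t * y = y * t := (Subgroup.mem_centralizer_iff.mp ht y hyP).symm
  have hyfix := (Cfsg.Agent.S1018.result p P hP).1 y hyord
  rw [← hN] at hyfix ⊢
  haveI := Fintype.ofFinite (G ⧸ N)
  -- the restriction of y to the fixed points of t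
  have hinv : ∀ ω : G ⧸ N, (MulAction.toPerm y : Equiv.Perm (G ⧸ N)) ω ∈
      MulAction.fixedBy (G ⧸ N) t ↔ ω ∈ MulAction.fixedBy (G ⧸ N) t := by
    intro ω
    show y • ω ∈ MulAction.fixedBy (G ⧸ N) t ↔ ω ∈ MulAction.fixedBy (G ⧸ N) t
    rw [MulAction.mem_fixedBy, MulAction.mem_fixedBy, ← mul_smul, hcomm, mul_smul]
    exact smul_left_cancel_iff y
  obtain ⟨σ, hσ⟩ : ∃ σ : Equiv.Perm (MulAction.fixedBy (G ⧸ N) t),
      σ = (MulAction.toPerm y : Equiv.Perm (G ⧸ N)).subtypePerm
        (p := fun ω => ω ∈ MulAction.fixedBy (G ⧸ N) t) hinv := ⟨_, rfl⟩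
  have hσpow : σ ^ p ^ 1 = 1 := by
    rw [pow_one, hσ]
    ext ω
    rw [Equiv.Perm.subtypePerm_pow]
    simp only [Equiv.Perm.subtypePerm_apply, Equiv.Perm.coe_one, id_eq]
    have : (MulAction.toPerm y : Equiv.Perm (G ⧸ N)) ^ p = 1 := by
      show (MulAction.toPermHom G (G ⧸ N) y) ^ p = 1
      rw [← map_pow, ← hyord, pow_orderOf_eq_one, map_one]
    rw [this]; rfl
  have hmod := Equiv.Perm.card_compl_support_modEq hσpow
  rw [Nat.card_eq_fintype_card]
  refine hmod.symm.trans ?_
  -- the fixed points of σ
  have hone : σ.supportᶜ.card = 1 := by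
    rw [Finset.card_eq_one]
    have hω0 : ((1 : G) : G ⧸ N) ∈ MulAction.fixedBy (G ⧸ N) t := by
      rw [MulAction.mem_fixedBy]
      show ((t * 1 : G) : G ⧸ N) = _
      rw [QuotientGroup.eq]
      simpa using N.inv_mem htN
    refine ⟨⟨_, hω0⟩, ?_⟩
    ext ω
    rw [Finset.mem_compl, Equiv.Perm.mem_support, not_not, Finset.mem_singleton, hσ]
    have hsub : Subsingleton (MulAction.fixedBy (G ⧸ N) y) :=
      (Nat.card_eq_one_iff_unique.mp hyfix).1
    have hy0 : ((1 : G) : G ⧸ N) ∈ MulAction.fixedBy (G ⧸ N) y := by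
      rw [MulAction.mem_fixedBy]
      show ((y * 1 : G) : G ⧸ N) = _
      rw [QuotientGroup.eq]
      simpa using N.inv_mem (hPN hyP)
    constructor
    · intro h
      have h1 : y • ω.1 = ω.1 := congrArg Subtype.val h
      have h2 : (⟨ω.1, h1⟩ : MulAction.fixedBy (G ⧸ N) y) = ⟨_, hy0⟩ := Subsingleton.elim _ _
      have h3 : ω.1 = ((1 : G) : G ⧸ N) := congrArg Subtype.val h2
      apply Subtype.ext
      exact h3
    · intro h
      rw [h]
      apply Subtype.ext
      show y • ((1 : G) : G ⧸ N) = _
      exact hy0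
  rw [hone]

/-- The index of the centralizer of a Sylow subgroup of order `p` in its normalizer
divides `p - 1`. -/
theorem sf_relIndex_dvd (P : Sylow p G) (hP : Nat.card ↥(P : Subgroup G) = p) :
    (Subgroup.centralizer ((P : Subgroup G) : Set G)).relIndex
      (Subgroup.normalizer ((P : Subgroup G) : Set G)) ∣ p - 1 := by
  have key := Subgroup.card_dvd_of_injective _
    (QuotientGroup.kerLift_injective (P : Subgroup G).normalizerMonoidHom)
  rw [Subgroup.normalizerMonoidHom_ker, ← Subgroup.index, ← Subgroup.relIndex] at key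
  haveI : IsCyclic ↥(P : Subgroup G) := by
    haveI : Fact (Nat.card ↥(P : Subgroup G)).Prime := ⟨by rw [hP]; exact hp.out⟩
    exact isCyclic_of_prime_card rfl
  rw [IsCyclic.card_mulAut, hP, Nat.totient_prime hp.out] at key
  exact key

end sylow



section misc

/-- If all classes of an equivalence relation on a finite type have even size, the type has even
size. -/
theorem sf_even_card_of_classes {X : Type*} [Finite X] (r : Setoid X)
    (h : ∀ x : X, Even (Nat.card {y : X // r x y})) : Even (Nat.card X) := by
  haveI := Fintype.ofFinite X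
  have e := Equiv.sigmaFiberEquiv (fun x : X => (Quotient.mk r x))
  rw [← Nat.card_congr e, Nat.card_eq_fintype_card, Fintype.card_sigma]
  apply Finset.even_sum
  intro q _
  induction q using Quotient.inductionOn with
  | h x0 =>
    have h0 := h x0
    rw [← Nat.card_eq_fintype_card]
    have : Nat.card {x : X // Quotient.mk r x = Quotient.mk r x0} = Nat.card {y : X // r x0 y} := by
      apply Nat.card_congr
      apply Equiv.subtypeEquivRight
      intro y
      rw [Quotient.eq]
      exact ⟨fun h => r.symm h, fun h => r.symm h⟩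
    rw [this]
    exact h0

/-- A finite group of even order has an odd number of involutions. -/
theorem sf_odd_card_involutions {C : Type*} [Group C] [Finite C] (h : Even (Nat.card C)) :
    Odd (Nat.card {x : C // orderOf x = 2}) := by
  haveI := Fintype.ofFinite C
  obtain ⟨σ, hσ⟩ : ∃ σ : Equiv.Perm C, σ = Equiv.inv C := ⟨_, rfl⟩
  haveI : Fact (Nat.Prime 2) := ⟨Nat.prime_two⟩
  have hσ2 : σ ^ 2 ^ 1 = 1 := by
    rw [pow_one, hσ]
    ext x
    simp [pow_two]
  have hmod := Equiv.Perm.card_compl_support_modEq hσ2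
  rw [← Nat.card_eq_fintype_card] at hmod
  have hfix : σ.supportᶜ.card = Nat.card {x : C // orderOf x = 2} + 1 := by
    have h1 : σ.supportᶜ = insert (1 : C) (Finset.univ.filter (fun x : C => orderOf x = 2)) := by
      ext x
      rw [Finset.mem_compl, Equiv.Perm.mem_support, not_not, hσ, Finset.mem_insert,
        Finset.mem_filter]
      simp only [Equiv.inv_apply, Finset.mem_univ, true_and]
      constructor
      · intro hx
        by_cases hx1 : x = 1
        · left; exact hx1
        · right
          have hx2 : x ^ 2 = 1 := by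
            rw [pow_two]
            nth_rewrite 1 [← hx]
            exact inv_mul_cancel x
          exact orderOf_eq_prime hx2 hx1
      · rintro (hx | hx)
        · rw [hx]; simp
        · have hx2 : x ^ 2 = 1 := by rw [← hx]; exact pow_orderOf_eq_one x
          rw [pow_two] at hx2
          exact inv_eq_of_mul_eq_one_left hx2
    rw [h1, Finset.card_insert_of_notMem, Nat.card_eq_fintype_card, Fintype.card_subtype]
    rw [Finset.mem_filter]
    intro hcon
    rw [orderOf_one] at hcon
    omega
  rw [hfix] at hmod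
  have h2 : (Nat.card {x : C // orderOf x = 2} + 1) % 2 = Nat.card C % 2 := hmod
  rw [Nat.even_iff] at h
  rw [Nat.odd_iff]
  omega

end misc


end Cfsg.Agent.Lib.Helper20
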