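import Cfsg.Agent.Lib.Helper20.SylowFix

set_option linter.style.haveILetI false
set_option linter.unusedVariables false
set_option linter.unusedSectionVars false
set_option autoImplicit false

namespace Cfsg.Agent.Lib.Helper20

open scoped Classical

section main

variable {G : Type*} [Group G] [Finite G] {p : ℕ} [hp : Fact p.Prime]

/-- In a simple group, an element fixing every coset of a proper subgroup is trivial. -/
theorem sf_eq_one_of_card_fixedBy [IsSimpleGroup G] (N : Subgroup G) (hN : N ≠ ⊤) (s : G)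
    (h : Nat.card (MulAction.fixedBy (G ⧸ N) s) = N.index) : s = 1 := by
  haveI := Fintype.ofFinite (G ⧸ N)
  have hall : ∀ ω : G ⧸ N, s • ω = ω := by
    have h1 : (Finset.univ.filter (fun ω : G ⧸ N => s • ω = ω)) = Finset.univ := by
      apply Finset.eq_univ_of_card
      rw [← Fintype.card_subtype, ← Nat.card_eq_fintype_card, ← Nat.card_eq_fintype_card]
      rw [← Subgroup.index] at *
      exact h
    intro ω
    have : ω ∈ Finset.univ.filter (fun ω : G ⧸ N => s • ω = ω) := by rw [h1]; exact Finset.mem_univ _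
    exact (Finset.mem_filter.mp this).2
  have hker : s ∈ N.normalCore := by
    rw [Subgroup.normalCore_eq_ker, MonoidHom.mem_ker]
    ext ω
    exact hall ω
  have hcore : N.normalCore = ⊥ := by
    rcases IsSimpleGroup.eq_bot_or_eq_top_of_normal N.normalCore inferInstance with h | h
    · exact h
    · exfalso
      apply hN
      rw [eq_top_iff, ← h]
      exact Subgroup.normalCore_le N
  rw [hcore, Subgroup.mem_bot] at hker
  exact hker


/-- The number of fixed points of an involution centralizing `P`. -/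
theorem sf_card_fixedBy_involution [IsSimpleGroup G] (hG2 : 2 < Nat.card G) (P : Sylow p G)
    (hP : Nat.card ↥(P : Subgroup G) = p)
    (hNtop : Subgroup.normalizer ((P : Subgroup G) : Set G) ≠ ⊤) (f : ℕ)
    (hf : ∀ f' : ℕ, f' ≡ 1 [MOD p] →
      f' ≡ (Subgroup.normalizer ((P : Subgroup G) : Set G)).index [MOD 4] →
      f' < (Subgroup.normalizer ((P : Subgroup G) : Set G)).index → f' = f)
    (s : G) (hsC : s ∈ Subgroup.centralizer ((P : Subgroup G) : Set G)) (hs2 : orderOf s = 2) :
    Nat.card (MulAction.fixedBy (G ⧸ Subgroup.normalizer ((P : Subgroup G) : Set G)) s) = f := by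
  obtain ⟨N, hN⟩ : ∃ N : Subgroup G, N = Subgroup.normalizer ((P : Subgroup G) : Set G) :=
    ⟨_, rfl⟩
  have h1 := sf_card_fixedBy_centralizer P hP s hsC
  rw [← hN] at h1 hf hNtop ⊢
  haveI := Fintype.ofFinite (G ⧸ N)
  haveI : Fact (Nat.Prime 2) := ⟨Nat.prime_two⟩
  have hs2' : s ^ 2 = 1 := by rw [← hs2]; exact pow_orderOf_eq_one s
  have h2 := sf_card_fixedBy_modEq (α := G ⧸ N) s 2 hs2'
  have hcardΩ : Nat.card (G ⧸ N) = N.index := rfl
  rw [hcardΩ] at h2
  have hle : Nat.card (MulAction.fixedBy (G ⧸ N) s) ≤ N.index := by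
    rw [← hcardΩ]
    exact Nat.card_le_card_of_injective _ Subtype.val_injective
  have hsign := sf_sign_eq_one hG2 (α := G ⧸ N) s
  rw [sf_sign_involution s hs2', ← Nat.card_eq_fintype_card, hcardΩ] at hsign
  have heven : Even ((N.index - Nat.card (MulAction.fixedBy (G ⧸ N) s)) / 2) := by
    rw [← neg_one_pow_eq_one_iff_even (R := ℤˣ) (by decide)]
    exact hsign
  obtain ⟨F, hF⟩ : ∃ F : ℕ, F = Nat.card (MulAction.fixedBy (G ⧸ N) s) := ⟨_, rfl⟩
  rw [← hF] at h1 h2 hle heven ⊢
  have h4 : F ≡ N.index [MOD 4] := by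
    have h2' : N.index % 2 = F % 2 := h2
    obtain ⟨j, hj⟩ := heven
    have : (N.index - F) % 2 = 0 := by omega
    have h5 : N.index - F = 4 * j := by omega
    show F % 4 = N.index % 4
    omega
  have hne : F ≠ N.index := by
    intro hcon
    have := sf_eq_one_of_card_fixedBy N hNtop s (by rw [← hF, hcon])
    rw [this, orderOf_one] at hs2
    omega
  exact hf F h1 h4 (lt_of_le_of_ne hle hne)


/-- Main counting argument: under the numerical hypotheses, `C_G(P)` has odd order. -/
theorem sf_odd_card_centralizer [IsSimpleGroup G] (hG2 : 2 < Nat.card G) (P : Sylow p G)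
    (hP : Nat.card ↥(P : Subgroup G) = p)
    (hNtop : Subgroup.normalizer ((P : Subgroup G) : Set G) ≠ ⊤) (f : ℕ)
    (hf : ∀ f' : ℕ, f' ≡ 1 [MOD p] →
      f' ≡ (Subgroup.normalizer ((P : Subgroup G) : Set G)).index [MOD 4] →
      f' < (Subgroup.normalizer ((P : Subgroup G) : Set G)).index → f' = f)
    (horb : (Subgroup.normalizer ((P : Subgroup G) : Set G)).index + (p - 1) < f * p)
    (hm : ∀ m k : ℕ, f * Nat.card G =
      (Subgroup.normalizer ((P : Subgroup G) : Set G)).index * m * k → k ∣ Nat.card G → Even m) :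
    Odd (Nat.card ↥(Subgroup.centralizer ((P : Subgroup G) : Set G))) := by
  by_contra hodd
  rw [Nat.not_odd_iff_even] at hodd
  obtain ⟨N, hN⟩ : ∃ N : Subgroup G, N = Subgroup.normalizer ((P : Subgroup G) : Set G) :=
    ⟨_, rfl⟩
  obtain ⟨C, hC⟩ : ∃ C : Subgroup G, C = Subgroup.centralizer ((P : Subgroup G) : Set G) :=
    ⟨_, rfl⟩
  have hCN : C ≤ N := by rw [hC, hN]; exact sf_centralizer_le_normalizer _
  have hfix : ∀ s : G, s ∈ C → orderOf s = 2 → Nat.card (MulAction.fixedBy (G ⧸ N) s) = f := by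
    intro s hs hs2
    rw [hN]
    exact sf_card_fixedBy_involution hG2 P hP hNtop f hf s (hC ▸ hs) hs2
  have horbits := sf_card_orbits P hP
  rw [← hN] at horbits horb hm
  rw [← hC] at hodd
  -- conjugates in N of involutions of C lie in C
  have hconjC : ∀ s : G, s ∈ C → orderOf s = 2 → ∀ y : G, IsConj s y → y ∈ N → y ∈ C := by
    intro s hs hs2 y hsy hyN
    by_contra hyC
    obtain ⟨c, hc⟩ := isConj_iff.mp hsy
    have h1 := (Cfsg.Agent.S1018.result p P hP).2 y (hN ▸ hyN) (hC ▸ hyC)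
    rw [← hN] at h1
    have h2 : Nat.card (MulAction.fixedBy (G ⧸ N) y) = f := by
      rw [← hc, sf_card_fixedBy_conj]
      exact hfix s hs hs2
    rw [h2] at h1
    have := Nat.mul_le_mul_right p h1
    omega
  -- the set of involutions of C
  obtain ⟨r, hr⟩ : ∃ r : Setoid {s : G // s ∈ C ∧ orderOf s = 2},
      ∀ a b, r a b ↔ IsConj a.1 b.1 :=
    ⟨⟨fun a b => IsConj a.1 b.1, ⟨fun a => IsConj.refl _, fun h => h.symm, fun h1 h2 => h1.trans h2⟩⟩,
      fun a b => Iff.rfl⟩
  have hclass : ∀ x : {s : G // s ∈ C ∧ orderOf s = 2},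
      Even (Nat.card {y : {s : G // s ∈ C ∧ orderOf s = 2} // r x y}) := by
    rintro ⟨s, hsC, hs2⟩
    have e : {y : {s : G // s ∈ C ∧ orderOf s = 2} // r ⟨s, hsC, hs2⟩ y} ≃
        {g : G // IsConj s g ∧ g ∈ N} := by
      refine ⟨fun y => ⟨y.1.1, (hr _ _).mp y.2, hCN y.1.2.1⟩,
        fun g => ⟨⟨g.1, hconjC s hsC hs2 g.1 g.2.1 g.2.2, ?_⟩, (hr _ _).mpr g.2.1⟩, ?_, ?_⟩
      · obtain ⟨c, hc⟩ := g.2.1
        rw [← SemiconjBy.orderOf_eq _ hc]
        exact hs2
      · intro y; rfl
      · intro g; rfl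
    rw [Nat.card_congr e]
    have h19 := Cfsg.Agent.S1019.result N s (hCN hsC)
    rw [hfix s hsC hs2] at h19
    have hce := sf_card_conj_mul_card_centralizer s
    apply hm _ (Nat.card (Subgroup.centralizer ({s} : Set G))) _
      (Subgroup.card_subgroup_dvd_card _)
    rw [← hce, ← mul_assoc, h19]
  have heven := sf_even_card_of_classes r hclass
  have hoddX := sf_odd_card_involutions (C := ↥C) hodd
  have e2 : {x : ↥C // orderOf x = 2} ≃ {s : G // s ∈ C ∧ orderOf s = 2} := by
    refine ⟨fun x => ⟨x.1.1, x.1.2, by rw [Subgroup.orderOf_coe]; exact x.2⟩,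
      fun s => ⟨⟨s.1, s.2.1⟩, by rw [← Subgroup.orderOf_coe]; exact s.2.2⟩, ?_, ?_⟩
    · intro x; rfl
    · intro s; rfl
  rw [Nat.card_congr e2] at hoddX
  exact (Nat.not_even_iff_odd.mpr hoddX) heven

end main

end Cfsg.Agent.Lib.Helper20
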