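import Cfsg.Agent.Lib.Helper20.SylowFix2

set_option linter.style.haveILetI false
set_option linter.unusedVariables false
set_option linter.unusedSectionVars false
set_option autoImplicit false

namespace Cfsg.Agent.Lib.Helper20

open scoped Classical

section data

variable {G : Type*} [Group G] [Finite G] {p : ℕ} [hp : Fact p.Prime]

/-- A Sylow `p`-subgroup has order `p` when `p` exactly divides the group order. -/
theorem sf_sylow_card (P : Sylow p G) (m : ℕ) (hG : Nat.card G = p * m) (hpm : ¬ p ∣ m) :
    Nat.card ↥(P : Subgroup G) = p := by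
  obtain ⟨k, hk⟩ := P.2.exists_card_eq
  have h1 := (P : Subgroup G).card_mul_index
  have h2 := P.not_dvd_index
  rw [hk, hG] at h1
  rw [hk]
  rcases k with _ | _ | k
  · exfalso
    apply h2
    rw [pow_zero, one_mul] at h1
    rw [h1]; exact dvd_mul_right p m
  · rw [zero_add, pow_one]
  · exfalso
    apply hpm
    have h3 : p * (p ^ (k + 1) * (P : Subgroup G).index) = p * m := by
      rw [← h1]; ring
    have h4 := Nat.eq_of_mul_eq_mul_left hp.out.pos h3
    rw [← h4]
    exact ⟨p ^ k * (P : Subgroup G).index, by ring⟩

/-- Numerical data for the normalizer and centralizer of a Sylow subgroup of order `p`. -/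
theorem sf_data (P : Sylow p G) (hP : Nat.card ↥(P : Subgroup G) = p) :
    (Subgroup.centralizer ((P : Subgroup G) : Set G)).relIndex
        (Subgroup.normalizer ((P : Subgroup G) : Set G)) ∣ p - 1 ∧
      Nat.card ↥(Subgroup.centralizer ((P : Subgroup G) : Set G)) *
        (Subgroup.centralizer ((P : Subgroup G) : Set G)).relIndex
          (Subgroup.normalizer ((P : Subgroup G) : Set G)) *
        (Subgroup.normalizer ((P : Subgroup G) : Set G)).index = Nat.card G ∧
      (Subgroup.normalizer ((P : Subgroup G) : Set G)).index ≡ 1 [MOD p] ∧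
      (Subgroup.normalizer ((P : Subgroup G) : Set G)).index ∣ (P : Subgroup G).index := by
  refine ⟨sf_relIndex_dvd P hP, ?_, ?_, ?_⟩
  · have hCN := sf_centralizer_le_normalizer (P : Subgroup G)
    rw [← Subgroup.card_mul_index (Subgroup.normalizer ((P : Subgroup G) : Set G))]
    congr 1
    rw [Subgroup.relIndex, ← Subgroup.card_mul_index ((Subgroup.centralizer
      ((P : Subgroup G) : Set G)).subgroupOf (Subgroup.normalizer ((P : Subgroup G) : Set G)))]
    congr 1
    exact (Nat.card_congr (Subgroup.subgroupOfEquivOfLe hCN).toEquiv).symm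
  · have h := card_sylow_modEq_one p G
    rw [Sylow.card_eq_index_normalizer P] at h
    exact h
  · have h := Sylow.card_dvd_index P
    rw [Sylow.card_eq_index_normalizer P] at h
    exact h

/-- Burnside's transfer theorem excludes `N(P) ≤ C(P)` in a simple group. -/
theorem sf_burnside [IsSimpleGroup G] (P : Sylow p G)
    (hNC : Subgroup.normalizer ((P : Subgroup G) : Set G) ≤
      Subgroup.centralizer ((P : Subgroup G) : Set G))
    (hP1 : 1 < Nat.card ↥(P : Subgroup G)) (hPG : Nat.card ↥(P : Subgroup G) < Nat.card G) :
    False := by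
  have hcomp := MonoidHom.ker_transferSylow_isComplement' P hNC
  have hcard := hcomp.card_mul
  rcases IsSimpleGroup.eq_bot_or_eq_top_of_normal (MonoidHom.transferSylow P hNC).ker
    inferInstance with h | h
  · rw [h, Subgroup.card_bot, one_mul] at hcard
    omega
  · rw [h, Subgroup.card_top] at hcard
    have hpos : 0 < Nat.card G := Nat.card_pos
    have : Nat.card ↥(P : Subgroup G) = 1 := by
      have h5 : Nat.card G * Nat.card ↥(P : Subgroup G) = Nat.card G * 1 := by rw [hcard, mul_one]
      exact Nat.eq_of_mul_eq_mul_left hpos h5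
    omega

/-- The normalizer of a Sylow subgroup of a simple group is proper. -/
theorem sf_normalizer_ne_top [IsSimpleGroup G] (P : Sylow p G)
    (hP1 : 1 < Nat.card ↥(P : Subgroup G)) (hPG : Nat.card ↥(P : Subgroup G) < Nat.card G) :
    Subgroup.normalizer ((P : Subgroup G) : Set G) ≠ ⊤ := by
  intro h
  have hn : (P : Subgroup G).Normal := Subgroup.normalizer_eq_top_iff.mp h
  rcases IsSimpleGroup.eq_bot_or_eq_top_of_normal (P : Subgroup G) hn with h | h
  · rw [h, Subgroup.card_bot] at hP1; omega
  · rw [h, Subgroup.card_top] at hPG; omega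

/-- An involution in a subgroup of even order. -/
theorem sf_exists_involution (C : Subgroup G) (h : Even (Nat.card ↥C)) :
    ∃ s : G, s ∈ C ∧ orderOf s = 2 := by
  haveI : Fact (Nat.Prime 2) := ⟨Nat.prime_two⟩
  obtain ⟨x, hx⟩ := exists_prime_orderOf_dvd_card' (G := ↥C) 2 (even_iff_two_dvd.mp h)
  exact ⟨x.1, x.2, by rw [Subgroup.orderOf_coe]; exact hx⟩

/-- A simple group embeds in the symmetric group on the cosets of a proper subgroup. -/
theorem sf_card_dvd_factorial [IsSimpleGroup G] (N : Subgroup G) (hN : N ≠ ⊤) :
    Nat.card G ∣ (N.index).factorial := by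
  have hker : (MulAction.toPermHom G (G ⧸ N)).ker = ⊥ := by
    rw [← Subgroup.normalCore_eq_ker]
    rcases IsSimpleGroup.eq_bot_or_eq_top_of_normal N.normalCore inferInstance with h | h
    · exact h
    · exfalso
      apply hN
      rw [eq_top_iff, ← h]
      exact Subgroup.normalCore_le N
  have hinj : Function.Injective (MulAction.toPermHom G (G ⧸ N)) :=
    (MonoidHom.ker_eq_bot_iff _).mp hker
  have := Subgroup.card_dvd_of_injective _ hinj
  rw [Nat.card_perm] at this
  exact this

end data

end Cfsg.Agent.Lib.Helper20
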