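import Mathlib
import Cfsg.Agent.Lib.Helper20.PartitionBound

/-! Class numbers of symmetric and alternating groups: `k(A_n) < k(S_n) ≤ 2^(n-2)` for `n ≥ 5`. -/

set_option autoImplicit false

namespace Cfsg.Agent.Lib.Helper20

open Equiv Equiv.Perm

section multiset

/-- a chosen (largest) element of a nonzero multiset -/
noncomputable def ctMax (m : Multiset ℕ) : ℕ :=
  if h : m.toFinset.Nonempty then m.toFinset.max' h else 0

theorem ctMax_mem {m : Multiset ℕ} (hm : m ≠ 0) : ctMax m ∈ m := by
  have hne : m.toFinset.Nonempty := by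
    rw [Finset.nonempty_iff_ne_empty]
    intro h
    exact hm (Multiset.toFinset_eq_empty.mp h)
  unfold ctMax
  rw [dif_pos hne]
  exact Multiset.mem_toFinset.mp (Finset.max'_mem _ hne)

/-- the "split" condition on a cycle type -/
def IsSplitCT (N : ℕ) (m : Multiset ℕ) : Prop :=
  (∀ c ∈ m, Odd c) ∧ N ≤ m.sum + 1 ∧ ∀ i, m.count i ≤ 1

/-- the new cycle type: replace the largest part `M` by `M - 1` -/
noncomputable def ctNew (m : Multiset ℕ) : Multiset ℕ := (ctMax m - 1) ::ₘ m.erase (ctMax m)

theorem even_sum_add_card_of_odd {m : Multiset ℕ} (h : ∀ c ∈ m, Odd c) :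
    Even (m.sum + Multiset.card m) := by
  induction m using Multiset.induction_on with
  | empty => simp
  | cons a s ih =>
    have h1 : Odd a := h a (Multiset.mem_cons_self a s)
    have h2 := ih (fun c hc => h c (Multiset.mem_cons_of_mem hc))
    rw [Multiset.sum_cons, Multiset.card_cons]
    have : a + s.sum + (Multiset.card s + 1) = (a + 1) + (s.sum + Multiset.card s) := by ring
    rw [this]
    exact h1.add_one.add h2

theorem IsSplitCT.ne_zero {N : ℕ} {m : Multiset ℕ} (h : IsSplitCT N m) (hN : 5 ≤ N) : m ≠ 0 := by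
  intro h0
  have := h.2.1
  rw [h0, Multiset.sum_zero] at this
  omega

theorem three_le_ctMax {N : ℕ} {m : Multiset ℕ} (h : IsSplitCT N m) (hN : 5 ≤ N)
    (h2 : ∀ a ∈ m, 2 ≤ a) : 3 ≤ ctMax m := by
  have hM := ctMax_mem (h.ne_zero hN)
  obtain ⟨k, hk⟩ := h.1 _ hM
  have := h2 _ hM
  omega

theorem ctNew_sum {N : ℕ} {m : Multiset ℕ} (h : IsSplitCT N m) (hN : 5 ≤ N)
    (h2 : ∀ a ∈ m, 2 ≤ a) : (ctNew m).sum + 1 = m.sum := by
  have hM := ctMax_mem (h.ne_zero hN)
  have h3 := three_le_ctMax h hN h2
  unfold ctNew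
  rw [Multiset.sum_cons]
  have := Multiset.sum_erase hM
  omega

theorem ctNew_card {N : ℕ} {m : Multiset ℕ} (h : IsSplitCT N m) (hN : 5 ≤ N) :
    Multiset.card (ctNew m) = Multiset.card m := by
  have hM := ctMax_mem (h.ne_zero hN)
  unfold ctNew
  rw [Multiset.card_cons, Multiset.card_erase_of_mem hM, Nat.pred_eq_sub_one]
  have : 0 < Multiset.card m := Multiset.card_pos_iff_exists_mem.mpr ⟨_, hM⟩
  omega

theorem ctNew_two_le {N : ℕ} {m : Multiset ℕ} (h : IsSplitCT N m) (hN : 5 ≤ N)
    (h2 : ∀ a ∈ m, 2 ≤ a) : ∀ a ∈ ctNew m, 2 ≤ a := by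
  have h3 := three_le_ctMax h hN h2
  intro a ha
  unfold ctNew at ha
  rcases Multiset.mem_cons.mp ha with ha | ha
  · omega
  · exact h2 a (Multiset.mem_of_mem_erase ha)

theorem ctNew_odd {N : ℕ} {m : Multiset ℕ} (h : IsSplitCT N m) (hN : 5 ≤ N)
    (h2 : ∀ a ∈ m, 2 ≤ a) : Odd ((ctNew m).sum + Multiset.card (ctNew m)) := by
  have h1 := ctNew_sum h hN h2
  have h3 := ctNew_card h hN
  obtain ⟨k, hk⟩ := even_sum_add_card_of_odd h.1
  rw [h3]
  exact ⟨k - 1, by omega⟩

theorem ctNew_injective {N : ℕ} {m1 m2 : Multiset ℕ} (h1 : IsSplitCT N m1) (h2 : IsSplitCT N m2)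
    (hN : 5 ≤ N) (p1 : ∀ a ∈ m1, 2 ≤ a) (p2 : ∀ a ∈ m2, 2 ≤ a) (h : ctNew m1 = ctNew m2) :
    m1 = m2 := by
  have hM1 := ctMax_mem (h1.ne_zero hN)
  have hM2 := ctMax_mem (h2.ne_zero hN)
  have t1 := three_le_ctMax h1 hN p1
  have t2 := three_le_ctMax h2 hN p2
  have hmem : ctMax m1 - 1 ∈ ctNew m2 := by
    rw [← h]; exact Multiset.mem_cons_self _ _
  have heq : ctMax m1 - 1 = ctMax m2 - 1 := by
    unfold ctNew at hmem
    rcases Multiset.mem_cons.mp hmem with h' | h'
    · exact h'
    · exfalso
      obtain ⟨a, ha⟩ := h2.1 _ (Multiset.mem_of_mem_erase h')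
      obtain ⟨b, hb⟩ := h1.1 _ hM1
      omega
  have heq' : ctMax m1 = ctMax m2 := by omega
  have h3 : m1.erase (ctMax m1) = m2.erase (ctMax m2) := by
    unfold ctNew at h
    rw [heq] at h
    exact (Multiset.cons_inj_right _).mp h
  rw [← Multiset.cons_erase hM1, ← Multiset.cons_erase hM2, h3, heq']

theorem ctNew_ne_two {N : ℕ} {m : Multiset ℕ} (h : IsSplitCT N m) (hN : 5 ≤ N) :
    ctNew m ≠ {2} := by
  intro h'
  have hM := ctMax_mem (h.ne_zero hN)
  unfold ctNew at h'
  have h1 : ctMax m - 1 = 2 := by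
    have : ctMax m - 1 ∈ ({2} : Multiset ℕ) := by rw [← h']; exact Multiset.mem_cons_self _ _
    exact Multiset.mem_singleton.mp this
  have h2 : m.erase (ctMax m) = 0 := by
    have hc := congrArg Multiset.card h'
    rw [Multiset.card_cons, Multiset.card_singleton] at hc
    exact Multiset.card_eq_zero.mp (by omega)
  have h3 : m = ctMax m ::ₘ 0 := by rw [← h2]; exact (Multiset.cons_erase hM).symm
  have h4 := h.2.1
  rw [h3, Multiset.sum_cons, Multiset.sum_zero] at h4
  omega

end multiset

section perm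

variable {α : Type*} [Fintype α] [DecidableEq α]

/-- cycle type of a conjugacy class of permutations -/
def classCT : ConjClasses (Perm α) → Multiset ℕ :=
  Quotient.lift (fun σ : Perm α => σ.cycleType) (fun _ _ h => isConj_iff_cycleType_eq.mp h)

theorem classCT_mk (σ : Perm α) : classCT (ConjClasses.mk σ) = σ.cycleType := rfl

theorem classCT_injective : Function.Injective (classCT (α := α)) := by
  intro c d h
  obtain ⟨σ, rfl⟩ := ConjClasses.mk_surjective c
  obtain ⟨τ, rfl⟩ := ConjClasses.mk_surjective d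
  rw [classCT_mk, classCT_mk] at h
  exact ConjClasses.mk_eq_mk_iff_isConj.mpr (isConj_iff_cycleType_eq.mpr h)

theorem classCT_two_le (c : ConjClasses (Perm α)) : ∀ a ∈ classCT c, 2 ≤ a := by
  obtain ⟨σ, rfl⟩ := ConjClasses.mk_surjective c
  intro a ha
  exact two_le_of_mem_cycleType ha

theorem classCT_sum_le (c : ConjClasses (Perm α)) : (classCT c).sum ≤ Fintype.card α := by
  obtain ⟨σ, rfl⟩ := ConjClasses.mk_surjective c
  exact sum_cycleType_le σ

/-- partition of a conjugacy class of permutations -/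
def classPartition : ConjClasses (Perm α) → Nat.Partition (Fintype.card α) :=
  Quotient.lift (fun σ : Perm α => σ.partition) (fun _ _ h => partition_eq_of_isConj.mp h)

theorem classPartition_injective : Function.Injective (classPartition (α := α)) := by
  intro c d h
  obtain ⟨σ, rfl⟩ := ConjClasses.mk_surjective c
  obtain ⟨τ, rfl⟩ := ConjClasses.mk_surjective d
  exact ConjClasses.mk_eq_mk_iff_isConj.mpr (partition_eq_of_isConj.mpr h)

theorem card_conjClasses_perm_le :
    Nat.card (ConjClasses (Perm α)) ≤ Fintype.card (Nat.Partition (Fintype.card α)) :=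
  (Nat.card_le_card_of_injective _ classPartition_injective).trans_eq Nat.card_eq_fintype_card

/-- the map on conjugacy classes induced by the inclusion of the alternating group -/
def altMap : ConjClasses (alternatingGroup α) → ConjClasses (Perm α) :=
  ConjClasses.map (alternatingGroup α).subtype

theorem altMap_mk (a : alternatingGroup α) :
    altMap (ConjClasses.mk a) = ConjClasses.mk (a : Perm α) := rfl

theorem not_odd_classCT_altMap (y : ConjClasses (alternatingGroup α)) :
    ¬ Odd ((classCT (altMap y)).sum + Multiset.card (classCT (altMap y))) := by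
  obtain ⟨a, rfl⟩ := ConjClasses.mk_surjective y
  rw [altMap_mk, classCT_mk]
  intro hodd
  have h1 : sign (a : Perm α) = 1 := mem_alternatingGroup.mp a.2
  rw [sign_of_cycleType, hodd.neg_one_pow] at h1
  exact absurd h1 (by decide)

theorem isConj_of_not_split {a b : alternatingGroup α} (h : IsConj (a : Perm α) (b : Perm α))
    (hs : ¬ IsSplitCT (Fintype.card α) (a : Perm α).cycleType) : IsConj a b := by
  obtain ⟨g, hg⟩ := isConj_iff.mp h
  by_cases hsg : sign g = 1
  · refine isConj_iff.mpr ⟨⟨g, mem_alternatingGroup.mpr hsg⟩, Subtype.ext ?_⟩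
    simp only [Subgroup.coe_mul, Subgroup.coe_inv]
    exact hg
  · have hnc : ¬ Subgroup.centralizer {(a : Perm α)} ≤ alternatingGroup α := by
      intro hc
      exact hs (centralizer_le_alternating_iff.mp hc)
    obtain ⟨z, hz, hzA⟩ := SetLike.not_le_iff_exists.mp hnc
    have hz1 : sign z ≠ 1 := fun h1 => hzA (mem_alternatingGroup.mpr h1)
    have hz2 : sign z = -1 := (Int.units_eq_one_or _).resolve_left hz1
    have hg2 : sign g = -1 := (Int.units_eq_one_or _).resolve_left hsg
    have hgz : sign (g * z) = 1 := by rw [Perm.sign_mul, hg2, hz2]; decide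
    have hcomm : z * (a : Perm α) = (a : Perm α) * z :=
      Subgroup.mem_centralizer_singleton_iff.mp hz
    refine isConj_iff.mpr ⟨⟨g * z, mem_alternatingGroup.mpr hgz⟩, Subtype.ext ?_⟩
    simp only [Subgroup.coe_mul, Subgroup.coe_inv]
    rw [← hg, mul_inv_rev]
    calc g * z * (a : Perm α) * (z⁻¹ * g⁻¹) = g * (z * (a : Perm α)) * z⁻¹ * g⁻¹ := by group
      _ = g * ((a : Perm α) * z) * z⁻¹ * g⁻¹ := by rw [hcomm]
      _ = g * (a : Perm α) * g⁻¹ := by group

theorem isConj_of_three {a b c : alternatingGroup α} (hab : IsConj (a : Perm α) (b : Perm α))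
    (hac : IsConj (a : Perm α) (c : Perm α)) (nab : ¬ IsConj a b) (nac : ¬ IsConj a c) :
    IsConj b c := by
  obtain ⟨g, hg⟩ := isConj_iff.mp hab
  obtain ⟨k, hk⟩ := isConj_iff.mp hac
  have hsg : sign g ≠ 1 := by
    intro hsg
    apply nab
    refine isConj_iff.mpr ⟨⟨g, mem_alternatingGroup.mpr hsg⟩, Subtype.ext ?_⟩
    simp only [Subgroup.coe_mul, Subgroup.coe_inv]
    exact hg
  have hsk : sign k ≠ 1 := by
    intro hsk
    apply nac
    refine isConj_iff.mpr ⟨⟨k, mem_alternatingGroup.mpr hsk⟩, Subtype.ext ?_⟩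
    simp only [Subgroup.coe_mul, Subgroup.coe_inv]
    exact hk
  have hg2 : sign g = -1 := (Int.units_eq_one_or _).resolve_left hsg
  have hk2 : sign k = -1 := (Int.units_eq_one_or _).resolve_left hsk
  have hkg : sign (k * g⁻¹) = 1 := by rw [Perm.sign_mul, Perm.sign_inv, hg2, hk2]; decide
  refine isConj_iff.mpr ⟨⟨k * g⁻¹, mem_alternatingGroup.mpr hkg⟩, Subtype.ext ?_⟩
  simp only [Subgroup.coe_mul, Subgroup.coe_inv]
  rw [← hg, ← hk]
  group

theorem eq_of_altMap_eq_of_not_split {y y' : ConjClasses (alternatingGroup α)}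
    (h : altMap y = altMap y')
    (hs : ¬ IsSplitCT (Fintype.card α) (classCT (altMap y))) : y = y' := by
  obtain ⟨a, rfl⟩ := ConjClasses.mk_surjective y
  obtain ⟨b, rfl⟩ := ConjClasses.mk_surjective y'
  rw [altMap_mk, altMap_mk] at h
  rw [altMap_mk, classCT_mk] at hs
  exact ConjClasses.mk_eq_mk_iff_isConj.mpr
    (isConj_of_not_split (ConjClasses.mk_eq_mk_iff_isConj.mp h) hs)

theorem eq_of_altMap_eq_three {y y' y'' : ConjClasses (alternatingGroup α)}
    (h1 : altMap y = altMap y') (h2 : altMap y = altMap y'') (n1 : y ≠ y') (n2 : y ≠ y'') :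
    y' = y'' := by
  obtain ⟨a, rfl⟩ := ConjClasses.mk_surjective y
  obtain ⟨b, rfl⟩ := ConjClasses.mk_surjective y'
  obtain ⟨c, rfl⟩ := ConjClasses.mk_surjective y''
  rw [altMap_mk, altMap_mk] at h1 h2
  exact ConjClasses.mk_eq_mk_iff_isConj.mpr
    (isConj_of_three (ConjClasses.mk_eq_mk_iff_isConj.mp h1) (ConjClasses.mk_eq_mk_iff_isConj.mp h2)
      (fun h => n1 (ConjClasses.mk_eq_mk_iff_isConj.mpr h))
      (fun h => n2 (ConjClasses.mk_eq_mk_iff_isConj.mpr h)))

theorem card_conjClasses_alternating_lt (hN : 5 ≤ Fintype.card α) :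
    Nat.card (ConjClasses (alternatingGroup α)) < Nat.card (ConjClasses (Perm α)) := by
  classical
  have hψ : ∀ c : ConjClasses (Perm α), IsSplitCT (Fintype.card α) (classCT c) →
      ∃ d : ConjClasses (Perm α), classCT d = ctNew (classCT c) := by
    intro c hc
    have h2 := classCT_two_le c
    have hsum := ctNew_sum hc hN h2
    have hle := classCT_sum_le c
    obtain ⟨τ, hτ⟩ := (exists_with_cycleType_iff (α := α)).mpr
      ⟨(by omega : (ctNew (classCT c)).sum ≤ Fintype.card α), ctNew_two_le hc hN h2⟩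
    exact ⟨ConjClasses.mk τ, hτ⟩
  choose! ψ hψ' using hψ
  obtain ⟨ch, hchdef⟩ : ∃ ch : ConjClasses (Perm α) → ConjClasses (alternatingGroup α),
      ∀ y : ConjClasses (alternatingGroup α), altMap (ch (altMap y)) = altMap y := by
    refine ⟨fun c => if h : ∃ y0 : ConjClasses (alternatingGroup α), altMap y0 = c then h.choose
      else ConjClasses.mk 1, ?_⟩
    intro y
    have h : ∃ y0 : ConjClasses (alternatingGroup α), altMap y0 = altMap y := ⟨y, rfl⟩
    simp only [dif_pos h]
    exact h.choose_spec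
  obtain ⟨Φ, hΦ⟩ : ∃ Φ : ConjClasses (alternatingGroup α) → ConjClasses (Perm α),
      ∀ y, Φ y = if ch (altMap y) = y then altMap y else ψ (altMap y) := ⟨_, fun _ => rfl⟩
  have hsplit : ∀ y : ConjClasses (alternatingGroup α), ch (altMap y) ≠ y →
      IsSplitCT (Fintype.card α) (classCT (altMap y)) := by
    intro y hy
    by_contra hs
    apply hy
    apply eq_of_altMap_eq_of_not_split (hchdef y)
    rw [hchdef y]
    exact hs
  have hinj : Function.Injective Φ := by
    intro y y' h
    rw [hΦ, hΦ] at h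
    by_cases h1 : ch (altMap y) = y
    · by_cases h2 : ch (altMap y') = y'
      · rw [if_pos h1, if_pos h2] at h
        rw [← h1, ← h2, h]
      · exfalso
        rw [if_pos h1, if_neg h2] at h
        have hs := hsplit y' h2
        have h3 := ctNew_odd hs hN (classCT_two_le _)
        rw [← hψ' _ hs, ← h] at h3
        exact not_odd_classCT_altMap y h3
    · by_cases h2 : ch (altMap y') = y'
      · exfalso
        rw [if_neg h1, if_pos h2] at h
        have hs := hsplit y h1
        have h3 := ctNew_odd hs hN (classCT_two_le _)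
        rw [← hψ' _ hs, h] at h3
        exact not_odd_classCT_altMap y' h3
      · rw [if_neg h1, if_neg h2] at h
        have hs := hsplit y h1
        have hs' := hsplit y' h2
        have h3 : ctNew (classCT (altMap y)) = ctNew (classCT (altMap y')) := by
          rw [← hψ' _ hs, ← hψ' _ hs', h]
        have h4 := ctNew_injective hs hs' hN (classCT_two_le _) (classCT_two_le _) h3
        have h5 : altMap y = altMap y' := classCT_injective h4
        have h6 : altMap (ch (altMap y)) = altMap y' := by rw [hchdef y, h5]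
        have h7 : ch (altMap y) ≠ y' := by rw [h5]; exact h2
        exact eq_of_altMap_eq_three (hchdef y) h6 h1 h7
  obtain ⟨τ, hτ⟩ := (exists_with_cycleType_iff (α := α) (m := {2})).mpr
    ⟨by rw [Multiset.sum_singleton]; omega, by
      intro a ha; rw [Multiset.mem_singleton.mp ha]⟩
  have hnot : ConjClasses.mk τ ∉ Set.range Φ := by
    rintro ⟨y, hy⟩
    rw [hΦ] at hy
    by_cases h1 : ch (altMap y) = y
    · rw [if_pos h1] at hy
      have h3 := not_odd_classCT_altMap y
      rw [hy, classCT_mk, hτ] at h3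
      exact h3 (by decide)
    · rw [if_neg h1] at hy
      have hs := hsplit y h1
      have h3 := hψ' _ hs
      rw [hy, classCT_mk, hτ] at h3
      exact ctNew_ne_two hs hN h3.symm
  have : Fintype (ConjClasses (alternatingGroup α)) := Fintype.ofFinite _
  have : Fintype (ConjClasses (Perm α)) := Fintype.ofFinite _
  rw [Nat.card_eq_fintype_card, Nat.card_eq_fintype_card]
  exact Fintype.card_lt_of_injective_of_notMem Φ hinj hnot

end perm

theorem symmetric_class_number (n : ℕ) (hn : 5 ≤ n) :
    Nat.card (ConjClasses (alternatingGroup (Fin n))) < Nat.card (ConjClasses (Equiv.Perm (Fin n))) ∧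
      Nat.card (ConjClasses (Equiv.Perm (Fin n))) ≤ 2 ^ (n - 2) := by
  refine ⟨card_conjClasses_alternating_lt (by rw [Fintype.card_fin]; exact hn), ?_⟩
  have h1 := card_conjClasses_perm_le (α := Fin n)
  rw [Fintype.card_fin] at h1
  exact h1.trans (card_partition_le_two_pow n hn)

end Cfsg.Agent.Lib.Helper20
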