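import Mathlib
import Cfsg.Agent.Lib.Helper9.Involutions
import Cfsg.Agent.Lib.Helper3.ExtraspecialInv

set_option linter.style.haveILetI false
set_option linter.unusedVariables false
set_option linter.unusedSectionVars false

namespace Cfsg.Agent.Lib.Helper20

open scoped commutatorElement

/-- Nilpotent descent: in a nilpotent subgroup `P`, if `M` is closed under commutation with `Xs`
and `M ⊄ N`, some element of `M \ N` has all its commutators with `Xs` in `N`. -/
theorem st_nilp_step {G : Type*} [Group G] (P : Subgroup G) (hP : Group.IsNilpotent ↥P)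
    (M N Xs : Set G) (hMP : M ⊆ P) (hXP : Xs ⊆ P)
    (hMX : ∀ m ∈ M, ∀ x ∈ Xs, ⁅m, x⁆ ∈ M) (h1 : (1 : G) ∈ N)
    (hne : ∃ m ∈ M, m ∉ N) :
    ∃ m ∈ M, m ∉ N ∧ ∀ x ∈ Xs, ⁅m, x⁆ ∈ N := by
  classical
  obtain ⟨k, hk⟩ := (Subgroup.isNilpotent_iff_lowerCentralSeries P).mp hP
  have hex : ∃ n, ∀ p ∈ P.lowerCentralSeries n, p ∈ M → p ∈ N := by
    refine ⟨k, fun p hp _ => ?_⟩
    rw [hk, Subgroup.mem_bot] at hp
    rw [hp]; exact h1
  have hmin := @Nat.find_min _ _ hex
  have hspec := Nat.find_spec hex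
  obtain ⟨m0, hm0M, hm0N⟩ := hne
  have hn0 : Nat.find hex ≠ 0 := by
    intro h0
    rw [h0] at hspec
    exact hm0N (hspec m0 (by rw [Subgroup.lowerCentralSeries_zero]; exact hMP hm0M) hm0M)
  obtain ⟨j, hj⟩ := Nat.exists_eq_succ_of_ne_zero hn0
  have hlt : j < Nat.find hex := by omega
  have h3 := hmin hlt
  push Not at h3
  obtain ⟨p, hpL, hpM, hpN⟩ := h3
  refine ⟨p, hpM, hpN, fun x hx => ?_⟩
  have hc : ⁅p, x⁆ ∈ P.lowerCentralSeries (j + 1) := by
    rw [Subgroup.lowerCentralSeries_succ]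
    exact Subgroup.commutator_mem_commutator hpL (hXP hx)
  rw [← Nat.succ_eq_add_one, ← hj] at hc
  exact hspec _ hc (hMX p hpM x hx)

section SympA
variable {Q : Type*} [Group Q] (z : Q) (hz2 : z * z = 1) (hzc : ∀ y : Q, z * y = y * z)

include hzc in
theorem st_cz_comm (c : Q) (hc : c = 1 ∨ c = z) (y : Q) : c * y = y * c := by
  rcases hc with rfl | rfl
  · simp
  · exact hzc y

include hz2 in
theorem st_cz_sq (c : Q) (hc : c = 1 ∨ c = z) : c * c = 1 := by
  rcases hc with rfl | rfl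
  · simp
  · exact hz2

include hz2 in
theorem st_cz_inv (c : Q) (hc : c = 1 ∨ c = z) : c⁻¹ = c :=
  inv_eq_of_mul_eq_one_right (st_cz_sq z hz2 c hc)

include hzc in
theorem st_cz_conj (c : Q) (hc : c = 1 ∨ c = z) (a : Q) : a * c * a⁻¹ = c := by
  rw [← st_cz_comm z hzc c hc a]; group

include hz2 in
theorem st_cz_mul (c d : Q) (hc : c = 1 ∨ c = z) (hd : d = 1 ∨ d = z) :
    c * d = 1 ∨ c * d = z := by
  rcases hc with rfl | rfl <;> rcases hd with rfl | rfl
  · left; simp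
  · right; simp
  · right; simp
  · left; exact hz2

/-- `T`: the elements all of whose commutators lie in `{1, z}`. -/
def stT : Subgroup Q where
  carrier := {t | ∀ q, ⁅t, q⁆ = 1 ∨ ⁅t, q⁆ = z}
  one_mem' := fun q => Or.inl (commutatorElement_one_left q)
  mul_mem' := by
    intro a b ha hb q
    rw [commutatorElement_mul_left_eq_conj_mul, st_cz_conj z hzc _ (hb q) a]
    exact st_cz_mul z hz2 _ _ (hb q) (ha q)
  inv_mem' := by
    intro a ha q
    have h1 : ⁅a⁻¹, q⁆ = a⁻¹ * ⁅a, q⁆⁻¹ * a⁻¹⁻¹ := by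
      rw [commutatorElement_def, commutatorElement_def]; group
    rw [h1, st_cz_inv z hz2 _ (ha q), st_cz_conj z hzc _ (ha q)]
    exact ha q

theorem mem_stT (t : Q) : t ∈ stT z hz2 hzc ↔ ∀ q, ⁅t, q⁆ = 1 ∨ ⁅t, q⁆ = z := Iff.rfl

theorem stT_comm' (t : Q) (ht : t ∈ stT z hz2 hzc) (q : Q) : ⁅q, t⁆ = 1 ∨ ⁅q, t⁆ = z := by
  have h1 : ⁅q, t⁆ = ⁅t, q⁆⁻¹ := (commutatorElement_inv t q).symm
  rw [h1, st_cz_inv z hz2 _ (ht q)]
  exact ht q

theorem stT_char (hz1 : z ≠ 1)
    (hcz : ∀ x : Q, (∀ y, x * y = y * x) → x * x = 1 → x = 1 ∨ x = z) :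
    (stT z hz2 hzc).Characteristic := by
  rw [Subgroup.characteristic_iff_map_le]
  rintro φ _ ⟨t, ht, rfl⟩
  intro q
  have hφz : φ z = z := by
    have hc : ∀ y, φ z * y = y * φ z := by
      intro y
      have := congrArg φ (hzc (φ.symm y))
      simpa using this
    rcases hcz (φ z) hc (by rw [← map_mul, hz2, map_one]) with h | h
    · exfalso; apply hz1; apply φ.injective; rw [h, map_one]
    · exact h
  have h1 : ⁅φ.toMonoidHom t, q⁆ = φ ⁅t, φ.symm q⁆ := by
    simp [commutatorElement_def]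
  rcases ht (φ.symm q) with h | h
  · left; rw [h1, h, map_one]
  · right; rw [h1, h, hφz]

theorem stT_sq (h4 : ∀ q : Q, q ^ 4 = 1)
    (hcz : ∀ x : Q, (∀ y, x * y = y * x) → x * x = 1 → x = 1 ∨ x = z)
    (t : Q) (ht : t ∈ stT z hz2 hzc) : t * t = 1 ∨ t * t = z := by
  apply hcz
  · intro y
    rw [← commutatorElement_eq_one_iff_mul_comm, commutatorElement_mul_left_eq_conj_mul,
      st_cz_conj z hzc _ (ht y) t]
    exact st_cz_sq z hz2 _ (ht y)
  · have h := h4 t
    rw [show (4 : ℕ) = 2 + 2 from rfl, pow_add, pow_two] at h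
    exact h


section fin
variable [Finite Q]

theorem st_ZT_inv (hz1 : z ≠ 1)
    (hchar : ∀ A : Subgroup Q, A.Characteristic → IsMulCommutative A → IsCyclic A)
    (hcz : ∀ x : Q, (∀ y, x * y = y * x) → x * x = 1 → x = 1 ∨ x = z)
    (x : Q) (hxT : x ∈ stT z hz2 hzc)
    (hxK : x ∈ Subgroup.centralizer ((stT z hz2 hzc : Subgroup Q) : Set Q))
    (hx2 : x * x = 1) : x = 1 ∨ x = z := by
  haveI hTc : (stT z hz2 hzc).Characteristic := stT_char z hz2 hzc hz1 hcz
  obtain ⟨ZT, hZT⟩ : ∃ ZT : Subgroup Q, ZT = stT z hz2 hzc ⊓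
    Subgroup.centralizer ((stT z hz2 hzc : Subgroup Q) : Set Q) := ⟨_, rfl⟩
  have hZTc : ZT.Characteristic := by rw [hZT]; infer_instance
  have hZTa : IsMulCommutative ZT := by
    refine ⟨⟨?_⟩⟩
    rintro ⟨a, ha⟩ ⟨b, hb⟩
    apply Subtype.ext
    rw [hZT] at ha hb
    exact (Subgroup.mem_centralizer_iff.mp hb.2 a ha.1)
  haveI hcyc : IsCyclic ZT := hchar ZT hZTc hZTa
  by_cases hx1 : x = 1
  · left; exact hx1
  right
  have hxZ : x ∈ ZT := by rw [hZT]; exact ⟨hxT, hxK⟩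
  have hzT : z ∈ stT z hz2 hzc := fun q =>
    Or.inl (commutatorElement_eq_one_iff_mul_comm.mpr (hzc q))
  have hzZ : z ∈ ZT := by
    rw [hZT]
    refine ⟨hzT, ?_⟩
    show z ∈ Subgroup.centralizer ((stT z hz2 hzc : Subgroup Q) : Set Q)
    rw [Subgroup.mem_centralizer_iff]
    intro h _
    exact (hzc h).symm
  have hox : orderOf x = 2 := orderOf_eq_prime (by rw [pow_two]; exact hx2) hx1
  have hoz : orderOf z = 2 := orderOf_eq_prime (by rw [pow_two]; exact hz2) hz1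
  have h := Cfsg.Agent.Lib.Helper9.eq_of_orderOf_eq_two_of_isCyclic (T := ZT)
    (a := ⟨x, hxZ⟩) (b := ⟨z, hzZ⟩)
    (by rw [Subgroup.orderOf_mk]; exact hox) (by rw [Subgroup.orderOf_mk]; exact hoz)
  exact congrArg Subtype.val h

theorem st_K_le_T (h2 : IsPGroup 2 Q) (hz1 : z ≠ 1) (h4 : ∀ q : Q, q ^ 4 = 1)
    (hchar : ∀ A : Subgroup Q, A.Characteristic → IsMulCommutative A → IsCyclic A)
    (hcz : ∀ x : Q, (∀ y, x * y = y * x) → x * x = 1 → x = 1 ∨ x = z) :
    Subgroup.centralizer ((stT z hz2 hzc : Subgroup Q) : Set Q) ≤ stT z hz2 hzc := by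
  haveI : Fact (Nat.Prime 2) := ⟨Nat.prime_two⟩
  haveI hTc : (stT z hz2 hzc).Characteristic := stT_char z hz2 hzc hz1 hcz
  haveI hTn : (stT z hz2 hzc).Normal := inferInstance
  haveI hKn : (Subgroup.centralizer ((stT z hz2 hzc : Subgroup Q) : Set Q)).Normal :=
    Subgroup.normal_centralizer
  by_contra hle
  obtain ⟨k0, hk0K, hk0T⟩ := SetLike.not_le_iff_exists.mp hle
  haveI hnil : Group.IsNilpotent Q := IsPGroup.isNilpotent h2
  have hnilT : Group.IsNilpotent ↥(⊤ : Subgroup Q) := inferInstance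
  have hKconj : ∀ m ∈ Subgroup.centralizer ((stT z hz2 hzc : Subgroup Q) : Set Q), ∀ x : Q,
      ⁅m, x⁆ ∈ Subgroup.centralizer ((stT z hz2 hzc : Subgroup Q) : Set Q) := by
    intro m hm x
    have : ⁅m, x⁆ = m * (x * m⁻¹ * x⁻¹) := by rw [commutatorElement_def]; group
    rw [this]
    exact Subgroup.mul_mem _ hm (hKn.conj_mem _ (Subgroup.inv_mem _ hm) x)
  obtain ⟨k, hkK, hkT, hkc⟩ := st_nilp_step (⊤ : Subgroup Q) hnilT
    (Subgroup.centralizer ((stT z hz2 hzc : Subgroup Q) : Set Q) : Set Q)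
    ((stT z hz2 hzc : Subgroup Q) : Set Q) Set.univ
    (fun _ _ => Subgroup.mem_top _) (fun _ _ => Subgroup.mem_top _)
    (fun m hm x _ => hKconj m hm x) (Subgroup.one_mem _) ⟨k0, hk0K, hk0T⟩
  have hkK' : k ∈ Subgroup.centralizer ((stT z hz2 hzc : Subgroup Q) : Set Q) := hkK
  have hkT' : k ∉ stT z hz2 hzc := hkT
  rw [mem_stT] at hkT'
  push Not at hkT'
  obtain ⟨q, hq1, hqz⟩ := hkT'
  obtain ⟨c, hc⟩ : ∃ c, c = ⁅k, q⁆ := ⟨_, rfl⟩
  have hcT : c ∈ stT z hz2 hzc := by rw [hc]; exact hkc q (Set.mem_univ _)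
  have hcK : c ∈ Subgroup.centralizer ((stT z hz2 hzc : Subgroup Q) : Set Q) := by
    rw [hc]; exact hKconj k hkK' q
  have hcc : c * c = z := by
    rcases stT_sq z hz2 hzc h4 hcz c hcT with h | h
    · exfalso
      rcases st_ZT_inv z hz2 hzc hz1 hchar hcz c hcT hcK h with h' | h'
      · exact hq1 (hc ▸ h')
      · exact hqz (hc ▸ h')
    · exact h
  have hkc' : c * k = k * c := Subgroup.mem_centralizer_iff.mp hkK' c hcT
  have hconj : q * k * q⁻¹ = c⁻¹ * k := by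
    rw [hc, commutatorElement_def]; group
  have hk2K : k * k ∈ Subgroup.centralizer ((stT z hz2 hzc : Subgroup Q) : Set Q) :=
    Subgroup.mul_mem _ hkK' hkK'
  have hk2T : k * k ∈ stT z hz2 hzc := by
    intro x
    have hdT : ⁅k, x⁆ ∈ stT z hz2 hzc := hkc x (Set.mem_univ _)
    have hdk : ⁅k, x⁆ * k = k * ⁅k, x⁆ := Subgroup.mem_centralizer_iff.mp hkK' _ hdT
    rw [commutatorElement_mul_left_eq_conj_mul]
    have : k * ⁅k, x⁆ * k⁻¹ = ⁅k, x⁆ := by rw [← hdk]; group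
    rw [this]
    exact stT_sq z hz2 hzc h4 hcz _ hdT
  have hk4 : (k * k) * (k * k) = 1 := by
    have h := h4 k
    rw [show (4 : ℕ) = 2 + 2 from rfl, pow_add, pow_two] at h
    exact h
  have hk2 := st_ZT_inv z hz2 hzc hz1 hchar hcz (k * k) hk2T hk2K hk4
  have hcen : q * (k * k) * q⁻¹ = k * k := st_cz_conj z hzc _ hk2 q
  have hcalc : q * (k * k) * q⁻¹ = z⁻¹ * (k * k) := by
    have h1 : q * (k * k) * q⁻¹ = (q * k * q⁻¹) * (q * k * q⁻¹) := by group
    rw [h1, hconj]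
    have hkc'' : k * c⁻¹ = c⁻¹ * k := by
      have : k = c⁻¹ * (c * k) := by group
      calc k * c⁻¹ = c⁻¹ * (c * k) * c⁻¹ := by rw [← this]
        _ = c⁻¹ * (k * c) * c⁻¹ := by rw [hkc']
        _ = c⁻¹ * k := by group
    calc c⁻¹ * k * (c⁻¹ * k) = c⁻¹ * (k * c⁻¹) * k := by group
      _ = c⁻¹ * (c⁻¹ * k) * k := by rw [hkc'']
      _ = (c * c)⁻¹ * (k * k) := by group
      _ = z⁻¹ * (k * k) := by rw [hcc]
  rw [hcen] at hcalc
  apply hz1
  have : z⁻¹ = 1 := by
    have h := congrArg (· * (k * k)⁻¹) hcalc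
    simp only [mul_inv_cancel] at h
    rw [mul_assoc, mul_inv_cancel, mul_one] at h
    exact h.symm
  rwa [inv_eq_one] at this


/-- for `t ∈ T`, `y ↦ ⁅y, t⁆` is a homomorphism -/
noncomputable def stHom (t : Q) (ht : t ∈ stT z hz2 hzc) : Q →* Q :=
  MonoidHom.mk' (fun y => ⁅y, t⁆) (by
    intro a b
    rw [commutatorElement_mul_left_eq_conj_mul,
      st_cz_conj z hzc _ (stT_comm' z hz2 hzc t ht b) a]
    exact (st_cz_comm z hzc _ (stT_comm' z hz2 hzc t ht b) _))

theorem stHom_apply (t : Q) (ht : t ∈ stT z hz2 hzc) (y : Q) :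
    stHom z hz2 hzc t ht y = ⁅y, t⁆ := rfl

theorem stHom_ker (t : Q) (ht : t ∈ stT z hz2 hzc) :
    (stHom z hz2 hzc t ht).ker = Subgroup.centralizer ({t} : Set Q) := by
  ext y
  rw [MonoidHom.mem_ker, stHom_apply, Subgroup.mem_centralizer_iff,
    commutatorElement_eq_one_iff_mul_comm]
  constructor
  · intro h w hw; rw [Set.mem_singleton_iff.mp hw]; exact h.symm
  · intro h; exact (h t rfl).symm

theorem st_card_le_two_mul (t : Q) (ht : t ∈ stT z hz2 hzc) (K : Subgroup Q) :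
    Nat.card K ≤ 2 * Nat.card ↥(Subgroup.centralizer ({t} : Set Q) ⊓ K) := by
  have h1 := Cfsg.Agent.Lib.Helper3.card_mul_relIndex_of_le
    (inf_le_right : Subgroup.centralizer ({t} : Set Q) ⊓ K ≤ K)
  rw [Subgroup.inf_relIndex_right, ← stHom_ker z hz2 hzc t ht, Subgroup.relIndex_ker] at h1
  have h2 : Nat.card ↥(K.map (stHom z hz2 hzc t ht)) ≤ 2 := by
    have hle : K.map (stHom z hz2 hzc t ht) ≤ Subgroup.zpowers z := by
      rintro _ ⟨y, -, rfl⟩
      rw [stHom_apply]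
      rcases stT_comm' z hz2 hzc t ht y with h | h
      · rw [h]; exact Subgroup.one_mem _
      · rw [h]; exact Subgroup.mem_zpowers _
    refine (Subgroup.card_le_of_le hle).trans ?_
    rw [Nat.card_zpowers]
    exact Nat.le_of_dvd (by norm_num) (orderOf_dvd_of_pow_eq_one (by rw [pow_two]; exact hz2))
  rw [stHom_ker] at h1
  calc Nat.card K = Nat.card ↥(Subgroup.centralizer ({t} : Set Q) ⊓ K) *
        Nat.card ↥(K.map (stHom z hz2 hzc t ht)) := h1.symm
    _ ≤ Nat.card ↥(Subgroup.centralizer ({t} : Set Q) ⊓ K) * 2 := Nat.mul_le_mul_left _ h2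
    _ = 2 * _ := mul_comm _ _

theorem st_count (Q0 ZT : Subgroup Q) (S : Subgroup Q) (hST : S ≤ stT z hz2 hzc)
    (hP : Nat.card Q0 * Nat.card ZT ≤
      Nat.card ↥(Subgroup.centralizer (S : Set Q) ⊓ Q0) * Nat.card S) :
    Nat.card Q0 * Nat.card ZT ≤
      Nat.card ↥(Subgroup.centralizer ((stT z hz2 hzc : Subgroup Q) : Set Q) ⊓ Q0) *
        Nat.card ↥(stT z hz2 hzc) := by
  induction h : Nat.card ↥(stT z hz2 hzc) - Nat.card S using Nat.strong_induction_on
    generalizing S with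
  | _ n ih =>
    by_cases hS : S = stT z hz2 hzc
    · subst hS; exact hP
    obtain ⟨t, htT, htS⟩ := SetLike.exists_of_lt (lt_of_le_of_ne hST hS)
    obtain ⟨S₁, hS₁⟩ : ∃ S₁ : Subgroup Q, S₁ = S ⊔ Subgroup.zpowers t := ⟨_, rfl⟩
    have hS₁T : S₁ ≤ stT z hz2 hzc := by
      rw [hS₁]; exact sup_le hST (Subgroup.zpowers_le.mpr htT)
    have hSS₁ : S ≤ S₁ := by rw [hS₁]; exact le_sup_left
    have htS₁ : t ∈ S₁ := by
      rw [hS₁]; exact (le_sup_right : Subgroup.zpowers t ≤ _) (Subgroup.mem_zpowers t)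
    have hcard : 2 * Nat.card S ≤ Nat.card S₁ := by
      obtain ⟨m, hm⟩ := Subgroup.card_dvd_of_le hSS₁
      have hpos : 0 < Nat.card S₁ := Nat.card_pos
      have hposS : 0 < Nat.card S := Nat.card_pos
      have hm1 : m ≠ 1 := by
        intro h1
        rw [h1, mul_one] at hm
        have := Subgroup.eq_of_le_of_card_ge hSS₁ (le_of_eq hm)
        exact htS (this ▸ htS₁)
      have hm0 : m ≠ 0 := by
        intro h0; rw [h0, mul_zero] at hm; omega
      have : 2 ≤ m := by omega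
      calc 2 * Nat.card S ≤ m * Nat.card S := Nat.mul_le_mul_right _ this
        _ = Nat.card S₁ := by rw [hm, mul_comm]
    have hlt : Nat.card S < Nat.card S₁ := by
      have hposS : 0 < Nat.card S := Nat.card_pos
      omega
    have hle2 : Nat.card S₁ ≤ Nat.card ↥(stT z hz2 hzc) := Subgroup.card_le_of_le hS₁T
    have hPS₁ : Nat.card Q0 * Nat.card ZT ≤
        Nat.card ↥(Subgroup.centralizer (S₁ : Set Q) ⊓ Q0) * Nat.card S₁ := by
      have h1 := st_card_le_two_mul z hz2 hzc t htT (Subgroup.centralizer (S : Set Q) ⊓ Q0)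
      have h2 : Subgroup.centralizer ({t} : Set Q) ⊓ (Subgroup.centralizer (S : Set Q) ⊓ Q0) ≤
          Subgroup.centralizer (S₁ : Set Q) ⊓ Q0 := by
        intro x hx
        refine ⟨?_, hx.2.2⟩
        have hxS : S ≤ Subgroup.centralizer ({x} : Set Q) := by
          intro s hs
          rw [Subgroup.mem_centralizer_iff]
          intro w hw
          rw [Set.mem_singleton_iff.mp hw]
          exact (Subgroup.mem_centralizer_iff.mp hx.2.1 s hs).symm
        have hxt : Subgroup.zpowers t ≤ Subgroup.centralizer ({x} : Set Q) := by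
          rw [Subgroup.zpowers_le, Subgroup.mem_centralizer_iff]
          intro w hw
          rw [Set.mem_singleton_iff.mp hw]
          exact (Subgroup.mem_centralizer_iff.mp hx.1 t rfl).symm
        have hS₁x : S₁ ≤ Subgroup.centralizer ({x} : Set Q) := by
          rw [hS₁]; exact sup_le hxS hxt
        show x ∈ Subgroup.centralizer (S₁ : Set Q)
        rw [Subgroup.mem_centralizer_iff]
        intro s hs
        exact (Subgroup.mem_centralizer_iff.mp (hS₁x hs) x rfl).symm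
      have h3 := Subgroup.card_le_of_le h2
      calc Nat.card Q0 * Nat.card ZT
          ≤ Nat.card ↥(Subgroup.centralizer (S : Set Q) ⊓ Q0) * Nat.card S := hP
        _ ≤ (2 * Nat.card ↥(Subgroup.centralizer (S₁ : Set Q) ⊓ Q0)) * Nat.card S :=
            Nat.mul_le_mul_right _ (h1.trans (Nat.mul_le_mul_left _ h3))
        _ = Nat.card ↥(Subgroup.centralizer (S₁ : Set Q) ⊓ Q0) * (2 * Nat.card S) := by ring
        _ ≤ Nat.card ↥(Subgroup.centralizer (S₁ : Set Q) ⊓ Q0) * Nat.card S₁ :=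
            Nat.mul_le_mul_left _ hcard
    exact ih (Nat.card ↥(stT z hz2 hzc) - Nat.card S₁) (by omega) S₁ hS₁T hPS₁ rfl


include hz2 hzc in
theorem st_index_two (ZT : Subgroup Q) [hZn : ZT.Normal]
    (hab : ∀ a ∈ ZT, ∀ b ∈ ZT, a * b = b * a)
    (hsq : ∀ x ∈ ZT, x * x = 1 ∨ x * x = z)
    (hinv : ∀ x ∈ ZT, x * x = 1 → x = 1 ∨ x = z)
    (h4 : ∀ q : Q, q ^ 4 = 1) (hz1 : z ≠ 1)
    (q1 q2 : Q) (h1 : q1 ∉ Subgroup.centralizer (ZT : Set Q))
    (h2 : q2 ∉ Subgroup.centralizer (ZT : Set Q)) :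
    q1 * q2 ∈ Subgroup.centralizer (ZT : Set Q) := by
  rw [Subgroup.mem_centralizer_iff] at h1
  push Not at h1
  obtain ⟨c, hcZ, hcq⟩ := h1
  have hcc : c * c = z := by
    rcases hsq c hcZ with h | h
    · exfalso
      exact hcq (st_cz_comm z hzc c (hinv c hcZ h) q1)
    · exact h
  have hc4 : c * c * (c * c) = 1 := by
    have h := h4 c
    rw [show (4 : ℕ) = 2 + 2 from rfl, pow_add, pow_two] at h
    exact h
  have hzc1 : z * c = c⁻¹ := by
    rw [← hcc]
    apply eq_inv_of_mul_eq_one_left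
    rw [← hc4]; group
  have hall : ∀ x ∈ ZT, x = 1 ∨ x = z ∨ x = c ∨ x = c⁻¹ := by
    intro x hx
    rcases hsq x hx with h | h
    · rcases hinv x hx h with h' | h'
      · left; exact h'
      · right; left; exact h'
    · have hyZ : x * c⁻¹ ∈ ZT := Subgroup.mul_mem _ hx (Subgroup.inv_mem _ hcZ)
      have hyy : (x * c⁻¹) * (x * c⁻¹) = 1 := by
        have hxc : c⁻¹ * x = x * c⁻¹ := hab _ (Subgroup.inv_mem _ hcZ) _ hx
        calc (x * c⁻¹) * (x * c⁻¹) = x * (c⁻¹ * x) * c⁻¹ := by group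
          _ = x * (x * c⁻¹) * c⁻¹ := by rw [hxc]
          _ = (x * x) * (c * c)⁻¹ := by group
          _ = 1 := by rw [h, hcc, mul_inv_cancel]
      rcases hinv _ hyZ hyy with h' | h'
      · right; right; left
        calc x = (x * c⁻¹) * c := by group
          _ = c := by rw [h', one_mul]
      · right; right; right
        calc x = (x * c⁻¹) * c := by group
          _ = c⁻¹ := by rw [h', hzc1]
  have hconj : ∀ q : Q, q * c * q⁻¹ = c ∨ q * c * q⁻¹ = c⁻¹ := by
    intro q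
    have hdZ : q * c * q⁻¹ ∈ ZT := hZn.conj_mem c hcZ q
    have hdd : (q * c * q⁻¹) * (q * c * q⁻¹) = z := by
      calc (q * c * q⁻¹) * (q * c * q⁻¹) = q * (c * c) * q⁻¹ := by group
        _ = z := by rw [hcc]; exact st_cz_conj z hzc z (Or.inr rfl) q
    rcases hall _ hdZ with h | h | h | h
    · exfalso; rw [h, one_mul] at hdd; exact hz1 hdd.symm
    · exfalso; rw [h, hz2] at hdd; exact hz1 hdd.symm
    · left; exact h
    · right; exact h
  have hmemQ0 : ∀ q : Q, q * c * q⁻¹ = c → q ∈ Subgroup.centralizer (ZT : Set Q) := by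
    intro q hq
    have hqc : c * q = q * c := by
      calc c * q = (q * c * q⁻¹) * q := by rw [hq]
        _ = q * c := by group
    rw [Subgroup.mem_centralizer_iff]
    intro x hx
    rcases hall x hx with h | h | h | h
    · rw [h]; simp
    · rw [h]; exact hzc q
    · rw [h]; exact hqc
    · rw [h]
      calc c⁻¹ * q = c⁻¹ * (q * c) * c⁻¹ := by group
        _ = c⁻¹ * (c * q) * c⁻¹ := by rw [hqc]
        _ = q * c⁻¹ := by group
  have hq1 : q1 * c * q1⁻¹ = c⁻¹ := by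
    rcases hconj q1 with h | h
    · exfalso
      apply hcq
      calc c * q1 = (q1 * c * q1⁻¹) * q1 := by rw [h]
        _ = q1 * c := by group
    · exact h
  have hq2 : q2 * c * q2⁻¹ = c⁻¹ := by
    rcases hconj q2 with h | h
    · exact absurd (hmemQ0 q2 h) h2
    · exact h
  apply hmemQ0
  calc q1 * q2 * c * (q1 * q2)⁻¹ = q1 * (q2 * c * q2⁻¹) * q1⁻¹ := by group
    _ = q1 * c⁻¹ * q1⁻¹ := by rw [hq2]
    _ = (q1 * c * q1⁻¹)⁻¹ := by group
    _ = c := by rw [hq1, inv_inv]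

theorem st_T_top (h2 : IsPGroup 2 Q) (hz1 : z ≠ 1) (h4 : ∀ q : Q, q ^ 4 = 1)
    (hchar : ∀ A : Subgroup Q, A.Characteristic → IsMulCommutative A → IsCyclic A)
    (hcz : ∀ x : Q, (∀ y, x * y = y * x) → x * x = 1 → x = 1 ∨ x = z) :
    stT z hz2 hzc = ⊤ := by
  haveI hTc : (stT z hz2 hzc).Characteristic := stT_char z hz2 hzc hz1 hcz
  have hK := st_K_le_T z hz2 hzc h2 hz1 h4 hchar hcz
  obtain ⟨ZT, hZT⟩ : ∃ ZT : Subgroup Q, ZT = stT z hz2 hzc ⊓
    Subgroup.centralizer ((stT z hz2 hzc : Subgroup Q) : Set Q) := ⟨_, rfl⟩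
  haveI hZTc : ZT.Characteristic := by rw [hZT]; infer_instance
  haveI hZTn : ZT.Normal := inferInstance
  obtain ⟨Q0, hQ0⟩ : ∃ Q0 : Subgroup Q, Q0 = Subgroup.centralizer (ZT : Set Q) := ⟨_, rfl⟩
  have hZT_T : ZT ≤ stT z hz2 hzc := by rw [hZT]; exact inf_le_left
  have hZT_K : ZT ≤ Subgroup.centralizer ((stT z hz2 hzc : Subgroup Q) : Set Q) := by
    rw [hZT]; exact inf_le_right
  have hTQ0 : stT z hz2 hzc ≤ Q0 := by
    intro t ht
    rw [hQ0, Subgroup.mem_centralizer_iff]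
    intro c hc
    exact (Subgroup.mem_centralizer_iff.mp (hZT_K hc) t ht).symm
  have hQ0T : Q0 = stT z hz2 hzc := by
    symm
    apply Subgroup.eq_of_le_of_card_ge hTQ0
    have hbase : Nat.card Q0 * Nat.card ZT ≤
        Nat.card ↥(Subgroup.centralizer (ZT : Set Q) ⊓ Q0) * Nat.card ZT := by
      rw [← hQ0, inf_idem]
    have hcount := st_count z hz2 hzc Q0 ZT ZT hZT_T hbase
    have h5 : Subgroup.centralizer ((stT z hz2 hzc : Subgroup Q) : Set Q) ⊓ Q0 ≤ ZT := by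
      intro x hx
      rw [hZT]
      exact ⟨hK hx.1, hx.1⟩
    have h6 := Subgroup.card_le_of_le h5
    have hpos : 0 < Nat.card ZT := Nat.card_pos
    have h7 : Nat.card Q0 * Nat.card ZT ≤ Nat.card ↥(stT z hz2 hzc) * Nat.card ZT :=
      hcount.trans (by rw [mul_comm]; exact Nat.mul_le_mul_left _ h6)
    exact Nat.le_of_mul_le_mul_right h7 hpos
  rw [eq_top_iff]
  intro u _
  by_contra huT
  have huT' := huT
  rw [mem_stT] at huT'
  push Not at huT'
  obtain ⟨q, hq1, hqz⟩ := huT'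
  have hqT : q ∉ stT z hz2 hzc := by
    intro hq
    rcases stT_comm' z hz2 hzc q hq u with h | h
    · exact hq1 h
    · exact hqz h
  have huinvT : u⁻¹ ∉ stT z hz2 hzc := fun h => huT (inv_inv u ▸ Subgroup.inv_mem _ h)
  have hab : ∀ a ∈ ZT, ∀ b ∈ ZT, a * b = b * a := by
    intro a ha b hb
    exact (Subgroup.mem_centralizer_iff.mp (hZT_K hb) a (hZT_T ha))
  have hsq : ∀ x ∈ ZT, x * x = 1 ∨ x * x = z :=
    fun x hx => stT_sq z hz2 hzc h4 hcz x (hZT_T hx)
  have hinv : ∀ x ∈ ZT, x * x = 1 → x = 1 ∨ x = z :=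
    fun x hx => st_ZT_inv z hz2 hzc hz1 hchar hcz x (hZT_T hx) (hZT_K hx)
  have hmem := st_index_two z hz2 hzc ZT hab hsq hinv h4 hz1 q u⁻¹
    (by rw [← hQ0, hQ0T]; exact hqT) (by rw [← hQ0, hQ0T]; exact huinvT)
  rw [← hQ0, hQ0T] at hmem
  -- q = t * u with t ∈ T
  have h8 : ⁅u, q⁆ = ⁅u, q * u⁻¹⁆ := by
    rw [commutatorElement_def, commutatorElement_def]; group
  rcases stT_comm' z hz2 hzc _ hmem u with h | h
  · exact hq1 (h8.trans h)
  · exact hqz (h8.trans h)

include hz2 hzc in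
/-- **Structure of 2-groups of symplectic type and exponent dividing 4**: all commutators and
squares lie in `{1, z}` for the unique central involution `z`. -/
theorem st_structure (h2 : IsPGroup 2 Q)
    (hchar : ∀ A : Subgroup Q, A.Characteristic → IsMulCommutative A → IsCyclic A)
    (h4 : ∀ q : Q, q ^ 4 = 1) (hz1 : z ≠ 1) :
    (∀ x : Q, (∀ y, x * y = y * x) → x * x = 1 → x = 1 ∨ x = z) ∧
    (∀ a b : Q, ⁅a, b⁆ = 1 ∨ ⁅a, b⁆ = z) ∧ (∀ a : Q, a * a = 1 ∨ a * a = z) := by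
  have hoz : orderOf z = 2 := orderOf_eq_prime (by rw [pow_two]; exact hz2) hz1
  have hzcen : z ∈ Subgroup.center Q := Subgroup.mem_center_iff.mpr (fun y => (hzc y).symm)
  have hcz : ∀ x : Q, (∀ y, x * y = y * x) → x * x = 1 → x = 1 ∨ x = z := by
    intro x hxc hx2
    by_cases hx1 : x = 1
    · left; exact hx1
    right
    have hox : orderOf x = 2 := orderOf_eq_prime (by rw [pow_two]; exact hx2) hx1
    exact Cfsg.Agent.Lib.Helper9.central_involution_unique hchar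
      (Subgroup.mem_center_iff.mpr (fun y => (hxc y).symm)) hzcen hox hoz
  have htop := st_T_top z hz2 hzc h2 hz1 h4 hchar hcz
  refine ⟨hcz, fun a b => ?_, fun a => ?_⟩
  · have : a ∈ stT z hz2 hzc := by rw [htop]; exact Subgroup.mem_top a
    exact this b
  · have : a ∈ stT z hz2 hzc := by rw [htop]; exact Subgroup.mem_top a
    exact stT_sq z hz2 hzc h4 hcz a this

end fin

end SympA

end Cfsg.Agent.Lib.Helper20
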