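import Mathlib
import Cfsg.Agent.Lib.Helper20.SympType1

set_option linter.style.haveILetI false
set_option linter.unusedVariables false
set_option linter.unusedSectionVars false

namespace Cfsg.Agent.Lib.Helper20

open scoped commutatorElement

/-- The hypotheses on a pair `(z, Q)`: `z` an involution, `Q` a normal 2-subgroup of `C_G(z)`
containing its own centralizer in `C_G(z)`, with commutators and squares in `{1, z}` and `z` its
only central involution. -/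
structure SympPair {G : Type*} [Group G] (z : G) (Q : Subgroup G) : Prop where
  z2 : z * z = 1
  z1 : z ≠ 1
  le : ∀ q ∈ Q, z * q = q * z
  normal : ∀ c : G, z * c = c * z → ∀ q ∈ Q, c * q * c⁻¹ ∈ Q
  self : ∀ c : G, z * c = c * z → (∀ q ∈ Q, c * q = q * c) → c ∈ Q
  zmem : z ∈ Q
  comm : ∀ a ∈ Q, ∀ b ∈ Q, ⁅a, b⁆ = 1 ∨ ⁅a, b⁆ = z
  sq : ∀ a ∈ Q, a * a = 1 ∨ a * a = z
  cen : ∀ x ∈ Q, (∀ q ∈ Q, x * q = q * x) → x * x = 1 → x = 1 ∨ x = z
  pgroup : IsPGroup 2 Q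

section basic
variable {G : Type*} [Group G] {z : G} {Q : Subgroup G}

theorem st_ez_comm {z : G} (e : G) (he : e = 1 ∨ e = z) (a : G) (ha : z * a = a * z) :
    e * a = a * e := by
  rcases he with rfl | rfl
  · simp
  · exact ha

theorem st_ez_conj {z : G} (e : G) (he : e = 1 ∨ e = z) (a : G) (ha : z * a = a * z) :
    a * e * a⁻¹ = e := by
  rw [← st_ez_comm e he a ha]; group

theorem st_comm_mem (Q : Subgroup G) {a c : G} (ha : a ∈ Q) (hc : c ∈ Q) : ⁅a, c⁆ ∈ Q := by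
  rw [commutatorElement_def]
  exact Q.mul_mem (Q.mul_mem (Q.mul_mem ha hc) (Q.inv_mem ha)) (Q.inv_mem hc)

theorem SympPair.zinv (hQ : SympPair z Q) : z⁻¹ = z := inv_eq_of_mul_eq_one_right hQ.z2

theorem SympPair.einv (hQ : SympPair z Q) (e : G) (he : e = 1 ∨ e = z) : e⁻¹ = e :=
  st_cz_inv z hQ.z2 e he

theorem SympPair.comm_mul_left (hQ : SympPair z Q) (a b c : G) (ha : a ∈ Q) (hb : b ∈ Q)
    (hc : c ∈ Q) : ⁅a * b, c⁆ = ⁅a, c⁆ * ⁅b, c⁆ := by
  rw [commutatorElement_mul_left_eq_conj_mul,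
    st_ez_conj _ (hQ.comm b hb c hc) a (hQ.le a ha)]
  have hz : z * ⁅a, c⁆ = ⁅a, c⁆ * z := hQ.le _ (st_comm_mem Q ha hc)
  exact st_ez_comm _ (hQ.comm b hb c hc) _ hz

theorem SympPair.comm_symm (hQ : SympPair z Q) (a b : G) (ha : a ∈ Q) (hb : b ∈ Q) :
    ⁅a, b⁆ = ⁅b, a⁆ := by
  have h1 : ⁅a, b⁆ = ⁅b, a⁆⁻¹ := (commutatorElement_inv b a).symm
  rw [h1, hQ.einv _ (hQ.comm b hb a ha)]

theorem SympPair.comm_mul_right (hQ : SympPair z Q) (a b c : G) (ha : a ∈ Q) (hb : b ∈ Q)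
    (hc : c ∈ Q) : ⁅a, b * c⁆ = ⁅a, b⁆ * ⁅a, c⁆ := by
  rw [hQ.comm_symm a (b * c) ha (Q.mul_mem hb hc), hQ.comm_mul_left b c a hb hc ha,
    hQ.comm_symm b a hb ha, hQ.comm_symm c a hc ha]

theorem st_mem_map_conj (Q : Subgroup G) (g x : G) :
    x ∈ Q.map (MulAut.conj g).toMonoidHom ↔ g⁻¹ * x * g ∈ Q := by
  rw [Subgroup.mem_map_equiv]
  simp [MulAut.conj_symm_apply]

theorem SympPair.conj (hQ : SympPair z Q) (g : G) :
    SympPair (g * z * g⁻¹) (Q.map (MulAut.conj g).toMonoidHom) := by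
  have hcomm_tr : ∀ c : G, g * z * g⁻¹ * c = c * (g * z * g⁻¹) →
      z * (g⁻¹ * c * g) = (g⁻¹ * c * g) * z := by
    intro c hc
    calc z * (g⁻¹ * c * g) = g⁻¹ * (g * z * g⁻¹ * c) * g := by group
      _ = g⁻¹ * (c * (g * z * g⁻¹)) * g := by rw [hc]
      _ = (g⁻¹ * c * g) * z := by group
  refine ⟨?_, ?_, ?_, ?_, ?_, ?_, ?_, ?_, ?_, ?_⟩
  · calc g * z * g⁻¹ * (g * z * g⁻¹) = g * (z * z) * g⁻¹ := by group
      _ = 1 := by rw [hQ.z2]; group
  · intro h
    apply hQ.z1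
    calc z = g⁻¹ * (g * z * g⁻¹) * g := by group
      _ = 1 := by rw [h]; group
  · intro x hx
    rw [st_mem_map_conj] at hx
    have h := hQ.le _ hx
    calc g * z * g⁻¹ * x = g * (z * (g⁻¹ * x * g)) * g⁻¹ := by group
      _ = g * ((g⁻¹ * x * g) * z) * g⁻¹ := by rw [h]
      _ = x * (g * z * g⁻¹) := by group
  · intro c hc x hx
    rw [st_mem_map_conj] at hx ⊢
    have h := hQ.normal _ (hcomm_tr c hc) _ hx
    have : g⁻¹ * (c * x * c⁻¹) * g = g⁻¹ * c * g * (g⁻¹ * x * g) * (g⁻¹ * c * g)⁻¹ := by group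
    rw [this]; exact h
  · intro c hc hall
    rw [st_mem_map_conj]
    apply hQ.self _ (hcomm_tr c hc)
    intro q hq
    have hq' : g * q * g⁻¹ ∈ Q.map (MulAut.conj g).toMonoidHom := by
      rw [st_mem_map_conj]
      have : g⁻¹ * (g * q * g⁻¹) * g = q := by group
      rw [this]; exact hq
    have h := hall _ hq'
    calc g⁻¹ * c * g * q = g⁻¹ * (c * (g * q * g⁻¹)) * g := by group
      _ = g⁻¹ * ((g * q * g⁻¹) * c) * g := by rw [h]
      _ = q * (g⁻¹ * c * g) := by group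
  · rw [st_mem_map_conj]
    have : g⁻¹ * (g * z * g⁻¹) * g = z := by group
    rw [this]; exact hQ.zmem
  · intro a ha b hb
    rw [st_mem_map_conj] at ha hb
    have h1 : ⁅a, b⁆ = g * ⁅g⁻¹ * a * g, g⁻¹ * b * g⁆ * g⁻¹ := by
      simp only [commutatorElement_def]; group
    rcases hQ.comm _ ha _ hb with h | h
    · left; rw [h1, h]; group
    · right; rw [h1, h]
  · intro a ha
    rw [st_mem_map_conj] at ha
    have h1 : a * a = g * ((g⁻¹ * a * g) * (g⁻¹ * a * g)) * g⁻¹ := by group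
    rcases hQ.sq _ ha with h | h
    · left; rw [h1, h]; group
    · right; rw [h1, h]
  · intro x hx hxc hx2
    rw [st_mem_map_conj] at hx
    have hc' : ∀ q ∈ Q, (g⁻¹ * x * g) * q = q * (g⁻¹ * x * g) := by
      intro q hq
      have hq' : g * q * g⁻¹ ∈ Q.map (MulAut.conj g).toMonoidHom := by
        rw [st_mem_map_conj]
        have : g⁻¹ * (g * q * g⁻¹) * g = q := by group
        rw [this]; exact hq
      have h := hxc _ hq'
      calc g⁻¹ * x * g * q = g⁻¹ * (x * (g * q * g⁻¹)) * g := by group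
        _ = g⁻¹ * ((g * q * g⁻¹) * x) * g := by rw [h]
        _ = q * (g⁻¹ * x * g) := by group
    have h2' : (g⁻¹ * x * g) * (g⁻¹ * x * g) = 1 := by
      calc (g⁻¹ * x * g) * (g⁻¹ * x * g) = g⁻¹ * (x * x) * g := by group
        _ = 1 := by rw [hx2]; group
    rcases hQ.cen _ hx hc' h2' with h | h
    · left
      calc x = g * (g⁻¹ * x * g) * g⁻¹ := by group
        _ = 1 := by rw [h]; group
    · right
      calc x = g * (g⁻¹ * x * g) * g⁻¹ := by group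
        _ = g * z * g⁻¹ := by rw [h]
  · exact hQ.pgroup.map _

end basic


section core
variable {G : Type*} [Group G] {z w : G} {Q R : Subgroup G}

theorem st_exists_q0 (hQ : SympPair z Q) (hwQ : w ∈ Q) (hw2 : w * w = 1) (hw1 : w ≠ 1)
    (hwz : w ≠ z) : ∃ q0 ∈ Q, ⁅q0, w⁆ = z := by
  by_contra hcon
  push Not at hcon
  have hc : ∀ q ∈ Q, w * q = q * w := by
    intro q hq
    rcases hQ.comm q hq w hwQ with h | h
    · exact (commutatorElement_eq_one_iff_mul_comm.mp h).symm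
    · exact absurd h (hcon q hq)
  rcases hQ.cen w hwQ hc hw2 with h | h
  · exact hw1 h
  · exact hwz h

theorem st_X_or (hQ : SympPair z Q) (hwQ : w ∈ Q) (q0 : G) (hq0 : q0 ∈ Q)
    (hq0w : ⁅q0, w⁆ = z) (q : G) (hq : q ∈ Q) :
    w * q = q * w ∨ w * (q * q0) = (q * q0) * w := by
  rcases hQ.comm q hq w hwQ with h | h
  · left; exact (commutatorElement_eq_one_iff_mul_comm.mp h).symm
  · right
    have h1 := hQ.comm_mul_left q q0 w hq hq0 hwQ
    rw [h, hq0w, hQ.z2] at h1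
    exact (commutatorElement_eq_one_iff_mul_comm.mp h1).symm

theorem st_central_of (hQ : SympPair z Q) (hwQ : w ∈ Q) (q0 : G) (hq0 : q0 ∈ Q)
    (hq0w : ⁅q0, w⁆ = z) (d : G)
    (hdX : ∀ x ∈ Q, w * x = x * w → d * x = x * d) (hd0 : d * q0 = q0 * d) :
    ∀ q ∈ Q, d * q = q * d := by
  intro q hq
  rcases st_X_or hQ hwQ q0 hq0 hq0w q hq with h | h
  · exact hdX q hq h
  · have h1 := hdX (q * q0) (Q.mul_mem hq hq0) h
    have h2 : d * q0⁻¹ = q0⁻¹ * d := by
      calc d * q0⁻¹ = q0⁻¹ * (q0 * d) * q0⁻¹ := by group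
        _ = q0⁻¹ * (d * q0) * q0⁻¹ := by rw [hd0]
        _ = q0⁻¹ * d := by group
    calc d * q = d * (q * q0) * q0⁻¹ := by group
      _ = (q * q0) * d * q0⁻¹ := by rw [h1]
      _ = q * q0 * (d * q0⁻¹) := by group
      _ = q * q0 * (q0⁻¹ * d) := by rw [h2]
      _ = q * d := by group

theorem st_dc (hQ : SympPair z Q) (hwQ : w ∈ Q) (q0 : G) (hq0 : q0 ∈ Q)
    (hq0w : ⁅q0, w⁆ = z) (d : G) (hdQ : d ∈ Q)
    (hdX : ∀ x ∈ Q, w * x = x * w → d * x = x * d) :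
    (∀ q ∈ Q, d * q = q * d) ∨ (∀ q ∈ Q, (d * w) * q = q * (d * w)) := by
  rcases hQ.comm q0 hq0 d hdQ with h | h
  · left
    exact st_central_of hQ hwQ q0 hq0 hq0w d hdX
      (commutatorElement_eq_one_iff_mul_comm.mp h).symm
  · right
    apply st_central_of hQ hwQ q0 hq0 hq0w (d * w)
    · intro x hx hwx
      calc d * w * x = d * (x * w) := by rw [mul_assoc, hwx]
        _ = (d * x) * w := by group
        _ = x * d * w := by rw [hdX x hx hwx]
        _ = x * (d * w) := by group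
    · have h1 := hQ.comm_mul_right q0 d w hq0 hdQ hwQ
      rw [h, hq0w, hQ.z2] at h1
      exact (commutatorElement_eq_one_iff_mul_comm.mp h1).symm

theorem st_D_aux (hQ : SympPair z Q) (hzR : z ∉ R) (e : G) (heQ : e ∈ Q) (heR : e ∈ R)
    (hec : ∀ q ∈ Q, e * q = q * e) : e = 1 := by
  rcases hQ.sq e heQ with h | h
  · rcases hQ.cen e heQ hec h with h' | h'
    · exact h'
    · exact absurd (h' ▸ heR) hzR
  · exact absurd (h ▸ R.mul_mem heR heR) hzR

theorem st_D (hQ : SympPair z Q) (hR : SympPair w R) (hwQ : w ∈ Q) (hwz : w ≠ z)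
    (hzR : z ∉ R) (d : G) (hdQ : d ∈ Q) (hdR : d ∈ R) : d = 1 ∨ d = w := by
  obtain ⟨q0, hq0, hq0w⟩ := st_exists_q0 hQ hwQ hR.z2 hR.z1 hwz
  have hdX : ∀ x ∈ Q, w * x = x * w → d * x = x * d := by
    intro x hx hwx
    have hmem : ⁅d, x⁆ ∈ R := by
      have : ⁅d, x⁆ = d * (x * d⁻¹ * x⁻¹) := by rw [commutatorElement_def]; group
      rw [this]
      exact R.mul_mem hdR (hR.normal x hwx _ (R.inv_mem hdR))
    rcases hQ.comm d hdQ x hx with h | h
    · exact commutatorElement_eq_one_iff_mul_comm.mp h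
    · exact absurd (h ▸ hmem) hzR
  rcases st_dc hQ hwQ q0 hq0 hq0w d hdQ hdX with h | h
  · left; exact st_D_aux hQ hzR d hdQ hdR h
  · right
    have h1 := st_D_aux hQ hzR (d * w) (Q.mul_mem hdQ hwQ) (R.mul_mem hdR hR.zmem) h
    have hwinv : w⁻¹ = w := hR.zinv
    calc d = (d * w) * w⁻¹ := by group
      _ = w := by rw [h1, one_mul, hwinv]

theorem st_XY (hQ : SympPair z Q) (hR : SympPair w R) (hwQ : w ∈ Q) (hwz : w ≠ z)
    (hzR : z ∉ R) (x : G) (hx : x ∈ Q) (hwx : w * x = x * w) (y : G) (hy : y ∈ R)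
    (hzy : z * y = y * z) : ⁅x, y⁆ = 1 ∨ ⁅x, y⁆ = w := by
  apply st_D hQ hR hwQ hwz hzR
  · have : ⁅x, y⁆ = x * (y * x⁻¹ * y⁻¹) := by rw [commutatorElement_def]; group
    rw [this]
    exact Q.mul_mem hx (hQ.normal y hzy _ (Q.inv_mem hx))
  · have : ⁅x, y⁆ = (x * y * x⁻¹) * y⁻¹ := by rw [commutatorElement_def]
    rw [this]
    exact R.mul_mem (hR.normal x hwx _ hy) (R.inv_mem hy)

theorem st_conj_tw (hQ : SympPair z Q) (hR : SympPair w R) (hwQ : w ∈ Q) (hwz : w ≠ z)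
    (hzR : z ∉ R) (x : G) (hx : x ∈ Q) (hwx : w * x = x * w) (y : G) (hy : y ∈ R)
    (hzy : z * y = y * z) : ∃ e, (e = 1 ∨ e = w) ∧ x * y * x⁻¹ = e * y := by
  refine ⟨⁅x, y⁆, st_XY hQ hR hwQ hwz hzR x hx hwx y hy hzy, ?_⟩
  rw [commutatorElement_def]; group

theorem st_no_twist (hQ : SympPair z Q) (hR : SympPair w R) (hwQ : w ∈ Q)
    (hno : ∀ r ∈ R, r * z * r⁻¹ ≠ z * w) (r : G) (hr : r ∈ R)
    (h : ∃ e, (e = 1 ∨ e = w) ∧ z * r * z⁻¹ = e * r) : z * r = r * z := by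
  obtain ⟨e, he, h⟩ := h
  rcases he with rfl | rfl
  · rw [one_mul] at h
    calc z * r = (z * r * z⁻¹) * z := by group
      _ = r * z := by rw [h]
  · exfalso
    apply hno r hr
    have hzw : z * e = e * z := hQ.le e hwQ
    have h1 : r * z⁻¹ * r⁻¹ = z⁻¹ * e := by
      calc r * z⁻¹ * r⁻¹ = z⁻¹ * (z * r * z⁻¹) * r⁻¹ := by group
        _ = z⁻¹ * (e * r) * r⁻¹ := by rw [h]
        _ = z⁻¹ * e := by group
    calc r * z * r⁻¹ = (r * z⁻¹ * r⁻¹)⁻¹ := by group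
      _ = (z⁻¹ * e)⁻¹ := by rw [h1]
      _ = e⁻¹ * z := by group
      _ = e * z := by rw [hR.zinv]
      _ = z * e := hzw.symm

end core

section core2
variable {G : Type*} [Group G] {z w : G} {Q R : Subgroup G}

/-- case α, squares -/
theorem st_alpha1 (hQ : SympPair z Q) (hR : SympPair w R) (hwQ : w ∈ Q) (hwz : w ≠ z)
    (hzR : z ∉ R) (hno : ∀ r ∈ R, r * z * r⁻¹ ≠ z * w)
    (x : G) (hx : x ∈ Q) (hwx : w * x = x * w) (hxx : x * x = z)
    (r : G) (hr : r ∈ R) (haR : ⁅x, r⁆ ∈ R) (haz : z * ⁅x, r⁆ = ⁅x, r⁆ * z) :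
    z * r = r * z := by
  apply st_no_twist hQ hR hwQ hno r hr
  obtain ⟨a, ha⟩ : ∃ a, a = ⁅x, r⁆ := ⟨_, rfl⟩
  rw [← ha] at haR haz
  have hxr : x * r * x⁻¹ = a * r := by rw [ha, commutatorElement_def]; group
  obtain ⟨e, he, hxa⟩ := st_conj_tw hQ hR hwQ hwz hzR x hx hwx a haR haz
  have h1 : z * r * z⁻¹ = x * (x * r * x⁻¹) * x⁻¹ := by
    rw [← hxx]; group
  rw [hxr] at h1
  have h2 : x * (a * r) * x⁻¹ = (x * a * x⁻¹) * (x * r * x⁻¹) := by group
  rw [h2, hxa, hxr] at h1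
  have hwa : w * a = a * w := hR.le a haR
  refine ⟨e * (a * a), st_cz_mul w hR.z2 _ _ he (hR.sq a haR), ?_⟩
  rw [h1]; group

/-- case α, commutators -/
theorem st_alpha2 (hQ : SympPair z Q) (hR : SympPair w R) (hwQ : w ∈ Q) (hwz : w ≠ z)
    (hzR : z ∉ R) (hno : ∀ r ∈ R, r * z * r⁻¹ ≠ z * w)
    (x1 : G) (hx1 : x1 ∈ Q) (hwx1 : w * x1 = x1 * w)
    (x2 : G) (hx2 : x2 ∈ Q) (hwx2 : w * x2 = x2 * w) (hxx : ⁅x1, x2⁆ = z)
    (r : G) (hr : r ∈ R)
    (ha1R : ⁅x1, r⁆ ∈ R) (ha1z : z * ⁅x1, r⁆ = ⁅x1, r⁆ * z)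
    (ha2R : ⁅x2, r⁆ ∈ R) (ha2z : z * ⁅x2, r⁆ = ⁅x2, r⁆ * z) :
    z * r = r * z := by
  obtain ⟨a1, ha1⟩ : ∃ a, a = ⁅x1, r⁆ := ⟨_, rfl⟩
  obtain ⟨a2, ha2⟩ : ∃ a, a = ⁅x2, r⁆ := ⟨_, rfl⟩
  rw [← ha1] at ha1R ha1z
  rw [← ha2] at ha2R ha2z
  have hx1r : x1 * r * x1⁻¹ = a1 * r := by rw [ha1, commutatorElement_def]; group
  have hx2r : x2 * r * x2⁻¹ = a2 * r := by rw [ha2, commutatorElement_def]; group
  obtain ⟨e1, he1, h12⟩ := st_conj_tw hQ hR hwQ hwz hzR x1 hx1 hwx1 a2 ha2R ha2z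
  obtain ⟨e2, he2, h21⟩ := st_conj_tw hQ hR hwQ hwz hzR x2 hx2 hwx2 a1 ha1R ha1z
  obtain ⟨k, hk⟩ : ∃ k, k = ⁅a2, a1⁆ := ⟨_, rfl⟩
  have hk' : k = 1 ∨ k = w := by rw [hk]; exact hR.comm a2 ha2R a1 ha1R
  have ha21 : a2 * a1 = k * a1 * a2 := by rw [hk, commutatorElement_def]; group
  obtain ⟨m, hm⟩ : ∃ m, m = a1 * a2 * r := ⟨_, rfl⟩
  have hmR : m ∈ R := by rw [hm]; exact R.mul_mem (R.mul_mem ha1R ha2R) hr
  obtain ⟨r', hr'⟩ : ∃ r', r' = (x2 * x1) * r * (x2 * x1)⁻¹ := ⟨_, rfl⟩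
  have hzx1 : z * x1 = x1 * z := hQ.le x1 hx1
  have hzx2 : z * x2 = x2 * z := hQ.le x2 hx2
  have hr'R : r' ∈ R := by
    rw [hr']
    apply hR.normal _ _ r hr
    calc w * (x2 * x1) = (w * x2) * x1 := by group
      _ = x2 * (w * x1) := by rw [hwx2]; group
      _ = x2 * x1 * w := by rw [hwx1]; group
  have hr'm : r' = e2 * m := by
    have : r' = x2 * (x1 * r * x1⁻¹) * x2⁻¹ := by rw [hr']; group
    rw [this, hx1r]
    have : x2 * (a1 * r) * x2⁻¹ = (x2 * a1 * x2⁻¹) * (x2 * r * x2⁻¹) := by group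
    rw [this, h21, hx2r, hm]; group
  have hzx : z * (x2 * x1) = x1 * x2 := by
    rw [← hxx, commutatorElement_def]; group
  have hzr' : z * r' * z⁻¹ = e1 * k * m := by
    have : z * r' * z⁻¹ = (z * (x2 * x1)) * r * (z * (x2 * x1))⁻¹ := by rw [hr']; group
    rw [this, hzx]
    have : x1 * x2 * r * (x1 * x2)⁻¹ = x1 * (x2 * r * x2⁻¹) * x1⁻¹ := by group
    rw [this, hx2r]
    have : x1 * (a2 * r) * x1⁻¹ = (x1 * a2 * x1⁻¹) * (x1 * r * x1⁻¹) := by group
    rw [this, h12, hx1r, hm]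
    calc e1 * a2 * (a1 * r) = e1 * (a2 * a1) * r := by group
      _ = e1 * (k * a1 * a2) * r := by rw [ha21]
      _ = e1 * k * (a1 * a2 * r) := by group
  have he2sq : e2 * e2 = 1 := st_cz_sq w hR.z2 e2 he2
  have hzr : z * r' = r' * z := by
    apply st_no_twist hQ hR hwQ hno r' hr'R
    refine ⟨e1 * k * e2, st_cz_mul w hR.z2 _ _ (st_cz_mul w hR.z2 _ _ he1 hk') he2, ?_⟩
    rw [hzr', hr'm]
    calc e1 * k * m = e1 * k * (1 * m) := by group
      _ = e1 * k * ((e2 * e2) * m) := by rw [he2sq]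
      _ = e1 * k * e2 * (e2 * m) := by group
  -- transfer back to r
  have hzc : z * (x2 * x1) = (x2 * x1) * z := by
    calc z * (x2 * x1) = (z * x2) * x1 := by group
      _ = x2 * (z * x1) := by rw [hzx2]; group
      _ = x2 * x1 * z := by rw [hzx1]; group
  have hzc' : z * (x2 * x1)⁻¹ = (x2 * x1)⁻¹ * z := by
    calc z * (x2 * x1)⁻¹ = (x2 * x1)⁻¹ * ((x2 * x1) * z) * (x2 * x1)⁻¹ := by group
      _ = (x2 * x1)⁻¹ * (z * (x2 * x1)) * (x2 * x1)⁻¹ := by rw [hzc]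
      _ = (x2 * x1)⁻¹ * z := by group
  have hr : r = (x2 * x1)⁻¹ * r' * (x2 * x1) := by rw [hr']; group
  rw [hr]
  calc z * ((x2 * x1)⁻¹ * r' * (x2 * x1)) = (z * (x2 * x1)⁻¹) * r' * (x2 * x1) := by group
    _ = (x2 * x1)⁻¹ * (z * r') * (x2 * x1) := by rw [hzc']; group
    _ = (x2 * x1)⁻¹ * r' * (z * (x2 * x1)) := by rw [hzr]; group
    _ = (x2 * x1)⁻¹ * r' * (x2 * x1) * z := by rw [hzc]; group

end core2

section core3
variable {G : Type*} [Group G] {z w : G} {Q R : Subgroup G}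

theorem st_comm_inv_mem (R : Subgroup G) (z r x : G) (h1 : ⁅r, x⁆ ∈ R)
    (h2 : z * ⁅r, x⁆ = ⁅r, x⁆ * z) : ⁅x, r⁆ ∈ R ∧ z * ⁅x, r⁆ = ⁅x, r⁆ * z := by
  have h : ⁅x, r⁆ = ⁅r, x⁆⁻¹ := (commutatorElement_inv r x).symm
  rw [h]
  refine ⟨R.inv_mem h1, ?_⟩
  calc z * ⁅r, x⁆⁻¹ = ⁅r, x⁆⁻¹ * (⁅r, x⁆ * z) * ⁅r, x⁆⁻¹ := by group
    _ = ⁅r, x⁆⁻¹ * (z * ⁅r, x⁆) * ⁅r, x⁆⁻¹ := by rw [h2]
    _ = ⁅r, x⁆⁻¹ * z := by group

theorem st_case_alpha [Finite G] (hQ : SympPair z Q) (hR : SympPair w R) (hwQ : w ∈ Q)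
    (hwz : w ≠ z) (hzR : z ∉ R) (hno : ∀ r ∈ R, r * z * r⁻¹ ≠ z * w)
    (hα : (∃ x ∈ Q, w * x = x * w ∧ x * x = z) ∨
      (∃ x1 ∈ Q, w * x1 = x1 * w ∧ ∃ x2 ∈ Q, w * x2 = x2 * w ∧ ⁅x1, x2⁆ = z)) : False := by
  haveI : Fact (Nat.Prime 2) := ⟨Nat.prime_two⟩
  have hzw : z * w = w * z := hQ.le w hwQ
  have hall : ∀ r ∈ R, z * r = r * z := by
    by_contra hcon
    push Not at hcon
    obtain ⟨r0, hr0R, hr0z⟩ := hcon
    obtain ⟨X, hX⟩ : ∃ X : Subgroup G, X = Q ⊓ Subgroup.centralizer ({w} : Set G) := ⟨_, rfl⟩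
    have hXmem : ∀ x, x ∈ X ↔ x ∈ Q ∧ w * x = x * w := by
      intro x
      rw [hX, Subgroup.mem_inf, Subgroup.mem_centralizer_singleton_iff]
      exact ⟨fun h => ⟨h.1, h.2.symm⟩, fun h => ⟨h.1, h.2.symm⟩⟩
    have hXn : X ≤ Subgroup.normalizer (R : Set G) := by
      intro x hx
      rw [hXmem] at hx
      rw [Subgroup.mem_normalizer_iff]
      intro h
      constructor
      · intro hh; exact hR.normal x hx.2 h hh
      · intro hh
        have hwx' : w * x⁻¹ = x⁻¹ * w := by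
          calc w * x⁻¹ = x⁻¹ * (x * w) * x⁻¹ := by group
            _ = x⁻¹ * (w * x) * x⁻¹ := by rw [hx.2]
            _ = x⁻¹ * w := by group
        have := hR.normal x⁻¹ hwx' _ hh
        have h2 : x⁻¹ * (x * h * x⁻¹) * x⁻¹⁻¹ = h := by group
        rwa [h2] at this
    have hXp : IsPGroup 2 ↥X := hQ.pgroup.to_le (by rw [hX]; exact inf_le_left)
    have hP2 : IsPGroup 2 ↥(X ⊔ R) := IsPGroup.to_sup_of_normal_right' hXp hR.pgroup hXn
    have hnil : Group.IsNilpotent ↥(X ⊔ R) := IsPGroup.isNilpotent hP2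
    obtain ⟨r, hrR, hrY, hrc⟩ := st_nilp_step (X ⊔ R) hnil (R : Set G)
      {y | y ∈ R ∧ z * y = y * z} (X : Set G) (fun _ h => (le_sup_right : R ≤ X ⊔ R) h)
      (fun _ h => (le_sup_left : X ≤ X ⊔ R) h)
      (by
        intro m hm x hx
        have hx' := (hXmem x).mp hx
        have hwx' : w * x = x * w := hx'.2
        have : ⁅m, x⁆ = m * (x * m⁻¹ * x⁻¹) := by rw [commutatorElement_def]; group
        rw [this]
        exact R.mul_mem hm (hR.normal x hwx' _ (R.inv_mem hm)))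
      ⟨R.one_mem, by simp⟩ ⟨r0, hr0R, fun h => hr0z h.2⟩
    have hrR' : r ∈ R := hrR
    apply hrY
    refine ⟨hrR', ?_⟩
    have hcx : ∀ x ∈ Q, w * x = x * w → ⁅x, r⁆ ∈ R ∧ z * ⁅x, r⁆ = ⁅x, r⁆ * z := by
      intro x hx hwx
      have := hrc x ((hXmem x).mpr ⟨hx, hwx⟩)
      exact st_comm_inv_mem R z r x this.1 this.2
    rcases hα with ⟨x, hx, hwx, hxx⟩ | ⟨x1, hx1, hwx1, x2, hx2, hwx2, hxx⟩
    · exact st_alpha1 hQ hR hwQ hwz hzR hno x hx hwx hxx r hrR' (hcx x hx hwx).1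
        (hcx x hx hwx).2
    · exact st_alpha2 hQ hR hwQ hwz hzR hno x1 hx1 hwx1 x2 hx2 hwx2 hxx r hrR'
        (hcx x1 hx1 hwx1).1 (hcx x1 hx1 hwx1).2 (hcx x2 hx2 hwx2).1 (hcx x2 hx2 hwx2).2
  exact hzR (hR.self z hzw.symm hall)

theorem st_case_beta (hQ : SympPair z Q) (hR : SympPair w R) (hwQ : w ∈ Q)
    (hwz : w ≠ z) (hzR : z ∉ R) (hno : ∀ r ∈ R, r * z * r⁻¹ ≠ z * w)
    (hβ1 : ∀ x ∈ Q, w * x = x * w → x * x = 1)
    (hβ2 : ∀ x1 ∈ Q, w * x1 = x1 * w → ∀ x2 ∈ Q, w * x2 = x2 * w → x1 * x2 = x2 * x1) :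
    False := by
  have hzw : z * w = w * z := hQ.le w hwQ
  have hw2 : w * w = 1 := hR.z2
  have hwinv : w⁻¹ = w := hR.zinv
  have hzinv : z⁻¹ = z := hQ.zinv
  obtain ⟨q0, hq0, hq0w⟩ := st_exists_q0 hQ hwQ hR.z2 hR.z1 hwz
  have hwq0 : ⁅w, q0⁆ = z := by rw [hQ.comm_symm w q0 hwQ hq0]; exact hq0w
  -- elements of X
  have hXel : ∀ x ∈ Q, w * x = x * w → x = 1 ∨ x = z ∨ x = w ∨ x = z * w := by
    intro x hx hwx
    rcases hQ.comm x hx q0 hq0 with h | h
    · have hc := st_central_of hQ hwQ q0 hq0 hq0w x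
        (fun x' hx' hwx' => hβ2 x hx hwx x' hx' hwx')
        (commutatorElement_eq_one_iff_mul_comm.mp h)
      rcases hQ.cen x hx hc (hβ1 x hx hwx) with h' | h'
      · left; exact h'
      · right; left; exact h'
    · have hxwQ : x * w ∈ Q := Q.mul_mem hx hwQ
      have hxww : w * (x * w) = (x * w) * w := by rw [← mul_assoc, hwx]
      have h1 := hQ.comm_mul_left x w q0 hx hwQ hq0
      rw [h, hwq0, hQ.z2] at h1
      have hc := st_central_of hQ hwQ q0 hq0 hq0w (x * w)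
        (fun x' hx' hwx' => hβ2 (x * w) hxwQ hxww x' hx' hwx')
        (commutatorElement_eq_one_iff_mul_comm.mp h1)
      rcases hQ.cen (x * w) hxwQ hc (hβ1 _ hxwQ hxww) with h' | h'
      · right; right; left
        calc x = (x * w) * w⁻¹ := by group
          _ = w := by rw [h', one_mul, hwinv]
      · right; right; right
        calc x = (x * w) * w⁻¹ := by group
          _ = z * w := by rw [h', hwinv]
  -- elements commuting with z, w, q0 centralize Q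
  have hcentQ : ∀ y : G, z * y = y * z → w * y = y * w → y * q0 = q0 * y →
      ∀ q ∈ Q, y * q = q * y := by
    intro y hzy hwy hyq0
    apply st_central_of hQ hwQ q0 hq0 hq0w y _ hyq0
    intro x hx hwx
    rcases hXel x hx hwx with rfl | rfl | rfl | rfl
    · simp
    · exact hzy.symm
    · exact hwy.symm
    · calc y * (z * w) = (y * z) * w := by group
        _ = z * (y * w) := by rw [← hzy]; group
        _ = z * w * y := by rw [← hwy]; group
  -- Y ≤ Q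
  have hYQ : ∀ y ∈ R, z * y = y * z → y ∈ Q := by
    intro y hy hzy
    have hwy : w * y = y * w := hR.le y hy
    obtain ⟨q1, hq1⟩ : ∃ q1, q1 = y * q0 * y⁻¹ := ⟨_, rfl⟩
    have hq1Q : q1 ∈ Q := by rw [hq1]; exact hQ.normal y hzy q0 hq0
    have hq1w : ⁅q1, w⁆ = z := by
      have hyw' : y⁻¹ * w = w * y⁻¹ := by
        calc y⁻¹ * w = y⁻¹ * (w * y) * y⁻¹ := by group
          _ = y⁻¹ * (y * w) * y⁻¹ := by rw [hwy]
          _ = w * y⁻¹ := by group
      have ha : y⁻¹ * w * y = w := by rw [hyw']; group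
      have hb : y⁻¹ * w⁻¹ * y = w⁻¹ := by
        calc y⁻¹ * w⁻¹ * y = (y⁻¹ * w * y)⁻¹ := by group
          _ = w⁻¹ := by rw [ha]
      have : ⁅q1, w⁆ = y * ⁅q0, w⁆ * y⁻¹ := by
        calc ⁅q1, w⁆ = y * q0 * (y⁻¹ * w * y) * q0⁻¹ * (y⁻¹ * w⁻¹ * y) * y⁻¹ := by
              rw [hq1, commutatorElement_def]; group
          _ = y * q0 * w * q0⁻¹ * w⁻¹ * y⁻¹ := by rw [ha, hb]
          _ = y * ⁅q0, w⁆ * y⁻¹ := by rw [commutatorElement_def]; group
      rw [this, hq0w]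
      exact st_ez_conj z (Or.inr rfl) y hzy
    obtain ⟨α, hα⟩ : ∃ α, α = q1 * q0⁻¹ := ⟨_, rfl⟩
    have hαQ : α ∈ Q := by rw [hα]; exact Q.mul_mem hq1Q (Q.inv_mem hq0)
    have hq1α : q1 = α * q0 := by rw [hα]; group
    have hαw : w * α = α * w := by
      rcases st_X_or hQ hwQ q0 hq0 hq0w α hαQ with h | h
      · exact h
      · exfalso
        rw [← hq1α] at h
        have : ⁅q1, w⁆ = 1 := commutatorElement_eq_one_iff_mul_comm.mpr h.symm
        rw [hq1w] at this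
        exact hQ.z1 this
    have hsq : q1 * q1 = q0 * q0 := by
      have : q1 * q1 = y * (q0 * q0) * y⁻¹ := by rw [hq1]; group
      rw [this]
      exact st_ez_conj _ (hQ.sq q0 hq0) y hzy
    have hαq0 : q0 * α * q0⁻¹ = α⁻¹ := by
      rw [hq1α] at hsq
      have h1 : α * q0 * α = q0 := by
        calc α * q0 * α = (α * q0 * (α * q0)) * q0⁻¹ := by group
          _ = q0 * q0 * q0⁻¹ := by rw [hsq]
          _ = q0 := by group
      calc q0 * α * q0⁻¹ = α⁻¹ * (α * q0 * α) * q0⁻¹ := by group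
        _ = α⁻¹ * q0 * q0⁻¹ := by rw [h1]
        _ = α⁻¹ := by group
    have hq0w_ne : q0 * w * q0⁻¹ ≠ w := by
      intro h
      have : ⁅q0, w⁆ = 1 := by rw [commutatorElement_def, h, hwinv, hw2]
      rw [hq0w] at this
      exact hQ.z1 this
    have hzq0 : z * q0 = q0 * z := hQ.le q0 hq0
    rcases hXel α hαQ hαw with h | h | h | h
    · -- α = 1
      apply hQ.self y hzy
      intro q hq
      apply hcentQ y hzy hwy _ q hq
      have : y * q0 * y⁻¹ = q0 := by rw [← hq1, hq1α, h, one_mul]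
      calc y * q0 = (y * q0 * y⁻¹) * y := by group
        _ = q0 * y := by rw [this]
    · -- α = z
      have hy' : y * q0 * y⁻¹ = z * q0 := by rw [← hq1, hq1α, h]
      have hwq0' : w * q0 * w⁻¹ = z * q0 := by
        rw [← hwq0, commutatorElement_def]; group
      have hwyQ : w * y ∈ Q := by
        apply hQ.self (w * y)
        · calc z * (w * y) = (z * w) * y := by group
            _ = w * (z * y) := by rw [hzw]; group
            _ = w * y * z := by rw [hzy]; group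
        · intro q hq
          apply hcentQ (w * y) _ _ _ q hq
          · calc z * (w * y) = (z * w) * y := by group
              _ = w * (z * y) := by rw [hzw]; group
              _ = w * y * z := by rw [hzy]; group
          · calc w * (w * y) = w * (y * w) := by rw [hwy]
              _ = w * y * w := by group
          · have h3 : w * y * q0 * (w * y)⁻¹ = q0 := by
              calc w * y * q0 * (w * y)⁻¹ = w * (y * q0 * y⁻¹) * w⁻¹ := by group
                _ = w * (z * q0) * w⁻¹ := by rw [hy']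
                _ = (w * z) * w⁻¹ * (w * q0 * w⁻¹) := by group
                _ = (z * w) * w⁻¹ * (z * q0) := by rw [hwq0', hzw]
                _ = (z * z) * q0 := by group
                _ = q0 := by rw [hQ.z2, one_mul]
            calc w * y * q0 = (w * y * q0 * (w * y)⁻¹) * (w * y) := by group
              _ = q0 * (w * y) := by rw [h3]
      have : y = w⁻¹ * (w * y) := by group
      rw [this]
      exact Q.mul_mem (Q.inv_mem hwQ) hwyQ
    · -- α = w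
      exfalso
      apply hq0w_ne
      rw [h, hwinv] at hαq0
      exact hαq0
    · -- α = z * w
      exfalso
      apply hq0w_ne
      rw [h] at hαq0
      have h1 : (z * w)⁻¹ = z * w := by
        apply inv_eq_of_mul_eq_one_right
        calc z * w * (z * w) = z * (w * z) * w := by group
          _ = z * (z * w) * w := by rw [hzw]
          _ = (z * z) * (w * w) := by group
          _ = 1 := by rw [hQ.z2, hw2, one_mul]
      rw [h1] at hαq0
      have h2 : q0 * (z * w) * q0⁻¹ = z * (q0 * w * q0⁻¹) := by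
        calc q0 * (z * w) * q0⁻¹ = (q0 * z) * w * q0⁻¹ := by group
          _ = (z * q0) * w * q0⁻¹ := by rw [hzq0]
          _ = z * (q0 * w * q0⁻¹) := by group
      rw [h2] at hαq0
      exact mul_left_cancel hαq0
  -- every r ∈ R commutes with z
  have hall : ∀ r ∈ R, z * r = r * z := by
    intro r hr
    obtain ⟨y, hy⟩ : ∃ y, y = r * z * r⁻¹ * z := ⟨_, rfl⟩
    have hyR : y ∈ R := by
      have : y = r * (z * r⁻¹ * z⁻¹) := by rw [hy, hzinv]; group
      rw [this]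
      exact R.mul_mem hr (hR.normal z hzw.symm _ (R.inv_mem hr))
    have hyinv : z * y * z⁻¹ = y⁻¹ := by
      rw [hy]
      have h1 : (r * z * r⁻¹ * z)⁻¹ = z⁻¹ * r * z⁻¹ * r⁻¹ := by group
      rw [h1, hzinv]
      calc z * (r * z * r⁻¹ * z) * z = z * r * z * r⁻¹ * (z * z) := by group
        _ = z * r * z * r⁻¹ := by rw [hQ.z2, mul_one]
    have hwy : w * y = y * w := hR.le y hyR
    have hzy : z * y = y * z := by
      apply st_no_twist hQ hR hwQ hno y hyR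
      rcases hR.sq y hyR with h | h
      · refine ⟨1, Or.inl rfl, ?_⟩
        rw [hyinv, one_mul]
        exact inv_eq_of_mul_eq_one_right h
      · refine ⟨w, Or.inr rfl, ?_⟩
        rw [hyinv]
        apply inv_eq_of_mul_eq_one_right
        calc y * (w * y) = (y * w) * y := by group
          _ = w * (y * y) := by rw [← hwy]; group
          _ = 1 := by rw [h, hw2]
    have hyQ : y ∈ Q := hYQ y hyR hzy
    rcases st_D hQ hR hwQ hwz hzR y hyQ hyR with h | h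
    · rw [hy] at h
      calc z * r = z⁻¹ * r := by rw [hzinv]
        _ = (r * z * r⁻¹ * z)⁻¹ * (r * z) := by group
        _ = r * z := by rw [h, inv_one, one_mul]
    · exfalso
      apply hno r hr
      rw [hy] at h
      calc r * z * r⁻¹ = (r * z * r⁻¹ * z) * z⁻¹ := by group
        _ = w * z := by rw [h, hzinv]
        _ = z * w := hzw.symm
  exact hzR (hR.self z hzw.symm hall)

/-- **Core**: if no element of `R` twists `z` to `z w`, then `z ∈ R`. -/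
theorem st_core [Finite G] (hQ : SympPair z Q) (hR : SympPair w R) (hwQ : w ∈ Q)
    (hwz : w ≠ z) (hno : ∀ r ∈ R, r * z * r⁻¹ ≠ z * w) : z ∈ R := by
  by_contra hzR
  by_cases hα : (∃ x ∈ Q, w * x = x * w ∧ x * x = z) ∨
      (∃ x1 ∈ Q, w * x1 = x1 * w ∧ ∃ x2 ∈ Q, w * x2 = x2 * w ∧ ⁅x1, x2⁆ = z)
  · exact st_case_alpha hQ hR hwQ hwz hzR hno hα
  · push Not at hα
    obtain ⟨h1, h2⟩ := hα
    apply st_case_beta hQ hR hwQ hwz hzR hno
    · intro x hx hwx
      rcases hQ.sq x hx with h | h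
      · exact h
      · exact absurd h (h1 x hx hwx)
    · intro x1 hx1 hwx1 x2 hx2 hwx2
      rcases hQ.comm x1 hx1 x2 hx2 with h | h
      · exact commutatorElement_eq_one_iff_mul_comm.mp h
      · exact absurd h (h2 x1 hx1 hwx1 x2 hx2 hwx2)

end core3
end Cfsg.Agent.Lib.Helper20
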