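import Mathlib
import Cfsg.Agent.Lib.Helper20.SympType2
import Cfsg.Agent.Lib.Helper20.Bender
import Cfsg.Agent.Lib.Helper9.Fitting

set_option linter.style.haveILetI false
set_option linter.unusedVariables false
set_option linter.unusedSectionVars false

namespace Cfsg.Agent.Lib.Helper20

open scoped commutatorElement

section wrap
variable {G : Type*} [Group G] {z : G} {Q : Subgroup G}

theorem st_main [Finite G] (hQ : SympPair z Q) (g : G) (hne : g * z * g⁻¹ ≠ z)
    (hin : g * z * g⁻¹ ∈ Q) :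
    z ∈ Q.map (MulAut.conj g).toMonoidHom ∧
    (∃ q ∈ Q, q * z * q⁻¹ = z ∧ q * (g * z * g⁻¹) * q⁻¹ = z * (g * z * g⁻¹)) ∧
    (∃ r ∈ Q.map (MulAut.conj g).toMonoidHom, r * z * r⁻¹ = z * (g * z * g⁻¹) ∧
      r * (g * z * g⁻¹) * r⁻¹ = g * z * g⁻¹) := by
  have hR := hQ.conj g
  obtain ⟨w, hw⟩ : ∃ w, w = g * z * g⁻¹ := ⟨_, rfl⟩
  obtain ⟨R, hRdef⟩ : ∃ R : Subgroup G, R = Q.map (MulAut.conj g).toMonoidHom := ⟨_, rfl⟩
  rw [← hw, ← hRdef] at hR
  rw [← hw] at hne hin
  rw [← hw, ← hRdef]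
  have hzw : z * w = w * z := hQ.le w hin
  obtain ⟨q0, hq0, hq0w⟩ := st_exists_q0 hQ hin hR.z2 hR.z1 hne
  have hq0z : q0 * z * q0⁻¹ = z := by
    rw [← hQ.le q0 hq0]; group
  have hq0w' : q0 * w * q0⁻¹ = z * w := by
    rw [← hq0w, commutatorElement_def]; group
  have hzR : z ∈ R := by
    by_cases hno : ∀ r ∈ R, r * z * r⁻¹ ≠ z * w
    · exact st_core hQ hR hin hne hno
    · push Not at hno
      obtain ⟨r, hr, hrz⟩ := hno
      have hrw : r * w * r⁻¹ = w := by
        rw [← hR.le r hr]; group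
      obtain ⟨t, ht⟩ : ∃ t, t = q0 * r := ⟨_, rfl⟩
      have htz : t * z * t⁻¹ = w := by
        calc t * z * t⁻¹ = q0 * (r * z * r⁻¹) * q0⁻¹ := by rw [ht]; group
          _ = q0 * (z * w) * q0⁻¹ := by rw [hrz]
          _ = (q0 * z * q0⁻¹) * (q0 * w * q0⁻¹) := by group
          _ = z * (z * w) := by rw [hq0z, hq0w']
          _ = w := by rw [← mul_assoc, hQ.z2, one_mul]
      have htw : t * w * t⁻¹ = z * w := by
        calc t * w * t⁻¹ = q0 * (r * w * r⁻¹) * q0⁻¹ := by rw [ht]; group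
          _ = z * w := by rw [hrw, hq0w']
      have hc : z * (g⁻¹ * t) = (g⁻¹ * t) * z := by
        have h1 : t * z * t⁻¹ = g * z * g⁻¹ := by rw [htz, hw]
        calc z * (g⁻¹ * t) = g⁻¹ * (g * z * g⁻¹) * t := by group
          _ = g⁻¹ * (t * z * t⁻¹) * t := by rw [h1]
          _ = (g⁻¹ * t) * z := by group
      have hzwR : z * w ∈ R := by
        rw [hRdef, st_mem_map_conj, ← htw]
        have := hQ.normal _ hc w hin
        have h2 : g⁻¹ * (t * w * t⁻¹) * g = g⁻¹ * t * w * (g⁻¹ * t)⁻¹ := by group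
        rw [h2]; exact this
      have : z = (z * w) * w⁻¹ := by group
      rw [this]
      exact R.mul_mem hzwR (R.inv_mem hR.zmem)
  refine ⟨hzR, ⟨q0, hq0, hq0z, hq0w'⟩, ?_⟩
  obtain ⟨r0, hr0, hr0z⟩ := st_exists_q0 hR hzR hQ.z2 hQ.z1 (Ne.symm hne)
  refine ⟨r0, hr0, ?_, ?_⟩
  · have : r0 * z * r0⁻¹ = w * z := by
      rw [← hr0z, commutatorElement_def]; group
    rw [this, hzw]
  · rw [← hR.le r0 hr0]; group

end wrap


section s3
variable {G : Type*} [Group G]

theorem st_closure_four (z w : G) (hz2 : z * z = 1) (hw2 : w * w = 1) (hzw : z * w = w * z)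
    (u : G) (hu : u ∈ Subgroup.closure ({z, w} : Set G)) :
    u = 1 ∨ u = z ∨ u = w ∨ u = z * w := by
  have hwzw : w * (z * w) = z := by
    calc w * (z * w) = (w * z) * w := by group
      _ = (z * w) * w := by rw [hzw]
      _ = z * (w * w) := by group
      _ = z := by rw [hw2, mul_one]
  have hzwz : z * w * z = w := by
    calc z * w * z = z * (w * z) := by group
      _ = z * (z * w) := by rw [hzw]
      _ = (z * z) * w := by group
      _ = w := by rw [hz2, one_mul]
  have hzwzw : z * w * (z * w) = 1 := by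
    calc z * w * (z * w) = (z * w * z) * w := by group
      _ = 1 := by rw [hzwz, hw2]
  induction hu using Subgroup.closure_induction with
  | mem x hx =>
    rcases hx with rfl | hx
    · right; left; rfl
    · right; right; left; exact Set.mem_singleton_iff.mp hx
  | one => left; rfl
  | mul x y _ _ hx hy =>
    rcases hx with rfl | rfl | rfl | rfl <;> rcases hy with rfl | rfl | rfl | rfl
    · left; simp
    · right; left; simp
    · right; right; left; simp
    · right; right; right; simp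
    · right; left; simp
    · left; exact hz2
    · right; right; right; rfl
    · right; right; left; rw [← mul_assoc, hz2, one_mul]
    · right; right; left; simp
    · right; right; right; exact hzw.symm
    · left; exact hw2
    · right; left; exact hwzw
    · right; right; right; simp
    · right; right; left; exact hzwz
    · right; left; rw [mul_assoc, hw2, mul_one]
    · left; exact hzwzw
  | inv x _ hx =>
    rcases hx with rfl | rfl | rfl | rfl
    · left; simp
    · right; left; exact inv_eq_of_mul_eq_one_right hz2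
    · right; right; left; exact inv_eq_of_mul_eq_one_right hw2
    · right; right; right; exact inv_eq_of_mul_eq_one_right hzwzw

theorem st_S3 (z w : G) (Q R : Subgroup G) (hz2 : z * z = 1) (hw2 : w * w = 1)
    (hzw : z * w = w * z)
    (q0 : G) (hq0 : q0 ∈ Q) (hq0z : q0 * z * q0⁻¹ = z) (hq0w : q0 * w * q0⁻¹ = z * w)
    (r0 : G) (hr0 : r0 ∈ R) (hr0z : r0 * z * r0⁻¹ = z * w) (hr0w : r0 * w * r0⁻¹ = w) :
    ∀ u ∈ Subgroup.closure ({z, w} : Set G), ∀ v ∈ Subgroup.closure ({z, w} : Set G),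
      u ≠ 1 → v ≠ 1 → u ≠ v → ∃ x ∈ Q ⊔ R, x * z * x⁻¹ = u ∧ x * w * x⁻¹ = v := by
  have hq0Q : q0 ∈ Q ⊔ R := (le_sup_left : Q ≤ Q ⊔ R) hq0
  have hr0R : r0 ∈ Q ⊔ R := (le_sup_right : R ≤ Q ⊔ R) hr0
  have hq0zw : q0 * (z * w) * q0⁻¹ = w := by
    calc q0 * (z * w) * q0⁻¹ = (q0 * z * q0⁻¹) * (q0 * w * q0⁻¹) := by group
      _ = z * (z * w) := by rw [hq0z, hq0w]
      _ = w := by rw [← mul_assoc, hz2, one_mul]
  have hr0zw : r0 * (z * w) * r0⁻¹ = z := by
    calc r0 * (z * w) * r0⁻¹ = (r0 * z * r0⁻¹) * (r0 * w * r0⁻¹) := by group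
      _ = (z * w) * w := by rw [hr0z, hr0w]
      _ = z := by rw [mul_assoc, hw2, mul_one]
  have hcm : ∀ a b x : G, (a * b) * x * (a * b)⁻¹ = a * (b * x * b⁻¹) * a⁻¹ := by
    intro a b x; group
  intro u hu v hv hu1 hv1 huv
  rcases st_closure_four z w hz2 hw2 hzw u hu with h | h | h | h
  · exact absurd h hu1
  · rcases st_closure_four z w hz2 hw2 hzw v hv with h' | h' | h' | h'
    · exact absurd h' hv1
    · exact absurd (h.trans h'.symm) huv
    · rw [h, h']; exact ⟨1, Subgroup.one_mem _, by simp, by simp⟩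
    · rw [h, h']; exact ⟨q0, hq0Q, hq0z, hq0w⟩
  · rcases st_closure_four z w hz2 hw2 hzw v hv with h' | h' | h' | h'
    · exact absurd h' hv1
    · rw [h, h']
      refine ⟨q0 * r0 * q0, Subgroup.mul_mem _ (Subgroup.mul_mem _ hq0Q hr0R) hq0Q, ?_, ?_⟩
      · rw [hcm, hq0z, hcm, hr0z, hq0zw]
      · rw [hcm, hq0w, hcm, hr0zw, hq0z]
    · exact absurd (h.trans h'.symm) huv
    · rw [h, h']
      refine ⟨q0 * r0, Subgroup.mul_mem _ hq0Q hr0R, ?_, ?_⟩
      · rw [hcm, hr0z, hq0zw]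
      · rw [hcm, hr0w, hq0w]
  · rcases st_closure_four z w hz2 hw2 hzw v hv with h' | h' | h' | h'
    · exact absurd h' hv1
    · rw [h, h']
      refine ⟨r0 * q0, Subgroup.mul_mem _ hr0R hq0Q, ?_, ?_⟩
      · rw [hcm, hq0z, hr0z]
      · rw [hcm, hq0w, hr0zw]
    · rw [h, h']; exact ⟨r0, hr0R, hr0z, hr0w⟩
    · exact absurd (h.trans h'.symm) huv

end s3

section plumbing
variable {G : Type*} [Group G] [Finite G]

theorem st_pair_of (z : G) (hz : orderOf z = 2)
    (F : Subgroup ↥(Subgroup.centralizer ({z} : Set G))) (hFn : F.Normal)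
    (hFle : Subgroup.centralizer (F : Set ↥(Subgroup.centralizer ({z} : Set G))) ≤ F)
    (hF2 : IsPGroup 2 ↥F)
    (hFchar : ∀ A : Subgroup ↥F, A.Characteristic → IsMulCommutative A → IsCyclic A)
    (h4 : ∀ q ∈ F.map (Subgroup.centralizer ({z} : Set G)).subtype, q ^ 4 = 1) :
    SympPair z (F.map (Subgroup.centralizer ({z} : Set G)).subtype) := by
  have hz2 : z * z = 1 := by rw [← pow_two, ← hz]; exact pow_orderOf_eq_one z
  have hz1 : z ≠ 1 := by intro h; rw [h, orderOf_one] at hz; norm_num at hz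
  have hzC : z ∈ Subgroup.centralizer ({z} : Set G) :=
    Subgroup.mem_centralizer_singleton_iff.mpr rfl
  have hCmem : ∀ c : G, c ∈ Subgroup.centralizer ({z} : Set G) ↔ z * c = c * z := by
    intro c
    rw [Subgroup.mem_centralizer_singleton_iff]
    exact ⟨fun h => h.symm, fun h => h.symm⟩
  have hzcen : ∀ c : ↥(Subgroup.centralizer ({z} : Set G)),
      (⟨z, hzC⟩ : ↥(Subgroup.centralizer ({z} : Set G))) * c = c * ⟨z, hzC⟩ := by
    intro c; apply Subtype.ext
    exact (hCmem c.1).mp c.2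
  have hzF : (⟨z, hzC⟩ : ↥(Subgroup.centralizer ({z} : Set G))) ∈ F := by
    apply hFle
    rw [Subgroup.mem_centralizer_iff]
    intro h _
    exact (hzcen h).symm
  obtain ⟨zF, hzFdef⟩ : ∃ zF : ↥F, zF = ⟨⟨z, hzC⟩, hzF⟩ := ⟨_, rfl⟩
  have hzFval : ((zF : ↥(Subgroup.centralizer ({z} : Set G))) : G) = z := by rw [hzFdef]
  have hzF2 : zF * zF = 1 := by rw [hzFdef]; exact Subtype.ext (Subtype.ext hz2)
  have hzF1 : zF ≠ 1 := by
    intro h
    apply hz1
    rw [← hzFval, h]; rfl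
  have hzFc : ∀ y : ↥F, zF * y = y * zF := by
    intro y; rw [hzFdef]; exact Subtype.ext (hzcen y.1)
  have h4F : ∀ q : ↥F, q ^ 4 = 1 := by
    intro q
    apply Subtype.ext; apply Subtype.ext
    have := h4 ((q : ↥(Subgroup.centralizer ({z} : Set G))) : G) ⟨q.1, q.2, rfl⟩
    simpa using this
  obtain ⟨hcz, hcomm, hsq⟩ := st_structure zF hzF2 hzFc hF2 hFchar h4F hzF1
  refine ⟨hz2, hz1, ?_, ?_, ?_, ?_, ?_, ?_, ?_, ?_⟩
  · rintro _ ⟨c, hc, rfl⟩
    exact (hCmem c.1).mp c.2
  · intro c hc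
    rintro _ ⟨f, hf, rfl⟩
    refine ⟨⟨c, (hCmem c).mpr hc⟩ * f * ⟨c, (hCmem c).mpr hc⟩⁻¹, hFn.conj_mem f hf _, rfl⟩
  · intro c hc hall
    have hcF : (⟨c, (hCmem c).mpr hc⟩ : ↥(Subgroup.centralizer ({z} : Set G))) ∈ F := by
      apply hFle
      rw [Subgroup.mem_centralizer_iff]
      intro h hh
      apply Subtype.ext
      exact (hall (h : G) ⟨h, hh, rfl⟩).symm
    exact ⟨_, hcF, rfl⟩
  · exact ⟨_, hzF, rfl⟩
  · rintro _ ⟨a, ha, rfl⟩ _ ⟨b, hb, rfl⟩
    rcases hcomm ⟨a, ha⟩ ⟨b, hb⟩ with h | h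
    · left
      have := congrArg (fun x : ↥F => ((x : ↥(Subgroup.centralizer ({z} : Set G))) : G)) h
      simpa [commutatorElement_def] using this
    · right
      have := congrArg (fun x : ↥F => ((x : ↥(Subgroup.centralizer ({z} : Set G))) : G)) h
      rw [hzFdef] at this
      simpa [commutatorElement_def] using this
  · rintro _ ⟨a, ha, rfl⟩
    rcases hsq ⟨a, ha⟩ with h | h
    · left
      have := congrArg (fun x : ↥F => ((x : ↥(Subgroup.centralizer ({z} : Set G))) : G)) h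
      simpa using this
    · right
      have := congrArg (fun x : ↥F => ((x : ↥(Subgroup.centralizer ({z} : Set G))) : G)) h
      rw [hzFdef] at this
      simpa using this
  · rintro _ ⟨x, hx, rfl⟩ hxc hx2
    have hxc' : ∀ y : ↥F, (⟨x, hx⟩ : ↥F) * y = y * ⟨x, hx⟩ := by
      intro y
      apply Subtype.ext; apply Subtype.ext
      exact hxc ((y : ↥(Subgroup.centralizer ({z} : Set G))) : G) ⟨y.1, y.2, rfl⟩
    have hx2' : (⟨x, hx⟩ : ↥F) * ⟨x, hx⟩ = 1 := by
      apply Subtype.ext; apply Subtype.ext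
      exact hx2
    rcases hcz ⟨x, hx⟩ hxc' hx2' with h | h
    · left
      have := congrArg (fun x : ↥F => ((x : ↥(Subgroup.centralizer ({z} : Set G))) : G)) h
      simpa using this
    · right
      have := congrArg (fun x : ↥F => ((x : ↥(Subgroup.centralizer ({z} : Set G))) : G)) h
      rw [hzFdef] at this
      simpa using this
  · exact hF2.map _

end plumbing
end Cfsg.Agent.Lib.Helper20
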