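import Mathlib
import Cfsg.Agent.Lib.Helper20.TwoByCyc2
import Cfsg.Agent.Lib.Helper12.Recog

/-!
# Groups whose 2-by-cyclic subgroups are cyclic, dihedral or `A₄`: the backward direction (helper20)
-/

set_option linter.style.haveILetI false
set_option linter.unusedVariables false

namespace Cfsg.Agent.Lib.Helper20

open Cfsg.Agent.Lib.Helper11

variable {G : Type*} [Group G]

/-- transport of the self-centralizing condition between Sylow 2-subgroups -/
theorem tbc_transport [Finite G] (P Q : Sylow 2 G)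
    (hV : ∀ K : Subgroup G, K ≤ P → Nat.card K = 4 → (∀ k ∈ K, k ^ 2 = 1) →
      Subgroup.centralizer (K : Set G) = K) :
    ∀ K : Subgroup G, K ≤ Q → Nat.card K = 4 → (∀ k ∈ K, k ^ 2 = 1) →
      ∀ x : G, (∀ k ∈ K, x * k = k * x) → x ∈ K := by
  have : Fact (Nat.Prime 2) := ⟨Nat.prime_two⟩
  intro K hKQ hcard hexp x hx
  obtain ⟨g, hg⟩ := MulAction.exists_smul_eq G Q P
  obtain ⟨K', hK'⟩ : ∃ K', K' = K.map (MulAut.conj g).toMonoidHom := ⟨_, rfl⟩
  have h1 : K' ≤ P := by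
    rw [hK']
    rintro _ ⟨k, hk, rfl⟩
    rw [← hg]
    show (MulAut.conj g).toMonoidHom k ∈ ((g • Q : Sylow 2 G) : Subgroup G)
    rw [Sylow.coe_subgroup_smul]
    exact Subgroup.smul_mem_pointwise_smul k (MulAut.conj g) _ (hKQ hk)
  have h2 : Nat.card K' = 4 := by
    rw [hK', Subgroup.card_map_of_injective (MulAut.conj g).injective, hcard]
  have h3 : ∀ k ∈ K', k ^ 2 = 1 := by
    rw [hK']
    rintro _ ⟨k, hk, rfl⟩
    rw [← map_pow, hexp k hk, map_one]
  have h4 := hV K' h1 h2 h3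
  have h5 : g * x * g⁻¹ ∈ Subgroup.centralizer (K' : Set G) := by
    rw [Subgroup.mem_centralizer_iff]
    intro y hy
    rw [hK'] at hy
    obtain ⟨k, hk, rfl⟩ := hy
    have := hx k hk
    show g * k * g⁻¹ * (g * x * g⁻¹) = g * x * g⁻¹ * (g * k * g⁻¹)
    calc g * k * g⁻¹ * (g * x * g⁻¹) = g * (k * x) * g⁻¹ := by group
      _ = g * (x * k) * g⁻¹ := by rw [this]
      _ = g * x * g⁻¹ * (g * k * g⁻¹) := by group
  rw [h4, hK'] at h5
  obtain ⟨k, hk, hkx⟩ := h5
  have : k = x := by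
    have h6 : g * k * g⁻¹ = g * x * g⁻¹ := hkx
    have h7 : g * k = g * x := mul_right_cancel h6
    exact mul_left_cancel h7
  rw [← this]; exact hk

theorem tbc_backward_cyclic [Finite G] (H : Subgroup G) (S : Sylow 2 ↥H)
    [hSn : (S : Subgroup ↥H).Normal] (hq : IsCyclic (↥H ⧸ (S : Subgroup ↥H)))
    (hcyc : IsCyclic ↥((S : Subgroup ↥H).map H.subtype)) : IsCyclic H := by
  have : Fact (Nat.Prime 2) := ⟨Nat.prime_two⟩
  have h1 : IsCyclic ↥(S : Subgroup ↥H) :=
    ((S : Subgroup ↥H).equivMapOfInjective H.subtype H.subtype_injective).isCyclic.mpr hcyc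
  have h2 : Odd (S : Subgroup ↥H).index := by
    rw [← Nat.not_even_iff_odd, even_iff_two_dvd]
    exact S.not_dvd_index
  exact tbc_cyclic_of_cyclic_sylow (S : Subgroup ↥H) S.isPGroup' h1 h2 hq

theorem tbc_dih_two_sq : ∀ g : DihedralGroup 2, g ^ 2 = 1 := by decide

/-- a dihedral subgroup with two rotations is a four-group -/
theorem tbc_dihGen_two_four [Finite G] {T : Subgroup G} {ρ x : G} (h : DihGen T ρ x 2) :
    Nat.card T = 4 ∧ ∀ k ∈ T, k ^ 2 = 1 := by
  obtain ⟨e⟩ := tbc_dihGen_equiv h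
  refine ⟨by rw [Nat.card_congr e.toEquiv, DihedralGroup.nat_card], ?_⟩
  intro k hk
  have h1 := tbc_dih_two_sq (e ⟨k, hk⟩)
  rw [← map_pow] at h1
  have h2 : (⟨k, hk⟩ : T) ^ 2 = 1 := e.injective (by rw [h1, map_one])
  have := congrArg Subtype.val h2
  simpa using this

/-- a dihedral subgroup (with an even number of rotations) contains a four-group -/
theorem tbc_dihGen_exists_four [Finite G] {T : Subgroup G} {ρ x : G} {m : ℕ}
    (h : DihGen T ρ x m) (hm : 2 ∣ m) (hm0 : 0 < m) :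
    ∃ V : Subgroup G, V ≤ T ∧ Nat.card V = 4 ∧ ∀ k ∈ V, k ^ 2 = 1 := by
  obtain ⟨z, hz⟩ : ∃ z, z = ρ ^ (m / 2) := ⟨_, rfl⟩
  have hzR : z ∈ Subgroup.zpowers ρ := by rw [hz]; exact pow_mem (Subgroup.mem_zpowers ρ) _
  have hzo : orderOf z = 2 := by rw [hz]; exact h.orderOf_z hm hm0
  have hx1 : x ≠ 1 := fun e => h.hsr (by rw [e]; exact one_mem _)
  have hx2 : orderOf x = 2 := by
    apply orderOf_eq_prime
    · rw [pow_two]; exact h.ss
    · exact hx1
  have hy1 : x * z ≠ 1 := by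
    intro e
    apply h.hsr
    have : x = z⁻¹ := eq_inv_of_mul_eq_one_left e
    rw [this]; exact inv_mem hzR
  have hy2 : orderOf (x * z) = 2 := by
    apply orderOf_eq_prime
    · rw [pow_two]; exact h.refl_sq hzR
    · exact hy1
  have key := Cfsg.Agent.Lib.Helper24.closure_pair_equiv_dihedral hx2 hy2
  have e1 : x * (x * z) = z := by rw [← mul_assoc, h.ss, one_mul]
  have e2 : orderOf (x * (x * z)) = 2 := by rw [e1, hzo]
  rw [e2] at key
  obtain ⟨e⟩ := key
  refine ⟨Subgroup.closure ({x, x * z} : Set G), ?_, ?_, ?_⟩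
  · rw [Subgroup.closure_le]
    intro y hy
    rcases hy with rfl | rfl
    · exact h.hs
    · exact mul_mem h.hs (h.zpowers_le hzR)
  · rw [Nat.card_congr e.toEquiv, DihedralGroup.nat_card]
  · intro k hk
    have h1 := tbc_dih_two_sq (e ⟨k, hk⟩)
    rw [← map_pow] at h1
    have h2 : (⟨k, hk⟩ : Subgroup.closure ({x, x * z} : Set G)) ^ 2 = 1 :=
      e.injective (by rw [h1, map_one])
    have := congrArg Subtype.val h2
    simpa using this

theorem tbc_sylow_conj_mem (H : Subgroup G) (S : Sylow 2 ↥H)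
    [hSn : (S : Subgroup ↥H).Normal] {h t : G} (hh : h ∈ H)
    (ht : t ∈ (S : Subgroup ↥H).map H.subtype) :
    h * t * h⁻¹ ∈ (S : Subgroup ↥H).map H.subtype := by
  obtain ⟨s, hs, rfl⟩ := ht
  refine ⟨⟨h, hh⟩ * s * ⟨h, hh⟩⁻¹, hSn.conj_mem s hs ⟨h, hh⟩, ?_⟩
  simp

theorem tbc_backward_dih_big [Finite G] (H : Subgroup G) (S : Sylow 2 ↥H)
    [hSn : (S : Subgroup ↥H).Normal] {ρ x : G} {k : ℕ} (hk : 2 ≤ k)
    (hgen : DihGen ((S : Subgroup ↥H).map H.subtype) ρ x (2 ^ k))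
    (hself : ∀ K : Subgroup G, K ≤ (S : Subgroup ↥H).map H.subtype → Nat.card K = 4 →
      (∀ k ∈ K, k ^ 2 = 1) → ∀ y : G, (∀ k ∈ K, y * k = k * y) → y ∈ K) :
    Nonempty (H ≃* DihedralGroup (2 ^ k)) := by
  have : Fact (Nat.Prime 2) := ⟨Nat.prime_two⟩
  obtain ⟨V, hVS, hVcard, hVexp⟩ :=
    tbc_dihGen_exists_four hgen (dvd_pow_self 2 (by omega)) (pow_pos (by norm_num) k)
  have hH2 : IsPGroup 2 ↥H := by
    intro h
    have hne : orderOf (h : G) ≠ 0 := (orderOf_pos (h : G)).ne'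
    obtain ⟨a, o, ho, hao⟩ := Nat.exists_eq_two_pow_mul_odd hne
    obtain ⟨c, hc⟩ : ∃ c, c = (h : G) ^ (2 ^ a) := ⟨_, rfl⟩
    have hco : orderOf c = o := by
      rw [hc, orderOf_pow_of_dvd (pow_pos (by norm_num) a).ne' ⟨o, hao⟩, hao]
      exact Nat.mul_div_cancel_left o (pow_pos (by norm_num) a)
    have hcH : c ∈ H := by rw [hc]; exact pow_mem h.2 _
    have hcent := tbc_odd_centralizes_dihedral hgen hk (c := c) (by rw [hco]; exact ho)
      (fun t ht => tbc_sylow_conj_mem H S hcH ht)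
    have hcV : c ∈ V := by
      apply hself V hVS hVcard hVexp c
      intro v hv
      have := hcent v (hVS hv)
      calc c * v = (c * v * c⁻¹) * c := by group
        _ = v * c := by rw [this]
    have h2 : orderOf c ∣ 2 := orderOf_dvd_of_pow_eq_one (hVexp c hcV)
    rw [hco] at h2
    have ho1 : o = 1 := tbc_odd_of_dvd_two_pow (k := 1) ho (dvd_refl o) (by rw [pow_one]; exact h2)
    refine ⟨a, ?_⟩
    apply Subtype.ext
    rw [Subgroup.coe_pow, Subgroup.coe_one, ← hc, ← orderOf_eq_one_iff, hco, ho1]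
  have hStop := tbc_sylow_eq_top hH2 S
  have hS0 : (S : Subgroup ↥H).map H.subtype = H := by
    rw [hStop, ← MonoidHom.range_eq_map, Subgroup.range_subtype]
  rw [hS0] at hgen
  exact tbc_dihGen_equiv hgen

/-- the 24th power of any element of `H` lies in a normal subgroup of order 4 that is
self-centralizing -/
theorem tbc_pow24_mem {H : Type*} [Group H] [Finite H] (S : Subgroup H) [hSn : S.Normal]
    (hcard : Nat.card S = 4) (hself : ∀ y : H, (∀ s ∈ S, y * s = s * y) → y ∈ S) (h : H) :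
    h ^ 24 ∈ S := by
  apply hself
  intro s hs
  obtain ⟨φ, hφ⟩ : ∃ φ, φ = MulAut.conjNormal (H := S) h := ⟨_, rfl⟩
  have h1 : (MulAut.toPerm ↥S φ) ^ 24 = 1 := by
    have h2 : Nat.card (Equiv.Perm ↥S) = 24 := by
      rw [Nat.card_perm, hcard]; rfl
    rw [← h2]
    exact pow_card_eq_one'
  have h3 : (φ ^ 24) ⟨s, hs⟩ = ⟨s, hs⟩ := by
    have h4 : MulAut.toPerm ↥S (φ ^ 24) = 1 := by rw [map_pow, h1]
    have h5 : (MulAut.toPerm ↥S (φ ^ 24)) ⟨s, hs⟩ = (φ ^ 24) ⟨s, hs⟩ := rfl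
    rw [← h5, h4]; rfl
  rw [hφ, ← map_pow] at h3
  have h6 := congrArg Subtype.val h3
  rw [MulAut.conjNormal_apply] at h6
  calc h ^ 24 * s = (h ^ 24 * s * (h ^ 24)⁻¹) * h ^ 24 := by group
    _ = s * h ^ 24 := by rw [h6]

theorem tbc_backward_four [Finite G] (H : Subgroup G) (S : Sylow 2 ↥H)
    [hSn : (S : Subgroup ↥H).Normal] (hq : IsCyclic (↥H ⧸ (S : Subgroup ↥H))) {ρ x : G}
    (hgen : DihGen ((S : Subgroup ↥H).map H.subtype) ρ x 2)
    (hself : ∀ K : Subgroup G, K ≤ (S : Subgroup ↥H).map H.subtype → Nat.card K = 4 →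
      (∀ k ∈ K, k ^ 2 = 1) → ∀ y : G, (∀ k ∈ K, y * k = k * y) → y ∈ K) :
    Nonempty (H ≃* DihedralGroup (2 ^ 1)) ∨ Nonempty (H ≃* alternatingGroup (Fin 4)) := by
  have : Fact (Nat.Prime 2) := ⟨Nat.prime_two⟩
  obtain ⟨hc0, hexp0⟩ := tbc_dihGen_two_four hgen
  have hself0 := hself _ le_rfl hc0 hexp0
  have hcardS : Nat.card (S : Subgroup ↥H) = 4 := by
    rw [← hc0]
    exact Nat.card_congr
      ((S : Subgroup ↥H).equivMapOfInjective H.subtype H.subtype_injective).toEquiv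
  have hselfS : ∀ y : ↥H, (∀ s ∈ (S : Subgroup ↥H), y * s = s * y) → y ∈ (S : Subgroup ↥H) := by
    intro y hy
    have h1 : (y : G) ∈ (S : Subgroup ↥H).map H.subtype := by
      apply hself0
      rintro _ ⟨s, hs, rfl⟩
      have := congrArg Subtype.val (hy s hs)
      simpa using this
    obtain ⟨s, hs, hsy⟩ := h1
    have : s = y := Subtype.ext hsy
    rw [← this]; exact hs
  have h24 := tbc_pow24_mem (S : Subgroup ↥H) hcardS hselfS
  have hodd : ¬ 2 ∣ (S : Subgroup ↥H).index := S.not_dvd_index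
  obtain ⟨q, hq'⟩ := hq.exists_generator
  obtain ⟨h, rfl⟩ := QuotientGroup.mk_surjective q
  have ho : orderOf (h : ↥H ⧸ (S : Subgroup ↥H)) = (S : Subgroup ↥H).index := by
    rw [orderOf_eq_card_of_forall_mem_zpowers hq', Subgroup.index_eq_card]
  have h1 : (h : ↥H ⧸ (S : Subgroup ↥H)) ^ 24 = 1 := by
    rw [← QuotientGroup.mk_pow, QuotientGroup.eq_one_iff]
    exact h24 h
  have h2 : (S : Subgroup ↥H).index ∣ 24 := by
    rw [← ho]; exact orderOf_dvd_of_pow_eq_one h1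
  have h3 : (S : Subgroup ↥H).index ∣ 3 := by
    have hcop : Nat.Coprime (S : Subgroup ↥H).index 8 := by
      have : (8 : ℕ) = 2 ^ 3 := by norm_num
      rw [this]
      apply Nat.Coprime.pow_right
      rw [Nat.coprime_comm, Nat.Prime.coprime_iff_not_dvd Nat.prime_two]
      exact hodd
    have h4 : (S : Subgroup ↥H).index ∣ 8 * 3 := by norm_num; exact h2
    exact hcop.dvd_of_dvd_mul_left h4
  rcases (Nat.dvd_prime Nat.prime_three).mp h3 with h4 | h4
  · left
    rw [Subgroup.index_eq_one] at h4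
    have hS0 : (S : Subgroup ↥H).map H.subtype = H := by
      rw [h4, ← MonoidHom.range_eq_map, Subgroup.range_subtype]
    rw [hS0] at hgen
    exact tbc_dihGen_equiv hgen
  · right
    have hcardH : Nat.card ↥H = 12 := by
      rw [← (S : Subgroup ↥H).card_mul_index, hcardS, h4]
    have : Fact (Nat.Prime 3) := ⟨Nat.prime_three⟩
    obtain ⟨c, hc⟩ := exists_prime_orderOf_dvd_card' (G := ↥H) 3 (by rw [hcardH]; norm_num)
    have hCcard : Nat.card (Subgroup.zpowers c) = 3 := by rw [Nat.card_zpowers, hc]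
    have hCidx : (Subgroup.zpowers c).index = 4 := by
      have := (Subgroup.zpowers c).card_mul_index
      rw [hCcard, hcardH] at this
      omega
    have hCn : ¬ (Subgroup.zpowers c).Normal := by
      intro hn
      have hinf : (S : Subgroup ↥H) ⊓ Subgroup.zpowers c = ⊥ := by
        apply Subgroup.inf_eq_bot_of_coprime
        rw [hcardS, hCcard]; norm_num
      have hcS : c ∈ (S : Subgroup ↥H) := by
        apply hselfS
        intro s hs
        have h5 : c * s * c⁻¹ * s⁻¹ ∈ (S : Subgroup ↥H) ⊓ Subgroup.zpowers c := by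
          refine Subgroup.mem_inf.mpr ⟨?_, ?_⟩
          · exact mul_mem (hSn.conj_mem s hs c) (inv_mem hs)
          · have h6 : s * c⁻¹ * s⁻¹ ∈ Subgroup.zpowers c :=
              hn.conj_mem _ (inv_mem (Subgroup.mem_zpowers c)) s
            have h7 : c * s * c⁻¹ * s⁻¹ = c * (s * c⁻¹ * s⁻¹) := by group
            rw [h7]
            exact mul_mem (Subgroup.mem_zpowers c) h6
        rw [hinf, Subgroup.mem_bot] at h5
        calc c * s = (c * s * c⁻¹ * s⁻¹) * (s * c) := by group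
          _ = s * c := by rw [h5, one_mul]
      have h8 : orderOf (⟨c, hcS⟩ : (S : Subgroup ↥H)) ∣ 4 := by
        rw [← hcardS]; exact orderOf_dvd_natCard _
      rw [← Subgroup.orderOf_coe] at h8
      simp only at h8
      rw [hc] at h8
      omega
    have hcore := Cfsg.Agent.Lib.Helper12.Recog.normalCore_eq_bot_of_prime
      (Subgroup.zpowers c) 3 hCcard hCn
    exact Cfsg.Agent.Lib.Helper12.Recog.nonempty_mulEquiv_alternating_four
      (Subgroup.zpowers c) hCidx hcore hcardH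


theorem tbc_backward [Finite G] (P : Sylow 2 G)
    (hR : IsCyclic P ∨
      ((∃ n : ℕ, 1 ≤ n ∧ Nonempty ((P : Subgroup G) ≃* DihedralGroup (2 ^ n))) ∧
        ∀ K : Subgroup G, K ≤ P → Nat.card K = 4 → (∀ k ∈ K, k ^ 2 = 1) →
          Subgroup.centralizer (K : Set G) = K))
    (H : Subgroup G) (hn : ∀ S : Sylow 2 ↥H, (S : Subgroup ↥H).Normal)
    (hq : ∀ (S : Sylow 2 ↥H) [(S : Subgroup ↥H).Normal], IsCyclic (↥H ⧸ (S : Subgroup ↥H))) :
    IsCyclic H ∨ (∃ n : ℕ, Nonempty (H ≃* DihedralGroup (2 ^ n))) ∨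
      Nonempty (H ≃* alternatingGroup (Fin 4)) := by
  have : Fact (Nat.Prime 2) := ⟨Nat.prime_two⟩
  obtain ⟨S⟩ : Nonempty (Sylow 2 ↥H) := inferInstance
  haveI hSn := hn S
  have hqS := hq S
  have hS02 : IsPGroup 2 ↥((S : Subgroup ↥H).map H.subtype) := S.isPGroup'.map _
  obtain ⟨Q, hQ⟩ := hS02.exists_le_sylow
  rcases hR with hcyc | ⟨⟨n, hn1, ⟨e⟩⟩, hV⟩
  · left
    have hQc : IsCyclic ↥(Q : Subgroup G) := (Sylow.equiv Q P).isCyclic.mpr hcyc
    exact tbc_backward_cyclic H S hqS (Subgroup.isCyclic_of_le hQ)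
  · have eQ : (Q : Subgroup G) ≃* DihedralGroup (2 ^ n) := (Sylow.equiv Q P).trans e
    have hgenQ := dihGen_of_equiv (Q : Subgroup G) (2 ^ n) eQ
    have hselfQ := tbc_transport P Q hV
    rcases tbc_dihGen_subgroup hgenQ _ hQ with hc | ⟨ρ, x, m', hgen, hdvd, hne⟩
    · left
      exact tbc_backward_cyclic H S hqS hc
    · right
      obtain ⟨k, hk, rfl⟩ := (Nat.dvd_prime_pow Nat.prime_two).mp hdvd
      have hself : ∀ K : Subgroup G, K ≤ (S : Subgroup ↥H).map H.subtype → Nat.card K = 4 →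
          (∀ k ∈ K, k ^ 2 = 1) → ∀ y : G, (∀ k ∈ K, y * k = k * y) → y ∈ K :=
        fun K hK => hselfQ K (hK.trans hQ)
      have hk0 : k ≠ 0 := by
        intro h0
        apply hne
        rw [h0, pow_zero]
      by_cases hk1 : k = 1
      · have hgen' : DihGen ((S : Subgroup ↥H).map H.subtype) ρ x 2 := by
          have := hgen
          rw [hk1, pow_one] at this
          exact this
        rcases tbc_backward_four H S hqS hgen' hself with h1 | h1
        · exact Or.inl ⟨1, h1⟩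
        · exact Or.inr h1
      · left
        exact ⟨k, tbc_backward_dih_big H S (by omega) hgen hself⟩

/-- **Groups whose 2-by-cyclic subgroups are cyclic, dihedral or `A₄`.** -/
theorem tbc_main [Finite G] (P : Sylow 2 G) :
    (∀ H : Subgroup G, (∀ S : Sylow 2 ↥H, (S : Subgroup ↥H).Normal) →
        (∀ (S : Sylow 2 ↥H) [(S : Subgroup ↥H).Normal], IsCyclic (↥H ⧸ (S : Subgroup ↥H))) →
        IsCyclic H ∨ (∃ n : ℕ, Nonempty (H ≃* DihedralGroup (2 ^ n))) ∨
          Nonempty (H ≃* alternatingGroup (Fin 4))) ↔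
    (IsCyclic P ∨
      ((∃ n : ℕ, 1 ≤ n ∧ Nonempty ((P : Subgroup G) ≃* DihedralGroup (2 ^ n))) ∧
        ∀ K : Subgroup G, K ≤ P → Nat.card K = 4 → (∀ k ∈ K, k ^ 2 = 1) →
          Subgroup.centralizer (K : Set G) = K)) :=
  ⟨tbc_forward P, fun hR H hn hq => tbc_backward P hR H hn hq⟩

end Cfsg.Agent.Lib.Helper20
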