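import Mathlib

/-! Wagner's theorem: a non-trivial normal subgroup of a 3-transitive group of odd degree is
3-transitive.  The main step: a 2-transitive normal subgroup is 3-transitive. -/

set_option autoImplicit false

namespace Cfsg.Agent.Lib.Helper20

open Equiv Equiv.Perm

section sylow

variable {Γ : Type*} [Group Γ] [Finite Γ] {p : ℕ} [Fact p.Prime]

/-- a conjugate (by an element of the ambient group) of a Sylow subgroup of `D` which lies in `D`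
is conjugate to it under `D` -/
theorem conj_sylow_eq {D : Subgroup Γ} (P : Sylow p ↥D) (u : Γ)
    (hu : ∀ x ∈ (P : Subgroup ↥D).map D.subtype, u * x * u⁻¹ ∈ D) :
    ∃ y ∈ D, ((P : Subgroup ↥D).map D.subtype).map (MulAut.conj u).toMonoidHom =
      ((P : Subgroup ↥D).map D.subtype).map (MulAut.conj y).toMonoidHom := by
  obtain ⟨P', hP'⟩ : ∃ P' : Subgroup Γ, P' = (P : Subgroup ↥D).map D.subtype := ⟨_, rfl⟩
  rw [← hP'] at hu ⊢
  have hP'p : IsPGroup p ↥P' := by rw [hP']; exact P.isPGroup'.map _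
  obtain ⟨Q', hQ'⟩ : ∃ Q' : Subgroup Γ, Q' = P'.map (MulAut.conj u).toMonoidHom := ⟨_, rfl⟩
  have hQD : Q' ≤ D := by
    rw [hQ']
    rintro _ ⟨x, hx, rfl⟩
    exact hu x hx
  have hQp : IsPGroup p ↥Q' := by rw [hQ']; exact hP'p.map _
  have hQDp : IsPGroup p ↥(Q'.subgroupOf D) := hQp.comap_subtype
  obtain ⟨R, hR⟩ := hQDp.exists_le_sylow
  obtain ⟨y, hy⟩ := MulAction.exists_smul_eq ↥D P R
  refine ⟨(y : Γ), y.2, ?_⟩
  rw [← hQ']
  have hle : Q' ≤ P'.map (MulAut.conj (y : Γ)).toMonoidHom := by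
    intro q hq
    have h1 : (⟨q, hQD hq⟩ : ↥D) ∈ (R : Subgroup ↥D) := hR (Subgroup.mem_subgroupOf.mpr hq)
    rw [← hy, Sylow.coe_subgroup_smul, Subgroup.mem_pointwise_smul_iff_inv_smul_mem] at h1
    refine ⟨(y : Γ)⁻¹ * q * (y : Γ), ?_, ?_⟩
    · rw [hP']
      refine ⟨_, h1, ?_⟩
      simp [MulAut.smul_def]
    · simp only [MulEquiv.coe_toMonoidHom, MulAut.conj_apply]
      group
  have hcard : Nat.card ↥(P'.map (MulAut.conj (y : Γ)).toMonoidHom) ≤ Nat.card ↥Q' := by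
    rw [hQ', Subgroup.card_map_of_injective (f := (MulAut.conj u).toMonoidHom)
      (MulAut.conj u).injective,
      Subgroup.card_map_of_injective (f := (MulAut.conj (y : Γ)).toMonoidHom)
      (MulAut.conj (y : Γ)).injective]
  exact Subgroup.eq_of_le_of_card_ge hle hcard

end sylow

section twopart

variable {α : Type*} [Fintype α] [DecidableEq α]

theorem pow_even_swap {t : Perm α} {b c : α} (hb : t b = c) (hc : t c = b) (j : ℕ) :
    (t ^ (2 * j)) b = b ∧ (t ^ (2 * j)) c = c := by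
  induction j with
  | zero => simp
  | succ j ih =>
    have : 2 * (j + 1) = 2 * j + 1 + 1 := by ring
    rw [this, pow_succ, pow_succ]
    simp only [Perm.mul_apply, hb, hc]
    exact ih

theorem pow_odd_swap {t : Perm α} {b c : α} (hb : t b = c) (hc : t c = b) {m : ℕ} (hm : Odd m) :
    (t ^ m) b = c ∧ (t ^ m) c = b := by
  obtain ⟨j, rfl⟩ := hm
  have h := pow_even_swap hb hc j
  rw [pow_succ]
  simp only [Perm.mul_apply, hb, hc]
  exact ⟨h.2, h.1⟩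

/-- a `2`-element swapping `b` and `c`, in any subgroup containing an element swapping them -/
theorem exists_two_element_swap (M : Subgroup (Perm α)) {t : Perm α} (ht : t ∈ M) {b c : α}
    (hb : t b = c) (hc : t c = b) :
    ∃ s ∈ M, s b = c ∧ s c = b ∧ ∃ k : ℕ, s ^ (2 ^ k) = 1 := by
  have h0 : orderOf t ≠ 0 := (orderOf_pos t).ne'
  obtain ⟨k, m, hm, hkm⟩ := Nat.exists_eq_two_pow_mul_odd h0
  have h := pow_odd_swap hb hc hm
  refine ⟨t ^ m, M.pow_mem ht m, h.1, h.2, k, ?_⟩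
  rw [← pow_mul, mul_comm, ← hkm, pow_orderOf_eq_one]

end twopart

section main

variable {α : Type*} [Fintype α] [DecidableEq α]

/-- the setwise stabiliser of `{b, c}` in `M` -/
def pairStab (M : Subgroup (Perm α)) (b c : α) : Subgroup (Perm α) where
  carrier := {x | x ∈ M ∧ ((x b = b ∧ x c = c) ∨ (x b = c ∧ x c = b))}
  one_mem' := ⟨M.one_mem, Or.inl ⟨rfl, rfl⟩⟩
  mul_mem' := by
    rintro x y ⟨hx, hx'⟩ ⟨hy, hy'⟩
    refine ⟨M.mul_mem hx hy, ?_⟩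
    rcases hx' with ⟨h1, h2⟩ | ⟨h1, h2⟩ <;> rcases hy' with ⟨h3, h4⟩ | ⟨h3, h4⟩
    · left; simp [Perm.mul_apply, h1, h2, h3, h4]
    · right; simp [Perm.mul_apply, h1, h2, h3, h4]
    · right; simp [Perm.mul_apply, h1, h2, h3, h4]
    · left; simp [Perm.mul_apply, h1, h2, h3, h4]
  inv_mem' := by
    rintro x ⟨hx, hx'⟩
    refine ⟨M.inv_mem hx, ?_⟩
    rcases hx' with ⟨h1, h2⟩ | ⟨h1, h2⟩
    · left
      exact ⟨by rw [Perm.inv_eq_iff_eq, h1], by rw [Perm.inv_eq_iff_eq, h2]⟩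
    · right
      exact ⟨by rw [Perm.inv_eq_iff_eq, h2], by rw [Perm.inv_eq_iff_eq, h1]⟩

theorem mem_pairStab {M : Subgroup (Perm α)} {b c : α} {x : Perm α} :
    x ∈ pairStab M b c ↔ x ∈ M ∧ ((x b = b ∧ x c = c) ∨ (x b = c ∧ x c = b)) := Iff.rfl

/-- **Main step of Wagner's theorem** in elementary terms. -/
theorem three_trans_of_two_trans_normal (G M : Subgroup (Perm α))
    (hnorm : ∀ g ∈ G, ∀ x ∈ M, g * x * g⁻¹ ∈ M) (hodd : Odd (Fintype.card α))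
    (h3 : ∀ a b c a' b' c' : α, a ≠ b → a ≠ c → b ≠ c → a' ≠ b' → a' ≠ c' → b' ≠ c' →
      ∃ g ∈ G, g a = a' ∧ g b = b' ∧ g c = c')
    (h2 : ∀ a b a' b' : α, a ≠ b → a' ≠ b' → ∃ x ∈ M, x a = a' ∧ x b = b')
    (b c : α) (hbc : b ≠ c) :
    ∀ d d' : α, d ≠ b → d ≠ c → d' ≠ b → d' ≠ c → ∃ x ∈ M, x b = b ∧ x c = c ∧ x d = d' := by
  classical
  -- a 2-element swapping b and c
  obtain ⟨t, htM, htb, htc⟩ := h2 b c c b hbc hbc.symm
  obtain ⟨s, hsM, hsb, hsc, k, hsk⟩ := exists_two_element_swap M htM htb htc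
  obtain ⟨D, hD⟩ : ∃ D : Subgroup (Perm α), D = pairStab M b c := ⟨_, rfl⟩
  have hmemD : ∀ x : Perm α, x ∈ D ↔ x ∈ M ∧ ((x b = b ∧ x c = c) ∨ (x b = c ∧ x c = b)) := by
    intro x; rw [hD]; exact mem_pairStab
  have hsD : s ∈ D := (hmemD s).mpr ⟨hsM, Or.inr ⟨hsb, hsc⟩⟩
  -- a Sylow 2-subgroup of D containing s
  have hzp : IsPGroup 2 ↥(Subgroup.zpowers (⟨s, hsD⟩ : ↥D)) := by
    have h1 : (⟨s, hsD⟩ : ↥D) ^ (2 ^ k) = 1 := Subtype.ext (by simpa using hsk)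
    have h2' : orderOf (⟨s, hsD⟩ : ↥D) ∣ 2 ^ k := orderOf_dvd_of_pow_eq_one h1
    obtain ⟨j, _, hj⟩ := (Nat.dvd_prime_pow Nat.prime_two).mp h2'
    apply IsPGroup.of_card (n := j)
    rw [Nat.card_zpowers, hj]
  have : Fact (Nat.Prime 2) := ⟨Nat.prime_two⟩
  obtain ⟨P, hP⟩ := hzp.exists_le_sylow
  obtain ⟨P', hP'⟩ : ∃ P' : Subgroup (Perm α), P' = (P : Subgroup ↥D).map D.subtype := ⟨_, rfl⟩
  have hsP' : s ∈ P' := by
    rw [hP']
    exact ⟨⟨s, hsD⟩, hP (Subgroup.mem_zpowers _), rfl⟩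
  have hP'D : P' ≤ D := by
    rw [hP']; exact Subgroup.map_subtype_le _
  have hP'p : IsPGroup 2 ↥P' := by rw [hP']; exact P.isPGroup'.map _
  -- P' fixes a point
  have hfix : ∃ a₀ : α, ∀ x ∈ P', x a₀ = a₀ := by
    have h1 : ¬ 2 ∣ Nat.card α := by
      rw [Nat.card_eq_fintype_card]
      exact hodd.not_two_dvd_nat
    obtain ⟨a₀, ha₀⟩ := hP'p.nonempty_fixed_point_of_prime_not_dvd_card α h1
    refine ⟨a₀, fun x hx => ?_⟩
    have := MulAction.mem_fixedPoints.mp ha₀ ⟨x, hx⟩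
    exact this
  obtain ⟨a₀, ha₀⟩ := hfix
  have ha₀b : a₀ ≠ b := by
    intro h
    have := ha₀ s hsP'
    rw [h, hsb] at this
    exact hbc this.symm
  have ha₀c : a₀ ≠ c := by
    intro h
    have := ha₀ s hsP'
    rw [h, hsc] at this
    exact hbc this
  -- conjugates of s under D never fix b
  have hconj_s : ∀ y ∈ D, (y * s * y⁻¹) b ≠ b := by
    intro y hy hyb
    simp only [Perm.mul_apply] at hyb
    rcases ((hmemD y).mp hy).2 with ⟨h1, h2'⟩ | ⟨h1, h2'⟩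
    · have e1 : y⁻¹ b = b := by rw [Perm.inv_eq_iff_eq, h1]
      rw [e1, hsb, h2'] at hyb
      exact hbc hyb.symm
    · have e1 : y⁻¹ b = c := by rw [Perm.inv_eq_iff_eq, h2']
      rw [e1, hsc, h1] at hyb
      exact hbc hyb.symm
  -- uniqueness of the fixed point
  have huniq : ∀ d : α, (∀ x ∈ P', x d = d) → d = a₀ := by
    intro d hd
    by_contra hne
    obtain ⟨g, hgM, hgb, hgc⟩ := h2 b c a₀ d hbc (fun h => hne h.symm)
    have hu : ∀ x ∈ (P : Subgroup ↥D).map D.subtype, g⁻¹ * x * g⁻¹⁻¹ ∈ D := by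
      intro x hx
      rw [← hP'] at hx
      rw [inv_inv, hmemD]
      refine ⟨M.mul_mem (M.mul_mem (M.inv_mem hgM) ((hmemD x).mp (hP'D hx)).1) hgM, Or.inl ⟨?_, ?_⟩⟩
      · simp only [Perm.mul_apply]
        rw [hgb, ha₀ x hx, Perm.inv_eq_iff_eq, hgb]
      · simp only [Perm.mul_apply]
        rw [hgc, hd x hx, Perm.inv_eq_iff_eq, hgc]
    obtain ⟨y, hyD, hy⟩ := conj_sylow_eq P g⁻¹ hu
    rw [← hP'] at hy
    have h1 : y * s * y⁻¹ ∈ P'.map (MulAut.conj y).toMonoidHom := ⟨s, hsP', by simp⟩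
    rw [← hy] at h1
    obtain ⟨x, hx, hxe⟩ := h1
    apply hconj_s y hyD
    rw [← hxe]
    simp only [MulEquiv.coe_toMonoidHom, MulAut.conj_apply, inv_inv, Perm.mul_apply]
    rw [hgb, ha₀ x hx, Perm.inv_eq_iff_eq, hgb]
  -- D is transitive on the remaining points
  have htrans : ∀ d : α, d ≠ b → d ≠ c → ∃ y ∈ D, y a₀ = d := by
    intro d hdb hdc
    obtain ⟨h, hhG, hhb, hhc, hhd⟩ := h3 b c a₀ b c d hbc ha₀b.symm ha₀c.symm hbc hdb.symm hdc.symm
    have hu : ∀ x ∈ (P : Subgroup ↥D).map D.subtype, h * x * h⁻¹ ∈ D := by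
      intro x hx
      rw [← hP'] at hx
      have hxD := (hmemD x).mp (hP'D hx)
      rw [hmemD]
      refine ⟨hnorm h hhG x hxD.1, ?_⟩
      have e1 : h⁻¹ b = b := by rw [Perm.inv_eq_iff_eq, hhb]
      have e2 : h⁻¹ c = c := by rw [Perm.inv_eq_iff_eq, hhc]
      rcases hxD.2 with ⟨h1, h2'⟩ | ⟨h1, h2'⟩
      · left
        simp only [Perm.mul_apply]
        rw [e1, e2, h1, h2', hhb, hhc]
        exact ⟨rfl, rfl⟩
      · right
        simp only [Perm.mul_apply]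
        rw [e1, e2, h1, h2', hhb, hhc]
        exact ⟨rfl, rfl⟩
    obtain ⟨y, hyD, hy⟩ := conj_sylow_eq P h hu
    rw [← hP'] at hy
    refine ⟨y, hyD, ?_⟩
    have hfixd : ∀ x ∈ P', x (y⁻¹ d) = y⁻¹ d := by
      intro x hx
      have h1 : y * x * y⁻¹ ∈ P'.map (MulAut.conj y).toMonoidHom := ⟨x, hx, by simp⟩
      rw [← hy] at h1
      obtain ⟨x', hx', hxe⟩ := h1
      simp only [MulEquiv.coe_toMonoidHom, MulAut.conj_apply] at hxe
      have h2' : (y * x * y⁻¹) d = d := by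
        rw [← hxe]
        simp only [Perm.mul_apply]
        have e1 : h⁻¹ d = a₀ := by rw [Perm.inv_eq_iff_eq, hhd]
        rw [e1, ha₀ x' hx', hhd]
      simp only [Perm.mul_apply] at h2'
      exact (Perm.inv_eq_iff_eq.mpr h2'.symm).symm
    have h4 := huniq _ hfixd
    rw [Perm.inv_eq_iff_eq] at h4
    exact h4.symm
  -- the pointwise stabiliser is transitive
  have htransX : ∀ d : α, d ≠ b → d ≠ c → ∃ x ∈ M, x b = b ∧ x c = c ∧ x a₀ = d := by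
    intro d hdb hdc
    obtain ⟨y, hyD, hyd⟩ := htrans d hdb hdc
    rcases ((hmemD y).mp hyD).2 with ⟨h1, h2'⟩ | ⟨h1, h2'⟩
    · exact ⟨y, ((hmemD y).mp hyD).1, h1, h2', hyd⟩
    · refine ⟨y * s, M.mul_mem ((hmemD y).mp hyD).1 hsM, ?_, ?_, ?_⟩
      · simp only [Perm.mul_apply]; rw [hsb, h2']
      · simp only [Perm.mul_apply]; rw [hsc, h1]
      · simp only [Perm.mul_apply]; rw [ha₀ s hsP', hyd]
  intro d d' hdb hdc hd'b hd'c
  obtain ⟨x₁, hx₁M, hx₁b, hx₁c, hx₁d⟩ := htransX d hdb hdc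
  obtain ⟨x₂, hx₂M, hx₂b, hx₂c, hx₂d⟩ := htransX d' hd'b hd'c
  refine ⟨x₂ * x₁⁻¹, M.mul_mem hx₂M (M.inv_mem hx₁M), ?_, ?_, ?_⟩
  · simp only [Perm.mul_apply]
    have e1 : x₁⁻¹ b = b := by rw [Perm.inv_eq_iff_eq, hx₁b]
    rw [e1, hx₂b]
  · simp only [Perm.mul_apply]
    have e1 : x₁⁻¹ c = c := by rw [Perm.inv_eq_iff_eq, hx₁c]
    rw [e1, hx₂c]
  · simp only [Perm.mul_apply]
    have e1 : x₁⁻¹ d = a₀ := by rw [Perm.inv_eq_iff_eq, hx₁d]
    rw [e1, hx₂d]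

end main

end Cfsg.Agent.Lib.Helper20
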