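import Mathlib
import Cfsg.Agent.S0698
import Cfsg.Agent.Lib.Helper20.Wagner

/-! Wagner's theorem, assembled from Jordan's theorem (S0698) and the main step. -/

set_option autoImplicit false

namespace Cfsg.Agent.Lib.Helper20

open Equiv Equiv.Perm

theorem injective_vec3 {α : Type*} {a b c : α} (hab : a ≠ b) (hac : a ≠ c) (hbc : b ≠ c) :
    Function.Injective ![a, b, c] := by
  intro i j h
  fin_cases i <;> fin_cases j <;> simp_all

theorem wagner {α : Type*} [Fintype α] [DecidableEq α] (G : Subgroup (Equiv.Perm α))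
    (hodd : Odd (Fintype.card α)) (h5 : 5 ≤ Fintype.card α)
    (hG : MulAction.IsMultiplyPretransitive G α 3) (N : Subgroup G) [N.Normal] (hN : N ≠ ⊥) :
    MulAction.IsMultiplyPretransitive N α 3 := by
  classical
  have h3 : ∀ a b c a' b' c' : α, a ≠ b → a ≠ c → b ≠ c → a' ≠ b' → a' ≠ c' → b' ≠ c' →
      ∃ g ∈ G, g a = a' ∧ g b = b' ∧ g c = c' := by
    intro a b c a' b' c' hab hac hbc hab' hac' hbc'
    obtain ⟨g, hg⟩ := MulAction.exists_smul_eq G
      (⟨![a, b, c], injective_vec3 hab hac hbc⟩ : Fin 3 ↪ α)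
      ⟨![a', b', c'], injective_vec3 hab' hac' hbc'⟩
    refine ⟨g.1, g.2, ?_, ?_, ?_⟩
    · exact DFunLike.congr_fun hg 0
    · exact DFunLike.congr_fun hg 1
    · exact DFunLike.congr_fun hg 2
  have hG2 : MulAction.IsMultiplyPretransitive G α 2 :=
    MulAction.isMultiplyPretransitive_of_le (n := 3) (by norm_num)
      (by rw [Nat.card_eq_fintype_card]; omega)
  obtain ⟨M, hM⟩ : ∃ M : Subgroup (Perm α), M = N.map G.subtype := ⟨_, rfl⟩
  have hmemM : ∀ x : Perm α, x ∈ M ↔ ∃ h : x ∈ G, (⟨x, h⟩ : G) ∈ N := by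
    intro x
    rw [hM]
    constructor
    · rintro ⟨n, hn, rfl⟩
      exact ⟨n.2, hn⟩
    · rintro ⟨h, hn⟩
      exact ⟨⟨x, h⟩, hn, rfl⟩
  have hnorm : ∀ g ∈ G, ∀ x ∈ M, g * x * g⁻¹ ∈ M := by
    intro g hg x hx
    obtain ⟨hxG, hxN⟩ := (hmemM x).mp hx
    rw [hmemM]
    refine ⟨G.mul_mem (G.mul_mem hg hxG) (G.inv_mem hg), ?_⟩
    have := ‹N.Normal›.conj_mem ⟨x, hxG⟩ hxN ⟨g, hg⟩
    exact this
  -- 2-transitivity of N
  have h2 : ∀ a b a' b' : α, a ≠ b → a' ≠ b' → ∃ x ∈ M, x a = a' ∧ x b = b' := by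
    rcases Cfsg.Agent.S0698.result G (k := 3) (by norm_num) (by omega) hG N hN with h | ⟨_, _, hexp⟩
    · have h' : MulAction.IsMultiplyPretransitive N α 2 := h
      intro a b a' b' hab hab'
      obtain ⟨n, hn1, hn2⟩ := MulAction.is_two_pretransitive_iff.mp h' hab hab'
      exact ⟨((n : G) : Perm α), (hmemM _).mpr ⟨(n : G).2, n.2⟩, hn1, hn2⟩
    · exfalso
      -- N is transitive
      obtain ⟨n₀, hn₀⟩ := Subgroup.ne_bot_iff_exists_ne_one.mp hN
      have hx₀ : ((n₀ : G) : Perm α) ≠ 1 := by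
        intro h
        apply hn₀
        apply Subtype.ext
        apply Subtype.ext
        exact h
      obtain ⟨a, ha⟩ : ∃ a : α, ((n₀ : G) : Perm α) a ≠ a := by
        by_contra hcon
        push Not at hcon
        exact hx₀ (Equiv.ext hcon)
      have htr : MulAction.IsPretransitive ↥N α := by
        refine ⟨fun c d => ?_⟩
        by_cases hcd : c = d
        · exact ⟨1, by rw [one_smul, hcd]⟩
        · obtain ⟨g, hg1, hg2⟩ := MulAction.is_two_pretransitive_iff.mp hG2 (Ne.symm ha) hcd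
          refine ⟨⟨g * (n₀ : G) * g⁻¹, ‹N.Normal›.conj_mem (n₀ : G) n₀.2 g⟩, ?_⟩
          show (g * (n₀ : G) * g⁻¹) • c = d
          rw [mul_smul, mul_smul, ← hg1, inv_smul_smul]
          exact hg2
      have hdvd : Nat.card α ∣ Nat.card ↥N := by
        rw [← MulAction.index_stabilizer_of_transitive (G := ↥N) (x := a)]
        exact Subgroup.index_dvd_card _
      have hp : IsPGroup 2 ↥N := by
        intro n
        refine ⟨1, ?_⟩
        apply Subtype.ext
        rw [pow_one]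
        exact hexp (n : G) n.2
      obtain ⟨j, hj⟩ := IsPGroup.iff_card.mp hp
      rw [hj, Nat.card_eq_fintype_card] at hdvd
      obtain ⟨i, _, hi⟩ := (Nat.dvd_prime_pow Nat.prime_two).mp hdvd
      rw [hi] at hodd h5
      rcases Nat.eq_zero_or_pos i with h0 | h0
      · rw [h0] at h5; norm_num at h5
      · have : Even (2 ^ i) := (Nat.even_pow.mpr ⟨even_two, h0.ne'⟩)
        exact (Nat.not_even_iff_odd.mpr hodd) this
  refine ⟨fun x y => ?_⟩
  have hx01 : x 0 ≠ x 1 := fun h => by simpa using x.injective h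
  have hx02 : x 0 ≠ x 2 := fun h => by simpa using x.injective h
  have hx12 : x 1 ≠ x 2 := fun h => by simpa using x.injective h
  have hy01 : y 0 ≠ y 1 := fun h => by simpa using y.injective h
  have hy02 : y 0 ≠ y 2 := fun h => by simpa using y.injective h
  have hy12 : y 1 ≠ y 2 := fun h => by simpa using y.injective h
  obtain ⟨n₁, hn₁M, hn₁0, hn₁1⟩ := h2 (x 0) (x 1) (y 0) (y 1) hx01 hy01
  have hd0 : n₁ (x 2) ≠ y 0 := by
    rw [← hn₁0]; intro h; exact hx02 (n₁.injective h).symm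
  have hd1 : n₁ (x 2) ≠ y 1 := by
    rw [← hn₁1]; intro h; exact hx12 (n₁.injective h).symm
  obtain ⟨x', hx'M, hx'0, hx'1, hx'2⟩ := three_trans_of_two_trans_normal G M hnorm hodd h3 h2
    (y 0) (y 1) hy01 (n₁ (x 2)) (y 2) hd0 hd1 hy02.symm hy12.symm
  obtain ⟨hmG, hmN⟩ := (hmemM (x' * n₁)).mp (M.mul_mem hx'M hn₁M)
  refine ⟨⟨⟨x' * n₁, hmG⟩, hmN⟩, ?_⟩
  ext i
  show (x' * n₁) (x i) = y i
  fin_cases i
  · show (x' * n₁) (x 0) = y 0
    rw [Perm.mul_apply, hn₁0, hx'0]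
  · show (x' * n₁) (x 1) = y 1
    rw [Perm.mul_apply, hn₁1, hx'1]
  · show (x' * n₁) (x 2) = y 2
    rw [Perm.mul_apply, hx'2]

end Cfsg.Agent.Lib.Helper20
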