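import Cfsg.Agent.Lib.Helper20.PMinimalComp
import Cfsg.Agent.Lib.Helper17.OrbitIndex

/-!
Wielandt: for subnormal `A`, `B` and a Sylow `p`-subgroup `S`,
`⟨A, B⟩ ∩ S = ⟨A ∩ S, B ∩ S⟩` (helper20).
-/

set_option autoImplicit false

namespace Cfsg.Agent.Lib.Helper20

open scoped commutatorElement
open Cfsg

section ws

variable {G : Type*} [Group G]

/-- `|f(K) : f(H)|` divides `|K : H|`. -/
theorem relIndex_map_dvd {G' : Type*} [Group G'] (f : G →* G') {H K : Subgroup G} (hHK : H ≤ K) :
    (H.map f).relIndex (K.map f) ∣ H.relIndex K := by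
  have h1 := Subgroup.index_map_dvd (H.subgroupOf K) (f.subgroupMap_surjective K)
  have e : (H.subgroupOf K).map (f.subgroupMap K) = (H.map f).subgroupOf (K.map f) := by
    ext ⟨y, hy⟩
    simp only [Subgroup.mem_map, Subgroup.mem_subgroupOf]
    constructor
    · rintro ⟨⟨x, hxK⟩, hxH, hxy⟩
      exact ⟨x, hxH, congrArg Subtype.val hxy⟩
    · rintro ⟨x, hxH, hxy⟩
      exact ⟨⟨x, hHK hxH⟩, hxH, Subtype.ext hxy⟩
  rw [e] at h1
  exact h1

/-- A `p`-subgroup `Q` between `R` and `K`, where `|K : R|` is prime to `p`, equals `R`. -/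
theorem le_of_isPGroup_of_not_dvd_relIndex {p : ℕ} [hp : Fact p.Prime] [Finite G]
    {R Q K : Subgroup G}
    (hRQ : R ≤ Q) (hQK : Q ≤ K) (hQ : IsPGroup p Q) (h : ¬ p ∣ R.relIndex K) : Q ≤ R := by
  have h2 := Subgroup.relIndex_mul_relIndex R Q K hRQ hQK
  have h3 : ¬ p ∣ R.relIndex Q := fun hd => h (h2 ▸ Dvd.dvd.mul_right hd _)
  obtain ⟨k, hk⟩ := IsPGroup.iff_card.mp hQ
  have h4 : R.relIndex Q ∣ p ^ k := hk ▸ Subgroup.relIndex_dvd_card R Q
  obtain ⟨j, -, hj⟩ := (Nat.dvd_prime_pow hp.out).mp h4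
  rcases Nat.eq_zero_or_pos j with h0 | h0
  · rw [h0, pow_zero] at hj
    exact Subgroup.relIndex_eq_one.mp hj
  · exact absurd (hj ▸ dvd_pow_self p h0.ne') h3

theorem le_normalizer_inf {H A B : Subgroup G} (h1 : H ≤ Subgroup.normalizer (A : Set G))
    (h2 : H ≤ Subgroup.normalizer (B : Set G)) :
    H ≤ Subgroup.normalizer ((A ⊓ B : Subgroup G) : Set G) := by
  intro h hh
  have e1 := Subgroup.mem_normalizer_iff.mp (h1 hh)
  have e2 := Subgroup.mem_normalizer_iff.mp (h2 hh)
  rw [Subgroup.mem_normalizer_iff]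
  intro x
  rw [Subgroup.mem_inf, Subgroup.mem_inf, ← e1 x, ← e2 x]

theorem mem_normalizer_of_map_conj_le [Finite G] {H : Subgroup G} {g : G}
    (h : H.map (MulAut.conj g).toMonoidHom ≤ H) : g ∈ Subgroup.normalizer (H : Set G) := by
  rw [← Cfsg.Agent.Lib.Helper16.map_conj_eq_self_iff]
  apply Subgroup.eq_of_le_of_card_ge h
  rw [Subgroup.card_map_of_injective (MulAut.conj g).injective]

/-- Lemma Q: images of `A ∩ S` for subnormal `A`. -/
theorem map_inf_map_sylow_le {p : ℕ} [hp : Fact p.Prime] [Finite G] {G' : Type*} [Group G']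
    (f : G →* G') (S : Sylow p G) {A : Subgroup G} (hA : A.IsSubnormal) :
    A.map f ⊓ (S : Subgroup G).map f ≤ (A ⊓ (S : Subgroup G)).map f := by
  have : Finite (↥(A.map f)) := Finite.of_surjective _ (f.subgroupMap_surjective A)
  have hRQ : (A ⊓ (S : Subgroup G)).map f ≤ A.map f ⊓ (S : Subgroup G).map f :=
    le_inf (Subgroup.map_mono inf_le_left) (Subgroup.map_mono inf_le_right)
  have hQ : IsPGroup p ↥(A.map f ⊓ (S : Subgroup G).map f) := (S.2.map f).to_le inf_le_right
  have h1 : ¬ p ∣ ((A ⊓ (S : Subgroup G)).map f).relIndex (A.map f) := by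
    intro hd
    have h2 := hd.trans (relIndex_map_dvd f (inf_le_left : A ⊓ (S : Subgroup G) ≤ A))
    rw [Subgroup.inf_relIndex_left] at h2
    exact Cfsg.Agent.Lib.Helper16.not_dvd_relIndex_sylow_subnormal S hA h2
  -- the relative-index argument inside the finite group `A.map f`
  have h2 := Subgroup.relIndex_mul_relIndex _ _ _ hRQ
    (inf_le_left : A.map f ⊓ (S : Subgroup G).map f ≤ A.map f)
  have h3 : ¬ p ∣ ((A ⊓ (S : Subgroup G)).map f).relIndex
      (A.map f ⊓ (S : Subgroup G).map f) := fun hd => h1 (h2 ▸ Dvd.dvd.mul_right hd _)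
  have : Finite ↥(A.map f ⊓ (S : Subgroup G).map f) :=
    Finite.of_injective _ (Subgroup.inclusion_injective
      (inf_le_left : A.map f ⊓ (S : Subgroup G).map f ≤ A.map f))
  obtain ⟨k, hk⟩ := IsPGroup.iff_card.mp hQ
  have h4 : ((A ⊓ (S : Subgroup G)).map f).relIndex (A.map f ⊓ (S : Subgroup G).map f) ∣ p ^ k :=
    hk ▸ Subgroup.relIndex_dvd_card _ _
  obtain ⟨j, -, hj⟩ := (Nat.dvd_prime_pow hp.out).mp h4
  rcases Nat.eq_zero_or_pos j with h0 | h0
  · rw [h0, pow_zero] at hj
    exact Subgroup.relIndex_eq_one.mp hj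
  · exact absurd (hj ▸ dvd_pow_self p h0.ne') h3

/-- Lemma NP: the case where `B` normalizes `A`. -/
theorem sup_inf_sylow_le_of_le_normalizer {p : ℕ} [hp : Fact p.Prime] [Finite G]
    (S : Sylow p G) {A B : Subgroup G} (hA : A.IsSubnormal) (hB : B.IsSubnormal)
    (hBA : B ≤ Subgroup.normalizer (A : Set G)) :
    (A ⊔ B) ⊓ (S : Subgroup G) ≤ (A ⊓ (S : Subgroup G)) ⊔ (B ⊓ (S : Subgroup G)) := by
  obtain ⟨T, hT⟩ : ∃ T : Subgroup G,
      T = (A ⊓ (S : Subgroup G)) ⊔ (B ⊓ (S : Subgroup G)) := ⟨_, rfl⟩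
  rw [← hT]
  have hTK : T ≤ A ⊔ B := by
    rw [hT]; exact sup_le_sup inf_le_left inf_le_left
  have hTS : T ≤ (S : Subgroup G) := by
    rw [hT]; exact sup_le inf_le_right inf_le_right
  have hnorm : B ⊓ (S : Subgroup G) ≤
      Subgroup.normalizer ((A ⊓ (S : Subgroup G) : Subgroup G) : Set G) :=
    le_normalizer_inf (inf_le_left.trans hBA) (inf_le_right.trans Subgroup.le_normalizer)
  have c1 := Cfsg.Agent.Lib.Helper17.card_sup_mul_card_inf_of_le_normalizer A B hBA
  have c2 := Cfsg.Agent.Lib.Helper17.card_sup_mul_card_inf_of_le_normalizer _ _ hnorm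
  rw [← hT] at c2
  have e : A ⊓ (S : Subgroup G) ⊓ (B ⊓ (S : Subgroup G)) = (A ⊓ B) ⊓ (S : Subgroup G) :=
    (inf_inf_distrib_right A B (S : Subgroup G)).symm
  rw [e] at c2
  have a1 := Cfsg.Agent.Lib.Helper17.relIndex_mul_card_of_le
    (inf_le_left : A ⊓ (S : Subgroup G) ≤ A)
  have b1 := Cfsg.Agent.Lib.Helper17.relIndex_mul_card_of_le
    (inf_le_left : B ⊓ (S : Subgroup G) ≤ B)
  have i1 := Cfsg.Agent.Lib.Helper17.relIndex_mul_card_of_le
    (inf_le_left : (A ⊓ B) ⊓ (S : Subgroup G) ≤ A ⊓ B)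
  have t1 := Cfsg.Agent.Lib.Helper17.relIndex_mul_card_of_le hTK
  rw [Subgroup.inf_relIndex_left] at a1 b1 i1
  have ha : ¬ p ∣ (S : Subgroup G).relIndex A :=
    Cfsg.Agent.Lib.Helper16.not_dvd_relIndex_sylow_subnormal S hA
  have hb : ¬ p ∣ (S : Subgroup G).relIndex B :=
    Cfsg.Agent.Lib.Helper16.not_dvd_relIndex_sylow_subnormal S hB
  -- `t * c = a * b`
  have key : T.relIndex (A ⊔ B) * (S : Subgroup G).relIndex (A ⊓ B) =
      (S : Subgroup G).relIndex A * (S : Subgroup G).relIndex B := by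
    have hTpos : 0 < Nat.card T := Nat.card_pos
    have hIpos : 0 < Nat.card ((A ⊓ B) ⊓ (S : Subgroup G) : Subgroup G) := Nat.card_pos
    apply Nat.eq_of_mul_eq_mul_right (Nat.mul_pos hTpos hIpos)
    calc T.relIndex (A ⊔ B) * (S : Subgroup G).relIndex (A ⊓ B) *
          (Nat.card T * Nat.card ((A ⊓ B) ⊓ (S : Subgroup G) : Subgroup G))
        = (T.relIndex (A ⊔ B) * Nat.card T) * ((S : Subgroup G).relIndex (A ⊓ B) *
            Nat.card ((A ⊓ B) ⊓ (S : Subgroup G) : Subgroup G)) := by ring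
      _ = Nat.card A * Nat.card B := by rw [t1, i1, c1]
      _ = ((S : Subgroup G).relIndex A * Nat.card (A ⊓ (S : Subgroup G) : Subgroup G)) *
            ((S : Subgroup G).relIndex B * Nat.card (B ⊓ (S : Subgroup G) : Subgroup G)) := by
          rw [a1, b1]
      _ = (S : Subgroup G).relIndex A * (S : Subgroup G).relIndex B *
            (Nat.card T * Nat.card ((A ⊓ B) ⊓ (S : Subgroup G) : Subgroup G)) := by
          rw [c2]; ring
  have hnd : ¬ p ∣ T.relIndex (A ⊔ B) := by
    intro hd
    have : p ∣ (S : Subgroup G).relIndex A * (S : Subgroup G).relIndex B :=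
      key ▸ Dvd.dvd.mul_right hd _
    rcases (Nat.Prime.dvd_mul hp.out).mp this with h | h
    · exact ha h
    · exact hb h
  exact le_of_isPGroup_of_not_dvd_relIndex (le_inf hTK hTS) inf_le_left
    (S.2.to_le inf_le_right) hnd

/-- Transfer: a central element of `G'` lying in `S` has `z ^ |G : S| ∈ S'`. -/
theorem pow_index_mem_commutator_of_mem_center (S : Subgroup G) [S.FiniteIndex] {z : G}
    (hzc : z ∈ Subgroup.center G) (hzd : z ∈ commutator G) :
    z ^ S.index ∈ ⁅S, S⁆ := by
  have key : ∀ (k : ℕ) (g₀ : G), g₀⁻¹ * z ^ k * g₀ ∈ S → g₀⁻¹ * z ^ k * g₀ = z ^ k := by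
    intro k g₀ _
    have hc : z ^ k ∈ Subgroup.center G := Subgroup.pow_mem _ hzc k
    rw [Subgroup.mem_center_iff] at hc
    rw [mul_assoc, ← hc g₀, inv_mul_cancel_left]
  have h1 := MonoidHom.transfer_eq_pow (Abelianization.of : ↥S →* Abelianization ↥S) z key
  have h2 : MonoidHom.transfer (Abelianization.of : ↥S →* Abelianization ↥S) z = 1 :=
    MonoidHom.mem_ker.mp (Abelianization.commutator_subset_ker _ hzd)
  rw [h2] at h1
  have h3 : (⟨z ^ S.index, MonoidHom.transfer_eq_pow_aux z key⟩ : ↥S) ∈ commutator ↥S := by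
    rw [← Abelianization.ker_of, MonoidHom.mem_ker]
    exact h1.symm
  have h4 : (commutator ↥S).map S.subtype = ⁅S, S⁆ := by
    rw [commutator_def, Subgroup.map_commutator, ← MonoidHom.range_eq_map, Subgroup.range_subtype]
  rw [← h4]
  exact ⟨_, h3, rfl⟩

/-- Wielandt's Sylow theorem in the case `⟨A, B⟩ = G`. -/
theorem sylow_le_of_sup_eq_top_aux (p : ℕ) [hp : Fact p.Prime] (n : ℕ) :
    ∀ (G : Type*) [Group G] [Finite G], Nat.card G = n → ∀ (A B : Subgroup G), A.IsSubnormal →
      B.IsSubnormal → A ⊔ B = ⊤ → ∀ S : Sylow p G,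
      (S : Subgroup G) ≤ (A ⊓ (S : Subgroup G)) ⊔ (B ⊓ (S : Subgroup G)) := by
  induction n using Nat.strong_induction_on with
  | _ n ih =>
    intro G _ _ hn A B hA hB hAB S
    obtain ⟨T, hT⟩ : ∃ T : Subgroup G,
        T = (A ⊓ (S : Subgroup G)) ⊔ (B ⊓ (S : Subgroup G)) := ⟨_, rfl⟩
    rw [← hT]
    have hTS : T ≤ (S : Subgroup G) := by
      rw [hT]; exact sup_le inf_le_right inf_le_right
    by_cases hG' : commutator G = ⊥
    · -- abelian case
      have hBA : B ≤ Subgroup.normalizer (A : Set G) := by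
        have h1 : ⁅B, A⁆ = ⊥ := by
          rw [eq_bot_iff, ← hG', commutator_def]
          exact Subgroup.commutator_mono le_top le_top
        rw [Subgroup.commutator_eq_bot_iff_le_centralizer] at h1
        exact h1.trans (Subgroup.centralizer_le_normalizer _)
      have := sup_inf_sylow_le_of_le_normalizer S hA hB hBA
      rw [hAB, top_inf_eq, ← hT] at this
      exact this
    · have hG'n : (commutator G).Normal := inferInstance
      obtain ⟨M, hM, hMle⟩ := exists_isMinimalNormal_le (commutator G) hG'n hG'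
      have hMn : M.Normal := hM.1
      have hMA : M ≤ Subgroup.normalizer (A : Set G) := isMinimalNormal_le_normalizer A M hA hM
      have hMB : M ≤ Subgroup.normalizer (B : Set G) := isMinimalNormal_le_normalizer B M hB hM
      -- Step 1: the quotient
      have hcard : Nat.card (G ⧸ M) < n := by
        rw [← hn, Subgroup.card_eq_card_quotient_mul_card_subgroup M]
        have h1 : 1 < Nat.card M := by
          rw [Subgroup.one_lt_card_iff_ne_bot]; exact hM.2.1
        have h0 : 0 < Nat.card (G ⧸ M) := Nat.card_pos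
        nlinarith
      have hsurj := QuotientGroup.mk'_surjective M
      have hbar := ih (Nat.card (G ⧸ M)) hcard (G ⧸ M) rfl (A.map (QuotientGroup.mk' M))
        (B.map (QuotientGroup.mk' M)) (hA.map hsurj) (hB.map hsurj)
        (by rw [← Subgroup.map_sup, hAB, ← MonoidHom.range_eq_map, MonoidHom.range_eq_top]
            exact hsurj)
        (S.mapSurjective hsurj)
      rw [Sylow.coe_mapSurjective] at hbar
      have h1 : (S : Subgroup G).map (QuotientGroup.mk' M) ≤ T.map (QuotientGroup.mk' M) := by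
        refine hbar.trans ?_
        rw [hT, Subgroup.map_sup]
        exact sup_le_sup (map_inf_map_sylow_le _ S hA) (map_inf_map_sylow_le _ S hB)
      have h2 : (S : Subgroup G) ≤ T ⊔ M := by
        have := Subgroup.comap_mono (f := QuotientGroup.mk' M) h1
        rw [Subgroup.comap_map_eq, Subgroup.comap_map_eq, QuotientGroup.ker_mk'] at this
        exact le_sup_left.trans this
      have hdec : ∀ s ∈ (S : Subgroup G), ∃ t ∈ T, ∃ m ∈ (S : Subgroup G) ⊓ M, t * m = s := by
        intro s hs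
        obtain ⟨t, ht, m, hm, rfl⟩ := Subgroup.mem_sup_of_normal_right.mp (h2 hs)
        refine ⟨t, ht, m, ⟨?_, hm⟩, rfl⟩
        have : m = t⁻¹ * (t * m) := by group
        rw [this]
        exact (S : Subgroup G).mul_mem ((S : Subgroup G).inv_mem (hTS ht)) hs
      -- Step 2: `S ∩ M ≤ T`
      have hSM : (S : Subgroup G) ⊓ M ≤ T := by
        obtain ⟨M₀, hM₀⟩ : ∃ M₀ : Subgroup G, M₀ = (A ⊓ M) ⊔ (B ⊓ M) := ⟨_, rfl⟩
        have hM₀M : M₀ ≤ M := by rw [hM₀]; exact sup_le inf_le_right inf_le_right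
        -- commutators with `M`
        have hcommA : ∀ a ∈ A, ∀ x ∈ M, a * x * a⁻¹ * x⁻¹ ∈ A ⊓ M := by
          intro a ha x hx
          refine ⟨?_, ?_⟩
          · have h3 := (Subgroup.mem_normalizer_iff.mp (hMA hx) a⁻¹).mp (A.inv_mem ha)
            have : a * x * a⁻¹ * x⁻¹ = a * (x * a⁻¹ * x⁻¹) := by group
            rw [this]
            exact A.mul_mem ha h3
          · exact M.mul_mem (hMn.conj_mem x hx a) (M.inv_mem hx)
        have hcommB : ∀ b ∈ B, ∀ x ∈ M, b * x * b⁻¹ * x⁻¹ ∈ B ⊓ M := by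
          intro a ha x hx
          refine ⟨?_, ?_⟩
          · have h3 := (Subgroup.mem_normalizer_iff.mp (hMB hx) a⁻¹).mp (B.inv_mem ha)
            have : a * x * a⁻¹ * x⁻¹ = a * (x * a⁻¹ * x⁻¹) := by group
            rw [this]
            exact B.mul_mem ha h3
          · exact M.mul_mem (hMn.conj_mem x hx a) (M.inv_mem hx)
        have hM₀n : M₀.Normal := by
          rw [← Subgroup.normalizer_eq_top_iff, eq_top_iff, ← hAB]
          apply sup_le
          · intro a ha
            apply mem_normalizer_of_map_conj_le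
            rw [hM₀, Subgroup.map_sup]
            apply sup_le
            · rintro _ ⟨x, ⟨hxA, hxM⟩, rfl⟩
              exact Subgroup.mem_sup_left
                ⟨A.mul_mem (A.mul_mem ha hxA) (A.inv_mem ha), hMn.conj_mem x hxM a⟩
            · rintro _ ⟨x, ⟨hxB, hxM⟩, rfl⟩
              have : (MulAut.conj a).toMonoidHom x = (a * x * a⁻¹ * x⁻¹) * x := by
                simp [MulAut.conj_apply]
              rw [this]
              exact Subgroup.mul_mem _ (Subgroup.mem_sup_left (hcommA a ha x hxM))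
                (Subgroup.mem_sup_right ⟨hxB, hxM⟩)
          · intro b hb
            apply mem_normalizer_of_map_conj_le
            rw [hM₀, Subgroup.map_sup]
            apply sup_le
            · rintro _ ⟨x, ⟨hxA, hxM⟩, rfl⟩
              have : (MulAut.conj b).toMonoidHom x = (b * x * b⁻¹ * x⁻¹) * x := by
                simp [MulAut.conj_apply]
              rw [this]
              exact Subgroup.mul_mem _ (Subgroup.mem_sup_right (hcommB b hb x hxM))
                (Subgroup.mem_sup_left ⟨hxA, hxM⟩)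
            · rintro _ ⟨x, ⟨hxB, hxM⟩, rfl⟩
              exact Subgroup.mem_sup_right
                ⟨B.mul_mem (B.mul_mem hb hxB) (B.inv_mem hb), hMn.conj_mem x hxM b⟩
        rcases hM.2.2 M₀ hM₀n hM₀M with h0 | h0
        · -- `M` is central
          have hA0 : A ⊓ M = ⊥ := by
            rw [eq_bot_iff, ← h0, hM₀]; exact le_sup_left
          have hB0 : B ⊓ M = ⊥ := by
            rw [eq_bot_iff, ← h0, hM₀]; exact le_sup_right
          have hcent : M ≤ Subgroup.center G := by
            have hAc : A ≤ Subgroup.centralizer (M : Set G) := by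
              intro a ha
              rw [Subgroup.mem_centralizer_iff]
              intro x hx
              have h3 := hcommA a ha x hx
              rw [hA0, Subgroup.mem_bot] at h3
              have : a * x = (a * x * a⁻¹ * x⁻¹) * (x * a) := by group
              rw [this, h3, one_mul]
            have hBc : B ≤ Subgroup.centralizer (M : Set G) := by
              intro a ha
              rw [Subgroup.mem_centralizer_iff]
              intro x hx
              have h3 := hcommB a ha x hx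
              rw [hB0, Subgroup.mem_bot] at h3
              have : a * x = (a * x * a⁻¹ * x⁻¹) * (x * a) := by group
              rw [this, h3, one_mul]
            have htop : (⊤ : Subgroup G) ≤ Subgroup.centralizer (M : Set G) := by
              rw [← hAB]; exact sup_le hAc hBc
            intro x hx
            rw [Subgroup.mem_center_iff]
            intro g
            exact (Subgroup.mem_centralizer_iff.mp (htop (Subgroup.mem_top g)) x hx).symm
          -- `[S, S] ≤ T`
          have hSS : ⁅(S : Subgroup G), (S : Subgroup G)⁆ ≤ T := by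
            rw [Subgroup.commutator_le]
            intro s₁ hs₁ s₂ hs₂
            obtain ⟨t₁, ht₁, m₁, hm₁, rfl⟩ := hdec s₁ hs₁
            obtain ⟨t₂, ht₂, m₂, hm₂, rfl⟩ := hdec s₂ hs₂
            have e1 : Commute m₁ (t₂ * m₂) :=
              (Subgroup.mem_center_iff.mp (hcent hm₁.2) (t₂ * m₂)).symm
            have e2 : Commute m₂ t₁ := (Subgroup.mem_center_iff.mp (hcent hm₂.2) t₁).symm
            rw [commutatorElement_mul_left_of_commute e1,
              commutatorElement_mul_right_of_commute e2, commutatorElement_def]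
            exact T.mul_mem (T.mul_mem (T.mul_mem ht₁ ht₂) (T.inv_mem ht₁)) (T.inv_mem ht₂)
          intro z hz
          have h3 := pow_index_mem_commutator_of_mem_center (S : Subgroup G) (hcent hz.2)
            (hMle hz.2)
          have h4 : z ^ (S : Subgroup G).index ∈ T := hSS h3
          have hcop : ((S : Subgroup G).index).Coprime (orderOf z) := by
            obtain ⟨k, hk⟩ := (IsPGroup.iff_orderOf.mp S.2) ⟨z, hz.1⟩
            rw [Subgroup.orderOf_mk] at hk
            rw [hk]
            exact Nat.Coprime.pow_right _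
              ((Nat.Prime.coprime_iff_not_dvd hp.out).mpr S.not_dvd_index).symm
          obtain ⟨m, hm⟩ := exists_pow_eq_self_of_coprime hcop
          rw [← hm]
          exact T.pow_mem h4 m
        · -- `M = (A ∩ M)(B ∩ M)`
          have hnorm : B ⊓ M ≤ Subgroup.normalizer ((A ⊓ M : Subgroup G) : Set G) :=
            le_normalizer_inf (inf_le_right.trans hMA)
              (by rw [Subgroup.normalizer_eq_top_iff.mpr hMn]; exact le_top)
          have h3 := sup_inf_sylow_le_of_le_normalizer S (hA.inf hMn.isSubnormal)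
            (hB.inf hMn.isSubnormal) hnorm
          rw [← hM₀, h0] at h3
          rw [inf_comm]
          refine h3.trans ?_
          rw [hT]
          exact sup_le_sup (inf_le_inf_right _ inf_le_left) (inf_le_inf_right _ inf_le_left)
      intro s hs
      obtain ⟨t, ht, m, hm, rfl⟩ := hdec s hs
      exact T.mul_mem ht (hSM hm)

/-- **Wielandt**: `⟨A, B⟩ ∩ S = ⟨A ∩ S, B ∩ S⟩` for subnormal `A`, `B` and a Sylow
`p`-subgroup `S` (S3028). -/
theorem sup_inf_sylow_eq {p : ℕ} [hp : Fact p.Prime] [Finite G] (S : Sylow p G)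
    (A B : Subgroup G) (hA : A.IsSubnormal) (hB : B.IsSubnormal) :
    (A ⊔ B) ⊓ (S : Subgroup G) = (A ⊓ (S : Subgroup G)) ⊔ (B ⊓ (S : Subgroup G)) := by
  apply le_antisymm
  · obtain ⟨J, hJ⟩ : ∃ J : Subgroup G, J = A ⊔ B := ⟨_, rfl⟩
    rw [← hJ]
    have hAJ : A ≤ J := by rw [hJ]; exact le_sup_left
    have hBJ : B ≤ J := by rw [hJ]; exact le_sup_right
    have hJsn : J.IsSubnormal := by rw [hJ]; exact sup_isSubnormal A B hA hB
    have hidx : ¬ p ∣ ((S : Subgroup G).subgroupOf J).index :=
      Cfsg.Agent.Lib.Helper16.not_dvd_relIndex_sylow_subnormal S hJsn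
    obtain ⟨SJ, hSJ⟩ : ∃ SJ : Sylow p ↥J, (SJ : Subgroup ↥J) = (S : Subgroup G).subgroupOf J :=
      ⟨(S.2.comap_subtype).toSylow hidx, rfl⟩
    have htop : A.subgroupOf J ⊔ B.subgroupOf J = ⊤ := by
      rw [← Subgroup.subgroupOf_sup hAJ hBJ, ← hJ, Subgroup.subgroupOf_self]
    have h1 := sylow_le_of_sup_eq_top_aux p (Nat.card ↥J) ↥J rfl (A.subgroupOf J)
      (B.subgroupOf J) hA.subgroupOf hB.subgroupOf htop SJ
    rw [hSJ] at h1
    have h2 := Subgroup.map_mono (f := J.subtype) h1
    rw [Subgroup.subgroupOf_map_subtype, Subgroup.map_sup] at h2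
    rw [inf_comm]
    refine h2.trans (sup_le_sup ?_ ?_)
    · rintro _ ⟨x, ⟨hxA, hxS⟩, rfl⟩
      exact ⟨hxA, hxS⟩
    · rintro _ ⟨x, ⟨hxB, hxS⟩, rfl⟩
      exact ⟨hxB, hxS⟩
  · exact sup_le (inf_le_inf_right _ le_sup_left) (inf_le_inf_right _ le_sup_right)

end ws

end Cfsg.Agent.Lib.Helper20
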